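import Cfsg.Statements.S1546
import Cfsg.Agent.Char.Inner

set_option autoImplicit false
open Cfsg

namespace Cfsg.Agent.S1546

open Cfsg.Agent.Char
open scoped ComplexConjugate

/-- Let p and q be odd primes and N = (p ^ q − 1) / (p − 1) = 1 + p + ⋯ + p^(q−1). Then N is odd; if p ≡ 1 (mod q) then q ∣ N; and if p is not ≡ 1 (mod q) then N is coprime to p − 1 and every divisor of N is ≡ 1 (mod q). -/
theorem result (p q : ℕ) (hp : p.Prime) (hq : q.Prime) (hp2 : p ≠ 2) (hq2 : q ≠ 2) : Odd ((p ^ q - 1) / (p - 1)) ∧ (p % q = 1 → q ∣ (p ^ q - 1) / (p - 1)) ∧ (p % q ≠ 1 → Nat.Coprime ((p ^ q - 1) / (p - 1)) (p - 1) ∧ ∀ x : ℕ, x ∣ (p ^ q - 1) / (p - 1) → x % q = 1) := by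
  have hp1 : 1 < p := hp.one_lt
  have e : (p ^ q - 1) / (p - 1) = ∑ i ∈ Finset.range q, p ^ i := (Nat.geomSum_eq hp.two_le q).symm
  have hmul : (∑ i ∈ Finset.range q, p ^ i) * (p - 1) = p ^ q - 1 := by
    rw [← e]; exact Nat.div_mul_cancel (Nat.sub_one_dvd_pow_sub_one p q)
  rw [e]
  have hmod : ∀ r : ℕ, p ≡ 1 [MOD r] → ∑ i ∈ Finset.range q, p ^ i ≡ q [MOD r] := by
    intro r hr
    have : ∑ i ∈ Finset.range q, p ^ i ≡ ∑ i ∈ Finset.range q, 1 [MOD r] :=
      Nat.ModEq.sum (fun i _ => by simpa using hr.pow i)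
    simpa using this
  have hodd : p ≡ 1 [MOD 2] := by
    have := hp.eq_two_or_odd.resolve_left hp2
    simpa [Nat.ModEq] using this
  have hcop : p % q ≠ 1 → Nat.Coprime (∑ i ∈ Finset.range q, p ^ i) (p - 1) := by
    intro h
    refine Nat.coprime_of_dvd (fun r hr h1 h2 => h ?_)
    have h3 : p ≡ 1 [MOD r] := ((Nat.modEq_iff_dvd' hp1.le).2 h2).symm
    have h4 : r ∣ q := (Nat.modEq_zero_iff_dvd).1
      ((hmod r h3).symm.trans ((Nat.modEq_zero_iff_dvd).2 h1))
    have h5 : r = q := (Nat.prime_dvd_prime_iff_eq hr hq).1 h4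
    subst h5
    rw [h3, Nat.mod_eq_of_lt hr.one_lt]
  refine ⟨?_, fun h => ?_, fun h => ⟨hcop h, fun x hx => ?_⟩⟩
  · rw [Nat.odd_iff, hmod 2 hodd]
    exact hq.eq_two_or_odd.resolve_left hq2
  · refine (Nat.modEq_zero_iff_dvd).1 ((hmod q ?_).trans ?_)
    · rw [Nat.ModEq, h, Nat.mod_eq_of_lt hq.one_lt]
    · simp [Nat.ModEq]
  · have hpos : 0 < ∑ i ∈ Finset.range q, p ^ i :=
      Finset.sum_pos (fun i _ => by positivity) ⟨0, Finset.mem_range.2 hq.pos⟩
    have hx0 : x ≠ 0 := by rintro rfl; exact hpos.ne' (Nat.eq_zero_of_zero_dvd hx)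
    have key : ∀ r : ℕ, r.Prime → r ∣ ∑ i ∈ Finset.range q, p ^ i → r ≡ 1 [MOD q] := by
      intro r hr h1
      have := Fact.mk hr
      have h2 : (p : ZMod r) ^ q = 1 := by
        have : r ∣ p ^ q - 1 := hmul ▸ h1.mul_right _
        have h3 := (Nat.modEq_iff_dvd' (Nat.one_le_pow _ _ hp.pos)).2 this
        have h4 := (ZMod.natCast_eq_natCast_iff _ _ _).2 h3
        push_cast at h4
        exact h4.symm
      have h3 : (p : ZMod r) ≠ 1 := by
        intro h3
        have h4 : p ≡ 1 [MOD r] := (ZMod.natCast_eq_natCast_iff _ _ _).1 (by simpa using h3)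
        have h5 : r ∣ p - 1 := (Nat.modEq_iff_dvd' hp1.le).1 h4.symm
        exact hr.one_lt.ne' (Nat.eq_one_of_dvd_coprimes (hcop h) h1 h5)
      have := Fact.mk hq
      have h4 : orderOf (p : ZMod r) = q := orderOf_eq_prime h2 h3
      have h5 : (p : ZMod r) ≠ 0 := by
        intro h0; rw [h0, zero_pow hq.ne_zero] at h2; exact zero_ne_one h2
      have h6 := ZMod.orderOf_dvd_card_sub_one h5
      rw [h4] at h6
      exact ((Nat.modEq_iff_dvd' hr.one_le).2 h6).symm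
    have key2 : ∀ x : ℕ, x ≠ 0 → x ∣ ∑ i ∈ Finset.range q, p ^ i → x ≡ 1 [MOD q] := by
      intro x
      induction x using Nat.recOnMul with
      | zero => intro h; exact absurd rfl h
      | one => intro _ _; rfl
      | prime r hr => intro _ h; exact key r hr h
      | mul a b iha ihb =>
        intro h0 h
        simpa using (iha (left_ne_zero_of_mul h0) (Dvd.dvd.trans (Dvd.intro _ rfl) h)).mul
          (ihb (right_ne_zero_of_mul h0) (Dvd.dvd.trans (Dvd.intro_left _ rfl) h))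
    rw [key2 x hx0 hx, Nat.mod_eq_of_lt hq.one_lt]

end Cfsg.Agent.S1546
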