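import Cfsg.Statements.S5413
import Cfsg.Agent.Leech.Fix3

set_option autoImplicit false
open Cfsg

namespace Cfsg.Agent.S5413

open Cfsg.Agent.Leech Cfsg.Agent.M24 Cfsg.Agent.GT Subgroup MulAction Cfsg.Spor
open scoped Pointwise

def l : List ℕ := [nat_lit
  0xf3172f58cae214541e04863451453438c4ae18046433f01d44cc724e4476508c305c8dea0003de0002360007da0003da0003d80005380003fa0003d200046e000e1c000994000001,
  nat_lit
  0xd3da972430ba00b2921c895219981234957238718a68a19614a1b232080c0cb15843eb1f000656000f68000f6c0002ae0008dc000f48000f28000cb2000bf6000e84000d68000001,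
  nat_lit
  0xfdb28e40000f20002810002408000a04002d020a900100020080060046c000202f00100f000801000401000201000101000081000041000020000011000008000004000002000001,
  nat_lit
  0xa71c77400a012000481007b108039004004d020008010002008d800046a000293000100f000801000401000201000101000081000040000021000011000008000004000002000001,
  nat_lit
  0x8147824008412009601001b00801d00401e00208b00106030089c0004603002930001091000801000400000200000101000081000041000021000011000008000004000002000001,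
  nat_lit
  0xdbe38240024e20090110062508024b04018102022901060300844700466200202f001091000801000400000200000101000081000040000020000011000008000004000002000001,
  nat_lit
  0x40581f6186a5345d8dca358b9dc6c4a5031f6184e40e428ecbbac934513f3ee16b968e86b9785ba2a6f79c78b6fc4d09d57037de78475d7fe8dcec212c9c9a5b54356f7231830d36]

theorem valid_l : Valid mat l := List.forall_mem_cons.2 ⟨exists_wmat (w := [nat_lit
  0x6a18b854d73c489149400b8a3a3ed3000000]) (by decide +kernel), List.forall_mem_cons.2 ⟨exists_wmat (w :=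
  [nat_lit 0x5202b80dd63c4976804fa14d364935000000]) (by decide +kernel), List.forall_mem_cons.2 ⟨exists_wmat
  (w := [nat_lit 0xbdab49ca307b9ac5a928398a41882082402f]) (by decide +kernel), List.forall_mem_cons.2
  ⟨exists_wmat (w := [nat_lit 0xbdab49ca307b9ac5a928398a418820d8e04f]) (by decide +kernel),
  List.forall_mem_cons.2 ⟨exists_wmat (w := [nat_lit 0xbdab49ca307b9ac5a928398a418820feb60f])
  (by decide +kernel), List.forall_mem_cons.2 ⟨exists_wmat (w := [nat_lit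
  0xbdab49ca307b9ac5a928398a4188205be990]) (by decide +kernel), List.forall_mem_cons.2 ⟨exists_wmat (w :=
  [nat_lit 0xa36675dae8140062c42490de962aaed0476d, nat_lit 0, nat_lit 0xb31f22922abc2614a1b45984e19c151b28fa,
  nat_lit 0, nat_lit 0x9dd355d2126bac129d0623e2062862c4680a, nat_lit 0, nat_lit
  0x5aeb3ce45a0d794542652634c2a52b2026]) (by decide +kernel), fun _ h => nomatch h⟩⟩⟩⟩⟩⟩⟩

def Ym : ℕ := nat_lit 0xdeff7b7b707f5bfd9f252fea3afdf77fe86378fd75250ffc30084a24496e76fc375ef77d000012000f6a0001ee000082000802000042000022000f10000c7600000a000006000001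
def Fm : ℕ := nat_lit 0x8242a45aa2a226538e0143a8000a980006a2000060000001
def Pm : ℕ := nat_lit 0x80000040000020000000000000000000000000000010000000000000000000000000000008000004000000000000000000000002000000000000000000000000000000000001

theorem hY : mat (prm w5) = Ym := by rw [mat_prm, mcode_w5]; decide +kernel

theorem fx : (∀ x : Lt, prm w5 • x = x ↔ ∃ m < 2 ^ 8, cdx x = apn 8 Fm m) ∧
    {x : Lt | prm w5 • x = x}.ncard = 2 ^ 8 :=
  fixSp_sound hY (p := 5) (P := Pm) (by decide) (by decide +kernel)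

def t4 : T := (.node (.node (.node (.node (.node (.node (.node .nil (nat_lit 1) (nat_lit 0) (nat_lit 1) .nil)
  (nat_lit 3130) (nat_lit 802) (nat_lit 3131) .nil) (nat_lit 3131) (nat_lit 374) (nat_lit 0xd8ea9f) (.node
  .nil (nat_lit 84272) (nat_lit 710) (nat_lit 0xfffad8) .nil)) (nat_lit 84304) (nat_lit 849) (nat_lit
  0x5aae98) (.node (.node (.node .nil (nat_lit 85906) (nat_lit 832) (nat_lit 0x5aae98) .nil) (nat_lit 86003)
  (nat_lit 1170) (nat_lit 84272) .nil) (nat_lit 0x2653ee) (nat_lit 358) (nat_lit 0xa4114a) (.node .nil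
  (nat_lit 0x26554c) (nat_lit 771) (nat_lit 0x2653ee) .nil))) (nat_lit 0x265917) (nat_lit 897) (nat_lit
  0x7dbede) (.node (.node (.node (.node .nil (nat_lit 0x265fb4) (nat_lit 752) (nat_lit 0x2653ee) .nil)
  (nat_lit 0x271026) (nat_lit 1089) (nat_lit 0x271027) .nil) (nat_lit 0x271027) (nat_lit 630) (nat_lit
  0xd9a56c) (.node .nil (nat_lit 0x271684) (nat_lit 1014) (nat_lit 0x830b95) .nil)) (nat_lit 0x271685)
  (nat_lit 1152) (nat_lit 0x7cf78f) (.node (.node .nil (nat_lit 0x271abe) (nat_lit 1184) (nat_lit 0x7cfbb4)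
  .nil) (nat_lit 0x271abf) (nat_lit 1078) (nat_lit 0x5be10a) (.node .nil (nat_lit 0x271c1c) (nat_lit 1109)
  (nat_lit 0x271027) .nil)))) (nat_lit 0x271c1d) (nat_lit 1120) (nat_lit 0x7cf14d) (.node (.node (.node (.node
  (.node .nil (nat_lit 0x5aa401) (nat_lit 866) (nat_lit 0x5aae98) .nil) (nat_lit 0x5aa460) (nat_lit 694)
  (nat_lit 0x82485d) .nil) (nat_lit 0x5aae98) (nat_lit 384) (nat_lit 0x7db81d) (.node .nil (nat_lit 0x5aaef8)
  (nat_lit 822) (nat_lit 3131) .nil)) (nat_lit 0x5be10a) (nat_lit 566) (nat_lit 0xa55282) (.node (.node (.node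
  .nil (nat_lit 0x5be10b) (nat_lit 929) (nat_lit 0x5bed31) .nil) (nat_lit 0x5be16a) (nat_lit 1060) (nat_lit
  0x5be10a) .nil) (nat_lit 0x5be16b) (nat_lit 742) (nat_lit 0xa5581a) (.node .nil (nat_lit 0x5bed30) (nat_lit
  949) (nat_lit 0x5bed31) .nil))) (nat_lit 0x5bed31) (nat_lit 454) (nat_lit 0x7db81d) (.node (.node (.node
  (.node .nil (nat_lit 0x5bed50) (nat_lit 886) (nat_lit 0x7db285) .nil) (nat_lit 0x5bed51) (nat_lit 582)
  (nat_lit 0xfff682) .nil) (nat_lit 0x7cf14c) (nat_lit 1025) (nat_lit 0x7cfd77) (.node .nil (nat_lit 0x7cf14d)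
  (nat_lit 662) (nat_lit 0xfeb971) .nil)) (nat_lit 0x7cf78e) (nat_lit 1140) (nat_lit 0x7cf14d) (.node (.node
  .nil (nat_lit 0x7cf78f) (nat_lit 678) (nat_lit 0xa41d10) .nil) (nat_lit 0x7cfbb4) (nat_lit 912) (nat_lit
  0x5bed31) (.node .nil (nat_lit 0x7cfbb5) (nat_lit 1044) (nat_lit 0x7cfd77) .nil))))) (nat_lit 0x7cfd76)
  (nat_lit 790) (nat_lit 0x2653ee) (.node (.node (.node (.node (.node (.node .nil (nat_lit 0x7cfd77) (nat_lit
  534) (nat_lit 0xa417e9) .nil) (nat_lit 0x7db285) (nat_lit 403) (nat_lit 0x7db81d) .nil) (nat_lit 0x7db447)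
  (nat_lit 437) (nat_lit 0x7db81d) (.node .nil (nat_lit 0x7db81d) (nat_lit 134) (nat_lit 0x830d36) .nil))
  (nat_lit 0x7dbede) (nat_lit 420) (nat_lit 0x7db81d) (.node (.node (.node .nil (nat_lit 0x8242a4) (nat_lit
  613) (nat_lit 0xd9a56c) .nil) (nat_lit 0x8242c5) (nat_lit 593) (nat_lit 0xd9a56c) .nil) (nat_lit 0x824407)
  (nat_lit 100) (nat_lit 0x830d36) (.node .nil (nat_lit 0x82485d) (nat_lit 276) (nat_lit 0x83016d) .nil)))
  (nat_lit 0x83016d) (nat_lit 49) (nat_lit 0x830d36) (.node (.node (.node (.node .nil (nat_lit 0x830b95)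
  (nat_lit 483) (nat_lit 0xa417e9) .nil) (nat_lit 0x830bf4) (nat_lit 960) (nat_lit 0xa41789) .nil) (nat_lit
  0x830d36) (nat_lit 22) (nat_lit 1) (.node .nil (nat_lit 0xa4114a) (nat_lit 83) (nat_lit 0x830d36) .nil))
  (nat_lit 0xa41789) (nat_lit 465) (nat_lit 0xa417e9) (.node (.node .nil (nat_lit 0xa417e9) (nat_lit 144)
  (nat_lit 0xd8e6c4) .nil) (nat_lit 0xa41d10) (nat_lit 259) (nat_lit 0x83016d) (.node .nil (nat_lit 0xa55282)
  (nat_lit 162) (nat_lit 0xd8e6c4) .nil)))) (nat_lit 0xa5581a) (nat_lit 342) (nat_lit 0xfeb52a) (.node (.node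
  (.node (.node (.node .nil (nat_lit 0xa5587a) (nat_lit 500) (nat_lit 0xa417e9) .nil) (nat_lit 0xa55ed9)
  (nat_lit 325) (nat_lit 0xfeb52a) .nil) (nat_lit 0xd8e6c4) (nat_lit 32) (nat_lit 0x830d36) (.node .nil
  (nat_lit 0xd8ea9f) (nat_lit 117) (nat_lit 0x830d36) .nil)) (nat_lit 0xd8ec3d) (nat_lit 224) (nat_lit
  0x83016d) (.node (.node (.node .nil (nat_lit 0xd8ec5c) (nat_lit 641) (nat_lit 0xd8ec3d) .nil) (nat_lit
  0xd9a3ce) (nat_lit 291) (nat_lit 0xfeb52a) .nil) (nat_lit 0xd9a50d) (nat_lit 978) (nat_lit 0xa41789) (.node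
  .nil (nat_lit 0xd9a56c) (nat_lit 214) (nat_lit 0xd8e6c4) .nil))) (nat_lit 0xd9af94) (nat_lit 196) (nat_lit
  0xd8e6c4) (.node (.node (.node (.node .nil (nat_lit 0xfeb388) (nat_lit 544) (nat_lit 0xa55282) .nil)
  (nat_lit 0xfeb3e8) (nat_lit 720) (nat_lit 0xa5581a) .nil) (nat_lit 0xfeb52a) (nat_lit 66) (nat_lit 0x830d36)
  (.node .nil (nat_lit 0xfeb971) (nat_lit 242) (nat_lit 0x83016d) .nil)) (nat_lit 0xfff682) (nat_lit 179)
  (nat_lit 0xd8e6c4) (.node (.node .nil (nat_lit 0xfffad8) (nat_lit 308) (nat_lit 0xfeb52a) .nil) (nat_lit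
  0xfffc1a) (nat_lit 997) (nat_lit 0xa41789) (.node .nil (nat_lit 0xfffc7a) (nat_lit 517) (nat_lit 0xa417e9)
  .nil))))))
def u1 : T := (.node (.node (.node (.node (.node (.node .nil (nat_lit 96) (nat_lit 0) (nat_lit 96) .nil)
  (nat_lit 97) (nat_lit 34) (nat_lit 96) (.node .nil (nat_lit 1698) (nat_lit 257) (nat_lit 2712) .nil))
  (nat_lit 1699) (nat_lit 369) (nat_lit 2713) (.node (.node .nil (nat_lit 1730) (nat_lit 16) (nat_lit 96)
  .nil) (nat_lit 1731) (nat_lit 99) (nat_lit 1730) (.node .nil (nat_lit 2712) (nat_lit 64) (nat_lit 1730)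
  .nil))) (nat_lit 2713) (nat_lit 134) (nat_lit 97) (.node (.node (.node .nil (nat_lit 2808) (nat_lit 81)
  (nat_lit 1730) .nil) (nat_lit 2809) (nat_lit 274) (nat_lit 2808) (.node .nil (nat_lit 3162) (nat_lit 694)
  (nat_lit 0xd8e007) .nil)) (nat_lit 3163) (nat_lit 358) (nat_lit 0x5aa400) (.node (.node .nil (nat_lit 84273)
  (nat_lit 786) (nat_lit 86002) .nil) (nat_lit 84305) (nat_lit 803) (nat_lit 86002) (.node .nil (nat_lit
  85907) (nat_lit 821) (nat_lit 86002) .nil)))) (nat_lit 86002) (nat_lit 304) (nat_lit 0x5aa400) (.node (.node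
  (.node (.node .nil (nat_lit 0x2653ef) (nat_lit 928) (nat_lit 0x26554d) .nil) (nat_lit 0x26554d) (nat_lit
  646) (nat_lit 0xfebfb3) (.node .nil (nat_lit 0x265916) (nat_lit 918) (nat_lit 0xa41bb3) .nil)) (nat_lit
  0x265fb5) (nat_lit 742) (nat_lit 0xfeb54a) (.node (.node .nil (nat_lit 0x5aa400) (nat_lit 118) (nat_lit
  1730) .nil) (nat_lit 0x5aa461) (nat_lit 340) (nat_lit 0x5aa400) (.node .nil (nat_lit 0x5aae99) (nat_lit 322)
  (nat_lit 0x5aa400) .nil))) (nat_lit 0x5aaef9) (nat_lit 836) (nat_lit 0x5aae99) (.node (.node (.node .nil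
  (nat_lit 0x7db284) (nat_lit 870) (nat_lit 0x830d57) .nil) (nat_lit 0x7db446) (nat_lit 758) (nat_lit
  0xd9a936) (.node .nil (nat_lit 0x7db81c) (nat_lit 949) (nat_lit 0x7db446) .nil)) (nat_lit 0x7dbedf) (nat_lit
  768) (nat_lit 86002) (.node (.node .nil (nat_lit 0x824466) (nat_lit 852) (nat_lit 0x830d57) .nil) (nat_lit
  0x82483c) (nat_lit 560) (nat_lit 0xfebfb3) .nil)))) (nat_lit 0x824e9f) (nat_lit 212) (nat_lit 0x8307af)
  (.node (.node (.node (.node (.node .nil (nat_lit 0x824efe) (nat_lit 548) (nat_lit 0x8307ce) .nil) (nat_lit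
  0x83010c) (nat_lit 485) (nat_lit 0xd8e6a5) (.node .nil (nat_lit 0x8307af) (nat_lit 54) (nat_lit 96) .nil))
  (nat_lit 0x8307ce) (nat_lit 161) (nat_lit 0x8307af) (.node (.node .nil (nat_lit 0x830d57) (nat_lit 390)
  (nat_lit 2713) .nil) (nat_lit 0xa4112a) (nat_lit 400) (nat_lit 0xd8e6a5) (.node .nil (nat_lit 0xa41bb3)
  (nat_lit 531) (nat_lit 0x8307ce) .nil))) (nat_lit 0xa41bd3) (nat_lit 195) (nat_lit 0x8307af) (.node (.node
  (.node .nil (nat_lit 0xa41d70) (nat_lit 672) (nat_lit 0xd8e007) .nil) (nat_lit 0xa552e2) (nat_lit 434)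
  (nat_lit 0xd8e6a5) (.node .nil (nat_lit 0xa55421) (nat_lit 577) (nat_lit 0xfebfb3) .nil)) (nat_lit 0xa55441)
  (nat_lit 629) (nat_lit 0xfebfb3) (.node (.node .nil (nat_lit 0xa55eb9) (nat_lit 662) (nat_lit 0xa41bd3)
  .nil) (nat_lit 0xd8e007) (nat_lit 229) (nat_lit 0x8307af) .nil))) (nat_lit 0xd8e066) (nat_lit 496) (nat_lit
  0x8307ce) (.node (.node (.node (.node .nil (nat_lit 0xd8e6a5) (nat_lit 144) (nat_lit 0x8307af) .nil)
  (nat_lit 0xd8eafe) (nat_lit 417) (nat_lit 0xd8e6a5) (.node .nil (nat_lit 0xd9a3af) (nat_lit 707) (nat_lit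
  0xfeb54a) .nil)) (nat_lit 0xd9a936) (nat_lit 294) (nat_lit 1731) (.node (.node .nil (nat_lit 0xd9a957)
  (nat_lit 595) (nat_lit 0xfebfb3) .nil) (nat_lit 0xd9aff5) (nat_lit 468) (nat_lit 0xd8e6a5) (.node .nil
  (nat_lit 0xfeb54a) (nat_lit 246) (nat_lit 0x8307af) .nil))) (nat_lit 0xfeb911) (nat_lit 885) (nat_lit
  0xa552e2) (.node (.node (.node .nil (nat_lit 0xfebfb3) (nat_lit 178) (nat_lit 0x8307af) .nil) (nat_lit
  0xfebfd3) (nat_lit 514) (nat_lit 0x8307ce) (.node .nil (nat_lit 0xfff020) (nat_lit 899) (nat_lit 0xd8e066)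
  .nil)) (nat_lit 0xfff040) (nat_lit 612) (nat_lit 0xfebfb3) (.node (.node .nil (nat_lit 0xfff6e2) (nat_lit
  451) (nat_lit 0xd8e6a5) .nil) (nat_lit 0xfffab8) (nat_lit 724) (nat_lit 0xfeb54a) .nil)))))
def u2 : T := (.node (.node (.node (.node (.node (.node (.node .nil (nat_lit 82856) (nat_lit 0) (nat_lit
  82856) .nil) (nat_lit 82857) (nat_lit 84) (nat_lit 82856) (.node .nil (nat_lit 82888) (nat_lit 339) (nat_lit
  83307) .nil)) (nat_lit 82889) (nat_lit 101) (nat_lit 82856) (.node (.node .nil (nat_lit 83210) (nat_lit 67)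
  (nat_lit 82856) .nil) (nat_lit 83211) (nat_lit 373) (nat_lit 83307) (.node .nil (nat_lit 83306) (nat_lit
  356) (nat_lit 83307) .nil))) (nat_lit 83307) (nat_lit 50) (nat_lit 82856) (.node (.node (.node .nil (nat_lit
  0x26538e) (nat_lit 592) (nat_lit 0x265fd4) .nil) (nat_lit 0x26538f) (nat_lit 610) (nat_lit 0x265fd4) (.node
  .nil (nat_lit 0x26552c) (nat_lit 689) (nat_lit 0x7db2e5) .nil)) (nat_lit 0x26552d) (nat_lit 1057) (nat_lit
  0x7db2e4) (.node (.node .nil (nat_lit 0x265976) (nat_lit 627) (nat_lit 0x265fd4) .nil) (nat_lit 0x265977)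
  (nat_lit 644) (nat_lit 0x265fd4) (.node .nil (nat_lit 0x265fd4) (nat_lit 145) (nat_lit 0x7db427) .nil))))
  (nat_lit 0x265fd5) (nat_lit 657) (nat_lit 0x7db426) (.node (.node (.node (.node .nil (nat_lit 0x271046)
  (nat_lit 949) (nat_lit 0x271c7d) .nil) (nat_lit 0x271047) (nat_lit 996) (nat_lit 0x2716e4) (.node .nil
  (nat_lit 0x2716e4) (nat_lit 406) (nat_lit 83210) .nil)) (nat_lit 0x2716e5) (nat_lit 914) (nat_lit 0x271c7d)
  (.node (.node .nil (nat_lit 0x271ade) (nat_lit 1013) (nat_lit 0x2716e4) .nil) (nat_lit 0x271adf) (nat_lit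
  932) (nat_lit 0x271c7d) (.node .nil (nat_lit 0x271c7c) (nat_lit 897) (nat_lit 0x271c7d) .nil))) (nat_lit
  0x271c7d) (nat_lit 390) (nat_lit 83307) (.node (.node (.node .nil (nat_lit 0x5aa2a2) (nat_lit 128) (nat_lit
  0x7db427) .nil) (nat_lit 0x5aa2a3) (nat_lit 321) (nat_lit 83307) (.node .nil (nat_lit 0x5aa2c2) (nat_lit
  259) (nat_lit 0x5aa85a) .nil)) (nat_lit 0x5aa2c3) (nat_lit 242) (nat_lit 0x5aa85a) (.node (.node .nil
  (nat_lit 0x5aa83a) (nat_lit 276) (nat_lit 0x5aa85a) .nil) (nat_lit 0x5aa83b) (nat_lit 293) (nat_lit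
  0x5aa85a) .nil)))) (nat_lit 0x5aa85a) (nat_lit 33) (nat_lit 82856) (.node (.node (.node (.node (.node .nil
  (nat_lit 0x5aa85b) (nat_lit 417) (nat_lit 82857) .nil) (nat_lit 0x5be7a8) (nat_lit 880) (nat_lit 0x271c7d)
  (.node .nil (nat_lit 0x5be7a9) (nat_lit 1680) (nat_lit 0x271c7c) .nil)) (nat_lit 0x5be7c8) (nat_lit 1668)
  (nat_lit 0x5be7a8) (.node (.node .nil (nat_lit 0x5be7c9) (nat_lit 976) (nat_lit 0x2716e4) .nil) (nat_lit
  0x5beb92) (nat_lit 1030) (nat_lit 0x2716e4) (.node .nil (nat_lit 0x5beb93) (nat_lit 1190) (nat_lit 0xa552e3)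
  .nil))) (nat_lit 0x5bebf2) (nat_lit 1650) (nat_lit 0x5be7a8) (.node (.node (.node .nil (nat_lit 0x5bebf3)
  (nat_lit 1702) (nat_lit 0x271c7c) .nil) (nat_lit 0x7cf12c) (nat_lit 1890) (nat_lit 0x7cf7ef) (.node .nil
  (nat_lit 0x7cf12d) (nat_lit 1907) (nat_lit 0x7cfd17) .nil)) (nat_lit 0x7cf7ee) (nat_lit 1792) (nat_lit
  0x5beb93) (.node (.node .nil (nat_lit 0x7cf7ef) (nat_lit 1430) (nat_lit 0x26538f) .nil) (nat_lit 0x7cfbd4)
  (nat_lit 1782) (nat_lit 0xfeb910) .nil))) (nat_lit 0x7cfbd5) (nat_lit 1632) (nat_lit 0x5be7a8) (.node (.node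
  (.node (.node .nil (nat_lit 0x7cfd16) (nat_lit 1728) (nat_lit 0x5be7c9) .nil) (nat_lit 0x7cfd17) (nat_lit
  1446) (nat_lit 0x265976) (.node .nil (nat_lit 0x7db2e4) (nat_lit 432) (nat_lit 82889) .nil)) (nat_lit
  0x7db2e5) (nat_lit 196) (nat_lit 0x7db427) (.node (.node .nil (nat_lit 0x7db426) (nat_lit 162) (nat_lit
  0x7db427) .nil) (nat_lit 0x7db427) (nat_lit 16) (nat_lit 82856) (.node .nil (nat_lit 0x7db87c) (nat_lit 677)
  (nat_lit 0x7db426) .nil))) (nat_lit 0x7db87d) (nat_lit 213) (nat_lit 0x7db427) (.node (.node (.node .nil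
  (nat_lit 0x7dbebe) (nat_lit 304) (nat_lit 83307) .nil) (nat_lit 0x7dbebf) (nat_lit 179) (nat_lit 0x7db427)
  (.node .nil (nat_lit 0x8242a5) (nat_lit 1558) (nat_lit 0xa55420) .nil)) (nat_lit 0x8242c4) (nat_lit 1302)
  (nat_lit 0xa55eb8) (.node (.node .nil (nat_lit 0x824406) (nat_lit 1601) (nat_lit 0xd9af95) .nil) (nat_lit
  0x824467) (nat_lit 1252) (nat_lit 0x830d56) .nil))))) (nat_lit 0x82483d) (nat_lit 1139) (nat_lit 0xa552e3)
  (.node (.node (.node (.node (.node (.node .nil (nat_lit 0x82485c) (nat_lit 1347) (nat_lit 0xa55283) .nil)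
  (nat_lit 0x824e9e) (nat_lit 464) (nat_lit 0xfeb54b) (.node .nil (nat_lit 0x824eff) (nat_lit 230) (nat_lit
  0x7db427) .nil)) (nat_lit 0x83010d) (nat_lit 1217) (nat_lit 0x830d56) (.node (.node .nil (nat_lit 0x83016c)
  (nat_lit 1616) (nat_lit 0xa4114b) .nil) (nat_lit 0x8307ae) (nat_lit 1108) (nat_lit 0x824e9e) (.node .nil
  (nat_lit 0x8307cf) (nat_lit 788) (nat_lit 0x824eff) .nil))) (nat_lit 0x830b94) (nat_lit 1462) (nat_lit
  0xd8eaff) (.node (.node (.node .nil (nat_lit 0x830bf5) (nat_lit 1860) (nat_lit 0x8242c4) .nil) (nat_lit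
  0x830d37) (nat_lit 1509) (nat_lit 0xd8ea9e) (.node .nil (nat_lit 0x830d56) (nat_lit 498) (nat_lit 0xfeb54b)
  .nil)) (nat_lit 0xa4112b) (nat_lit 1235) (nat_lit 0x830d56) (.node (.node .nil (nat_lit 0xa4114b) (nat_lit
  854) (nat_lit 83306) .nil) (nat_lit 0xa41788) (nat_lit 1746) (nat_lit 0xd9a50c) .nil))) (nat_lit 0xa417e8)
  (nat_lit 1586) (nat_lit 0xd9a56d) (.node (.node (.node (.node .nil (nat_lit 0xa41bb2) (nat_lit 1540)
  (nat_lit 0xa55420) .nil) (nat_lit 0xa41bd2) (nat_lit 870) (nat_lit 83211) (.node .nil (nat_lit 0xa41d11)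
  (nat_lit 1364) (nat_lit 0xa55283) .nil)) (nat_lit 0xa41d71) (nat_lit 1156) (nat_lit 0xa552e3) (.node (.node
  .nil (nat_lit 0xa55283) (nat_lit 566) (nat_lit 0xfeb54b) .nil) (nat_lit 0xa552e3) (nat_lit 481) (nat_lit
  0xfeb54b) (.node .nil (nat_lit 0xa55420) (nat_lit 736) (nat_lit 0x824eff) .nil))) (nat_lit 0xa55440)
  (nat_lit 1073) (nat_lit 0xfebfd2) (.node (.node (.node .nil (nat_lit 0xa5581b) (nat_lit 1824) (nat_lit
  0x8242c4) .nil) (nat_lit 0xa5587b) (nat_lit 1814) (nat_lit 0xfebfb2) (.node .nil (nat_lit 0xa55eb8) (nat_lit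
  549) (nat_lit 0xfeb54b) .nil)) (nat_lit 0xa55ed8) (nat_lit 1474) (nat_lit 0xd8ea9e) (.node (.node .nil
  (nat_lit 0xd8e006) (nat_lit 1200) (nat_lit 0x830d56) .nil) (nat_lit 0xd8e067) (nat_lit 1522) (nat_lit
  0xa55420) .nil)))) (nat_lit 0xd8e6a4) (nat_lit 1122) (nat_lit 0xa552e3) (.node (.node (.node (.node (.node
  .nil (nat_lit 0xd8e6c5) (nat_lit 966) (nat_lit 0x271c7d) .nil) (nat_lit 0xd8ea9e) (nat_lit 726) (nat_lit
  0x7db87d) (.node .nil (nat_lit 0xd8eaff) (nat_lit 710) (nat_lit 0x7db2e5) .nil)) (nat_lit 0xd8ec3c) (nat_lit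
  1398) (nat_lit 0xa55283) (.node (.node .nil (nat_lit 0xd8ec5d) (nat_lit 1764) (nat_lit 0xd9a50c) .nil)
  (nat_lit 0xd9a3ae) (nat_lit 515) (nat_lit 0xfeb54b) (.node .nil (nat_lit 0xd9a3cf) (nat_lit 1492) (nat_lit
  0xd8ea9e) .nil))) (nat_lit 0xd9a50c) (nat_lit 1046) (nat_lit 0x5aa85b) (.node (.node (.node .nil (nat_lit
  0xd9a56d) (nat_lit 822) (nat_lit 0x5aa2c3) .nil) (nat_lit 0xd9a937) (nat_lit 805) (nat_lit 0x824eff) (.node
  .nil (nat_lit 0xd9a956) (nat_lit 753) (nat_lit 0x824eff) .nil)) (nat_lit 0xd9af95) (nat_lit 838) (nat_lit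
  0x5aa83a) (.node (.node .nil (nat_lit 0xd9aff4) (nat_lit 582) (nat_lit 0x5aa2a2) .nil) (nat_lit 0xfeb389)
  (nat_lit 1312) (nat_lit 0xa55283) .nil))) (nat_lit 0xfeb3e9) (nat_lit 1574) (nat_lit 0xd9a956) (.node (.node
  (.node (.node .nil (nat_lit 0xfeb52b) (nat_lit 1329) (nat_lit 0xa55283) .nil) (nat_lit 0xfeb54b) (nat_lit
  118) (nat_lit 82856) (.node .nil (nat_lit 0xfeb910) (nat_lit 1173) (nat_lit 0xa552e3) .nil)) (nat_lit
  0xfeb970) (nat_lit 1381) (nat_lit 0xa55283) (.node (.node .nil (nat_lit 0xfebfb2) (nat_lit 1270) (nat_lit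
  0x830d56) .nil) (nat_lit 0xfebfd2) (nat_lit 454) (nat_lit 82889) (.node .nil (nat_lit 0xfff021) (nat_lit
  770) (nat_lit 0x824eff) .nil))) (nat_lit 0xfff041) (nat_lit 1090) (nat_lit 0x824e9e) (.node (.node (.node
  .nil (nat_lit 0xfff683) (nat_lit 1715) (nat_lit 0xd8e6c5) .nil) (nat_lit 0xfff6e3) (nat_lit 1281) (nat_lit
  0xfffab9) (.node .nil (nat_lit 0xfffab9) (nat_lit 532) (nat_lit 0xfeb54b) .nil)) (nat_lit 0xfffad9) (nat_lit
  1414) (nat_lit 0x26538e) (.node (.node .nil (nat_lit 0xfffc1b) (nat_lit 1842) (nat_lit 0x8242c4) .nil)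
  (nat_lit 0xfffc7b) (nat_lit 1876) (nat_lit 0xfeb389) .nil))))))

theorem cov {x : Lt} (hx : prm w5 • x = x ∧ x ∈ orbit Co0 x8) :
    t4.has (cdx x) = true := by
  have := cover fx.1 (f := fun c => bor (Nat.beq c 0) (bor (u1.has c) (bor (u2.has c) (t4.has c)))) (by decide +kernel) hx.1
  simp only [bor_eq, Bool.or_eq_true, Nat.beq_eq] at this
  rcases this with h | h | h | h
  · exact absurd hx.2 (zero_not_orbit h)
  · exact absurd hx.2 (not_orbit valid_l [0, 0, 0, 0, 0, 4, -4, 0, 0, 0, 0, 0, 0, 0, 0, 0, 0, 0, 0, 0,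
      0, 0, 0, 0] (nat_lit 0xc400000) (by decide +kernel) (by decide +kernel) h)
  · exact absurd hx.2 (not_orbit valid_l [0, 0, 0, 0, -2, -2, -2, -2, -2, 0, 0, -2, 0, 0, 2, 0, -2,
      -4, 0, 0, 0, 0, 0, 0] (nat_lit 0xce0200e00eeeee0000) (by decide +kernel) (by decide +kernel) h)
  · exact h

theorem le_c : gen mat l ≤ C1[prm w5] :=
  gen_le_cent (odd_prm orderOf_w5 (by decide)) hY (by decide +kernel)

theorem ce : C1[prm w5] = gen mat l ∧ (∀ x, x ∈ orbit C1[prm w5] x8 ↔ t4.has (cdx x) = true) ∧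
    (orbit C1[prm w5] x8).ncard = t4.size ∧
    Nat.card C1[prm w5] = Nat.card ↥(Nm ⊓ C1[prm w5]) * t4.size :=
  cent_eq_gen valid_l le_c (Nm_cent_le mcode_w5 cent_w5 (cs := [nat_lit 0x82402f, nat_lit 0xd8e04f, nat_lit 0xfeb60f, nat_lit 0x5be990]) (by decide +kernel))
    (fun _ hx => cov (orbit_fix hx)) (by decide +kernel)

theorem sz : t4.size = 75 := by decide +kernel

def tl : T := (.node (.node (.node (.node (.node (.node (.node .nil (nat_lit 1) (nat_lit 65) (nat_lit 0) .nil)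
  (nat_lit 3130) (nat_lit 65) (nat_lit 0) .nil) (nat_lit 3131) (nat_lit 65) (nat_lit 0) (.node .nil (nat_lit
  84272) (nat_lit 260) (nat_lit 0) .nil)) (nat_lit 84304) (nat_lit 144) (nat_lit 0) (.node (.node (.node .nil
  (nat_lit 85906) (nat_lit 514) (nat_lit 0) .nil) (nat_lit 86003) (nat_lit 40) (nat_lit 0) .nil) (nat_lit
  0x2653ee) (nat_lit 136) (nat_lit 0) (.node .nil (nat_lit 0x26554c) (nat_lit 48) (nat_lit 0) .nil))) (nat_lit
  0x265917) (nat_lit 516) (nat_lit 0) (.node (.node (.node (.node .nil (nat_lit 0x265fb4) (nat_lit 258)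
  (nat_lit 0) .nil) (nat_lit 0x271026) (nat_lit 66) (nat_lit 0) .nil) (nat_lit 0x271027) (nat_lit 68) (nat_lit
  0) (.node .nil (nat_lit 0x271684) (nat_lit 257) (nat_lit 0) .nil)) (nat_lit 0x271685) (nat_lit 513) (nat_lit
  0) (.node (.node .nil (nat_lit 0x271abe) (nat_lit 129) (nat_lit 0) .nil) (nat_lit 0x271abf) (nat_lit 33)
  (nat_lit 0) (.node .nil (nat_lit 0x271c1c) (nat_lit 80) (nat_lit 0) .nil)))) (nat_lit 0x271c1d) (nat_lit 72)
  (nat_lit 0) (.node (.node (.node (.node (.node .nil (nat_lit 0x5aa401) (nat_lit 272) (nat_lit 0) .nil)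
  (nat_lit 0x5aa460) (nat_lit 132) (nat_lit 0) .nil) (nat_lit 0x5aae98) (nat_lit 520) (nat_lit 0) (.node .nil
  (nat_lit 0x5aaef8) (nat_lit 34) (nat_lit 0) .nil)) (nat_lit 0x5be10a) (nat_lit 513) (nat_lit 0) (.node
  (.node (.node .nil (nat_lit 0x5be10b) (nat_lit 33) (nat_lit 0) .nil) (nat_lit 0x5be16a) (nat_lit 66)
  (nat_lit 0) .nil) (nat_lit 0x5be16b) (nat_lit 72) (nat_lit 0) (.node .nil (nat_lit 0x5bed30) (nat_lit 129)
  (nat_lit 0) .nil))) (nat_lit 0x5bed31) (nat_lit 257) (nat_lit 0) (.node (.node (.node (.node .nil (nat_lit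
  0x5bed50) (nat_lit 68) (nat_lit 0) .nil) (nat_lit 0x5bed51) (nat_lit 80) (nat_lit 0) .nil) (nat_lit
  0x7cf14c) (nat_lit 66) (nat_lit 0) (.node .nil (nat_lit 0x7cf14d) (nat_lit 80) (nat_lit 0) .nil)) (nat_lit
  0x7cf78e) (nat_lit 129) (nat_lit 0) (.node (.node .nil (nat_lit 0x7cf78f) (nat_lit 513) (nat_lit 0) .nil)
  (nat_lit 0x7cfbb4) (nat_lit 33) (nat_lit 0) (.node .nil (nat_lit 0x7cfbb5) (nat_lit 257) (nat_lit 0)
  .nil))))) (nat_lit 0x7cfd76) (nat_lit 72) (nat_lit 0) (.node (.node (.node (.node (.node (.node .nil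
  (nat_lit 0x7cfd77) (nat_lit 68) (nat_lit 0) .nil) (nat_lit 0x7db285) (nat_lit 264) (nat_lit 0) .nil)
  (nat_lit 0x7db447) (nat_lit 36) (nat_lit 0) (.node .nil (nat_lit 0x7db81d) (nat_lit 528) (nat_lit 0) .nil))
  (nat_lit 0x7dbede) (nat_lit 130) (nat_lit 0) (.node (.node (.node .nil (nat_lit 0x8242a4) (nat_lit 130)
  (nat_lit 0) .nil) (nat_lit 0x8242c5) (nat_lit 48) (nat_lit 0) .nil) (nat_lit 0x824407) (nat_lit 520)
  (nat_lit 0) (.node .nil (nat_lit 0x82485d) (nat_lit 260) (nat_lit 0) .nil))) (nat_lit 0x83016d) (nat_lit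
  260) (nat_lit 0) (.node (.node (.node (.node .nil (nat_lit 0x830b95) (nat_lit 528) (nat_lit 0) .nil)
  (nat_lit 0x830bf4) (nat_lit 136) (nat_lit 0) .nil) (nat_lit 0x830d36) (nat_lit 34) (nat_lit 0) (.node .nil
  (nat_lit 0xa4114a) (nat_lit 132) (nat_lit 0) .nil)) (nat_lit 0xa41789) (nat_lit 48) (nat_lit 0) (.node
  (.node .nil (nat_lit 0xa417e9) (nat_lit 264) (nat_lit 0) .nil) (nat_lit 0xa41d10) (nat_lit 514) (nat_lit 0)
  (.node .nil (nat_lit 0xa55282) (nat_lit 514) (nat_lit 0) .nil)))) (nat_lit 0xa5581a) (nat_lit 136) (nat_lit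
  0) (.node (.node (.node (.node (.node .nil (nat_lit 0xa5587a) (nat_lit 36) (nat_lit 0) .nil) (nat_lit
  0xa55ed9) (nat_lit 272) (nat_lit 0) .nil) (nat_lit 0xd8e6c4) (nat_lit 144) (nat_lit 0) (.node .nil (nat_lit
  0xd8ea9f) (nat_lit 520) (nat_lit 0) .nil)) (nat_lit 0xd8ec3d) (nat_lit 36) (nat_lit 0) (.node (.node (.node
  .nil (nat_lit 0xd8ec5c) (nat_lit 258) (nat_lit 0) .nil) (nat_lit 0xd9a3ce) (nat_lit 34) (nat_lit 0) .nil)
  (nat_lit 0xd9a50d) (nat_lit 516) (nat_lit 0) (.node .nil (nat_lit 0xd9a56c) (nat_lit 264) (nat_lit 0)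
  .nil))) (nat_lit 0xd9af94) (nat_lit 144) (nat_lit 0) (.node (.node (.node (.node .nil (nat_lit 0xfeb388)
  (nat_lit 528) (nat_lit 0) .nil) (nat_lit 0xfeb3e8) (nat_lit 258) (nat_lit 0) .nil) (nat_lit 0xfeb52a)
  (nat_lit 132) (nat_lit 0) (.node .nil (nat_lit 0xfeb971) (nat_lit 40) (nat_lit 0) .nil)) (nat_lit 0xfff682)
  (nat_lit 40) (nat_lit 0) (.node (.node .nil (nat_lit 0xfffad8) (nat_lit 272) (nat_lit 0) .nil) (nat_lit
  0xfffc1a) (nat_lit 516) (nat_lit 0) (.node .nil (nat_lit 0xfffc7a) (nat_lit 130) (nat_lit 0) .nil))))))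
def ps : List (ℕ × ℕ) := [(nat_lit
  0xf3172f58cae214541e04863451453438c4ae18046433f01d44cc724e4476508c305c8dea0003de0002360007da0003da0003d80005380003fa0003d200046e000e1c000994000001,
  nat_lit 0x9586731240), (nat_lit
  0xd3da972430ba00b2921c895219981234957238718a68a19614a1b232080c0cb15843eb1f000656000f68000f6c0002ae0008dc000f48000f28000cb2000bf6000e84000d68000001,
  nat_lit 0x7596834120), (nat_lit
  0xfdb28e40000f20002810002408000a04002d020a900100020080060046c000202f00100f000801000401000201000101000081000041000020000011000008000004000002000001,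
  nat_lit 0x4310298576), (nat_lit
  0xa71c77400a012000481007b108039004004d020008010002008d800046a000293000100f000801000401000201000101000081000040000021000011000008000004000002000001,
  nat_lit 0x8956734120), (nat_lit
  0x8147824008412009601001b00801d00401e00208b00106030089c0004603002930001091000801000400000200000101000081000041000021000011000008000004000002000001,
  nat_lit 0x1240375896), (nat_lit
  0xdbe38240024e20090110062508024b04018102022901060300844700466200202f001091000801000400000200000101000081000040000020000011000008000004000002000001,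
  nat_lit 0x5786921430), (nat_lit
  0x40581f6186a5345d8dca358b9dc6c4a5031f6184e40e428ecbbac934513f3ee16b968e86b9785ba2a6f79c78b6fc4d09d57037de78475d7fe8dcec212c9c9a5b54356f7231830d36,
  nat_lit 0x231486795)]
def cA_t0 : T := (.node (.node (.node (.node .nil (nat_lit 0) (nat_lit 0) (nat_lit 0x9876543210) .nil)
  (nat_lit 1) (nat_lit 103) (nat_lit 0x7958621304) .nil) (nat_lit 2) (nat_lit 227) (nat_lit 0x5769814023)
  (.node (.node .nil (nat_lit 3) (nat_lit 118) (nat_lit 0x6587930142) .nil) (nat_lit 4) (nat_lit 231) (nat_lit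
  0x6587902431) .nil)) (nat_lit 5) (nat_lit 7) (nat_lit 0x1423057869) (.node (.node (.node .nil (nat_lit 6)
  (nat_lit 3) (nat_lit 0x4310298576) .nil) (nat_lit 7) (nat_lit 225) (nat_lit 0x1203465879) .nil) (nat_lit 8)
  (nat_lit 226) (nat_lit 0x2013475689) (.node .nil (nat_lit 9) (nat_lit 22) (nat_lit 0x231486795) .nil)))
def cA_l0 : Lvl := ⟨nat_lit 0, [nat_lit 0x9586731240, nat_lit 0x7596834120, nat_lit 0x4310298576, nat_lit
  0x8956734120, nat_lit 0x1240375896, nat_lit 0x5786921430, nat_lit 0x231486795], [nat_lit 0, nat_lit 0,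
  nat_lit 0, nat_lit 0, nat_lit 0, nat_lit 0, nat_lit 0], cA_t0⟩
def cA_t1 : T := (.node (.node (.node .nil (nat_lit 5) (nat_lit 0) (nat_lit 0x9876543210) .nil) (nat_lit 6)
  (nat_lit 1) (nat_lit 0x8975623140) .nil) (nat_lit 7) (nat_lit 34) (nat_lit 0x9756831240) (.node (.node .nil
  (nat_lit 8) (nat_lit 545) (nat_lit 0x9586734120) .nil) (nat_lit 9) (nat_lit 17) (nat_lit 0x5987624310)
  .nil))
def cA_l1 : Lvl := ⟨nat_lit 5, [nat_lit 0x8975613420, nat_lit 0x5987624310], [nat_lit 0xce739c6589216, nat_lit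
  0x2c3b044738887], cA_t1⟩
def cA_t2 : T := (.node (.node (.node .nil (nat_lit 1) (nat_lit 0) (nat_lit 0x9876543210) .nil) (nat_lit 2)
  (nat_lit 16) (nat_lit 0x6978523140) .nil) (nat_lit 3) (nat_lit 514) (nat_lit 0x7986541320) (.node .nil
  (nat_lit 4) (nat_lit 1) (nat_lit 0x8679513420) .nil))
def cA_l2 : Lvl := ⟨nat_lit 1, [nat_lit 0x6978523140, nat_lit 0x6897512340], [nat_lit 558146, nat_lit 80],
  cA_t2⟩
def cA_t3 : T := (.node (.node (.node .nil (nat_lit 6) (nat_lit 0) (nat_lit 0x9876543210) .nil) (nat_lit 7)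
  (nat_lit 16) (nat_lit 0x7869532410) .nil) (nat_lit 8) (nat_lit 17) (nat_lit 0x8679532410) (.node .nil
  (nat_lit 9) (nat_lit 1) (nat_lit 0x6897524310) .nil))
def cA_l3 : Lvl := ⟨nat_lit 6, [nat_lit 0x7869532410, nat_lit 0x8679532410], [nat_lit 0x1010621, nat_lit
  0x1010441], cA_t3⟩
def cA_t4 : T := (.node (.node .nil (nat_lit 2) (nat_lit 0) (nat_lit 0x9876543210) .nil) (nat_lit 3) (nat_lit
  17) (nat_lit 0x9876532410) (.node .nil (nat_lit 4) (nat_lit 2) (nat_lit 0x9876524310) .nil))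
def cA_l4 : Lvl := ⟨nat_lit 2, [nat_lit 0x8796543210, nat_lit 0x9876532410], [nat_lit 80, nat_lit 34850],
  cA_t4⟩
def cA_t5 : T := (.node (.node .nil (nat_lit 7) (nat_lit 0) (nat_lit 0x9876543210) .nil) (nat_lit 8) (nat_lit
  16) (nat_lit 0x8796543210) (.node .nil (nat_lit 9) (nat_lit 1) (nat_lit 0x7986543210) .nil))
def cA_l5 : Lvl := ⟨nat_lit 7, [nat_lit 0x8796543210], [nat_lit 1], cA_t5⟩
def cA : List Lvl := [cA_l0, cA_l1, cA_l2, cA_l3, cA_l4, cA_l5]

/-- Enumeration of two copies of five points. -/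
def E10 : Enc (Fin 5 ⊕ Fin 5) 10 where
  idx := Sum.elim Fin.val fun i => 5 + i.val
  pt i := if i < 5 then .inl (Fin.ofNat 5 i) else .inr (Fin.ofNat 5 i)
  idx_lt := by decide
  pt_idx := by decide
  idx_pt := by decide

theorem chk_X : chkG 4 15 10 cA = true := by decide +kernel

theorem X_eq : gen (E10.code 4) (gensOf cA) = alternatingFiveWreathTwo := by
  have h := chkG_sound E10 rfl (by norm_num) chk_X
  have key : ∀ (p q : Equiv.Perm (Fin 5)) (c : ℕ) {g}, E10.code 4 g = c →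
      ((Equiv.Perm.sign p = 1 ∧ Equiv.Perm.sign q = 1) ∧ c = E10.code 4 (p.sumCongr q) →
        g ∈ alternatingFiveWreathTwo) ∧
      ((Equiv.Perm.sign p = 1 ∧ Equiv.Perm.sign q = 1) ∧
        c = E10.code 4 (p.sumCongr q * Equiv.sumComm _ _) → g ∈ alternatingFiveWreathTwo) :=
    fun p q c g hg => by
      constructor <;> rintro ⟨h1, h2⟩ <;> rw [(E10.gc (mk := 15) rfl (by norm_num)).inj (hg.trans h2)]
      · exact subset_closure (Or.inl ⟨⟨p, h1.1⟩, ⟨q, h1.2⟩, rfl⟩)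
      · exact mul_mem (subset_closure (Or.inl ⟨⟨p, h1.1⟩, ⟨q, h1.2⟩, rfl⟩)) (subset_closure (Or.inr rfl))
  refine le_antisymm (gen_le fun g hg => ?_) ((closure_le _).2 ?_)
  · simp only [gensOf, cA, cA_l0, List.mem_cons, List.not_mem_nil, or_false] at hg
    rcases hg with hg | hg | hg | hg | hg | hg | hg
    · exact (key (Equiv.swap 1 4 * Equiv.swap 3 4)
        (Equiv.swap 0 2 * Equiv.swap 2 3) _ hg).1 (by decide +kernel)
    · exact (key (Equiv.swap 1 2 * Equiv.swap 3 4)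
        (Equiv.swap 0 3 * Equiv.swap 2 4) _ hg).1 (by decide +kernel)
    · exact (key (Equiv.swap 0 2 * Equiv.swap 1 2)
        (Equiv.swap 0 1 * Equiv.swap 1 2) _ hg).2 (by decide +kernel)
    · exact (key (Equiv.swap 1 2 * Equiv.swap 3 4)
        (Equiv.swap 0 2 * Equiv.swap 3 4) _ hg).1 (by decide +kernel)
    · exact (key (Equiv.swap 0 3 * Equiv.swap 1 3 * Equiv.swap 2 4 * Equiv.swap 3 4)
        (Equiv.swap 0 1 * Equiv.swap 1 4 * Equiv.swap 2 3 * Equiv.swap 3 4) _ hg).2 (by decide +kernel)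
    · exact (key (Equiv.swap 1 3 * Equiv.swap 2 4)
        (Equiv.swap 0 4 * Equiv.swap 2 3) _ hg).1 (by decide +kernel)
    · exact (key (Equiv.swap 0 4 * Equiv.swap 2 3)
        (Equiv.swap 1 4 * Equiv.swap 3 4) _ hg).2 (by decide +kernel)
  · have h1 : ∀ p : Equiv.Perm (Fin 5), Equiv.Perm.sign p = 1 →
        sift (mulG 4 15 10) (oneG 4 10) (apw 4 15) cA (E10.code 4 (p.sumCongr 1)) = true ∧
        sift (mulG 4 15 10) (oneG 4 10) (apw 4 15) cA (E10.code 4 (Equiv.Perm.sumCongr 1 p)) = true := by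
      decide +kernel
    rintro _ (⟨σ, τ, rfl⟩ | rfl)
    · have := mul_mem ((h.2.2 _).2 (h1 σ σ.2).1) ((h.2.2 _).2 (h1 τ τ.2).2)
      rwa [Equiv.Perm.sumCongr_mul, mul_one, one_mul] at this
    · exact (h.2.2 _).2 (by decide +kernel)

theorem good : ∃ n, Good w5 alternatingFiveWreathTwo 4 n := by
  have h := chkG_sound E10 rfl (by norm_num) chk_X
  obtain ⟨θ, h1, h2, -⟩ := exists_lab_hom acL (E10.acS (w := 4) (mk := 15) rfl (by norm_num))
    (E10.gc (w := 4) (mk := 15) rfl (by norm_num)).inj (ps := ps) (l := l) (l' := gensOf cA) rfl rfl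
    valid_l h.1 (t := tl) (hi' := 2 ^ 24) (by decide +kernel) keys_ok (by decide +kernel)
    (sep_set E10 (by decide +kernel))
  exact ⟨_, good_of ce.1 θ h1 (MulEquiv.subgroupCongr X_eq)
    (fun g hg => h2 g fun x hx => hg x ((ce.2.1 x).2 (has_of_all (hi := 2 ^ 24) (by decide +kernel)
      (by decide +kernel) hx))) (by
        rw [ce.2.2.2, card_Nm_cent mcode_w5 (n := 16) (by decide +kernel), card_cent_w5, sz, h.2.1,
          orderOf_w5]; decide +kernel)
    (by rw [ce.2.2.1, sz]; decide) fx.2 rfl⟩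


/-- Let G be a finite group of Monster type at the involution z with Q the extraspecial normal subgroup of order 2^25 of C = C_G(z) (so C/Q is identified with the first Conway group with Q modulo its centre the Leech lattice modulo 2, and z is not weakly closed in Q). Let s be a conjugate of z in Q other than z and let B be a Sylow 5-subgroup of the joint centralizer of z and s. Then the centralizer of B modulo B is a group of Harada–Norton type (an involution whose centralizer D has generalized Fitting subgroup R extraspecial of order 2^9 with D/R the wreath product of the alternating group of degree 5 by a group of order 2, the involution not weakly closed in R). -/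
theorem result {G : Type*} [Group G] [Finite G] (z : G) (Q : Subgroup (Subgroup.centralizer ({z} : Set G))) [Q.Normal] (hM : Cfsg.IsOfMonsterType z Q) (s : G) (hsQ : ∃ hsc : s ∈ Subgroup.centralizer ({z} : Set G), (⟨s, hsc⟩ : Subgroup.centralizer ({z} : Set G)) ∈ Q) (hs : IsConj z s) (hs1 : s ≠ z) (B : Subgroup G) (hB : B ≤ Subgroup.centralizer ({z, s} : Set G)) (hBp : Nat.card B = 5 ^ (Nat.card ↥(Subgroup.centralizer ({z, s} : Set G))).factorization 5) [hn : (B.subgroupOf (Subgroup.centralizer (B : Set G))).Normal] : Cfsg.IsOfHaradaNortonType (↥(Subgroup.centralizer (B : Set G)) ⧸ B.subgroupOf (Subgroup.centralizer (B : Set G))) := by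
  obtain ⟨Q', Ψ, π, M, a⟩ := start hM hsQ hs hs1
  have : Fact (Nat.Prime 5) := ⟨by norm_num⟩
  rw [M.fact_cent2 a (n := 1) (m := 2 ^ 35 * 48964608) (by norm_num) (by norm_num), pow_one] at hBp
  obtain ⟨b, hb, ho, e, σ, hσ, h⟩ := M.reduce' a hB this.1 (by decide) hBp
  obtain ⟨k, hk⟩ := cls5 hσ
  obtain ⟨Ψ, π, M, a, l⟩ := h _ _ hk
  obtain ⟨z', Q', hn, h1, h2, -⟩ := good.choose_spec.setting M a this.1 (by decide) orderOf_w5 hBp hb
    (hB.trans (cent_pair z s ▸ inf_le_right)) l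
  exact ⟨z', Q', hn, h1, h2⟩

end Cfsg.Agent.S5413
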