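import Cfsg.Statements.S5414
import Cfsg.Agent.Leech.Fix3

set_option autoImplicit false
open Cfsg

namespace Cfsg.Agent.S5414

open Cfsg.Agent.Leech Cfsg.Agent.M24 Cfsg.Agent.GT Subgroup MulAction Cfsg.Spor

def l : List ℕ := [nat_lit
  0xd72cab04c2682d017429417e15048c27c76a24836849831409401e28a24c5ab12d0cc3ea000fc6000e1c000d860002d4000dc4000dce0002ae000cc6000c2a000b240005c6000001,
  nat_lit
  0x8287fc75e0c90113ee03dd0801d7286cba8f3f25037e47a30341ce7fa28b078be65d3203000d74000e740008ea000366000a96000c7c0004740001b2000cf40006cc000c74000001,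
  nat_lit
  0x9abce1400a01200e2010010408014b0400a1020008010e100081470046a000210f00100f000801000401000201000100000081000040000021000011000008000004000002000001,
  nat_lit
  0xb9996540084c2002201002b108029304014c02080901021300808200444100290c001093000801000401000200000101000080000041000020000010000009000005000002000001,
  nat_lit
  0xe4d82140000f20040810033008035004008d020a30010b1000848700448300293000148e000801000400000201000101000080000041000021000011000008000004000002000001,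
  nat_lit
  0xc7f08a400243200809100085080089040161020231010712008543004662002133001413000801000400000200000100000081000040000020000010000009000005000002000001,
  nat_lit
  0x40400d2a4b16d78d8f3893d7736ffbd1ec60953e976f7ce7c3de4a63cc8b4b6e6b4b1c4902e8027cdd569d27f3b94f32f96f5299e59af9a9b5fc78eda16738a1648c07462eb808e1]

theorem valid_l : Valid mat l := List.forall_mem_cons.2 ⟨exists_wmat (w := [nat_lit
  0x61c4aa44162b6e44ccd008ea89396f000000]) (by decide +kernel), List.forall_mem_cons.2 ⟨exists_wmat (w :=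
  [nat_lit 0xcc442d2cd32a554259070d6f3c417000000]) (by decide +kernel), List.forall_mem_cons.2 ⟨exists_wmat (w
  := [nat_lit 0xbdab49ca307b9ac5a928398a418820e5414f]) (by decide +kernel), List.forall_mem_cons.2
  ⟨exists_wmat (w := [nat_lit 0xbdab49ca307b9ac5a928398a418820c662b3]) (by decide +kernel),
  List.forall_mem_cons.2 ⟨exists_wmat (w := [nat_lit 0xbdab49ca307b9ac5a928398a4188209b248f])
  (by decide +kernel), List.forall_mem_cons.2 ⟨exists_wmat (w := [nat_lit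
  0xbdab49ca307b9ac5a928398a41882047f88c]) (by decide +kernel), List.forall_mem_cons.2 ⟨exists_wmat (w :=
  [nat_lit 0xa36675dae8140062c42490de962aae2497dc, nat_lit 0, nat_lit 0x23828628474cee658cb50522db3e128fc0cd,
  nat_lit 0, nat_lit 0xad2250b0486bec020e57325ca9c16750a903, nat_lit 0, nat_lit
  0x1062ca9daf55064b192b938b0b811364a032]) (by decide +kernel), fun _ h => nomatch h⟩⟩⟩⟩⟩⟩⟩

def Ym : ℕ := nat_lit 0xefe7bf7ead0d3118ac382f1e5ed64d612e38013f2e4febcd4fcac16bdf255ceb7d6e5f0d00049c0007b6000012000f6a00093c000102000202000022000f1000000a000c76000001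
def Fm : ℕ := nat_lit 0x8190ee47f4962324c61ab0d0000c1800025e000136000001
def Pm : ℕ := nat_lit 0x80000040000020000010000000000000000000000000000000000000000000000000000008000000000004000002000000000000000000000000000000000000000000000001

theorem hY : mat (prm wB) = Ym := by rw [mat_prm, mcode_wB]; decide +kernel

theorem fx : (∀ x : Lt, prm wB • x = x ↔ ∃ m < 2 ^ 8, cdx x = apn 8 Fm m) ∧
    {x : Lt | prm wB • x = x}.ncard = 2 ^ 8 :=
  fixSp_sound hY (p := 3) (P := Pm) (by decide) (by decide +kernel)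

def t4 : T := (.node (.node (.node (.node (.node (.node (.node (.node .nil (nat_lit 1) (nat_lit 0) (nat_lit 1)
  .nil) (nat_lit 310) (nat_lit 1302) (nat_lit 0xfff158) .nil) (nat_lit 311) (nat_lit 1968) (nat_lit 3097)
  (.node .nil (nat_lit 606) (nat_lit 1825) (nat_lit 3374) .nil)) (nat_lit 607) (nat_lit 2054) (nat_lit
  0xc66627) (.node (.node .nil (nat_lit 872) (nat_lit 1808) (nat_lit 3374) .nil) (nat_lit 873) (nat_lit 2102)
  (nat_lit 0x39977f) (.node .nil (nat_lit 3096) (nat_lit 1986) (nat_lit 3097) .nil))) (nat_lit 3097) (nat_lit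
  950) (nat_lit 0x9b203f) (.node (.node (.node .nil (nat_lit 3374) (nat_lit 774) (nat_lit 0xb80abf) .nil)
  (nat_lit 3375) (nat_lit 1686) (nat_lit 0x64d167) (.node .nil (nat_lit 3654) (nat_lit 1574) (nat_lit
  0x5d4618) .nil)) (nat_lit 3655) (nat_lit 1638) (nat_lit 0x819dc0) (.node (.node .nil (nat_lit 3952) (nat_lit
  2118) (nat_lit 0xa2b740) .nil) (nat_lit 3953) (nat_lit 2134) (nat_lit 0x7e6c98) (.node .nil (nat_lit
  0x1abcc8) (nat_lit 1235) (nat_lit 0x1abdfe) .nil)))) (nat_lit 0x1abcc9) (nat_lit 1524) (nat_lit 0x1abfa0)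
  (.node (.node (.node (.node (.node .nil (nat_lit 0x1abdfe) (nat_lit 390) (nat_lit 0xfff06e) .nil) (nat_lit
  0x1abdff) (nat_lit 1218) (nat_lit 0x1abdfe) .nil) (nat_lit 0x1abe96) (nat_lit 1252) (nat_lit 0x1abdfe)
  (.node .nil (nat_lit 0x1abe97) (nat_lit 838) (nat_lit 0xc66711) .nil)) (nat_lit 0x1abfa0) (nat_lit 497)
  (nat_lit 0x5d4968) (.node (.node .nil (nat_lit 0x1abfa1) (nat_lit 1506) (nat_lit 0x1abfa0) .nil) (nat_lit
  0x232698) (nat_lit 934) (nat_lit 0x9b2c27) (.node .nil (nat_lit 0x232699) (nat_lit 1648) (nat_lit 0x64d167)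
  .nil))) (nat_lit 0x2327ae) (nat_lit 1939) (nat_lit 0x232698) (.node (.node (.node .nil (nat_lit 0x2327af)
  (nat_lit 1846) (nat_lit 0xb806a7) .nil) (nat_lit 0x232a80) (nat_lit 1956) (nat_lit 0x232698) (.node .nil
  (nat_lit 0x232a81) (nat_lit 961) (nat_lit 0x399939) .nil)) (nat_lit 0x232bb6) (nat_lit 1313) (nat_lit
  0x399648) (.node (.node .nil (nat_lit 0x232bb7) (nat_lit 2002) (nat_lit 0x232a81) .nil) (nat_lit 0x399648)
  (nat_lit 470) (nat_lit 0xdcd6f6) (.node .nil (nat_lit 0x399649) (nat_lit 1347) (nat_lit 0x399648) .nil)))))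
  (nat_lit 0x39977e) (nat_lit 1013) (nat_lit 0x399939) (.node (.node (.node (.node (.node (.node .nil (nat_lit
  0x39977f) (nat_lit 1330) (nat_lit 0x399648) .nil) (nat_lit 0x39980e) (nat_lit 1365) (nat_lit 0x399648) .nil)
  (nat_lit 0x39980f) (nat_lit 978) (nat_lit 0x399939) (.node .nil (nat_lit 0x399938) (nat_lit 995) (nat_lit
  0x399939) .nil)) (nat_lit 0x399939) (nat_lit 326) (nat_lit 0xa2ba6e) (.node (.node .nil (nat_lit 0x47f5a0)
  (nat_lit 1702) (nat_lit 0xc66478) .nil) (nat_lit 0x47f5a1) (nat_lit 1472) (nat_lit 0x1abfa0) (.node .nil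
  (nat_lit 0x47f7fe) (nat_lit 1904) (nat_lit 0x1abe97) .nil))) (nat_lit 0x47f7ff) (nat_lit 1780) (nat_lit
  0x47fbe6) (.node (.node (.node .nil (nat_lit 0x47f9b8) (nat_lit 1926) (nat_lit 0x819f9f) .nil) (nat_lit
  0x47f9b9) (nat_lit 1762) (nat_lit 0x47fbe6) (.node .nil (nat_lit 0x47fbe6) (nat_lit 726) (nat_lit 0x9b2260)
  .nil)) (nat_lit 0x47fbe7) (nat_lit 1184) (nat_lit 0x1abdfe) (.node (.node .nil (nat_lit 0x5d4446) (nat_lit
  1393) (nat_lit 0x7e6ff0) .nil) (nat_lit 0x5d4447) (nat_lit 1540) (nat_lit 0x5d4b37) (.node .nil (nat_lit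
  0x5d4618) (nat_lit 531) (nat_lit 0x5d4968) .nil)))) (nat_lit 0x5d4619) (nat_lit 548) (nat_lit 0x5d4968)
  (.node (.node (.node (.node (.node .nil (nat_lit 0x5d4968) (nat_lit 166) (nat_lit 0xc6654e) .nil) (nat_lit
  0x5d4969) (nat_lit 1121) (nat_lit 0x7e61b7) .nil) (nat_lit 0x5d4b36) (nat_lit 565) (nat_lit 0x5d4968) (.node
  .nil (nat_lit 0x5d4b37) (nat_lit 514) (nat_lit 0x5d4968) .nil)) (nat_lit 0x64d166) (nat_lit 1489) (nat_lit
  0x1abfa0) (.node (.node .nil (nat_lit 0x64d167) (nat_lit 646) (nat_lit 0x9b2e78) .nil) (nat_lit 0x64d20e)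
  (nat_lit 1201) (nat_lit 0x1abdfe) (.node .nil (nat_lit 0x64d20f) (nat_lit 1893) (nat_lit 0x64de16) .nil)))
  (nat_lit 0x64dd7e) (nat_lit 1858) (nat_lit 0x64de16) (.node (.node (.node .nil (nat_lit 0x64dd7f) (nat_lit
  1669) (nat_lit 0x64d167) .nil) (nat_lit 0x64de16) (nat_lit 806) (nat_lit 0xe542e0) (.node .nil (nat_lit
  0x64de17) (nat_lit 1876) (nat_lit 0x64de16) .nil)) (nat_lit 0x7e61b6) (nat_lit 1427) (nat_lit 0x7e6ff0)
  (.node (.node .nil (nat_lit 0x7e61b7) (nat_lit 374) (nat_lit 0xdcd4a9) .nil) (nat_lit 0x7e62de) (nat_lit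
  1138) (nat_lit 0x7e61b7) (.node .nil (nat_lit 0x7e62df) (nat_lit 1172) (nat_lit 0x7e61b7) .nil))))))
  (nat_lit 0x7e6c98) (nat_lit 1410) (nat_lit 0x7e6ff0) (.node (.node (.node (.node (.node (.node (.node .nil
  (nat_lit 0x7e6c99) (nat_lit 1444) (nat_lit 0x7e6ff0) .nil) (nat_lit 0x7e6ff0) (nat_lit 480) (nat_lit
  0x5d4968) .nil) (nat_lit 0x7e6ff1) (nat_lit 1155) (nat_lit 0x7e61b7) (.node .nil (nat_lit 0x8190ee) (nat_lit
  1558) (nat_lit 0x5d4b37) .nil)) (nat_lit 0x8191d9) (nat_lit 49) (nat_lit 0xb808e1) (.node (.node .nil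
  (nat_lit 0x8192b1) (nat_lit 753) (nat_lit 0xb80abf) .nil) (nat_lit 0x819386) (nat_lit 83) (nat_lit 0xb808e1)
  (.node .nil (nat_lit 0x819cf7) (nat_lit 1621) (nat_lit 0xc66a3e) .nil))) (nat_lit 0x819dc0) (nat_lit 594)
  (nat_lit 0x9b2e78) (.node (.node (.node .nil (nat_lit 0x819ea8) (nat_lit 1714) (nat_lit 0x9b2d10) .nil)
  (nat_lit 0x819f9f) (nat_lit 866) (nat_lit 0x9b2c27) (.node .nil (nat_lit 0x9b203f) (nat_lit 291) (nat_lit
  0xa2ba6e) .nil)) (nat_lit 0x9b2108) (nat_lit 659) (nat_lit 0xa2bb59) (.node (.node .nil (nat_lit 0x9b2260)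
  (nat_lit 210) (nat_lit 0x8191d9) .nil) (nat_lit 0x9b2357) (nat_lit 2081) (nat_lit 0xe54fcf) (.node .nil
  (nat_lit 0x9b2c27) (nat_lit 278) (nat_lit 0x8191d9) .nil)))) (nat_lit 0x9b2d10) (nat_lit 710) (nat_lit
  0xa2bb59) (.node (.node (.node (.node (.node .nil (nat_lit 0x9b2e78) (nat_lit 176) (nat_lit 0x8191d9) .nil)
  (nat_lit 0x9b2f4f) (nat_lit 1109) (nat_lit 0xdcdbd8) .nil) (nat_lit 0xa2b429) (nat_lit 611) (nat_lit
  0x9b2e78) (.node .nil (nat_lit 0xa2b51e) (nat_lit 1604) (nat_lit 0xc66a3e) .nil)) (nat_lit 0xa2b677)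
  (nat_lit 883) (nat_lit 0x9b2c27) (.node (.node .nil (nat_lit 0xa2b740) (nat_lit 1382) (nat_lit 0x399648)
  .nil) (nat_lit 0xa2b830) (nat_lit 337) (nat_lit 0x819386) (.node .nil (nat_lit 0xa2b907) (nat_lit 2036)
  (nat_lit 0xc66627) .nil))) (nat_lit 0xa2ba6e) (nat_lit 66) (nat_lit 0xb808e1) (.node (.node (.node .nil
  (nat_lit 0xa2bb59) (nat_lit 193) (nat_lit 0x8191d9) .nil) (nat_lit 0xb804f9) (nat_lit 1798) (nat_lit
  0x47fbe6) (.node .nil (nat_lit 0xb805ce) (nat_lit 2064) (nat_lit 0xe54fcf) .nil)) (nat_lit 0xb806a7)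
  (nat_lit 784) (nat_lit 0xe542e0) (.node (.node .nil (nat_lit 0xb80790) (nat_lit 1092) (nat_lit 0xdcdbd8)
  .nil) (nat_lit 0xb808e1) (nat_lit 22) (nat_lit 1) (.node .nil (nat_lit 0xb809d6) (nat_lit 449) (nat_lit
  0xdcd6f6) .nil))))) (nat_lit 0xb80abf) (nat_lit 227) (nat_lit 0x8191d9) (.node (.node (.node (.node (.node
  (.node .nil (nat_lit 0xb80b88) (nat_lit 1057) (nat_lit 0xdcdbd8) .nil) (nat_lit 0xc66478) (nat_lit 676)
  (nat_lit 0xa2bb59) .nil) (nat_lit 0xc6654e) (nat_lit 32) (nat_lit 0xb808e1) (.node .nil (nat_lit 0xc66627)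
  (nat_lit 1030) (nat_lit 0xa2b830) .nil)) (nat_lit 0xc66711) (nat_lit 261) (nat_lit 0x8191d9) (.node (.node
  .nil (nat_lit 0xc66861) (nat_lit 1286) (nat_lit 0xfffe28) .nil) (nat_lit 0xc66957) (nat_lit 849) (nat_lit
  0x9b2c27) (.node .nil (nat_lit 0xc66a3e) (nat_lit 577) (nat_lit 0x9b2e78) .nil))) (nat_lit 0xc66b08)
  (nat_lit 736) (nat_lit 0xb80abf) (.node (.node (.node .nil (nat_lit 0xdcd4a9) (nat_lit 100) (nat_lit
  0xb808e1) .nil) (nat_lit 0xdcd59f) (nat_lit 817) (nat_lit 0xc66711) (.node .nil (nat_lit 0xdcd6f6) (nat_lit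
  145) (nat_lit 0xc6654e) .nil)) (nat_lit 0xdcd7c0) (nat_lit 1585) (nat_lit 0xc66a3e) (.node (.node .nil
  (nat_lit 0xdcd8b1) (nat_lit 917) (nat_lit 0x9b2c27) .nil) (nat_lit 0xdcd987) (nat_lit 1749) (nat_lit
  0x9b2d10) (.node .nil (nat_lit 0xdcdaee) (nat_lit 629) (nat_lit 0x9b2e78) .nil)))) (nat_lit 0xdcdbd8)
  (nat_lit 358) (nat_lit 0x819386) (.node (.node (.node (.node (.node .nil (nat_lit 0xe540be) (nat_lit 309)
  (nat_lit 0xa2ba6e) .nil) (nat_lit 0xe54188) (nat_lit 693) (nat_lit 0xa2bb59) .nil) (nat_lit 0xe542e0)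
  (nat_lit 244) (nat_lit 0x8191d9) (.node .nil (nat_lit 0xe543d6) (nat_lit 2148) (nat_lit 0x8190ee) .nil))
  (nat_lit 0xe54ca7) (nat_lit 1462) (nat_lit 0x7e6ff0) (.node (.node .nil (nat_lit 0xe54d91) (nat_lit 1040)
  (nat_lit 0xdcdbd8) .nil) (nat_lit 0xe54ef9) (nat_lit 432) (nat_lit 0xdcd6f6) (.node .nil (nat_lit 0xe54fcf)
  (nat_lit 1075) (nat_lit 0xdcdbd8) .nil))) (nat_lit 0xfff06e) (nat_lit 117) (nat_lit 0xb808e1) (.node (.node
  (.node .nil (nat_lit 0xfff158) (nat_lit 417) (nat_lit 0xfff230) .nil) (nat_lit 0xfff230) (nat_lit 134)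
  (nat_lit 0xb808e1) (.node .nil (nat_lit 0xfff306) (nat_lit 2019) (nat_lit 0xc66627) .nil)) (nat_lit
  0xfffc76) (nat_lit 900) (nat_lit 0x9b2c27) (.node (.node .nil (nat_lit 0xfffd40) (nat_lit 1732) (nat_lit
  0x9b2d10) .nil) (nat_lit 0xfffe28) (nat_lit 400) (nat_lit 0xfff230) (.node .nil (nat_lit 0xffff1e) (nat_lit
  1264) (nat_lit 0xfffe28) .nil)))))))
def u1 : T := (.node (.node (.node (.node (.node (.node (.node .nil (nat_lit 0x1ab0d0) (nat_lit 0) (nat_lit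
  0x1ab0d0) .nil) (nat_lit 0x1ab0d1) (nat_lit 672) (nat_lit 0x2324c6) (.node .nil (nat_lit 0x1ab1e6) (nat_lit
  896) (nat_lit 0x2328df) .nil)) (nat_lit 0x1ab1e7) (nat_lit 51) (nat_lit 0x1ab0d0) (.node (.node .nil
  (nat_lit 0x1ab28e) (nat_lit 1621) (nat_lit 0x1ab0d1) .nil) (nat_lit 0x1ab28f) (nat_lit 85) (nat_lit
  0x1ab0d0) (.node .nil (nat_lit 0x1ab3b8) (nat_lit 1604) (nat_lit 0x1ab0d1) .nil))) (nat_lit 0x1ab3b9)
  (nat_lit 68) (nat_lit 0x1ab0d0) (.node (.node (.node .nil (nat_lit 0x2324c6) (nat_lit 208) (nat_lit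
  0x64d050) .nil) (nat_lit 0x2324c7) (nat_lit 1222) (nat_lit 0x5d4a00) (.node .nil (nat_lit 0x2325f0) (nat_lit
  1334) (nat_lit 0x7e6080) .nil)) (nat_lit 0x2325f1) (nat_lit 706) (nat_lit 0x2324c6) (.node (.node .nil
  (nat_lit 0x2328de) (nat_lit 1174) (nat_lit 0xc66a3f) .nil) (nat_lit 0x2328df) (nat_lit 294) (nat_lit
  0x1ab1e7) (.node .nil (nat_lit 0x2329e8) (nat_lit 1270) (nat_lit 0x399b67) .nil)))) (nat_lit 0x2329e9)
  (nat_lit 752) (nat_lit 0x64df21) (.node (.node (.node (.node .nil (nat_lit 0x399416) (nat_lit 1014) (nat_lit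
  0xc66b09) .nil) (nat_lit 0x399417) (nat_lit 418) (nat_lit 0x399520) (.node .nil (nat_lit 0x399520) (nat_lit
  112) (nat_lit 0x47f88f) .nil)) (nat_lit 0x399521) (nat_lit 1632) (nat_lit 0x47f88e) (.node (.node .nil
  (nat_lit 0x399a50) (nat_lit 1110) (nat_lit 0x9b2d11) .nil) (nat_lit 0x399a51) (nat_lit 436) (nat_lit
  0x399520) (.node .nil (nat_lit 0x399b66) (nat_lit 790) (nat_lit 0x64dc49) .nil))) (nat_lit 0x399b67)
  (nat_lit 453) (nat_lit 0x399520) (.node (.node (.node .nil (nat_lit 0x47f496) (nat_lit 180) (nat_lit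
  0x47f88f) .nil) (nat_lit 0x47f497) (nat_lit 1668) (nat_lit 0x47f88e) (.node .nil (nat_lit 0x47f6c8) (nat_lit
  163) (nat_lit 0x47f88f) .nil)) (nat_lit 0x47f6c9) (nat_lit 913) (nat_lit 0x2328df) (.node (.node .nil
  (nat_lit 0x47f88e) (nat_lit 689) (nat_lit 0x2324c6) .nil) (nat_lit 0x47f88f) (nat_lit 16) (nat_lit 0x1ab0d0)
  .nil)))) (nat_lit 0x47fad0) (nat_lit 146) (nat_lit 0x47f88f) (.node (.node (.node (.node (.node .nil
  (nat_lit 0x47fad1) (nat_lit 1650) (nat_lit 0x47f88e) .nil) (nat_lit 0x5d4570) (nat_lit 1299) (nat_lit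
  0x5d4a01) (.node .nil (nat_lit 0x5d4571) (nat_lit 1203) (nat_lit 0x5d4a00) .nil)) (nat_lit 0x5d472e)
  (nat_lit 1345) (nat_lit 0x7e6dae) (.node (.node .nil (nat_lit 0x5d472f) (nat_lit 1248) (nat_lit 0x399a51)
  .nil) (nat_lit 0x5d485e) (nat_lit 1282) (nat_lit 0x5d4a01) (.node .nil (nat_lit 0x5d485f) (nat_lit 662)
  (nat_lit 0xe54fce) .nil))) (nat_lit 0x5d4a00) (nat_lit 400) (nat_lit 0x399520) (.node (.node (.node .nil
  (nat_lit 0x5d4a01) (nat_lit 465) (nat_lit 0x7e63e9) .nil) (nat_lit 0x64d050) (nat_lit 33) (nat_lit 0x1ab0d0)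
  (.node .nil (nat_lit 0x64d051) (nat_lit 1585) (nat_lit 0x1ab0d1) .nil)) (nat_lit 0x64d338) (nat_lit 1360)
  (nat_lit 0x7e6ec7) (.node (.node .nil (nat_lit 0x64d339) (nat_lit 226) (nat_lit 0x64d050) .nil) (nat_lit
  0x64dc48) (nat_lit 1558) (nat_lit 0xffff1f) .nil))) (nat_lit 0x64dc49) (nat_lit 261) (nat_lit 0x64d050)
  (.node (.node (.node (.node .nil (nat_lit 0x64df20) (nat_lit 1872) (nat_lit 0x7e6daf) .nil) (nat_lit
  0x64df21) (nat_lit 243) (nat_lit 0x64d050) (.node .nil (nat_lit 0x7e6080) (nat_lit 482) (nat_lit 0x7e63e9)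
  .nil)) (nat_lit 0x7e6081) (nat_lit 1379) (nat_lit 0x7e6ec7) (.node (.node .nil (nat_lit 0x7e63e8) (nat_lit
  1184) (nat_lit 0x5d4a00) .nil) (nat_lit 0x7e63e9) (nat_lit 129) (nat_lit 0x47f88f) (.node .nil (nat_lit
  0x7e6dae) (nat_lit 499) (nat_lit 0x7e63e9) .nil))) (nat_lit 0x7e6daf) (nat_lit 1126) (nat_lit 0x9b2f4e)
  (.node (.node (.node .nil (nat_lit 0x7e6ec6) (nat_lit 545) (nat_lit 0x47f6c8) .nil) (nat_lit 0x7e6ec7)
  (nat_lit 518) (nat_lit 0x7e63e9) (.node .nil (nat_lit 0x8190ef) (nat_lit 1153) (nat_lit 0xb80791) .nil))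
  (nat_lit 0x8191d8) (nat_lit 1826) (nat_lit 0x9b2261) (.node (.node .nil (nat_lit 0x8192b0) (nat_lit 566)
  (nat_lit 0x47f6c8) .nil) (nat_lit 0x819387) (nat_lit 1521) (nat_lit 0xb805cf) .nil))))) (nat_lit 0x819cf6)
  (nat_lit 102) (nat_lit 0x1ab0d0) (.node (.node (.node (.node (.node (.node .nil (nat_lit 0x819dc1) (nat_lit
  997) (nat_lit 0xc66b09) .nil) (nat_lit 0x819ea9) (nat_lit 1042) (nat_lit 0x9b2d11) (.node .nil (nat_lit
  0x819f9e) (nat_lit 800) (nat_lit 0xa2b906) .nil)) (nat_lit 0x9b203e) (nat_lit 1685) (nat_lit 0xdcd4a8)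
  (.node (.node .nil (nat_lit 0x9b2109) (nat_lit 1474) (nat_lit 0x8192b0) .nil) (nat_lit 0x9b2261) (nat_lit
  950) (nat_lit 0xdcd7c1) (.node .nil (nat_lit 0x9b2356) (nat_lit 593) (nat_lit 0xe54fce) .nil))) (nat_lit
  0x9b2c26) (nat_lit 1318) (nat_lit 0x5d4a01) (.node (.node (.node .nil (nat_lit 0x9b2d11) (nat_lit 336)
  (nat_lit 0x819cf6) .nil) (nat_lit 0x9b2e79) (nat_lit 1797) (nat_lit 0xdcdaef) (.node .nil (nat_lit 0x9b2f4e)
  (nat_lit 354) (nat_lit 0x819cf6) .nil)) (nat_lit 0xa2b428) (nat_lit 980) (nat_lit 0xc66b09) (.node (.node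
  .nil (nat_lit 0xa2b51f) (nat_lit 645) (nat_lit 0xe54fce) .nil) (nat_lit 0xa2b676) (nat_lit 1745) (nat_lit
  0x819f9e) .nil))) (nat_lit 0xa2b741) (nat_lit 1059) (nat_lit 0x9b2d11) (.node (.node (.node (.node .nil
  (nat_lit 0xa2b831) (nat_lit 534) (nat_lit 0x47fad0) .nil) (nat_lit 0xa2b906) (nat_lit 278) (nat_lit
  0x64d050) (.node .nil (nat_lit 0xa2ba6f) (nat_lit 1856) (nat_lit 0xc6654f) .nil)) (nat_lit 0xa2bb58)
  (nat_lit 1894) (nat_lit 0x7e6daf) (.node (.node .nil (nat_lit 0xb804f8) (nat_lit 1729) (nat_lit 0xdcd8b0)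
  .nil) (nat_lit 0xb805cf) (nat_lit 576) (nat_lit 0xe54fce) (.node .nil (nat_lit 0xb806a6) (nat_lit 1780)
  (nat_lit 0xdcdaef) .nil))) (nat_lit 0xb80791) (nat_lit 371) (nat_lit 0x819cf6) (.node (.node (.node .nil
  (nat_lit 0xb808e0) (nat_lit 1574) (nat_lit 0xdcdbd9) .nil) (nat_lit 0xb809d7) (nat_lit 1491) (nat_lit
  0x8192b0) (.node .nil (nat_lit 0xb80abe) (nat_lit 1410) (nat_lit 0xa2b831) .nil)) (nat_lit 0xb80b89)
  (nat_lit 834) (nat_lit 0xa2b906) (.node (.node .nil (nat_lit 0xc66479) (nat_lit 1509) (nat_lit 0x8192b0)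
  .nil) (nat_lit 0xc6654f) (nat_lit 1025) (nat_lit 0x9b2d11) .nil)))) (nat_lit 0xc66626) (nat_lit 852)
  (nat_lit 0xa2b906) (.node (.node (.node (.node (.node .nil (nat_lit 0xc66710) (nat_lit 1428) (nat_lit
  0xa2b831) .nil) (nat_lit 0xc66860) (nat_lit 1136) (nat_lit 0xb80791) (.node .nil (nat_lit 0xc66956) (nat_lit
  1702) (nat_lit 0xdcd4a8) .nil)) (nat_lit 0xc66a3f) (nat_lit 389) (nat_lit 0x819cf6) (.node (.node .nil
  (nat_lit 0xc66b09) (nat_lit 326) (nat_lit 0x1ab28f) .nil) (nat_lit 0xdcd4a8) (nat_lit 726) (nat_lit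
  0x2324c6) (.node .nil (nat_lit 0xdcd59e) (nat_lit 1904) (nat_lit 0x9b2c26) .nil))) (nat_lit 0xdcd6f7)
  (nat_lit 1845) (nat_lit 0x9b2261) (.node (.node (.node .nil (nat_lit 0xdcd7c1) (nat_lit 310) (nat_lit
  0x1ab3b9) .nil) (nat_lit 0xdcd8b0) (nat_lit 774) (nat_lit 0x64df21) (.node .nil (nat_lit 0xdcd986) (nat_lit
  1093) (nat_lit 0x9b2d11) .nil)) (nat_lit 0xdcdaef) (nat_lit 886) (nat_lit 0xa2b906) (.node (.node .nil
  (nat_lit 0xdcdbd9) (nat_lit 627) (nat_lit 0xe54fce) .nil) (nat_lit 0xe540bf) (nat_lit 1238) (nat_lit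
  0x399417) .nil))) (nat_lit 0xe54189) (nat_lit 1393) (nat_lit 0xa2b831) (.node (.node (.node (.node .nil
  (nat_lit 0xe542e1) (nat_lit 1445) (nat_lit 0xa2b831) .nil) (nat_lit 0xe543d7) (nat_lit 869) (nat_lit
  0xa2b906) (.node .nil (nat_lit 0xe54ca6) (nat_lit 928) (nat_lit 0xdcd7c1) .nil)) (nat_lit 0xe54d90) (nat_lit
  817) (nat_lit 0xa2b906) (.node (.node .nil (nat_lit 0xe54ef8) (nat_lit 1763) (nat_lit 0xdcdaef) .nil)
  (nat_lit 0xe54fce) (nat_lit 198) (nat_lit 0x47f88f) (.node .nil (nat_lit 0xfff06f) (nat_lit 1462) (nat_lit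
  0x7e6ec6) .nil))) (nat_lit 0xfff159) (nat_lit 1713) (nat_lit 0xfff231) (.node (.node (.node .nil (nat_lit
  0xfff231) (nat_lit 742) (nat_lit 0x64d339) .nil) (nat_lit 0xfff307) (nat_lit 1540) (nat_lit 0x9b2356) (.node
  .nil (nat_lit 0xfffc77) (nat_lit 1810) (nat_lit 0xe54ca6) .nil)) (nat_lit 0xfffd41) (nat_lit 1076) (nat_lit
  0x9b2d11) (.node (.node .nil (nat_lit 0xfffe29) (nat_lit 963) (nat_lit 0xc66b09) .nil) (nat_lit 0xffff1f)
  (nat_lit 610) (nat_lit 0xe54fce) .nil))))))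

theorem cov {x : Lt} (hx : prm wB • x = x ∧ x ∈ orbit Co0 x8) :
    t4.has (cdx x) = true := by
  have := cover fx.1 (f := fun c => bor (Nat.beq c 0) (bor (u1.has c) (t4.has c))) (by decide +kernel) hx.1
  simp only [bor_eq, Bool.or_eq_true, Nat.beq_eq] at this
  rcases this with h | h | h
  · exact absurd hx.2 (zero_not_orbit h)
  · exact absurd hx.2 (not_orbit valid_l [-2, -2, -2, -2, 0, 0, -2, 0, -2, 0, 0, 0, 0, 0, -2, 0, -2,
      0, -2, 0, 0, -2, -2, -2] (nat_lit 0xeee00e0e0e00000e0e00eeee) (by decide +kernel)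
      (by decide +kernel) h)
  · exact h

theorem le_c : gen mat l ≤ C1[prm wB] :=
  gen_le_cent (odd_prm orderOf_wB (by decide)) hY (by decide +kernel)

theorem ce : C1[prm wB] = gen mat l ∧ (∀ x, x ∈ orbit C1[prm wB] x8 ↔ t4.has (cdx x) = true) ∧
    (orbit C1[prm wB] x8).ncard = t4.size ∧
    Nat.card C1[prm wB] = Nat.card ↥(Nm ⊓ C1[prm wB]) * t4.size :=
  cent_eq_gen valid_l le_c (Nm_cent_le mcode_wB cent_wB (cs := [nat_lit 0xe5414f, nat_lit 0xc662b3, nat_lit 0x9b248f, nat_lit 0x47f88c]) (by decide +kernel))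
    (fun _ hx => cov (orbit_fix hx)) (by decide +kernel)

theorem sz : t4.size = 135 := by decide +kernel

def tl : T := (.node (.node (.node (.node (.node (.node (.node (.node .nil (nat_lit 1) (nat_lit 0) (nat_lit 0)
  .nil) (nat_lit 310) (nat_lit 0) (nat_lit 0) .nil) (nat_lit 311) (nat_lit 0) (nat_lit 0) (.node .nil (nat_lit
  606) (nat_lit 0) (nat_lit 0) .nil)) (nat_lit 607) (nat_lit 0) (nat_lit 0) (.node (.node .nil (nat_lit 872)
  (nat_lit 0) (nat_lit 0) .nil) (nat_lit 873) (nat_lit 0) (nat_lit 0) (.node .nil (nat_lit 3096) (nat_lit 0)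
  (nat_lit 0) .nil))) (nat_lit 3097) (nat_lit 0) (nat_lit 0) (.node (.node (.node .nil (nat_lit 3374) (nat_lit
  0) (nat_lit 0) .nil) (nat_lit 3375) (nat_lit 0) (nat_lit 0) (.node .nil (nat_lit 3654) (nat_lit 0) (nat_lit
  0) .nil)) (nat_lit 3655) (nat_lit 0) (nat_lit 0) (.node (.node .nil (nat_lit 3952) (nat_lit 0) (nat_lit 0)
  .nil) (nat_lit 3953) (nat_lit 0) (nat_lit 0) (.node .nil (nat_lit 0x1abcc8) (nat_lit 1) (nat_lit 0) .nil))))
  (nat_lit 0x1abcc9) (nat_lit 3) (nat_lit 0) (.node (.node (.node (.node (.node .nil (nat_lit 0x1abdfe)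
  (nat_lit 4) (nat_lit 0) .nil) (nat_lit 0x1abdff) (nat_lit 7) (nat_lit 0) .nil) (nat_lit 0x1abe96) (nat_lit
  8) (nat_lit 0) (.node .nil (nat_lit 0x1abe97) (nat_lit 6) (nat_lit 0) .nil)) (nat_lit 0x1abfa0) (nat_lit 2)
  (nat_lit 0) (.node (.node .nil (nat_lit 0x1abfa1) (nat_lit 5) (nat_lit 0) .nil) (nat_lit 0x232698) (nat_lit
  6) (nat_lit 0) (.node .nil (nat_lit 0x232699) (nat_lit 5) (nat_lit 0) .nil))) (nat_lit 0x2327ae) (nat_lit 2)
  (nat_lit 0) (.node (.node (.node .nil (nat_lit 0x2327af) (nat_lit 8) (nat_lit 0) .nil) (nat_lit 0x232a80)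
  (nat_lit 7) (nat_lit 0) (.node .nil (nat_lit 0x232a81) (nat_lit 1) (nat_lit 0) .nil)) (nat_lit 0x232bb6)
  (nat_lit 4) (nat_lit 0) (.node (.node .nil (nat_lit 0x232bb7) (nat_lit 3) (nat_lit 0) .nil) (nat_lit
  0x399648) (nat_lit 4) (nat_lit 0) (.node .nil (nat_lit 0x399649) (nat_lit 1) (nat_lit 0) .nil))))) (nat_lit
  0x39977e) (nat_lit 3) (nat_lit 0) (.node (.node (.node (.node (.node (.node .nil (nat_lit 0x39977f) (nat_lit
  7) (nat_lit 0) .nil) (nat_lit 0x39980e) (nat_lit 2) (nat_lit 0) .nil) (nat_lit 0x39980f) (nat_lit 6)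
  (nat_lit 0) (.node .nil (nat_lit 0x399938) (nat_lit 5) (nat_lit 0) .nil)) (nat_lit 0x399939) (nat_lit 8)
  (nat_lit 0) (.node (.node .nil (nat_lit 0x47f5a0) (nat_lit 8) (nat_lit 0) .nil) (nat_lit 0x47f5a1) (nat_lit
  3) (nat_lit 0) (.node .nil (nat_lit 0x47f7fe) (nat_lit 6) (nat_lit 0) .nil))) (nat_lit 0x47f7ff) (nat_lit 1)
  (nat_lit 0) (.node (.node (.node .nil (nat_lit 0x47f9b8) (nat_lit 4) (nat_lit 0) .nil) (nat_lit 0x47f9b9)
  (nat_lit 2) (nat_lit 0) (.node .nil (nat_lit 0x47fbe6) (nat_lit 5) (nat_lit 0) .nil)) (nat_lit 0x47fbe7)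
  (nat_lit 7) (nat_lit 0) (.node (.node .nil (nat_lit 0x5d4446) (nat_lit 4) (nat_lit 0) .nil) (nat_lit
  0x5d4447) (nat_lit 5) (nat_lit 0) (.node .nil (nat_lit 0x5d4618) (nat_lit 7) (nat_lit 0) .nil)))) (nat_lit
  0x5d4619) (nat_lit 2) (nat_lit 0) (.node (.node (.node (.node (.node .nil (nat_lit 0x5d4968) (nat_lit 3)
  (nat_lit 0) .nil) (nat_lit 0x5d4969) (nat_lit 6) (nat_lit 0) .nil) (nat_lit 0x5d4b36) (nat_lit 8) (nat_lit
  0) (.node .nil (nat_lit 0x5d4b37) (nat_lit 1) (nat_lit 0) .nil)) (nat_lit 0x64d166) (nat_lit 6) (nat_lit 0)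
  (.node (.node .nil (nat_lit 0x64d167) (nat_lit 7) (nat_lit 0) .nil) (nat_lit 0x64d20e) (nat_lit 4) (nat_lit
  0) (.node .nil (nat_lit 0x64d20f) (nat_lit 8) (nat_lit 0) .nil))) (nat_lit 0x64dd7e) (nat_lit 1) (nat_lit 0)
  (.node (.node (.node .nil (nat_lit 0x64dd7f) (nat_lit 5) (nat_lit 0) .nil) (nat_lit 0x64de16) (nat_lit 3)
  (nat_lit 0) (.node .nil (nat_lit 0x64de17) (nat_lit 2) (nat_lit 0) .nil)) (nat_lit 0x7e61b6) (nat_lit 1)
  (nat_lit 0) (.node (.node .nil (nat_lit 0x7e61b7) (nat_lit 2) (nat_lit 0) .nil) (nat_lit 0x7e62de) (nat_lit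
  5) (nat_lit 0) (.node .nil (nat_lit 0x7e62df) (nat_lit 3) (nat_lit 0) .nil)))))) (nat_lit 0x7e6c98) (nat_lit
  7) (nat_lit 0) (.node (.node (.node (.node (.node (.node (.node .nil (nat_lit 0x7e6c99) (nat_lit 8) (nat_lit
  0) .nil) (nat_lit 0x7e6ff0) (nat_lit 4) (nat_lit 0) .nil) (nat_lit 0x7e6ff1) (nat_lit 6) (nat_lit 0) (.node
  .nil (nat_lit 0x8190ee) (nat_lit 5) (nat_lit 0) .nil)) (nat_lit 0x8191d9) (nat_lit 3) (nat_lit 0) (.node
  (.node .nil (nat_lit 0x8192b1) (nat_lit 8) (nat_lit 0) .nil) (nat_lit 0x819386) (nat_lit 4) (nat_lit 0)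
  (.node .nil (nat_lit 0x819cf7) (nat_lit 2) (nat_lit 0) .nil))) (nat_lit 0x819dc0) (nat_lit 7) (nat_lit 0)
  (.node (.node (.node .nil (nat_lit 0x819ea8) (nat_lit 1) (nat_lit 0) .nil) (nat_lit 0x819f9f) (nat_lit 6)
  (nat_lit 0) (.node .nil (nat_lit 0x9b203f) (nat_lit 7) (nat_lit 0) .nil)) (nat_lit 0x9b2108) (nat_lit 6)
  (nat_lit 0) (.node (.node .nil (nat_lit 0x9b2260) (nat_lit 1) (nat_lit 0) .nil) (nat_lit 0x9b2357) (nat_lit
  2) (nat_lit 0) (.node .nil (nat_lit 0x9b2c27) (nat_lit 8) (nat_lit 0) .nil)))) (nat_lit 0x9b2d10) (nat_lit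
  3) (nat_lit 0) (.node (.node (.node (.node (.node .nil (nat_lit 0x9b2e78) (nat_lit 4) (nat_lit 0) .nil)
  (nat_lit 0x9b2f4f) (nat_lit 5) (nat_lit 0) .nil) (nat_lit 0xa2b429) (nat_lit 1) (nat_lit 0) (.node .nil
  (nat_lit 0xa2b51e) (nat_lit 8) (nat_lit 0) .nil)) (nat_lit 0xa2b677) (nat_lit 5) (nat_lit 0) (.node (.node
  .nil (nat_lit 0xa2b740) (nat_lit 7) (nat_lit 0) .nil) (nat_lit 0xa2b830) (nat_lit 4) (nat_lit 0) (.node .nil
  (nat_lit 0xa2b907) (nat_lit 6) (nat_lit 0) .nil))) (nat_lit 0xa2ba6e) (nat_lit 3) (nat_lit 0) (.node (.node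
  (.node .nil (nat_lit 0xa2bb59) (nat_lit 2) (nat_lit 0) .nil) (nat_lit 0xb804f9) (nat_lit 2) (nat_lit 0)
  (.node .nil (nat_lit 0xb805ce) (nat_lit 4) (nat_lit 0) .nil)) (nat_lit 0xb806a7) (nat_lit 3) (nat_lit 0)
  (.node (.node .nil (nat_lit 0xb80790) (nat_lit 6) (nat_lit 0) .nil) (nat_lit 0xb808e1) (nat_lit 1) (nat_lit
  0) (.node .nil (nat_lit 0xb809d6) (nat_lit 5) (nat_lit 0) .nil))))) (nat_lit 0xb80abf) (nat_lit 7) (nat_lit
  0) (.node (.node (.node (.node (.node (.node .nil (nat_lit 0xb80b88) (nat_lit 8) (nat_lit 0) .nil) (nat_lit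
  0xc66478) (nat_lit 3) (nat_lit 0) .nil) (nat_lit 0xc6654e) (nat_lit 2) (nat_lit 0) (.node .nil (nat_lit
  0xc66627) (nat_lit 7) (nat_lit 0) .nil)) (nat_lit 0xc66711) (nat_lit 8) (nat_lit 0) (.node (.node .nil
  (nat_lit 0xc66861) (nat_lit 6) (nat_lit 0) .nil) (nat_lit 0xc66957) (nat_lit 1) (nat_lit 0) (.node .nil
  (nat_lit 0xc66a3e) (nat_lit 4) (nat_lit 0) .nil))) (nat_lit 0xc66b08) (nat_lit 5) (nat_lit 0) (.node (.node
  (.node .nil (nat_lit 0xdcd4a9) (nat_lit 5) (nat_lit 0) .nil) (nat_lit 0xdcd59f) (nat_lit 1) (nat_lit 0)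
  (.node .nil (nat_lit 0xdcd6f6) (nat_lit 6) (nat_lit 0) .nil)) (nat_lit 0xdcd7c0) (nat_lit 4) (nat_lit 0)
  (.node (.node .nil (nat_lit 0xdcd8b1) (nat_lit 3) (nat_lit 0) .nil) (nat_lit 0xdcd987) (nat_lit 8) (nat_lit
  0) (.node .nil (nat_lit 0xdcdaee) (nat_lit 2) (nat_lit 0) .nil)))) (nat_lit 0xdcdbd8) (nat_lit 7) (nat_lit
  0) (.node (.node (.node (.node (.node .nil (nat_lit 0xe540be) (nat_lit 8) (nat_lit 0) .nil) (nat_lit
  0xe54188) (nat_lit 4) (nat_lit 0) .nil) (nat_lit 0xe542e0) (nat_lit 2) (nat_lit 0) (.node .nil (nat_lit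
  0xe543d6) (nat_lit 1) (nat_lit 0) .nil)) (nat_lit 0xe54ca7) (nat_lit 7) (nat_lit 0) (.node (.node .nil
  (nat_lit 0xe54d91) (nat_lit 5) (nat_lit 0) .nil) (nat_lit 0xe54ef9) (nat_lit 6) (nat_lit 0) (.node .nil
  (nat_lit 0xe54fcf) (nat_lit 3) (nat_lit 0) .nil))) (nat_lit 0xfff06e) (nat_lit 6) (nat_lit 0) (.node (.node
  (.node .nil (nat_lit 0xfff158) (nat_lit 7) (nat_lit 0) .nil) (nat_lit 0xfff230) (nat_lit 5) (nat_lit 0)
  (.node .nil (nat_lit 0xfff306) (nat_lit 3) (nat_lit 0) .nil)) (nat_lit 0xfffc76) (nat_lit 4) (nat_lit 0)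
  (.node (.node .nil (nat_lit 0xfffd40) (nat_lit 2) (nat_lit 0) .nil) (nat_lit 0xfffe28) (nat_lit 8) (nat_lit
  0) (.node .nil (nat_lit 0xffff1e) (nat_lit 1) (nat_lit 0) .nil)))))))
def ps : List (ℕ × ℕ) := [(nat_lit
  0xd72cab04c2682d017429417e15048c27c76a24836849831409401e28a24c5ab12d0cc3ea000fc6000e1c000d860002d4000dc4000dce0002ae000cc6000c2a000b240005c6000001,
  nat_lit 0x156874320), (nat_lit
  0x8287fc75e0c90113ee03dd0801d7286cba8f3f25037e47a30341ce7fa28b078be65d3203000d74000e740008ea000366000a96000c7c0004740001b2000cf40006cc000c74000001,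
  nat_lit 0x185742630), (nat_lit
  0x9abce1400a01200e2010010408014b0400a1020008010e100081470046a000210f00100f000801000401000201000100000081000040000021000011000008000004000002000001,
  nat_lit 0x648271530), (nat_lit
  0xb9996540084c2002201002b108029304014c02080901021300808200444100290c001093000801000401000200000101000080000041000020000010000009000005000002000001,
  nat_lit 0x532817640), (nat_lit
  0xe4d82140000f20040810033008035004008d020a30010b1000848700448300293000148e000801000400000201000101000080000041000021000011000008000004000002000001,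
  nat_lit 0x467182350), (nat_lit
  0xc7f08a400243200809100085080089040161020231010712008543004662002133001413000801000400000200000100000081000040000020000010000009000005000002000001,
  nat_lit 0x351728460), (nat_lit
  0x40400d2a4b16d78d8f3893d7736ffbd1ec60953e976f7ce7c3de4a63cc8b4b6e6b4b1c4902e8027cdd569d27f3b94f32f96f5299e59af9a9b5fc78eda16738a1648c07462eb808e1,
  nat_lit 0x604278351)]
def cA_t0 : T := (.node (.node (.node (.node .nil (nat_lit 0) (nat_lit 0) (nat_lit 0x876543210) .nil) (nat_lit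
  1) (nat_lit 7) (nat_lit 0x348162507) .nil) (nat_lit 2) (nat_lit 225) (nat_lit 0x168425037) (.node .nil
  (nat_lit 3) (nat_lit 226) (nat_lit 0x415860237) .nil)) (nat_lit 4) (nat_lit 228) (nat_lit 0x125304867)
  (.node (.node (.node .nil (nat_lit 5) (nat_lit 229) (nat_lit 0x684035217) .nil) (nat_lit 6) (nat_lit 230)
  (nat_lit 0x210453687) .nil) (nat_lit 7) (nat_lit 22) (nat_lit 0x604278351) (.node .nil (nat_lit 8) (nat_lit
  240) (nat_lit 0x18346257) .nil)))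
def cA_l0 : Lvl := ⟨nat_lit 0, [nat_lit 0x156874320, nat_lit 0x185742630, nat_lit 0x648271530, nat_lit
  0x532817640, nat_lit 0x467182350, nat_lit 0x351728460, nat_lit 0x604278351], [nat_lit 0, nat_lit 0, nat_lit
  0, nat_lit 0, nat_lit 0, nat_lit 0, nat_lit 0], cA_t0⟩
def cA_t1 : T := (.node (.node (.node (.node .nil (nat_lit 1) (nat_lit 0) (nat_lit 0x876543210) .nil) (nat_lit
  2) (nat_lit 16) (nat_lit 0x562874130) .nil) (nat_lit 3) (nat_lit 1) (nat_lit 0x547831620) (.node .nil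
  (nat_lit 4) (nat_lit 17) (nat_lit 0x278316450) .nil)) (nat_lit 5) (nat_lit 2) (nat_lit 0x673125840) (.node
  (.node .nil (nat_lit 6) (nat_lit 34) (nat_lit 0x741268530) .nil) (nat_lit 7) (nat_lit 545) (nat_lit
  0x317265840) (.node .nil (nat_lit 8) (nat_lit 65) (nat_lit 0x127654380) .nil)))
def cA_l1 : Lvl := ⟨nat_lit 1, [nat_lit 0x562874130, nat_lit 0x278316450], [nat_lit 0x3902738876, nat_lit
  0x781296], cA_t1⟩
def cA_t2 : T := (.node (.node (.node .nil (nat_lit 2) (nat_lit 0) (nat_lit 0x876543210) .nil) (nat_lit 3)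
  (nat_lit 34337) (nat_lit 0x683472510) (.node .nil (nat_lit 4) (nat_lit 1) (nat_lit 0x843726510) .nil))
  (nat_lit 5) (nat_lit 16) (nat_lit 0x853276410) (.node (.node .nil (nat_lit 6) (nat_lit 1073) (nat_lit
  0x642583710) .nil) (nat_lit 7) (nat_lit 33) (nat_lit 0x826453710) (.node .nil (nat_lit 8) (nat_lit 34)
  (nat_lit 0x238476510) .nil)))
def cA_l2 : Lvl := ⟨nat_lit 2, [nat_lit 0x853276410, nat_lit 0x657483210], [nat_lit 0x8084110a11, nat_lit
  16450], cA_t2⟩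
def cA_t3 : T := (.node (.node (.node .nil (nat_lit 3) (nat_lit 0) (nat_lit 0x876543210) .nil) (nat_lit 4)
  (nat_lit 2) (nat_lit 0x756438210) (.node .nil (nat_lit 5) (nat_lit 33) (nat_lit 0x678345210) .nil)) (nat_lit
  6) (nat_lit 1) (nat_lit 0x543678210) (.node (.node .nil (nat_lit 7) (nat_lit 65) (nat_lit 0x438657210) .nil)
  (nat_lit 8) (nat_lit 16) (nat_lit 0x345876210) .nil))
def cA_l3 : Lvl := ⟨nat_lit 3, [nat_lit 0x345876210, nat_lit 0x386754210], [nat_lit 33857, nat_lit 16464],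
  cA_t3⟩
def cA_t4 : T := (.node (.node (.node .nil (nat_lit 4) (nat_lit 0) (nat_lit 0x876543210) .nil) (nat_lit 5)
  (nat_lit 1) (nat_lit 0x587463210) .nil) (nat_lit 6) (nat_lit 16) (nat_lit 0x764853210) (.node (.node .nil
  (nat_lit 7) (nat_lit 34) (nat_lit 0x845673210) .nil) (nat_lit 8) (nat_lit 33) (nat_lit 0x458673210) .nil))
def cA_l4 : Lvl := ⟨nat_lit 4, [nat_lit 0x764853210, nat_lit 0x684753210], [nat_lit 1104, nat_lit
  0x20862114202], cA_t4⟩
def cA_t5 : T := (.node (.node (.node .nil (nat_lit 5) (nat_lit 0) (nat_lit 0x876543210) .nil) (nat_lit 6)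
  (nat_lit 2) (nat_lit 0x785643210) .nil) (nat_lit 7) (nat_lit 16) (nat_lit 0x756843210) (.node .nil (nat_lit
  8) (nat_lit 1) (nat_lit 0x586743210) .nil))
def cA_l5 : Lvl := ⟨nat_lit 5, [nat_lit 0x756843210, nat_lit 0x785643210], [nat_lit 80, nat_lit
  0x221404284050], cA_t5⟩
def cA_t6 : T := (.node (.node .nil (nat_lit 6) (nat_lit 0) (nat_lit 0x876543210) .nil) (nat_lit 7) (nat_lit
  1) (nat_lit 0x768543210) (.node .nil (nat_lit 8) (nat_lit 16) (nat_lit 0x687543210) .nil))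
def cA_l6 : Lvl := ⟨nat_lit 6, [nat_lit 0x687543210], [nat_lit 2097], cA_t6⟩
def cA : List Lvl := [cA_l0, cA_l1, cA_l2, cA_l3, cA_l4, cA_l5, cA_l6]

theorem card_X : Valid ((finEnc 9).code 4) (gensOf cA) ∧
    Nat.card (gen ((finEnc 9).code 4) (gensOf cA)) = 181440 :=
  let h := chkG_sound (finEnc 9) (w := 4) (mk := 15) rfl (by norm_num) (Ls := cA) (by decide +kernel)
  ⟨h.1, h.2.1.trans (by decide +kernel)⟩

theorem good : ∃ n, Good wB (alternatingGroup (Fin 9)) 4 n := by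
  obtain ⟨θ, h1, h2, -⟩ := exists_lab_hom acL ((finEnc 9).ac (w := 4) (mk := 15) rfl (by norm_num))
    ((finEnc 9).gc (w := 4) (mk := 15) rfl (by norm_num)).inj (ps := ps) (l := l) (l' := gensOf cA) rfl rfl valid_l card_X.1
    (t := tl) (hi' := 2 ^ 24) (by decide +kernel) keys_ok (by decide +kernel)
    (sep_pt (finEnc 9) (by decide +kernel))
  refine ⟨_, good_of ce.1 θ h1 (MulEquiv.subgroupCongr (Equiv.Perm.eq_alternatingGroup_of_index_eq_two ?_))
    (fun g hg => h2 g fun x hx => hg x ((ce.2.1 x).2 (has_of_all (hi := 2 ^ 24) (by decide +kernel)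
      (by decide +kernel) hx))) (by rw [ce.2.2.2, card_NB, sz, card_X.2, orderOf_wB])
    (by rw [ce.2.2.1, sz]; decide) fx.2 rfl⟩
  have := (gen ((finEnc 9).code 4) (gensOf cA)).card_mul_index
  rw [card_X.2, Nat.card_perm, Nat.card_fin, show Nat.factorial 9 = 181440 * 2 from rfl] at this
  omega


/-- Let G be a finite group of Monster type at the involution z with Q the extraspecial normal subgroup of order 2^25 of C = C_G(z) (so C/Q is identified with the first Conway group with Q modulo its centre the Leech lattice modulo 2, and z is not weakly closed in Q). Let s be a conjugate of z in Q other than z and let Y be a subgroup of order 3 of the joint centralizer L of z and s that is not 3-central in L (Y lies in the centre of no Sylow 3-subgroup of L). Then the centralizer of Y modulo Y is a group of Thompson type (an involution whose centralizer D has generalized Fitting subgroup R extraspecial of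 order 2^9 with D/R the alternating group of degree 9, the involution not weakly closed in R). -/
theorem result {G : Type*} [Group G] [Finite G] (z : G) (Q : Subgroup (Subgroup.centralizer ({z} : Set G))) [Q.Normal] (hM : Cfsg.IsOfMonsterType z Q) (s : G) (hsQ : ∃ hsc : s ∈ Subgroup.centralizer ({z} : Set G), (⟨s, hsc⟩ : Subgroup.centralizer ({z} : Set G)) ∈ Q) (hs : IsConj z s) (hs1 : s ≠ z) (Y : Subgroup G) (hY : Y ≤ Subgroup.centralizer ({z, s} : Set G)) (hY3 : Nat.card Y = 3) (hnc : ∀ P : Sylow 3 ↥(Subgroup.centralizer ({z, s} : Set G)), ¬ Y.subgroupOf (Subgroup.centralizer ({z, s} : Set G)) ≤ (Subgroup.center ↥(P : Subgroup ↥(Subgroup.centralizer ({z, s} : Set G)))).map (P : Subgroup ↥(Subgroup.centralizer ({z, s} : Set G))).subtype) [hn : (Y.subgroupOf (Subgroup.centralizer (Y : Set G))).Normal] : Cfsg.IsOfThompsonType (↥(Subgroup.centralizer (Y : Set G)) ⧸ Y.subgroupOf (Subgroup.centralizer (Y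 : Set G))) := by
  obtain ⟨Q', Ψ, π, M, a⟩ := start hM hsQ hs hs1
  obtain ⟨b, hb, ho, e, σ, hσ, h⟩ := M.reduce' a hY Nat.prime_three (by decide) hY3
  obtain ⟨k, hk | hk⟩ := cls3 hσ <;> obtain ⟨Ψ, π, M, a, l⟩ := h _ _ hk
  · obtain ⟨P, hP⟩ := (central_iff e (hY hb) (ho ▸ pow_orderOf_eq_one b) (M.fact_cent2 a (n := 3)
      (m := 2 ^ 35 * 9067520) (by norm_num) (by norm_num))).2
      ((M.dvd_iff a (hY hb) l ho orderOf_wA).2 (by rw [card_NA]; norm_num))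
    exact absurd hP (hnc P)
  · obtain ⟨z', Q', hn, h1, h2, -⟩ := good.choose_spec.setting M a Nat.prime_three (by decide) orderOf_wB hY3 hb
      (hY.trans (cent_pair z s ▸ inf_le_right)) l
    exact ⟨z', Q', hn, h1, h2⟩

end Cfsg.Agent.S5414
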