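import Cfsg.Statements.S5415
import Cfsg.Agent.Leech.U43

set_option autoImplicit false
open Cfsg

namespace Cfsg.Agent.S5415

open Cfsg.Agent.Leech Cfsg.Agent.M24 Cfsg.Agent.GT Subgroup MulAction Cfsg.Spor
open scoped Pointwise

def l : List ℕ := [nat_lit
  0xf2f1ed6487aa448caa08dea2133d65444eae58ce8c288fae244e8c24cb8e6a0e0e686caa000104000120000cc60001400007e20000ec0005000002da000b4e000900000e68000001,
  nat_lit
  0xbb7feb088dd60d0dfe55c5ac36bfd90dca3c4c5bae61081601c9f60464e04f8c9848cfbc000204000220000a00000d120004e20006000003ec00084e0001da000fc6000210000001,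
  nat_lit
  0xf15a754000022000011000010803d90401ed020ab9010002008dc500400200293d001002000801000401000201000101000081000041000021000011000009000005000002000001,
  nat_lit
  0x8cee3540000d2000291000250803d20401c1020029010000008dc20046c200291300100d000800000400000200000100000080000040000021000010000009000005000002000001,
  nat_lit
  0x9ed80040000020000010073408035a04016c020a38010000008d4600466200200000141e000800000400000200000100000081000040000020000010000008000004000002000001,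
  nat_lit
  0xbda000400000200e681006b40802da0400ec020000010e12008cc600400000283e001000000800000400000200000101000080000040000020000010000008000004000002000001,
  nat_lit
  0x8cbe7140024120024110021108018b0401ac020211010211008d8600424100292e00148e000800000400000201000100000080000041000020000011000008000004000002000001,
  nat_lit
  0xd27d4140024e200c011003b40800000400000202b8010c01008c010042e200213e00109e000801000401000200000100000080000040000020000010000008000004000002000001,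
  nat_lit
  0xf228a6e6058dec05edd77a19eb882a6187856137fd59fc198c882c61f83a36775369efa559f24d0e884000004828a41012888b7b7073fd7fbe777251bc75f4dd77f6777071715135]

theorem valid_l : Valid mat l := List.forall_mem_cons.2 ⟨exists_wmat (w := [nat_lit
  0x80d2cb828409e2d115e674953b2ea8000000]) (by decide +kernel), List.forall_mem_cons.2 ⟨exists_wmat (w :=
  [nat_lit 0x30d14b81950b6271157072a569bc89000000]) (by decide +kernel), List.forall_mem_cons.2 ⟨exists_wmat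
  (w := [nat_lit 0xbdab49ca307b9ac5a928398a4188208ea003]) (by decide +kernel), List.forall_mem_cons.2
  ⟨exists_wmat (w := [nat_lit 0xbdab49ca307b9ac5a928398a4188200ce02c]) (by decide +kernel),
  List.forall_mem_cons.2 ⟨exists_wmat (w := [nat_lit 0xbdab49ca307b9ac5a928398a4188201ed080])
  (by decide +kernel), List.forall_mem_cons.2 ⟨exists_wmat (w := [nat_lit
  0xbdab49ca307b9ac5a928398a4188203da100]) (by decide +kernel), List.forall_mem_cons.2 ⟨exists_wmat (w :=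
  [nat_lit 0xbdab49ca307b9ac5a928398a4188200cb250]) (by decide +kernel), List.forall_mem_cons.2 ⟨exists_wmat
  (w := [nat_lit 0xbdab49ca307b9ac5a928398a418820527c00]) (by decide +kernel), List.forall_mem_cons.2
  ⟨exists_wmat (w := [nat_lit 0x7a5571c1cb0b2a4b340241a853ce5127d495, nat_lit 0, nat_lit
  0x901c1156849a2cb6bcc34c58abc0e5480995, nat_lit 0, nat_lit 0x195d392cc96205523e963c6f0081aa50803d])
  (by decide +kernel), fun _ h => nomatch h⟩⟩⟩⟩⟩⟩⟩⟩⟩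

def Ym : ℕ := nat_lit 0xbffa4f3ffa7d610a6e30084a5bfe7320822a4200441ff63d17f66f7fb8171fde2f7fe863000a4c000802000012000f6a00008200020200000600004200002200000a000c76000001
def Fm : ℕ := nat_lit 0x8210494010542320741231240cb27a0050310008440004b20002d00001fa0000ac000001
def Pm : ℕ := nat_lit 0x80100040000020000010600008a00000000000000000000000000004100000000000000002000001200000a000006000002000000000000000000000000000000000000000001

theorem hY : mat (prm wA) = Ym := by rw [mat_prm, mcode_wA]; decide +kernel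

theorem fx : (∀ x : Lt, prm wA • x = x ↔ ∃ m < 2 ^ 12, cdx x = apn 12 Fm m) ∧
    {x : Lt | prm wA • x = x}.ncard = 2 ^ 12 :=
  fixSp_sound hY (p := 3) (P := Pm) (by decide) (by decide +kernel)

def t4_0 : T := (.node (.node (.node (.node (.node (.node (.node .nil (nat_lit 1) (nat_lit 0) (nat_lit 1)
  .nil) (nat_lit 172) (nat_lit 11992) (nat_lit 0x633493) (.node .nil (nat_lit 173) (nat_lit 24483) (nat_lit
  172) .nil)) (nat_lit 506) (nat_lit 27152) (nat_lit 2708) (.node (.node .nil (nat_lit 507) (nat_lit 27208)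
  (nat_lit 0x710816) .nil) (nat_lit 720) (nat_lit 19592) (nat_lit 0x633ab5) .nil)) (nat_lit 721) (nat_lit
  26964) (nat_lit 720) (.node (.node (.node .nil (nat_lit 1202) (nat_lit 14280) (nat_lit 0x7de7fd) .nil)
  (nat_lit 1203) (nat_lit 25800) (nat_lit 0x710105) (.node .nil (nat_lit 1352) (nat_lit 26083) (nat_lit 1353)
  .nil)) (nat_lit 1353) (nat_lit 15128) (nat_lit 847851) (.node (.node .nil (nat_lit 1508) (nat_lit 24456)
  (nat_lit 0x633d80) .nil) (nat_lit 1509) (nat_lit 25184) (nat_lit 3011) .nil))) (nat_lit 1742) (nat_lit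
  14344) (nat_lit 0x7de9db) (.node (.node (.node (.node .nil (nat_lit 1743) (nat_lit 25940) (nat_lit 1742)
  .nil) (nat_lit 1944) (nat_lit 22248) (nat_lit 0x6333a6) (.node .nil (nat_lit 1945) (nat_lit 27016) (nat_lit
  0x6fd55e) .nil)) (nat_lit 2116) (nat_lit 27048) (nat_lit 0xa1691e) (.node (.node .nil (nat_lit 2117)
  (nat_lit 27088) (nat_lit 2281) .nil) (nat_lit 2280) (nat_lit 26680) (nat_lit 0xc25d8d) .nil)) (nat_lit 2281)
  (nat_lit 20536) (nat_lit 0xcebb75) (.node (.node (.node .nil (nat_lit 2322) (nat_lit 24465) (nat_lit 172)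
  .nil) (nat_lit 2323) (nat_lit 20808) (nat_lit 0xb3559b) .nil) (nat_lit 2708) (nat_lit 22744) (nat_lit
  0xc253ab) (.node (.node .nil (nat_lit 2709) (nat_lit 27170) (nat_lit 2708) .nil) (nat_lit 2926) (nat_lit
  27080) (nat_lit 0xbfbd45) .nil)))) (nat_lit 2927) (nat_lit 27000) (nat_lit 0xb35bbd) (.node (.node (.node
  (.node (.node .nil (nat_lit 3010) (nat_lit 25202) (nat_lit 3011) .nil) (nat_lit 3011) (nat_lit 13080)
  (nat_lit 0xd06f2e) (.node .nil (nat_lit 3318) (nat_lit 25112) (nat_lit 0xdc8ee3) .nil)) (nat_lit 3319)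
  (nat_lit 26472) (nat_lit 0xd0681b) (.node (.node .nil (nat_lit 3952) (nat_lit 25920) (nat_lit 1202) .nil)
  (nat_lit 3953) (nat_lit 27032) (nat_lit 0xad88d3) .nil)) (nat_lit 20529) (nat_lit 13952) (nat_lit 0x710631)
  (.node (.node (.node .nil (nat_lit 20938) (nat_lit 3040) (nat_lit 0x710ca4) .nil) (nat_lit 20939) (nat_lit
  11509) (nat_lit 20938) (.node .nil (nat_lit 21069) (nat_lit 25716) (nat_lit 20529) .nil)) (nat_lit 21430)
  (nat_lit 11527) (nat_lit 20938) (.node (.node .nil (nat_lit 21431) (nat_lit 11492) (nat_lit 20938) .nil)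
  (nat_lit 21634) (nat_lit 25808) (nat_lit 0x7107ca) .nil))) (nat_lit 21880) (nat_lit 11648) (nat_lit
  0x710d5e) (.node (.node (.node (.node .nil (nat_lit 21881) (nat_lit 24183) (nat_lit 22276) .nil) (nat_lit
  22271) (nat_lit 15080) (nat_lit 846116) (.node .nil (nat_lit 22276) (nat_lit 11475) (nat_lit 20938) .nil))
  (nat_lit 22277) (nat_lit 11872) (nat_lit 0x710a6b) (.node (.node .nil (nat_lit 22644) (nat_lit 14817)
  (nat_lit 0x3df7a9) .nil) (nat_lit 22645) (nat_lit 22708) (nat_lit 23049) .nil)) (nat_lit 22926) (nat_lit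
  13874) (nat_lit 22927) (.node (.node (.node .nil (nat_lit 22927) (nat_lit 3992) (nat_lit 0xad870f) .nil)
  (nat_lit 23048) (nat_lit 14755) (nat_lit 23750) .nil) (nat_lit 23049) (nat_lit 10568) (nat_lit 0xd067c7)
  (.node (.node .nil (nat_lit 23538) (nat_lit 13908) (nat_lit 22927) .nil) (nat_lit 23539) (nat_lit 25604)
  (nat_lit 22926) .nil))))) (nat_lit 23750) (nat_lit 4385) (nat_lit 0x3dfb5f) (.node (.node (.node (.node
  (.node (.node .nil (nat_lit 23751) (nat_lit 14738) (nat_lit 23750) .nil) (nat_lit 23868) (nat_lit 9256)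
  (nat_lit 0xdc860a) (.node .nil (nat_lit 23869) (nat_lit 21810) (nat_lit 23868) .nil)) (nat_lit 24250)
  (nat_lit 13832) (nat_lit 0xa166c2) (.node (.node .nil (nat_lit 24251) (nat_lit 5784) (nat_lit 0xad803a)
  .nil) (nat_lit 24384) (nat_lit 13891) (nat_lit 22927) .nil)) (nat_lit 24385) (nat_lit 25587) (nat_lit 22926)
  (.node (.node (.node .nil (nat_lit 832122) (nat_lit 672) (nat_lit 0x311150) .nil) (nat_lit 832123) (nat_lit
  3152) (nat_lit 0x311151) (.node .nil (nat_lit 832214) (nat_lit 16808) (nat_lit 0xb304fd) .nil)) (nat_lit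
  832215) (nat_lit 19392) (nat_lit 0x3111fd) (.node (.node .nil (nat_lit 832300) (nat_lit 23347) (nat_lit
  832994) .nil) (nat_lit 832301) (nat_lit 23330) (nat_lit 832994) .nil))) (nat_lit 832384) (nat_lit 26775)
  (nat_lit 835105) (.node (.node (.node (.node .nil (nat_lit 832536) (nat_lit 14112) (nat_lit 0x311732) .nil)
  (nat_lit 832537) (nat_lit 24359) (nat_lit 833977) (.node .nil (nat_lit 832692) (nat_lit 2997) (nat_lit
  832122) .nil)) (nat_lit 832693) (nat_lit 2962) (nat_lit 832122) (.node (.node .nil (nat_lit 832847) (nat_lit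
  26756) (nat_lit 835105) .nil) (nat_lit 832994) (nat_lit 10968) (nat_lit 0xb303c8) .nil)) (nat_lit 832995)
  (nat_lit 23400) (nat_lit 0xbfe530) (.node (.node (.node .nil (nat_lit 833602) (nat_lit 14032) (nat_lit
  0x311e8c) .nil) (nat_lit 833603) (nat_lit 25856) (nat_lit 0x311e8d) .nil) (nat_lit 833775) (nat_lit 22024)
  (nat_lit 0x1e853d) (.node (.node .nil (nat_lit 833812) (nat_lit 2980) (nat_lit 832122) .nil) (nat_lit
  833813) (nat_lit 11351) (nat_lit 832693) .nil)))) (nat_lit 833976) (nat_lit 24400) (nat_lit 0x311418) (.node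
  (.node (.node (.node (.node .nil (nat_lit 833977) (nat_lit 11792) (nat_lit 0x311419) .nil) (nat_lit 835105)
  (nat_lit 17752) (nat_lit 0x636ce6) (.node .nil (nat_lit 835212) (nat_lit 22400) (nat_lit 0x311842) .nil))
  (nat_lit 835213) (nat_lit 23364) (nat_lit 832994) (.node (.node .nil (nat_lit 835446) (nat_lit 24339)
  (nat_lit 833977) .nil) (nat_lit 835447) (nat_lit 23608) (nat_lit 0x7db69b) .nil)) (nat_lit 835546) (nat_lit
  3184) (nat_lit 0x31127a) (.node (.node (.node .nil (nat_lit 835547) (nat_lit 3015) (nat_lit 832122) .nil)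
  (nat_lit 843830) (nat_lit 1056) (nat_lit 0x401054) .nil) (nat_lit 843831) (nat_lit 4688) (nat_lit 0x401055)
  (.node (.node .nil (nat_lit 844236) (nat_lit 18664) (nat_lit 0xd036a1) .nil) (nat_lit 844518) (nat_lit
  15425) (nat_lit 0x404580) .nil))) (nat_lit 844519) (nat_lit 15255) (nat_lit 847162) (.node (.node (.node
  (.node .nil (nat_lit 844572) (nat_lit 3782) (nat_lit 845266) .nil) (nat_lit 844573) (nat_lit 3746) (nat_lit
  845266) (.node .nil (nat_lit 844840) (nat_lit 15220) (nat_lit 847162) .nil)) (nat_lit 844841) (nat_lit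
  19912) (nat_lit 0xbfedd9) (.node (.node .nil (nat_lit 845266) (nat_lit 849) (nat_lit 0x4046aa) .nil)
  (nat_lit 845267) (nat_lit 3825) (nat_lit 0x4046ab) .nil)) (nat_lit 845560) (nat_lit 4549) (nat_lit 843830)
  (.node (.node (.node .nil (nat_lit 845561) (nat_lit 4514) (nat_lit 843830) .nil) (nat_lit 845571) (nat_lit
  26914) (nat_lit 844236) .nil) (nat_lit 846047) (nat_lit 26744) (nat_lit 0x63633a) (.node (.node .nil
  (nat_lit 846116) (nat_lit 4532) (nat_lit 843830) .nil) (nat_lit 846117) (nat_lit 15063) (nat_lit 845561)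
  .nil))))))
def t4_1 : T := (.node (.node (.node (.node (.node (.node (.node .nil (nat_lit 846351) (nat_lit 3873) (nat_lit
  0x4040c9) .nil) (nat_lit 846836) (nat_lit 7552) (nat_lit 0x40151c) (.node .nil (nat_lit 846837) (nat_lit
  15237) (nat_lit 847162) .nil)) (nat_lit 847040) (nat_lit 3649) (nat_lit 0x404606) (.node (.node .nil
  (nat_lit 847041) (nat_lit 3764) (nat_lit 845266) .nil) (nat_lit 847162) (nat_lit 4609) (nat_lit 0x4043e2)
  .nil)) (nat_lit 847163) (nat_lit 14848) (nat_lit 0x4013d3) (.node (.node (.node .nil (nat_lit 847377)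
  (nat_lit 24712) (nat_lit 0x1e8ae1) .nil) (nat_lit 847850) (nat_lit 4720) (nat_lit 0x40144a) (.node .nil
  (nat_lit 847851) (nat_lit 4567) (nat_lit 843830) .nil)) (nat_lit 0x123124) (nat_lit 8886) (nat_lit 0x123c84)
  (.node (.node .nil (nat_lit 0x123188) (nat_lit 18896) (nat_lit 0x527f66) .nil) (nat_lit 0x12320e) (nat_lit
  8869) (nat_lit 0x123c84) .nil))) (nat_lit 0x1232a2) (nat_lit 18944) (nat_lit 0x52726a) (.node (.node (.node
  (.node .nil (nat_lit 0x12353a) (nat_lit 2087) (nat_lit 0x123597) .nil) (nat_lit 0x123597) (nat_lit 520)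
  (nat_lit 0x7152b3) (.node .nil (nat_lit 0x123611) (nat_lit 2018) (nat_lit 0x123597) .nil)) (nat_lit
  0x1236bc) (nat_lit 8823) (nat_lit 0x123611) (.node (.node .nil (nat_lit 0x123836) (nat_lit 2070) (nat_lit
  0x123597) .nil) (nat_lit 0x12389b) (nat_lit 8609) (nat_lit 0x5270bb) .nil)) (nat_lit 0x123b1c) (nat_lit
  2053) (nat_lit 0x123597) (.node (.node (.node .nil (nat_lit 0x123bb1) (nat_lit 8592) (nat_lit 0x5270bb)
  .nil) (nat_lit 0x123c28) (nat_lit 8903) (nat_lit 0x123c84) .nil) (nat_lit 0x123c84) (nat_lit 2035) (nat_lit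
  0x123597) (.node (.node .nil (nat_lit 0x123f03) (nat_lit 8803) (nat_lit 0x123611) .nil) (nat_lit 0x123faf)
  (nat_lit 18913) (nat_lit 0x527391) .nil)))) (nat_lit 0x126042) (nat_lit 22499) (nat_lit 0x126f9f) (.node
  (.node (.node (.node (.node .nil (nat_lit 0x126114) (nat_lit 22517) (nat_lit 0x126f9f) .nil) (nat_lit
  0x126292) (nat_lit 18436) (nat_lit 0x1269fd) (.node .nil (nat_lit 0x1263c4) (nat_lit 18453) (nat_lit
  0x126d4f) .nil)) (nat_lit 0x1264f0) (nat_lit 6215) (nat_lit 0x126621) (.node (.node .nil (nat_lit 0x1265a7)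
  (nat_lit 6146) (nat_lit 0x126621) .nil) (nat_lit 0x126621) (nat_lit 1480) (nat_lit 0x71547c) .nil)) (nat_lit
  0x126776) (nat_lit 17720) (nat_lit 0x6368f9) (.node (.node (.node .nil (nat_lit 0x1268ab) (nat_lit 6197)
  (nat_lit 0x126621) .nil) (nat_lit 0x1269fd) (nat_lit 6163) (nat_lit 0x126621) .nil) (nat_lit 0x126a7a)
  (nat_lit 17040) (nat_lit 0x237c1e) (.node (.node .nil (nat_lit 0x126b2c) (nat_lit 13816) (nat_lit 0xdcd289)
  .nil) (nat_lit 0x126c18) (nat_lit 17176) (nat_lit 0xdcd5bc) .nil))) (nat_lit 0x126d4f) (nat_lit 6180)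
  (nat_lit 0x126621) (.node (.node (.node (.node .nil (nat_lit 0x126ec8) (nat_lit 18420) (nat_lit 0x1265a7)
  .nil) (nat_lit 0x126f9f) (nat_lit 10232) (nat_lit 0xadd38c) (.node .nil (nat_lit 0x1e8074) (nat_lit 12897)
  (nat_lit 0x2fc8ab) .nil)) (nat_lit 0x1e8075) (nat_lit 5736) (nat_lit 0xc2517b) (.node (.node .nil (nat_lit
  0x1e80d8) (nat_lit 17032) (nat_lit 0xad8310) .nil) (nat_lit 0x1e80d9) (nat_lit 3281) (nat_lit 0x2fca7a)
  .nil)) (nat_lit 0x1e8208) (nat_lit 5856) (nat_lit 0x6364a2) (.node (.node (.node .nil (nat_lit 0x1e8209)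
  (nat_lit 17444) (nat_lit 0x1e8075) .nil) (nat_lit 0x1e82a4) (nat_lit 12068) (nat_lit 0x1e80d9) .nil)
  (nat_lit 0x1e82a5) (nat_lit 24064) (nat_lit 0x63640f) (.node (.node .nil (nat_lit 0x1e853c) (nat_lit 9208)
  (nat_lit 0xcebe90) .nil) (nat_lit 0x1e853d) (nat_lit 9332) (nat_lit 0x1e8741) .nil))))) (nat_lit 0x1e8590)
  (nat_lit 12034) (nat_lit 0x1e80d9) (.node (.node (.node (.node (.node (.node .nil (nat_lit 0x1e8591)
  (nat_lit 16897) (nat_lit 0x2fc368) .nil) (nat_lit 0x1e8740) (nat_lit 21780) (nat_lit 0x1e853c) (.node .nil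
  (nat_lit 0x1e8741) (nat_lit 2232) (nat_lit 0xc2564e) .nil)) (nat_lit 0x1e87ec) (nat_lit 15521) (nat_lit
  0x2fc951) (.node (.node .nil (nat_lit 0x1e87ed) (nat_lit 6616) (nat_lit 0xa162dd) .nil) (nat_lit 0x1e8830)
  (nat_lit 12129) (nat_lit 0x2fcf33) .nil)) (nat_lit 0x1e8831) (nat_lit 17461) (nat_lit 0x1e8075) (.node
  (.node (.node .nil (nat_lit 0x1e889c) (nat_lit 9315) (nat_lit 0x1e8741) .nil) (nat_lit 0x1e889d) (nat_lit
  12085) (nat_lit 0x1e80d9) (.node .nil (nat_lit 0x1e8a4c) (nat_lit 12929) (nat_lit 0x2fc50b) .nil)) (nat_lit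
  0x1e8a4d) (nat_lit 7496) (nat_lit 0x633643) (.node (.node .nil (nat_lit 0x1e8ae0) (nat_lit 9366) (nat_lit
  0x1e8741) .nil) (nat_lit 0x1e8ae1) (nat_lit 12369) (nat_lit 0x2fc7da) .nil))) (nat_lit 0x1e8d78) (nat_lit
  12102) (nat_lit 0x1e80d9) (.node (.node (.node (.node .nil (nat_lit 0x1e8d79) (nat_lit 12385) (nat_lit
  0x2fc620) .nil) (nat_lit 0x1e8dd4) (nat_lit 12119) (nat_lit 0x1e80d9) (.node .nil (nat_lit 0x1e8dd5)
  (nat_lit 12321) (nat_lit 0x2fc4f0) .nil)) (nat_lit 0x1e8f04) (nat_lit 9349) (nat_lit 0x1e8741) (.node (.node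
  .nil (nat_lit 0x1e8f05) (nat_lit 12051) (nat_lit 0x1e80d9) .nil) (nat_lit 0x1e8fa8) (nat_lit 12865) (nat_lit
  0x2fcec9) .nil)) (nat_lit 0x1e8fa9) (nat_lit 14209) (nat_lit 0x2fcec8) (.node (.node (.node .nil (nat_lit
  0x1ed045) (nat_lit 18400) (nat_lit 0x1265a7) .nil) (nat_lit 0x1ed113) (nat_lit 13447) (nat_lit 0x1ede62)
  .nil) (nat_lit 0x1ed238) (nat_lit 18359) (nat_lit 0x1edd49) (.node (.node .nil (nat_lit 0x1ed36f) (nat_lit
  2001) (nat_lit 0x123597) .nil) (nat_lit 0x1ed45a) (nat_lit 18339) (nat_lit 0x1edd49) .nil)))) (nat_lit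
  0x1ed50c) (nat_lit 13430) (nat_lit 0x1ede62) (.node (.node (.node (.node (.node .nil (nat_lit 0x1ed626)
  (nat_lit 8706) (nat_lit 0x1ed36f) .nil) (nat_lit 0x1ed771) (nat_lit 13411) (nat_lit 0x1ede62) (.node .nil
  (nat_lit 0x1ed801) (nat_lit 8758) (nat_lit 0x1ed36f) .nil)) (nat_lit 0x1ed956) (nat_lit 8945) (nat_lit
  0x123836) (.node (.node .nil (nat_lit 0x1eda7c) (nat_lit 8723) (nat_lit 0x1ed36f) .nil) (nat_lit 0x1edb2a)
  (nat_lit 8741) (nat_lit 0x1ed36f) .nil)) (nat_lit 0x1edc1e) (nat_lit 8775) (nat_lit 0x1ed36f) (.node (.node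
  (.node .nil (nat_lit 0x1edd49) (nat_lit 6112) (nat_lit 0x126621) .nil) (nat_lit 0x1ede62) (nat_lit 3816)
  (nat_lit 845266) .nil) (nat_lit 0x1edf34) (nat_lit 21411) (nat_lit 0x1ed626) (.node (.node .nil (nat_lit
  0x232074) (nat_lit 17425) (nat_lit 0x1e8075) .nil) (nat_lit 0x232075) (nat_lit 22372) (nat_lit 0x232a4d)
  .nil))) (nat_lit 0x2320d8) (nat_lit 24656) (nat_lit 0x1e8dd5) (.node (.node (.node (.node .nil (nat_lit
  0x2320d9) (nat_lit 21544) (nat_lit 0x527c4c) .nil) (nat_lit 0x232122) (nat_lit 9296) (nat_lit 0x1e8741)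
  (.node .nil (nat_lit 0x232123) (nat_lit 24565) (nat_lit 0x232966) .nil)) (nat_lit 0x23218e) (nat_lit 3896)
  (nat_lit 0x4040c9) (.node (.node .nil (nat_lit 0x23218f) (nat_lit 24593) (nat_lit 0x1e8590) .nil) (nat_lit
  0x232208) (nat_lit 13703) (nat_lit 0x23218e) .nil)) (nat_lit 0x232209) (nat_lit 13634) (nat_lit 0x23218e)
  (.node (.node (.node .nil (nat_lit 0x2322a4) (nat_lit 21991) (nat_lit 0x232122) .nil) (nat_lit 0x2322a5)
  (nat_lit 18968) (nat_lit 0x52726a) .nil) (nat_lit 0x23235e) (nat_lit 17408) (nat_lit 0x1e8075) (.node (.node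
  .nil (nat_lit 0x23235f) (nat_lit 19480) (nat_lit 0x2f9c84) .nil) (nat_lit 0x2323f2) (nat_lit 12000) (nat_lit
  0x1e80d9) .nil))))))
def t4_2 : T := (.node (.node (.node (.node (.node (.node (.node .nil (nat_lit 0x232830) (nat_lit 18881)
  (nat_lit 0x1e87ed) .nil) (nat_lit 0x232831) (nat_lit 24576) (nat_lit 0x1e8590) (.node .nil (nat_lit
  0x23289c) (nat_lit 20456) (nat_lit 0xfff3aa) .nil)) (nat_lit 0x23289d) (nat_lit 13651) (nat_lit 0x23218e)
  (.node (.node .nil (nat_lit 0x232966) (nat_lit 12017) (nat_lit 0x1e80d9) .nil) (nat_lit 0x232967) (nat_lit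
  7816) (nat_lit 0x8efbbc) .nil)) (nat_lit 0x2329ca) (nat_lit 22391) (nat_lit 0x232a4d) (.node (.node (.node
  .nil (nat_lit 0x2329cb) (nat_lit 10456) (nat_lit 0xedcf2f) .nil) (nat_lit 0x232a4c) (nat_lit 20664) (nat_lit
  0x9cc91f) (.node .nil (nat_lit 0x232a4d) (nat_lit 10088) (nat_lit 0x902fe7) .nil)) (nat_lit 0x232ae0)
  (nat_lit 20311) (nat_lit 0x232967) (.node (.node .nil (nat_lit 0x232ae1) (nat_lit 13686) (nat_lit 0x23218e)
  .nil) (nat_lit 0x232b1a) (nat_lit 21972) (nat_lit 0x232122) .nil))) (nat_lit 0x232b1b) (nat_lit 22000)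
  (nat_lit 0x1e889c) (.node (.node (.node (.node .nil (nat_lit 0x232bb6) (nat_lit 22200) (nat_lit 0xe127f1)
  .nil) (nat_lit 0x232bb7) (nat_lit 13668) (nat_lit 0x23218e) (.node .nil (nat_lit 0x237045) (nat_lit 15400)
  (nat_lit 0x4caed8) .nil)) (nat_lit 0x2371bf) (nat_lit 13154) (nat_lit 0x237238) (.node (.node .nil (nat_lit
  0x237238) (nat_lit 3704) (nat_lit 0x404606) .nil) (nat_lit 0x2373c2) (nat_lit 12824) (nat_lit 0x3da8e8)
  .nil)) (nat_lit 0x23745a) (nat_lit 17060) (nat_lit 0x237c1e) (.node (.node (.node .nil (nat_lit 0x2375a1)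
  (nat_lit 19464) (nat_lit 0x2f9358) .nil) (nat_lit 0x237626) (nat_lit 21080) (nat_lit 0x5e9568) .nil)
  (nat_lit 0x2377dd) (nat_lit 21360) (nat_lit 0x6f87be) (.node (.node .nil (nat_lit 0x237801) (nat_lit 25287)
  (nat_lit 0x2379fa) .nil) (nat_lit 0x2379fa) (nat_lit 13137) (nat_lit 0x237238) .nil)))) (nat_lit 0x237a7c)
  (nat_lit 13188) (nat_lit 0x237238) (.node (.node (.node (.node (.node .nil (nat_lit 0x237b87) (nat_lit
  21328) (nat_lit 0x6f8e00) .nil) (nat_lit 0x237c1e) (nat_lit 5384) (nat_lit 0xfff250) (.node .nil (nat_lit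
  0x237de4) (nat_lit 13171) (nat_lit 0x237238) .nil)) (nat_lit 0x237e62) (nat_lit 22056) (nat_lit 0xfffc76)
  (.node (.node .nil (nat_lit 0x237f98) (nat_lit 13206) (nat_lit 0x237238) .nil) (nat_lit 0x2f920e) (nat_lit
  1665) (nat_lit 0x633714) .nil)) (nat_lit 0x2f920f) (nat_lit 18995) (nat_lit 0x2f9dd3) (.node (.node (.node
  .nil (nat_lit 0x2f92a2) (nat_lit 15795) (nat_lit 0x2f9d7f) .nil) (nat_lit 0x2f92a3) (nat_lit 11942) (nat_lit
  0x2f99cc) (.node .nil (nat_lit 0x2f9358) (nat_lit 7076) (nat_lit 0x2f920e) .nil)) (nat_lit 0x2f9359)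
  (nat_lit 6806) (nat_lit 0x2f9836) (.node (.node .nil (nat_lit 0x2f93f4) (nat_lit 15813) (nat_lit 0x2f9d7f)
  .nil) (nat_lit 0x2f93f5) (nat_lit 19072) (nat_lit 0x2f96bc) .nil))) (nat_lit 0x2f9610) (nat_lit 6823)
  (nat_lit 0x2f9836) (.node (.node (.node (.node .nil (nat_lit 0x2f9611) (nat_lit 15830) (nat_lit 0x2f9d7f)
  .nil) (nat_lit 0x2f96bc) (nat_lit 6789) (nat_lit 0x2f9836) (.node .nil (nat_lit 0x2f96bd) (nat_lit 19014)
  (nat_lit 0x2f9dd3) .nil)) (nat_lit 0x2f9746) (nat_lit 7042) (nat_lit 0x2f920e) (.node (.node .nil (nat_lit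
  0x2f9747) (nat_lit 11925) (nat_lit 0x2f99cc) .nil) (nat_lit 0x2f97ea) (nat_lit 6755) (nat_lit 0x2f9836)
  .nil)) (nat_lit 0x2f97eb) (nat_lit 19056) (nat_lit 0x2f97ea) (.node (.node (.node .nil (nat_lit 0x2f9836)
  (nat_lit 1624) (nat_lit 0x4cf971) .nil) (nat_lit 0x2f9837) (nat_lit 19446) (nat_lit 0x2f9358) .nil) (nat_lit
  0x2f989a) (nat_lit 18978) (nat_lit 0x2f9dd3) (.node (.node .nil (nat_lit 0x2f989b) (nat_lit 11908) (nat_lit
  0x2f99cc) .nil) (nat_lit 0x2f9960) (nat_lit 6772) (nat_lit 0x2f9836) .nil))))) (nat_lit 0x2f9961) (nat_lit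
  7110) (nat_lit 0x2f920e) (.node (.node (.node (.node (.node (.node .nil (nat_lit 0x2f99cc) (nat_lit 3256)
  (nat_lit 0x31179f) .nil) (nat_lit 0x2f99cd) (nat_lit 7409) (nat_lit 0x633f51) (.node .nil (nat_lit 0x2f9c28)
  (nat_lit 7169) (nat_lit 0x633492) .nil)) (nat_lit 0x2f9c29) (nat_lit 7127) (nat_lit 0x2f920e) (.node (.node
  .nil (nat_lit 0x2f9c84) (nat_lit 7093) (nat_lit 0x2f920e) .nil) (nat_lit 0x2f9c85) (nat_lit 7008) (nat_lit
  0x2f920e) .nil)) (nat_lit 0x2f9d7e) (nat_lit 14488) (nat_lit 0x4cf062) (.node (.node (.node .nil (nat_lit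
  0x2f9d7f) (nat_lit 4920) (nat_lit 0x40169a) .nil) (nat_lit 0x2f9dd2) (nat_lit 7059) (nat_lit 0x2f920e)
  (.node .nil (nat_lit 0x2f9dd3) (nat_lit 6720) (nat_lit 0x2f9836) .nil)) (nat_lit 0x2fc042) (nat_lit 14245)
  (nat_lit 0x2fcec8) (.node (.node .nil (nat_lit 0x2fc043) (nat_lit 12212) (nat_lit 0x2fc369) .nil) (nat_lit
  0x2fc1b8) (nat_lit 12181) (nat_lit 0x2fcf33) .nil))) (nat_lit 0x2fc1b9) (nat_lit 21028) (nat_lit 0x2fc292)
  (.node (.node (.node (.node .nil (nat_lit 0x2fc292) (nat_lit 8336) (nat_lit 0x5e9ab5) .nil) (nat_lit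
  0x2fc293) (nat_lit 3587) (nat_lit 0x2fcb80) (.node .nil (nat_lit 0x2fc368) (nat_lit 5272) (nat_lit 0x8ea233)
  .nil)) (nat_lit 0x2fc369) (nat_lit 3315) (nat_lit 0x2fca7a) (.node (.node .nil (nat_lit 0x2fc4f0) (nat_lit
  3349) (nat_lit 0x2fca7a) .nil) (nat_lit 0x2fc4f1) (nat_lit 12294) (nat_lit 0x2fc950) .nil)) (nat_lit
  0x2fc50a) (nat_lit 12311) (nat_lit 0x2fc950) (.node (.node (.node .nil (nat_lit 0x2fc50b) (nat_lit 3621)
  (nat_lit 0x2fcb80) .nil) (nat_lit 0x2fc620) (nat_lit 3383) (nat_lit 0x2fca7a) .nil) (nat_lit 0x2fc621)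
  (nat_lit 12147) (nat_lit 0x2fcf33) (.node (.node .nil (nat_lit 0x2fc7da) (nat_lit 3366) (nat_lit 0x2fca7a)
  .nil) (nat_lit 0x2fc7db) (nat_lit 12277) (nat_lit 0x2fc950) .nil)))) (nat_lit 0x2fc8aa) (nat_lit 12343)
  (nat_lit 0x2fc4f0) (.node (.node (.node (.node (.node .nil (nat_lit 0x2fc8ab) (nat_lit 3604) (nat_lit
  0x2fcb80) .nil) (nat_lit 0x2fc950) (nat_lit 3332) (nat_lit 0x2fca7a) (.node .nil (nat_lit 0x2fc951) (nat_lit
  4800) (nat_lit 0x5e9ffc) .nil)) (nat_lit 0x2fca7a) (nat_lit 760) (nat_lit 0x311150) (.node (.node .nil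
  (nat_lit 0x2fca7b) (nat_lit 15556) (nat_lit 0x2fc951) .nil) (nat_lit 0x2fcb80) (nat_lit 824) (nat_lit
  0x4cffbe) .nil)) (nat_lit 0x2fcb81) (nat_lit 10072) (nat_lit 0x401946) (.node (.node (.node .nil (nat_lit
  0x2fcc18) (nat_lit 15538) (nat_lit 0x2fc951) .nil) (nat_lit 0x2fcc19) (nat_lit 12164) (nat_lit 0x2fcf33)
  .nil) (nat_lit 0x2fcde2) (nat_lit 12229) (nat_lit 0x2fc369) (.node (.node .nil (nat_lit 0x2fcde3) (nat_lit
  14228) (nat_lit 0x2fcec8) .nil) (nat_lit 0x2fcec8) (nat_lit 4216) (nat_lit 0x4cf6ad) .nil))) (nat_lit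
  0x2fcec9) (nat_lit 3570) (nat_lit 0x2fcb80) (.node (.node (.node (.node .nil (nat_lit 0x2fcf32) (nat_lit
  12247) (nat_lit 0x2fc369) .nil) (nat_lit 0x2fcf33) (nat_lit 3298) (nat_lit 0x2fca7a) (.node .nil (nat_lit
  0x311150) (nat_lit 144) (nat_lit 0x4cf2b3) .nil)) (nat_lit 0x311151) (nat_lit 706) (nat_lit 0x311150) (.node
  (.node .nil (nat_lit 0x3111fc) (nat_lit 14161) (nat_lit 0x4cf063) .nil) (nat_lit 0x3111fd) (nat_lit 7000)
  (nat_lit 0x522ffa) .nil)) (nat_lit 0x31127a) (nat_lit 724) (nat_lit 0x311150) (.node (.node (.node .nil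
  (nat_lit 0x31127b) (nat_lit 800) (nat_lit 0x4cffbe) .nil) (nat_lit 0x3112d6) (nat_lit 14369) (nat_lit
  0x4cfd6f) .nil) (nat_lit 0x3112d7) (nat_lit 11861) (nat_lit 0x311419) (.node (.node .nil (nat_lit 0x311418)
  (nat_lit 11826) (nat_lit 0x311419) .nil) (nat_lit 0x311419) (nat_lit 3224) (nat_lit 0x31127a) .nil))))))
def t4_3 : T := (.node (.node (.node (.node (.node (.node (.node .nil (nat_lit 0x3114b5) (nat_lit 3412)
  (nat_lit 0x31179e) .nil) (nat_lit 0x311732) (nat_lit 4129) (nat_lit 0x4cf6ad) (.node .nil (nat_lit 0x311733)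
  (nat_lit 11844) (nat_lit 0x311419) .nil)) (nat_lit 0x31179e) (nat_lit 768) (nat_lit 0x4cf47d) (.node (.node
  .nil (nat_lit 0x31179f) (nat_lit 741) (nat_lit 0x311150) .nil) (nat_lit 0x311842) (nat_lit 10104) (nat_lit
  0x824ef2) .nil)) (nat_lit 0x311843) (nat_lit 14464) (nat_lit 0x4cf062) (.node (.node (.node .nil (nat_lit
  0x3118ef) (nat_lit 18136) (nat_lit 0xed9c99) .nil) (nat_lit 0x311b68) (nat_lit 14352) (nat_lit 0x4cfd6f)
  (.node .nil (nat_lit 0x311b69) (nat_lit 21600) (nat_lit 0x4cfd6e) .nil)) (nat_lit 0x311bc4) (nat_lit 26836)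
  (nat_lit 0x3118ef) (.node (.node .nil (nat_lit 0x311d0b) (nat_lit 26984) (nat_lit 0x8ea119) .nil) (nat_lit
  0x311da6) (nat_lit 14103) (nat_lit 0x311e8c) .nil))) (nat_lit 0x311da7) (nat_lit 14084) (nat_lit 0x311e8c)
  (.node (.node (.node (.node .nil (nat_lit 0x311e21) (nat_lit 26853) (nat_lit 0x3118ef) .nil) (nat_lit
  0x311e8c) (nat_lit 4112) (nat_lit 0x4cf6ad) (.node .nil (nat_lit 0x311e8d) (nat_lit 14067) (nat_lit
  0x311e8c) .nil)) (nat_lit 0x314036) (nat_lit 24888) (nat_lit 0x5ec1eb) (.node (.node .nil (nat_lit 0x314037)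
  (nat_lit 19736) (nat_lit 0x522713) .nil) (nat_lit 0x314160) (nat_lit 15137) (nat_lit 0x710282) .nil))
  (nat_lit 0x314161) (nat_lit 21624) (nat_lit 0x4cfd6e) (.node (.node (.node .nil (nat_lit 0x3142e6) (nat_lit
  11665) (nat_lit 0x710d5e) .nil) (nat_lit 0x3142e7) (nat_lit 3491) (nat_lit 0x314429) .nil) (nat_lit
  0x3143b0) (nat_lit 11617) (nat_lit 0x710a6a) (.node (.node .nil (nat_lit 0x3143b1) (nat_lit 11539) (nat_lit
  0x31457e) .nil) (nat_lit 0x314428) (nat_lit 3474) (nat_lit 0x314429) .nil)))) (nat_lit 0x314429) (nat_lit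
  792) (nat_lit 0x4cf47d) (.node (.node (.node (.node (.node .nil (nat_lit 0x31457e) (nat_lit 3057) (nat_lit
  0x710ca4) .nil) (nat_lit 0x31457f) (nat_lit 3508) (nat_lit 0x314429) (.node .nil (nat_lit 0x3146f8) (nat_lit
  14912) (nat_lit 0x3df875) .nil)) (nat_lit 0x3146f9) (nat_lit 14264) (nat_lit 0x2fcec8) (.node (.node .nil
  (nat_lit 0x3147ae) (nat_lit 24802) (nat_lit 0x3147af) .nil) (nat_lit 0x3147af) (nat_lit 12504) (nat_lit
  0x3114b5) .nil)) (nat_lit 0x3148df) (nat_lit 25763) (nat_lit 0x314e11) (.node (.node (.node .nil (nat_lit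
  0x314988) (nat_lit 25825) (nat_lit 0x7107ca) .nil) (nat_lit 0x314a0e) (nat_lit 9944) (nat_lit 0xffa6d3)
  .nil) (nat_lit 0x314a0f) (nat_lit 14711) (nat_lit 0x314b58) (.node (.node .nil (nat_lit 0x314b58) (nat_lit
  4368) (nat_lit 0x3dfb5f) .nil) (nat_lit 0x314b59) (nat_lit 14694) (nat_lit 0x314b58) .nil))) (nat_lit
  0x314cc0) (nat_lit 14800) (nat_lit 0x3df7a9) (.node (.node (.node (.node .nil (nat_lit 0x314cc1) (nat_lit
  22104) (nat_lit 0x8ea9f0) .nil) (nat_lit 0x314d96) (nat_lit 22168) (nat_lit 0x9c9575) (.node .nil (nat_lit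
  0x314d97) (nat_lit 14675) (nat_lit 0x314b58) .nil)) (nat_lit 0x314e11) (nat_lit 13969) (nat_lit 0x710631)
  (.node (.node .nil (nat_lit 0x314f47) (nat_lit 25780) (nat_lit 0x314e11) .nil) (nat_lit 0x3da001) (nat_lit
  26951) (nat_lit 0x3dae8a) .nil)) (nat_lit 0x3da0ac) (nat_lit 14532) (nat_lit 0x3da8e9) (.node (.node (.node
  .nil (nat_lit 0x3da0ad) (nat_lit 12788) (nat_lit 0x3da8e8) .nil) (nat_lit 0x3da27c) (nat_lit 12675) (nat_lit
  0x3da4b3) .nil) (nat_lit 0x3da27d) (nat_lit 1400) (nat_lit 0xfff17a) (.node (.node .nil (nat_lit 0x3da2d0)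
  (nat_lit 978) (nat_lit 0x3da41e) .nil) (nat_lit 0x3da2d1) (nat_lit 1014) (nat_lit 0x3da41e) .nil)))))
  (nat_lit 0x3da41e) (nat_lit 224) (nat_lit 0x7defb9) (.node (.node (.node (.node (.node (.node .nil (nat_lit
  0x3da41f) (nat_lit 1200) (nat_lit 0x7defb8) .nil) (nat_lit 0x3da4b2) (nat_lit 5795) (nat_lit 0x3da27d)
  (.node .nil (nat_lit 0x3da4b3) (nat_lit 3457) (nat_lit 0x314429) .nil)) (nat_lit 0x3da662) (nat_lit 12807)
  (nat_lit 0x3da8e8) (.node (.node .nil (nat_lit 0x3da663) (nat_lit 14551) (nat_lit 0x3da8e9) .nil) (nat_lit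
  0x3da6cf) (nat_lit 25745) (nat_lit 0x314e11) .nil)) (nat_lit 0x3da845) (nat_lit 26184) (nat_lit 0x5e9642)
  (.node (.node (.node .nil (nat_lit 0x3da8e8) (nat_lit 3528) (nat_lit 0x314429) .nil) (nat_lit 0x3da8e9)
  (nat_lit 4344) (nat_lit 0x3da2d1) (.node .nil (nat_lit 0x3daa38) (nat_lit 4000) (nat_lit 0x7de133) .nil))
  (nat_lit 0x3daa39) (nat_lit 5812) (nat_lit 0x3da27d) (.node (.node .nil (nat_lit 0x3daa94) (nat_lit 1031)
  (nat_lit 0x3da41e) .nil) (nat_lit 0x3daa95) (nat_lit 1232) (nat_lit 0x7de19e) .nil))) (nat_lit 0x3dac5a)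
  (nat_lit 996) (nat_lit 0x3da41e) (.node (.node (.node (.node .nil (nat_lit 0x3dac5b) (nat_lit 4247) (nat_lit
  0x3da2d0) .nil) (nat_lit 0x3dacf6) (nat_lit 5831) (nat_lit 0x3da27d) (.node .nil (nat_lit 0x3dacf7) (nat_lit
  13922) (nat_lit 0x3daa38) .nil)) (nat_lit 0x3dae26) (nat_lit 12771) (nat_lit 0x3da8e8) (.node (.node .nil
  (nat_lit 0x3dae27) (nat_lit 10552) (nat_lit 0x404b0a) .nil) (nat_lit 0x3dae8a) (nat_lit 19496) (nat_lit
  0x2f9961) .nil)) (nat_lit 0x3df030) (nat_lit 11336) (nat_lit 0x8effa3) (.node (.node (.node .nil (nat_lit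
  0x3df166) (nat_lit 11377) (nat_lit 835547) .nil) (nat_lit 0x3df167) (nat_lit 4436) (nat_lit 0x3dfb5f) .nil)
  (nat_lit 0x3df24c) (nat_lit 6856) (nat_lit 0x8ef185) (.node (.node .nil (nat_lit 0x3df24d) (nat_lit 14964)
  (nat_lit 0x3df875) .nil) (nat_lit 0x3df31a) (nat_lit 13269) (nat_lit 0x3df31b) .nil)))) (nat_lit 0x3df31b)
  (nat_lit 3712) (nat_lit 845266) (.node (.node (.node (.node (.node .nil (nat_lit 0x3df482) (nat_lit 19218)
  (nat_lit 0x3df24c) .nil) (nat_lit 0x3df483) (nat_lit 14983) (nat_lit 0x3df875) (.node .nil (nat_lit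
  0x3df5d4) (nat_lit 13344) (nat_lit 844573) .nil)) (nat_lit 0x3df5d5) (nat_lit 13234) (nat_lit 0x3df31b)
  (.node (.node .nil (nat_lit 0x3df6fe) (nat_lit 24002) (nat_lit 0x3df030) .nil) (nat_lit 0x3df7a8) (nat_lit
  14791) (nat_lit 0x3dfb5e) .nil)) (nat_lit 0x3df7a9) (nat_lit 4455) (nat_lit 0x3dfb5f) (.node (.node (.node
  .nil (nat_lit 0x3df874) (nat_lit 14947) (nat_lit 0x3df875) .nil) (nat_lit 0x3df875) (nat_lit 4480) (nat_lit
  843830) .nil) (nat_lit 0x3df922) (nat_lit 13568) (nat_lit 846351) (.node (.node .nil (nat_lit 0x3df923)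
  (nat_lit 13252) (nat_lit 0x3df31b) .nil) (nat_lit 0x3dfa08) (nat_lit 24020) (nat_lit 0x3df030) .nil)))
  (nat_lit 0x3dfb5e) (nat_lit 4419) (nat_lit 0x3dfb5f) (.node (.node (.node (.node .nil (nat_lit 0x3dfb5f)
  (nat_lit 1048) (nat_lit 0x3da41e) .nil) (nat_lit 0x3dfcc7) (nat_lit 24039) (nat_lit 0x3df030) (.node .nil
  (nat_lit 0x3dfd90) (nat_lit 4402) (nat_lit 0x3dfb5f) .nil)) (nat_lit 0x3dfd91) (nat_lit 11361) (nat_lit
  832692) (.node (.node .nil (nat_lit 0x3dfeba) (nat_lit 14930) (nat_lit 0x3df875) .nil) (nat_lit 0x3dfebb)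
  (nat_lit 15088) (nat_lit 845560) .nil)) (nat_lit 0x3dffec) (nat_lit 13287) (nat_lit 0x3df31b) (.node (.node
  (.node .nil (nat_lit 0x3dffed) (nat_lit 13088) (nat_lit 847040) .nil) (nat_lit 0x401054) (nat_lit 241)
  (nat_lit 0x7defb9) .nil) (nat_lit 0x401055) (nat_lit 1090) (nat_lit 0x401054) (.node (.node .nil (nat_lit
  0x401102) (nat_lit 7572) (nat_lit 0x40151c) .nil) (nat_lit 0x401103) (nat_lit 14887) (nat_lit 0x4013d3)
  .nil))))))
def t4_4 : T := (.node (.node (.node (.node (.node (.node (.node .nil (nat_lit 0x401285) (nat_lit 4711)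
  (nat_lit 0x401055) .nil) (nat_lit 0x4013d2) (nat_lit 7590) (nat_lit 0x40151c) (.node .nil (nat_lit 0x4013d3)
  (nat_lit 4472) (nat_lit 0x3dfb5f) .nil)) (nat_lit 0x40144a) (nat_lit 1108) (nat_lit 0x401054) (.node (.node
  .nil (nat_lit 0x40144b) (nat_lit 1249) (nat_lit 0x7de19e) .nil) (nat_lit 0x40151c) (nat_lit 1800) (nat_lit
  0x4cf47c) .nil)) (nat_lit 0x40151d) (nat_lit 4792) (nat_lit 0x401284) (.node (.node (.node .nil (nat_lit
  0x40169a) (nat_lit 1169) (nat_lit 0x7de977) .nil) (nat_lit 0x40169b) (nat_lit 1126) (nat_lit 0x401054)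
  (.node .nil (nat_lit 0x4017cc) (nat_lit 12888) (nat_lit 0x2fcec9) .nil)) (nat_lit 0x4017cd) (nat_lit 7607)
  (nat_lit 0x40151c) (.node (.node .nil (nat_lit 0x401811) (nat_lit 25728) (nat_lit 0x314e11) .nil) (nat_lit
  0x401946) (nat_lit 2472) (nat_lit 0xf34e0c) .nil))) (nat_lit 0x401947) (nat_lit 3440) (nat_lit 0x314429)
  (.node (.node (.node (.node .nil (nat_lit 0x401ac0) (nat_lit 23224) (nat_lit 0x8eaec4) .nil) (nat_lit
  0x401b96) (nat_lit 12647) (nat_lit 0x401947) (.node .nil (nat_lit 0x401b97) (nat_lit 10055) (nat_lit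
  0x401946) .nil)) (nat_lit 0x401c0f) (nat_lit 27190) (nat_lit 0x401ac0) (.node (.node .nil (nat_lit 0x401d58)
  (nat_lit 4017) (nat_lit 0x7de133) .nil) (nat_lit 0x401d59) (nat_lit 12628) (nat_lit 0x401947) .nil))
  (nat_lit 0x401edf) (nat_lit 26872) (nat_lit 0x9c9b52) (.node (.node (.node .nil (nat_lit 0x401f88) (nat_lit
  10038) (nat_lit 0x401946) .nil) (nat_lit 0x401f89) (nat_lit 9768) (nat_lit 0x82412f) .nil) (nat_lit
  0x404064) (nat_lit 3684) (nat_lit 0x404606) (.node (.node .nil (nat_lit 0x404065) (nat_lit 883) (nat_lit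
  0x4046aa) .nil) (nat_lit 0x4040c8) (nat_lit 3667) (nat_lit 0x404606) .nil)))) (nat_lit 0x4040c9) (nat_lit
  900) (nat_lit 0x4046aa) (.node (.node (.node (.node (.node .nil (nat_lit 0x40434e) (nat_lit 4663) (nat_lit
  0x4043e2) .nil) (nat_lit 0x40434f) (nat_lit 15287) (nat_lit 0x4043e3) (.node .nil (nat_lit 0x4043e2)
  (nat_lit 1073) (nat_lit 0x401054) .nil)) (nat_lit 0x4043e3) (nat_lit 4626) (nat_lit 0x4043e2) (.node (.node
  .nil (nat_lit 0x40452c) (nat_lit 3544) (nat_lit 0x31127b) .nil) (nat_lit 0x40452d) (nat_lit 4753) (nat_lit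
  0x40169b) .nil)) (nat_lit 0x404580) (nat_lit 4737) (nat_lit 0x40144a) (.node (.node (.node .nil (nat_lit
  0x404581) (nat_lit 4644) (nat_lit 0x4043e2) .nil) (nat_lit 0x404606) (nat_lit 832) (nat_lit 0x4046aa) (.node
  .nil (nat_lit 0x404607) (nat_lit 919) (nat_lit 0x4046aa) .nil)) (nat_lit 0x4046aa) (nat_lit 216) (nat_lit
  0x4cf2b3) (.node (.node .nil (nat_lit 0x4046ab) (nat_lit 866) (nat_lit 0x4046aa) .nil) (nat_lit 0x404821)
  (nat_lit 27107) (nat_lit 0x404eef) .nil))) (nat_lit 0x40488c) (nat_lit 26344) (nat_lit 0xf346e5) (.node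
  (.node (.node (.node .nil (nat_lit 0x404b0a) (nat_lit 2776) (nat_lit 0x8ea62d) .nil) (nat_lit 0x404b0b)
  (nat_lit 10517) (nat_lit 0x404b0a) (.node .nil (nat_lit 0x404ba6) (nat_lit 9816) (nat_lit 0xed92be) .nil))
  (nat_lit 0x404ba7) (nat_lit 10535) (nat_lit 0x404b0a) (.node (.node .nil (nat_lit 0x404d68) (nat_lit 10312)
  (nat_lit 0x907b65) .nil) (nat_lit 0x404d69) (nat_lit 22211) (nat_lit 0x404ba6) .nil)) (nat_lit 0x404dc4)
  (nat_lit 4592) (nat_lit 0x4043e2) (.node (.node (.node .nil (nat_lit 0x404dc5) (nat_lit 14865) (nat_lit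
  0x4013d3) .nil) (nat_lit 0x404e43) (nat_lit 27127) (nat_lit 0x404eef) .nil) (nat_lit 0x404eef) (nat_lit
  20952) (nat_lit 0xe17d55) (.node (.node .nil (nat_lit 0x4ca0ff) (nat_lit 25696) (nat_lit 20529) .nil)
  (nat_lit 0x4ca1a8) (nat_lit 24146) (nat_lit 0x4ca766) .nil))))) (nat_lit 0x4ca1a9) (nat_lit 15380) (nat_lit
  0x4caed8) (.node (.node (.node (.node (.node (.node .nil (nat_lit 0x4ca282) (nat_lit 24098) (nat_lit
  0x4ca44c) .nil) (nat_lit 0x4ca283) (nat_lit 5592) (nat_lit 0xf31f6a) (.node .nil (nat_lit 0x4ca3d4) (nat_lit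
  21792) (nat_lit 23868) .nil)) (nat_lit 0x4ca3d5) (nat_lit 23650) (nat_lit 0x4ca51b) (.node (.node .nil
  (nat_lit 0x4ca44c) (nat_lit 11440) (nat_lit 20938) .nil) (nat_lit 0x4ca44d) (nat_lit 17218) (nat_lit
  0x4ca283) .nil)) (nat_lit 0x4ca51a) (nat_lit 16276) (nat_lit 0x4caa6a) (.node (.node (.node .nil (nat_lit
  0x4ca51b) (nat_lit 11192) (nat_lit 0x902ccc) .nil) (nat_lit 0x4ca631) (nat_lit 26064) (nat_lit 22271) (.node
  .nil (nat_lit 0x4ca766) (nat_lit 11457) (nat_lit 20938) .nil)) (nat_lit 0x4ca767) (nat_lit 24193) (nat_lit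
  20939) (.node (.node .nil (nat_lit 0x4ca816) (nat_lit 15363) (nat_lit 0x4caed8) .nil) (nat_lit 0x4ca817)
  (nat_lit 15346) (nat_lit 0x4caed8) .nil))) (nat_lit 0x4ca941) (nat_lit 19096) (nat_lit 0x2f96bc) (.node
  (.node (.node (.node .nil (nat_lit 0x4caa6a) (nat_lit 5048) (nat_lit 0x3da41f) .nil) (nat_lit 0x4caa6b)
  (nat_lit 12728) (nat_lit 0x3142e7) (.node .nil (nat_lit 0x4cab3c) (nat_lit 24116) (nat_lit 0x4ca44c) .nil))
  (nat_lit 0x4cab3d) (nat_lit 26242) (nat_lit 0x4cadf2) (.node (.node .nil (nat_lit 0x4caca4) (nat_lit 15208)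
  (nat_lit 0x404dc4) .nil) (nat_lit 0x4caca5) (nat_lit 13856) (nat_lit 22927) .nil)) (nat_lit 0x4cadf2)
  (nat_lit 15752) (nat_lit 0x5e97b9) (.node (.node (.node .nil (nat_lit 0x4cadf3) (nat_lit 17505) (nat_lit
  24251) .nil) (nat_lit 0x4caed8) (nat_lit 4680) (nat_lit 0x4043e2) .nil) (nat_lit 0x4caed9) (nat_lit 17488)
  (nat_lit 24251) (.node (.node .nil (nat_lit 0x4caf8e) (nat_lit 15704) (nat_lit 0x5e999f) .nil) (nat_lit
  0x4cf062) (nat_lit 4321) (nat_lit 0x3da2d1) .nil)))) (nat_lit 0x4cf063) (nat_lit 4146) (nat_lit 0x4cf6ad)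
  (.node (.node (.node (.node (.node .nil (nat_lit 0x4cf0ce) (nat_lit 23896) (nat_lit 0x8211b3) .nil) (nat_lit
  0x4cf21e) (nat_lit 14513) (nat_lit 0x3da8e9) (.node .nil (nat_lit 0x4cf21f) (nat_lit 12753) (nat_lit
  0x3da8e8) .nil)) (nat_lit 0x4cf2b2) (nat_lit 179) (nat_lit 0x4cf2b3) (.node (.node .nil (nat_lit 0x4cf2b3)
  (nat_lit 32) (nat_lit 0x715135) .nil) (nat_lit 0x4cf47c) (nat_lit 432) (nat_lit 0x7157fa) .nil)) (nat_lit
  0x4cf47d) (nat_lit 162) (nat_lit 0x4cf2b3) (.node (.node (.node .nil (nat_lit 0x4cf4d0) (nat_lit 14327)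
  (nat_lit 0x4cf9dc) .nil) (nat_lit 0x4cf4d1) (nat_lit 14308) (nat_lit 0x4cf9dc) .nil) (nat_lit 0x4cf600)
  (nat_lit 26888) (nat_lit 0xfff868) (.node (.node .nil (nat_lit 0x4cf6ac) (nat_lit 4163) (nat_lit 0x4cf6ad)
  .nil) (nat_lit 0x4cf6ad) (nat_lit 961) (nat_lit 0x3da41e) .nil))) (nat_lit 0x4cf970) (nat_lit 1440) (nat_lit
  0x71547c) (.node (.node (.node (.node .nil (nat_lit 0x4cf971) (nat_lit 384) (nat_lit 0x71547d) .nil)
  (nat_lit 0x4cf9dc) (nat_lit 4264) (nat_lit 0x3da2d0) (.node .nil (nat_lit 0x4cf9dd) (nat_lit 12712) (nat_lit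
  0x314428) .nil)) (nat_lit 0x4cfb0c) (nat_lit 26216) (nat_lit 0x5e9865) (.node (.node .nil (nat_lit 0x4cfba0)
  (nat_lit 4180) (nat_lit 0x4cf6ad) .nil) (nat_lit 0x4cfba1) (nat_lit 4199) (nat_lit 0x4cf6ad) .nil)) (nat_lit
  0x4cfd6e) (nat_lit 9008) (nat_lit 0x71552a) (.node (.node (.node .nil (nat_lit 0x4cfd6f) (nat_lit 4289)
  (nat_lit 0x3dac5a) .nil) (nat_lit 0x4cfdc3) (nat_lit 19416) (nat_lit 0x2f9746) .nil) (nat_lit 0x4cff12)
  (nat_lit 22680) (nat_lit 0x404b0b) (.node (.node .nil (nat_lit 0x4cff13) (nat_lit 14290) (nat_lit 0x4cf9dc)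
  .nil) (nat_lit 0x4cffbe) (nat_lit 196) (nat_lit 0x4cf2b3) .nil))))))
def t4_5 : T := (.node (.node (.node (.node (.node (.node (.node .nil (nat_lit 0x52208a) (nat_lit 13746)
  (nat_lit 0x52230d) .nil) (nat_lit 0x52208b) (nat_lit 19335) (nat_lit 0x5222f7) (.node .nil (nat_lit
  0x522170) (nat_lit 7328) (nat_lit 0x633932) .nil)) (nat_lit 0x522171) (nat_lit 6949) (nat_lit 0x522ffa)
  (.node (.node .nil (nat_lit 0x5222f6) (nat_lit 7152) (nat_lit 0x633492) .nil) (nat_lit 0x5222f7) (nat_lit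
  6932) (nat_lit 0x522ffa) .nil)) (nat_lit 0x52230c) (nat_lit 7248) (nat_lit 0x633e06) (.node (.node (.node
  .nil (nat_lit 0x52230d) (nat_lit 3912) (nat_lit 0x404607) .nil) (nat_lit 0x522494) (nat_lit 6966) (nat_lit
  0x522ffa) (.node .nil (nat_lit 0x522495) (nat_lit 10374) (nat_lit 0x522ffb) .nil)) (nat_lit 0x52256e)
  (nat_lit 18392) (nat_lit 0x527db7) (.node (.node .nil (nat_lit 0x52256f) (nat_lit 11768) (nat_lit 0x5e9b4f)
  .nil) (nat_lit 0x5226e8) (nat_lit 6915) (nat_lit 0x522ffa) .nil))) (nat_lit 0x5226e9) (nat_lit 10355)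
  (nat_lit 0x522ffb) (.node (.node (.node (.node .nil (nat_lit 0x522712) (nat_lit 18936) (nat_lit 0x527391)
  .nil) (nat_lit 0x522713) (nat_lit 7392) (nat_lit 0x633f51) (.node .nil (nat_lit 0x522862) (nat_lit 7944)
  (nat_lit 0xf31dba) .nil)) (nat_lit 0x522863) (nat_lit 13782) (nat_lit 0x52230d) (.node (.node .nil (nat_lit
  0x522998) (nat_lit 8264) (nat_lit 0x8ef354) .nil) (nat_lit 0x522999) (nat_lit 6737) (nat_lit 0x2f9836)
  .nil)) (nat_lit 0x522a1e) (nat_lit 17600) (nat_lit 0x633cd6) (.node (.node (.node .nil (nat_lit 0x522a1f)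
  (nat_lit 13763) (nat_lit 0x52230d) .nil) (nat_lit 0x522be4) (nat_lit 19047) (nat_lit 0x522999) .nil)
  (nat_lit 0x522be5) (nat_lit 7025) (nat_lit 0x2f920e) (.node (.node .nil (nat_lit 0x522c7c) (nat_lit 6898)
  (nat_lit 0x522ffa) .nil) (nat_lit 0x522c7d) (nat_lit 10338) (nat_lit 0x522ffb) .nil)))) (nat_lit 0x522d86)
  (nat_lit 6983) (nat_lit 0x522ffa) (.node (.node (.node (.node (.node .nil (nat_lit 0x522d87) (nat_lit 10391)
  (nat_lit 0x522ffb) .nil) (nat_lit 0x522e00) (nat_lit 19303) (nat_lit 0x522c7c) (.node .nil (nat_lit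
  0x522e01) (nat_lit 9824) (nat_lit 0x633d81) .nil)) (nat_lit 0x522ffa) (nat_lit 1648) (nat_lit 0x633714)
  (.node (.node .nil (nat_lit 0x522ffb) (nat_lit 2664) (nat_lit 0x9cc8e4) .nil) (nat_lit 0x527016) (nat_lit
  8976) (nat_lit 0x12353a) .nil)) (nat_lit 0x5270bb) (nat_lit 1984) (nat_lit 0x123597) (.node (.node (.node
  .nil (nat_lit 0x527141) (nat_lit 6694) (nat_lit 0x527ce0) .nil) (nat_lit 0x5271ed) (nat_lit 8456) (nat_lit
  0x5e9ab5) .nil) (nat_lit 0x52726a) (nat_lit 6677) (nat_lit 0x527ce0) (.node (.node .nil (nat_lit 0x5272c6)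
  (nat_lit 18372) (nat_lit 0x527db7) .nil) (nat_lit 0x52733c) (nat_lit 6643) (nat_lit 0x527ce0) .nil)))
  (nat_lit 0x527391) (nat_lit 6660) (nat_lit 0x527ce0) (.node (.node (.node (.node .nil (nat_lit 0x527c4c)
  (nat_lit 8848) (nat_lit 0x123c84) .nil) (nat_lit 0x527ce0) (nat_lit 1592) (nat_lit 0xf31c40) (.node .nil
  (nat_lit 0x527d1a) (nat_lit 8662) (nat_lit 0x5270bb) .nil)) (nat_lit 0x527db7) (nat_lit 6129) (nat_lit
  0x126621) (.node (.node .nil (nat_lit 0x527e31) (nat_lit 8645) (nat_lit 0x5270bb) .nil) (nat_lit 0x527e9c)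
  (nat_lit 8928) (nat_lit 0x123b1c) .nil)) (nat_lit 0x527f66) (nat_lit 6626) (nat_lit 0x527ce0) (.node (.node
  (.node .nil (nat_lit 0x527fca) (nat_lit 8628) (nat_lit 0x5270bb) .nil) (nat_lit 0x5e9020) (nat_lit 4835)
  (nat_lit 0x5e9ffc) .nil) (nat_lit 0x5e9021) (nat_lit 4903) (nat_lit 0x5e9ffc) (.node (.node .nil (nat_lit
  0x5e91da) (nat_lit 6864) (nat_lit 0x522ffa) .nil) (nat_lit 0x5e91db) (nat_lit 8422) (nat_lit 0x5e9ab5)
  .nil))))) (nat_lit 0x5e92f0) (nat_lit 6881) (nat_lit 0x522ffa) (.node (.node (.node (.node (.node (.node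
  .nil (nat_lit 0x5e92f1) (nat_lit 8405) (nat_lit 0x5e9ab5) .nil) (nat_lit 0x5e930a) (nat_lit 11749) (nat_lit
  0x5e9b4f) (.node .nil (nat_lit 0x5e930b) (nat_lit 21095) (nat_lit 0x5e9cd6) .nil)) (nat_lit 0x5e9492)
  (nat_lit 11715) (nat_lit 0x5e9b4f) (.node (.node .nil (nat_lit 0x5e9493) (nat_lit 4886) (nat_lit 0x5e9ffc)
  .nil) (nat_lit 0x5e9568) (nat_lit 8371) (nat_lit 0x5e9ab5) .nil)) (nat_lit 0x5e9569) (nat_lit 8439) (nat_lit
  0x5e9ab5) (.node (.node (.node .nil (nat_lit 0x5e9642) (nat_lit 15652) (nat_lit 0x5e9020) .nil) (nat_lit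
  0x5e9643) (nat_lit 13728) (nat_lit 0x52230d) (.node .nil (nat_lit 0x5e97b8) (nat_lit 19266) (nat_lit
  0x5e92f0) .nil)) (nat_lit 0x5e97b9) (nat_lit 4869) (nat_lit 0x5e9ffc) (.node (.node .nil (nat_lit 0x5e9864)
  (nat_lit 15669) (nat_lit 0x5e9020) .nil) (nat_lit 0x5e9865) (nat_lit 15735) (nat_lit 0x5e97b9) .nil)))
  (nat_lit 0x5e999e) (nat_lit 21110) (nat_lit 0x5e92f1) (.node (.node (.node (.node .nil (nat_lit 0x5e999f)
  (nat_lit 4852) (nat_lit 0x5e9ffc) .nil) (nat_lit 0x5e9ab4) (nat_lit 12664) (nat_lit 0x401947) (.node .nil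
  (nat_lit 0x5e9ab5) (nat_lit 1960) (nat_lit 0x4cffbf) .nil)) (nat_lit 0x5e9b4e) (nat_lit 14840) (nat_lit
  0x3df7a9) (.node (.node .nil (nat_lit 0x5e9b4f) (nat_lit 3176) (nat_lit 0x311151) .nil) (nat_lit 0x5e9cd6)
  (nat_lit 8388) (nat_lit 0x5e9ab5) .nil)) (nat_lit 0x5e9cd7) (nat_lit 15718) (nat_lit 0x5e97b9) (.node (.node
  (.node .nil (nat_lit 0x5e9d2c) (nat_lit 19283) (nat_lit 0x5e92f0) .nil) (nat_lit 0x5e9d2d) (nat_lit 11732)
  (nat_lit 0x5e9b4f) .nil) (nat_lit 0x5e9e06) (nat_lit 11698) (nat_lit 0x5e9b4f) (.node (.node .nil (nat_lit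
  0x5e9e07) (nat_lit 19239) (nat_lit 0x5e91da) .nil) (nat_lit 0x5e9ffc) (nat_lit 1160) (nat_lit 0x401054)
  .nil)))) (nat_lit 0x5e9ffd) (nat_lit 14200) (nat_lit 0x4cf6ac) (.node (.node (.node (.node (.node .nil
  (nat_lit 0x5ec010) (nat_lit 23480) (nat_lit 0xffaceb) .nil) (nat_lit 0x5ec011) (nat_lit 18243) (nat_lit
  0x5ec903) (.node .nil (nat_lit 0x5ec0bc) (nat_lit 24512) (nat_lit 0x2323f2) .nil)) (nat_lit 0x5ec0bd)
  (nat_lit 12581) (nat_lit 0x5ec8f9) (.node (.node .nil (nat_lit 0x5ec146) (nat_lit 18277) (nat_lit 0x5ec903)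
  .nil) (nat_lit 0x5ec147) (nat_lit 20288) (nat_lit 0x232967) .nil)) (nat_lit 0x5ec1ea) (nat_lit 15494)
  (nat_lit 0x5ecc4a) (.node (.node (.node .nil (nat_lit 0x5ec1eb) (nat_lit 12547) (nat_lit 0x5ec8f9) .nil)
  (nat_lit 0x5ec40e) (nat_lit 15477) (nat_lit 0x5ecc4a) .nil) (nat_lit 0x5ec40f) (nat_lit 25472) (nat_lit
  0x232209) (.node (.node .nil (nat_lit 0x5ec4a2) (nat_lit 18294) (nat_lit 0x5ec903) .nil) (nat_lit 0x5ec4a3)
  (nat_lit 18311) (nat_lit 0x5ec903) .nil))) (nat_lit 0x5ec558) (nat_lit 12598) (nat_lit 0x5ec8f9) (.node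
  (.node (.node (.node .nil (nat_lit 0x5ec559) (nat_lit 12615) (nat_lit 0x5ec8f9) .nil) (nat_lit 0x5ec5f4)
  (nat_lit 24868) (nat_lit 0x5ec1eb) (.node .nil (nat_lit 0x5ec5f5) (nat_lit 24691) (nat_lit 0x5ecce7) .nil))
  (nat_lit 0x5ec854) (nat_lit 15460) (nat_lit 0x5ecc4a) (.node (.node .nil (nat_lit 0x5ec855) (nat_lit 13800)
  (nat_lit 0x52230d) .nil) (nat_lit 0x5ec8f8) (nat_lit 24056) (nat_lit 0x3df166) .nil)) (nat_lit 0x5ec8f9)
  (nat_lit 3432) (nat_lit 0x31179e) (.node (.node (.node .nil (nat_lit 0x5ec902) (nat_lit 13600) (nat_lit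
  0x23218e) .nil) (nat_lit 0x5ec903) (nat_lit 6104) (nat_lit 0x4cf970) .nil) (nat_lit 0x5ec9ae) (nat_lit
  21952) (nat_lit 0x232122) (.node (.node .nil (nat_lit 0x5ec9af) (nat_lit 24836) (nat_lit 0x5ecdb0) .nil)
  (nat_lit 0x5ecc4a) (nat_lit 4776) (nat_lit 0x40169b) .nil))))))
def t4_6 : T := (.node (.node (.node (.node (.node (.node (.node .nil (nat_lit 0x5ecce6) (nat_lit 12564)
  (nat_lit 0x5ec8f9) .nil) (nat_lit 0x5ecce7) (nat_lit 12360) (nat_lit 0x2fc4f0) (.node .nil (nat_lit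
  0x5ecd1c) (nat_lit 24904) (nat_lit 0x5ecce6) .nil)) (nat_lit 0x5ecd1d) (nat_lit 18260) (nat_lit 0x5ec903)
  (.node (.node .nil (nat_lit 0x5ecdb0) (nat_lit 12530) (nat_lit 0x5ec8f9) .nil) (nat_lit 0x5ecdb1) (nat_lit
  25880) (nat_lit 0x311e8d) .nil)) (nat_lit 0x633020) (nat_lit 7268) (nat_lit 0x633e06) (.node (.node (.node
  .nil (nat_lit 0x633021) (nat_lit 3552) (nat_lit 0x2fcb80) .nil) (nat_lit 0x633176) (nat_lit 17638) (nat_lit
  0x633cd6) (.node .nil (nat_lit 0x633177) (nat_lit 7349) (nat_lit 0x633932) .nil)) (nat_lit 0x6332f0)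
  (nat_lit 7430) (nat_lit 0x633f51) (.node (.node .nil (nat_lit 0x6332f1) (nat_lit 17620) (nat_lit 0x633cd6)
  .nil) (nat_lit 0x6333a6) (nat_lit 9844) (nat_lit 0x633d81) .nil))) (nat_lit 0x6333a7) (nat_lit 7302)
  (nat_lit 0x633e06) (.node (.node (.node (.node .nil (nat_lit 0x633492) (nat_lit 1682) (nat_lit 0x633714)
  .nil) (nat_lit 0x633493) (nat_lit 3264) (nat_lit 0x2fca7a) (.node .nil (nat_lit 0x6335c4) (nat_lit 9861)
  (nat_lit 0x633d81) .nil)) (nat_lit 0x6335c5) (nat_lit 7223) (nat_lit 0x633492) (.node (.node .nil (nat_lit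
  0x633642) (nat_lit 7285) (nat_lit 0x633e06) .nil) (nat_lit 0x633643) (nat_lit 1767) (nat_lit 0x633714)
  .nil)) (nat_lit 0x633714) (nat_lit 424) (nat_lit 0x71547d) (.node (.node (.node .nil (nat_lit 0x633715)
  (nat_lit 11954) (nat_lit 0x633493) .nil) (nat_lit 0x633864) (nat_lit 12192) (nat_lit 0x2fc369) .nil)
  (nat_lit 0x633865) (nat_lit 7367) (nat_lit 0x633932) (.node (.node .nil (nat_lit 0x633932) (nat_lit 1716)
  (nat_lit 0x633714) .nil) (nat_lit 0x633933) (nat_lit 7206) (nat_lit 0x633492) .nil)))) (nat_lit 0x633ab4)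
  (nat_lit 1750) (nat_lit 0x633714) (.node (.node (.node (.node (.node .nil (nat_lit 0x633ab5) (nat_lit 7188)
  (nat_lit 0x633492) .nil) (nat_lit 0x633be2) (nat_lit 12848) (nat_lit 0x2fcec9) (.node .nil (nat_lit
  0x633be3) (nat_lit 7479) (nat_lit 0x633ab4) .nil)) (nat_lit 0x633cd6) (nat_lit 5873) (nat_lit 0x6364a2)
  (.node (.node .nil (nat_lit 0x633cd7) (nat_lit 9879) (nat_lit 0x633d81) .nil) (nat_lit 0x633d80) (nat_lit
  11971) (nat_lit 0x633493) .nil)) (nat_lit 0x633d81) (nat_lit 2376) (nat_lit 0xbfe12e) (.node (.node (.node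
  .nil (nat_lit 0x633e06) (nat_lit 1699) (nat_lit 0x633714) .nil) (nat_lit 0x633e07) (nat_lit 7447) (nat_lit
  0x633f51) .nil) (nat_lit 0x633f50) (nat_lit 7319) (nat_lit 0x633e06) (.node (.node .nil (nat_lit 0x633f51)
  (nat_lit 1733) (nat_lit 0x633714) .nil) (nat_lit 0x636010) (nat_lit 22132) (nat_lit 0x636c4a) .nil)))
  (nat_lit 0x636011) (nat_lit 4817) (nat_lit 0x5e9ffc) (.node (.node (.node (.node .nil (nat_lit 0x6360bc)
  (nat_lit 21045) (nat_lit 0x6368f8) .nil) (nat_lit 0x6360bd) (nat_lit 11432) (nat_lit 0x636724) (.node .nil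
  (nat_lit 0x63633a) (nat_lit 17669) (nat_lit 0x636b7f) .nil)) (nat_lit 0x63633b) (nat_lit 15639) (nat_lit
  0x636011) (.node (.node .nil (nat_lit 0x636396) (nat_lit 15761) (nat_lit 0x5e9021) .nil) (nat_lit 0x636397)
  (nat_lit 15586) (nat_lit 0x636011) .nil)) (nat_lit 0x63640e) (nat_lit 6232) (nat_lit 0x126621) (.node (.node
  (.node .nil (nat_lit 0x63640f) (nat_lit 11415) (nat_lit 0x636724) .nil) (nat_lit 0x6364a2) (nat_lit 1416)
  (nat_lit 0x7152b2) .nil) (nat_lit 0x6364a3) (nat_lit 15440) (nat_lit 0x5ecc4a) (.node (.node .nil (nat_lit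
  0x636724) (nat_lit 3032) (nat_lit 832122) .nil) (nat_lit 0x636725) (nat_lit 17652) (nat_lit 0x636b7f)
  .nil))))) (nat_lit 0x636788) (nat_lit 17734) (nat_lit 0x636ce6) (.node (.node (.node (.node (.node (.node
  .nil (nat_lit 0x636789) (nat_lit 5959) (nat_lit 0x6364a2) .nil) (nat_lit 0x636854) (nat_lit 17687) (nat_lit
  0x636b7f) (.node .nil (nat_lit 0x636855) (nat_lit 15621) (nat_lit 0x636011) .nil)) (nat_lit 0x6368f8)
  (nat_lit 8353) (nat_lit 0x5e9ab5) (.node (.node .nil (nat_lit 0x6368f9) (nat_lit 5908) (nat_lit 0x6364a2)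
  .nil) (nat_lit 0x636b7e) (nat_lit 10872) (nat_lit 0xb3080a) .nil)) (nat_lit 0x636b7f) (nat_lit 5891)
  (nat_lit 0x6364a2) (.node (.node (.node .nil (nat_lit 0x636bd2) (nat_lit 12512) (nat_lit 0x5ec8f9) .nil)
  (nat_lit 0x636bd3) (nat_lit 21063) (nat_lit 0x6368f8) (.node .nil (nat_lit 0x636c4a) (nat_lit 9656) (nat_lit
  0xb30f3f) .nil)) (nat_lit 0x636c4b) (nat_lit 15604) (nat_lit 0x636011) (.node (.node .nil (nat_lit 0x636ce6)
  (nat_lit 5925) (nat_lit 0x6364a2) .nil) (nat_lit 0x636ce7) (nat_lit 17767) (nat_lit 0x636fcd) .nil)))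
  (nat_lit 0x636f60) (nat_lit 11681) (nat_lit 0x5e9b4f) (.node (.node (.node (.node .nil (nat_lit 0x636f61)
  (nat_lit 11397) (nat_lit 0x636724) .nil) (nat_lit 0x636fcc) (nat_lit 15681) (nat_lit 0x5e999f) (.node .nil
  (nat_lit 0x636fcd) (nat_lit 5942) (nat_lit 0x6364a2) .nil)) (nat_lit 0x6f808a) (nat_lit 18320) (nat_lit
  0x1edd49) (.node (.node .nil (nat_lit 0x6f81dc) (nat_lit 20904) (nat_lit 0xdc83ee) .nil) (nat_lit 0x6f82f7)
  (nat_lit 21351) (nat_lit 0x6f8e00) .nil)) (nat_lit 0x6f83a0) (nat_lit 17368) (nat_lit 0xdc8dc8) (.node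
  (.node (.node .nil (nat_lit 0x6f8495) (nat_lit 13393) (nat_lit 0x1ede62) .nil) (nat_lit 0x6f85c3) (nat_lit
  21392) (nat_lit 0x1ed626) .nil) (nat_lit 0x6f86e9) (nat_lit 8328) (nat_lit 0xd06223) (.node (.node .nil
  (nat_lit 0x6f87be) (nat_lit 8689) (nat_lit 0x1ed36f) .nil) (nat_lit 0x6f8863) (nat_lit 20997) (nat_lit
  0x6f86e9) .nil)))) (nat_lit 0x6f8935) (nat_lit 20979) (nat_lit 0x6f86e9) (.node (.node (.node (.node (.node
  .nil (nat_lit 0x6f8a1f) (nat_lit 13112) (nat_lit 847040) .nil) (nat_lit 0x6f8b48) (nat_lit 21014) (nat_lit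
  0x6f86e9) (.node .nil (nat_lit 0x6f8c7d) (nat_lit 21441) (nat_lit 0x1edb2a) .nil)) (nat_lit 0x6f8d2b)
  (nat_lit 13376) (nat_lit 0x1ede62) (.node (.node .nil (nat_lit 0x6f8e00) (nat_lit 8672) (nat_lit 0x1ed36f)
  .nil) (nat_lit 0x6f8f57) (nat_lit 13464) (nat_lit 845267) .nil)) (nat_lit 0x6fd016) (nat_lit 20280) (nat_lit
  0xdc8b07) (.node (.node (.node .nil (nat_lit 0x6fd017) (nat_lit 22536) (nat_lit 0xd06dff) .nil) (nat_lit
  0x6fd0ba) (nat_lit 19797) (nat_lit 0x6fde30) .nil) (nat_lit 0x6fd0bb) (nat_lit 19831) (nat_lit 0x6fde30)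
  (.node (.node .nil (nat_lit 0x6fd26a) (nat_lit 25296) (nat_lit 0x6fdce1) .nil) (nat_lit 0x6fd26b) (nat_lit
  18696) (nat_lit 0xd063d9) .nil))) (nat_lit 0x6fd2c6) (nat_lit 25540) (nat_lit 0x6fd5f3) (.node (.node (.node
  (.node .nil (nat_lit 0x6fd2c7) (nat_lit 17240) (nat_lit 0xb3574a) .nil) (nat_lit 0x6fd55e) (nat_lit 19814)
  (nat_lit 0x6fde30) (.node .nil (nat_lit 0x6fd55f) (nat_lit 25489) (nat_lit 0x232bb7) .nil)) (nat_lit
  0x6fd5f2) (nat_lit 24545) (nat_lit 0x232966) (.node (.node .nil (nat_lit 0x6fd5f3) (nat_lit 13848) (nat_lit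
  0xb3507f) .nil) (nat_lit 0x6fd722) (nat_lit 13617) (nat_lit 0x23218e) .nil)) (nat_lit 0x6fd723) (nat_lit
  20968) (nat_lit 0xd06aca) (.node (.node (.node .nil (nat_lit 0x6fd78e) (nat_lit 10408) (nat_lit 0xbfb8a1)
  .nil) (nat_lit 0x6fd78f) (nat_lit 25440) (nat_lit 0x6fd722) .nil) (nat_lit 0x6fd904) (nat_lit 19780)
  (nat_lit 0x6fde30) (.node (.node .nil (nat_lit 0x6fd905) (nat_lit 22613) (nat_lit 0x6fd78e) .nil) (nat_lit
  0x6fd9a8) (nat_lit 25408) (nat_lit 0x6fd9a9) .nil))))))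
def t4_7 : T := (.node (.node (.node (.node (.node (.node (.node .nil (nat_lit 0x6fdb78) (nat_lit 19640)
  (nat_lit 0x633642) .nil) (nat_lit 0x6fdb79) (nat_lit 19760) (nat_lit 0x6fde30) (.node .nil (nat_lit
  0x6fdbd4) (nat_lit 25316) (nat_lit 0x6fdce1) .nil)) (nat_lit 0x6fdbd5) (nat_lit 25505) (nat_lit 0x232ae1)
  (.node (.node .nil (nat_lit 0x6fdc4c) (nat_lit 19656) (nat_lit 0x633177) .nil) (nat_lit 0x6fdc4d) (nat_lit
  25462) (nat_lit 0x6fd722) .nil)) (nat_lit 0x6fdce0) (nat_lit 26528) (nat_lit 0x6fd2c7) (.node (.node (.node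
  .nil (nat_lit 0x6fdce1) (nat_lit 13368) (nat_lit 844572) .nil) (nat_lit 0x6fde30) (nat_lit 7464) (nat_lit
  0x633f51) (.node .nil (nat_lit 0x6fde31) (nat_lit 25432) (nat_lit 0x6fd9a9) .nil)) (nat_lit 0x6fde9c)
  (nat_lit 24529) (nat_lit 0x2323f2) (.node (.node .nil (nat_lit 0x6fde9d) (nat_lit 15272) (nat_lit 847162)
  .nil) (nat_lit 0x7100ff) (nat_lit 14005) (nat_lit 0x710631) .nil))) (nat_lit 0x710105) (nat_lit 13988)
  (nat_lit 0x710631) (.node (.node (.node (.node .nil (nat_lit 0x710282) (nat_lit 4584) (nat_lit 843830) .nil)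
  (nat_lit 0x710283) (nat_lit 15155) (nat_lit 0x710282) (.node .nil (nat_lit 0x710378) (nat_lit 14129)
  (nat_lit 0x311732) .nil)) (nat_lit 0x710379) (nat_lit 24372) (nat_lit 0x71044d) (.node (.node .nil (nat_lit
  0x71044c) (nat_lit 15189) (nat_lit 0x710282) .nil) (nat_lit 0x71044d) (nat_lit 11809) (nat_lit 0x311419)
  .nil)) (nat_lit 0x7105b6) (nat_lit 24391) (nat_lit 0x71044d) (.node (.node (.node .nil (nat_lit 0x7105b7)
  (nat_lit 15172) (nat_lit 0x710282) .nil) (nat_lit 0x710631) (nat_lit 4104) (nat_lit 0x7de133) .nil) (nat_lit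
  0x7107ca) (nat_lit 14023) (nat_lit 0x710631) (.node (.node .nil (nat_lit 0x710816) (nat_lit 23536) (nat_lit
  0x7db69b) .nil) (nat_lit 0x710817) (nat_lit 25889) (nat_lit 0x311da7) .nil)))) (nat_lit 0x7109ec) (nat_lit
  20248) (nat_lit 0xb35d73) (.node (.node (.node (.node (.node .nil (nat_lit 0x7109ed) (nat_lit 25845)
  (nat_lit 0x710f22) .nil) (nat_lit 0x710a6a) (nat_lit 3109) (nat_lit 0x710ca4) (.node .nil (nat_lit 0x710a6b)
  (nat_lit 3233) (nat_lit 0x31179f) .nil)) (nat_lit 0x710b90) (nat_lit 3201) (nat_lit 0x31127a) (.node (.node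
  .nil (nat_lit 0x710b91) (nat_lit 3092) (nat_lit 0x710ca4) .nil) (nat_lit 0x710ca4) (nat_lit 689) (nat_lit
  0x311150) .nil)) (nat_lit 0x710ca5) (nat_lit 3074) (nat_lit 0x710ca4) (.node (.node (.node .nil (nat_lit
  0x710d5e) (nat_lit 3127) (nat_lit 0x710ca4) .nil) (nat_lit 0x710d5f) (nat_lit 11575) (nat_lit 0x710ca5)
  .nil) (nat_lit 0x710ed8) (nat_lit 22072) (nat_lit 0xb35a46) (.node (.node .nil (nat_lit 0x710ed9) (nat_lit
  16328) (nat_lit 0xbfbcbe) .nil) (nat_lit 0x710f22) (nat_lit 14049) (nat_lit 0x311e8c) .nil))) (nat_lit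
  0x710f23) (nat_lit 16984) (nat_lit 0xc25250) (.node (.node (.node (.node .nil (nat_lit 0x715062) (nat_lit
  8920) (nat_lit 0x123c84) .nil) (nat_lit 0x715063) (nat_lit 13319) (nat_lit 0x7153e5) (.node .nil (nat_lit
  0x7150ce) (nat_lit 25668) (nat_lit 0x715587) .nil)) (nat_lit 0x715134) (nat_lit 341) (nat_lit 0x7157fb)
  (.node (.node .nil (nat_lit 0x715135) (nat_lit 24) (nat_lit 1) .nil) (nat_lit 0x715198) (nat_lit 15105)
  (nat_lit 847851) .nil)) (nat_lit 0x715199) (nat_lit 7240) (nat_lit 0x633492) (.node (.node (.node .nil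
  (nat_lit 0x71521e) (nat_lit 15409) (nat_lit 843831) .nil) (nat_lit 0x71521f) (nat_lit 4497) (nat_lit 843830)
  .nil) (nat_lit 0x7152b2) (nat_lit 324) (nat_lit 0x7157fb) (.node (.node .nil (nat_lit 0x7152b3) (nat_lit
  119) (nat_lit 0x715135) .nil) (nat_lit 0x715348) (nat_lit 25651) (nat_lit 0x715587) .nil))))) (nat_lit
  0x7153e4) (nat_lit 9043) (nat_lit 0x71552a) (.node (.node (.node (.node (.node (.node .nil (nat_lit
  0x7153e5) (nat_lit 3729) (nat_lit 845266) .nil) (nat_lit 0x71547c) (nat_lit 359) (nat_lit 0x7157fb) (.node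
  .nil (nat_lit 0x71547d) (nat_lit 84) (nat_lit 0x715135) .nil)) (nat_lit 0x7154d0) (nat_lit 15030) (nat_lit
  0x71521f) (.node (.node .nil (nat_lit 0x7154d1) (nat_lit 9896) (nat_lit 0x633d81) .nil) (nat_lit 0x71552a)
  (nat_lit 2104) (nat_lit 0x123597) .nil)) (nat_lit 0x71552b) (nat_lit 8792) (nat_lit 0x1ed36f) (.node (.node
  (.node .nil (nat_lit 0x715587) (nat_lit 13944) (nat_lit 0x7de7fc) .nil) (nat_lit 0x715600) (nat_lit 25687)
  (nat_lit 0x715587) (.node .nil (nat_lit 0x7156ac) (nat_lit 13300) (nat_lit 0x7153e5) .nil)) (nat_lit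
  0x7156ad) (nat_lit 9063) (nat_lit 0x71552a) (.node (.node .nil (nat_lit 0x715756) (nat_lit 19619) (nat_lit
  0x715199) .nil) (nat_lit 0x715757) (nat_lit 15012) (nat_lit 0x71521f) .nil))) (nat_lit 0x7157fa) (nat_lit
  101) (nat_lit 0x715135) (.node (.node (.node (.node .nil (nat_lit 0x7157fb) (nat_lit 67) (nat_lit 0x715135)
  .nil) (nat_lit 0x7db054) (nat_lit 22840) (nat_lit 0xbfe4cb) (.node .nil (nat_lit 0x7db055) (nat_lit 24129)
  (nat_lit 0x4ca766) .nil)) (nat_lit 0x7db1ae) (nat_lit 17200) (nat_lit 0x4ca283) (.node (.node .nil (nat_lit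
  0x7db1af) (nat_lit 22440) (nat_lit 0xceecdd) .nil) (nat_lit 0x7db285) (nat_lit 26192) (nat_lit 0x4caf8e)
  .nil)) (nat_lit 0x7db37e) (nat_lit 23616) (nat_lit 0x4ca51b) (.node (.node (.node .nil (nat_lit 0x7db37f)
  (nat_lit 16257) (nat_lit 0x4caa6a) .nil) (nat_lit 0x7db44a) (nat_lit 26488) (nat_lit 0xa137a5) .nil)
  (nat_lit 0x7db5b0) (nat_lit 25569) (nat_lit 0x4caca5) (.node (.node .nil (nat_lit 0x7db5b1) (nat_lit 22152)
  (nat_lit 0xd03fb3) .nil) (nat_lit 0x7db69a) (nat_lit 23574) (nat_lit 0x7db69b) .nil)))) (nat_lit 0x7db69b)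
  (nat_lit 11144) (nat_lit 0xceebe8) (.node (.node (.node (.node (.node .nil (nat_lit 0x7db760) (nat_lit
  26512) (nat_lit 0x4ca44d) .nil) (nat_lit 0x7db761) (nat_lit 24080) (nat_lit 0x4ca44c) (.node .nil (nat_lit
  0x7db810) (nat_lit 24680) (nat_lit 0x1e8dd5) .nil)) (nat_lit 0x7db9ea) (nat_lit 23633) (nat_lit 0x4ca51b)
  (.node (.node .nil (nat_lit 0x7db9eb) (nat_lit 16240) (nat_lit 0x4caa6a) .nil) (nat_lit 0x7dbac0) (nat_lit
  23556) (nat_lit 0x7db69b) .nil)) (nat_lit 0x7dbac1) (nat_lit 23591) (nat_lit 0x7db69b) (.node (.node (.node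
  .nil (nat_lit 0x7dbb3a) (nat_lit 25624) (nat_lit 22926) .nil) (nat_lit 0x7dbb3b) (nat_lit 26224) (nat_lit
  0x4cadf2) .nil) (nat_lit 0x7dbc0e) (nat_lit 17528) (nat_lit 24251) (.node (.node .nil (nat_lit 0x7dbc0f)
  (nat_lit 15329) (nat_lit 0x4caed8) .nil) (nat_lit 0x7dbdf4) (nat_lit 27141) (nat_lit 0x7dbdf5) .nil)))
  (nat_lit 0x7dbdf5) (nat_lit 21656) (nat_lit 0x7156ad) (.node (.node (.node (.node .nil (nat_lit 0x7dbede)
  (nat_lit 18488) (nat_lit 0x63640e) .nil) (nat_lit 0x7dbf24) (nat_lit 22040) (nat_lit 0x1e8ae0) (.node .nil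
  (nat_lit 0x7dbf25) (nat_lit 26096) (nat_lit 0x4caca4) .nil)) (nat_lit 0x7de064) (nat_lit 10216) (nat_lit
  0xc202cc) (.node (.node .nil (nat_lit 0x7de065) (nat_lit 22467) (nat_lit 0x7de064) .nil) (nat_lit 0x7de0c9)
  (nat_lit 25633) (nat_lit 0x715587) .nil)) (nat_lit 0x7de132) (nat_lit 4069) (nat_lit 0x7de133) (.node (.node
  (.node .nil (nat_lit 0x7de133) (nat_lit 944) (nat_lit 0x3da41e) .nil) (nat_lit 0x7de19e) (nat_lit 292)
  (nat_lit 0x7defb9) .nil) (nat_lit 0x7de19f) (nat_lit 497) (nat_lit 0x7152b3) (.node (.node .nil (nat_lit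
  0x7de606) (nat_lit 27064) (nat_lit 0xdcdf84) .nil) (nat_lit 0x7de6aa) (nat_lit 14496) (nat_lit 0x3da8e9)
  .nil))))))
def t4_8 : T := (.node (.node (.node (.node (.node (.node (.node .nil (nat_lit 0x7de750) (nat_lit 1457)
  (nat_lit 0x71547c) .nil) (nat_lit 0x7de751) (nat_lit 401) (nat_lit 0x71547d) (.node .nil (nat_lit 0x7de7fc)
  (nat_lit 4034) (nat_lit 0x7de133) .nil)) (nat_lit 0x7de7fd) (nat_lit 4224) (nat_lit 0x3da2d0) (.node (.node
  .nil (nat_lit 0x7de820) (nat_lit 24824) (nat_lit 0x636bd2) .nil) (nat_lit 0x7de88c) (nat_lit 24964) (nat_lit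
  0x7de6ab) .nil)) (nat_lit 0x7de88d) (nat_lit 14993) (nat_lit 0x71521f) (.node (.node (.node .nil (nat_lit
  0x7de976) (nat_lit 449) (nat_lit 0x7157fa) .nil) (nat_lit 0x7de977) (nat_lit 258) (nat_lit 0x7defb9) (.node
  .nil (nat_lit 0x7de9da) (nat_lit 9025) (nat_lit 0x71552a) .nil)) (nat_lit 0x7de9db) (nat_lit 4272) (nat_lit
  0x3dac5a) (.node (.node .nil (nat_lit 0x7dee42) (nat_lit 22484) (nat_lit 0x7de064) .nil) (nat_lit 0x7dee43)
  (nat_lit 21576) (nat_lit 0x715062) .nil))) (nat_lit 0x7deeee) (nat_lit 26712) (nat_lit 0x1e8209) (.node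
  (.node (.node (.node .nil (nat_lit 0x7def14) (nat_lit 4087) (nat_lit 0x7de133) .nil) (nat_lit 0x7def15)
  (nat_lit 4052) (nat_lit 0x7de133) (.node .nil (nat_lit 0x7defb8) (nat_lit 275) (nat_lit 0x7defb9) .nil))
  (nat_lit 0x7defb9) (nat_lit 49) (nat_lit 0x715135) (.node (.node .nil (nat_lit 0x821049) (nat_lit 13063)
  (nat_lit 0xd06f2e) .nil) (nat_lit 0x8210e5) (nat_lit 20834) (nat_lit 0xf3402b) .nil)) (nat_lit 0x82111f)
  (nat_lit 2737) (nat_lit 0x8ea62d) (.node (.node (.node .nil (nat_lit 0x8211b3) (nat_lit 11251) (nat_lit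
  0x8effa3) .nil) (nat_lit 0x821234) (nat_lit 24912) (nat_lit 0xc25f5d) .nil) (nat_lit 0x821298) (nat_lit
  9509) (nat_lit 0xbfb298) (.node (.node .nil (nat_lit 0x821362) (nat_lit 26631) (nat_lit 0xd06c05) .nil)
  (nat_lit 0x8213ce) (nat_lit 23185) (nat_lit 0x8eaec4) .nil)))) (nat_lit 0x8214fa) (nat_lit 16888) (nat_lit
  0xdcd0f5) (.node (.node (.node (.node (.node .nil (nat_lit 0x821500) (nat_lit 2832) (nat_lit 0xc25307) .nil)
  (nat_lit 0x8215ac) (nat_lit 7731) (nat_lit 0x8efbbc) (.node .nil (nat_lit 0x82162b) (nat_lit 19104) (nat_lit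
  0xc25e0a) .nil)) (nat_lit 0x821687) (nat_lit 20369) (nat_lit 0x8ea7d7) (.node (.node .nil (nat_lit 0x82177d)
  (nat_lit 5153) (nat_lit 0x8ea233) .nil) (nat_lit 0x8218a1) (nat_lit 5094) (nat_lit 0x8ea04f) .nil)) (nat_lit
  0x8219f7) (nat_lit 26032) (nat_lit 0xc25a14) (.node (.node (.node .nil (nat_lit 0x821adc) (nat_lit 5238)
  (nat_lit 0x8ea233) .nil) (nat_lit 0x821b26) (nat_lit 17826) (nat_lit 0xf34be9) (.node .nil (nat_lit
  0x821b8a) (nat_lit 16336) (nat_lit 0xc25d21) .nil)) (nat_lit 0x821c12) (nat_lit 17974) (nat_lit 0x8ea4fd)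
  (.node (.node .nil (nat_lit 0x821cbe) (nat_lit 5680) (nat_lit 0xc2517b) .nil) (nat_lit 0x821d44) (nat_lit
  8006) (nat_lit 0x8ea5ab) .nil))) (nat_lit 0x821de8) (nat_lit 4979) (nat_lit 0x8ef3f9) (.node (.node (.node
  (.node .nil (nat_lit 0x821ec3) (nat_lit 136) (nat_lit 0x715135) .nil) (nat_lit 0x821f39) (nat_lit 6002)
  (nat_lit 0xf34ff6) (.node .nil (nat_lit 0x821f95) (nat_lit 5409) (nat_lit 0x8ea77b) .nil)) (nat_lit
  0x824078) (nat_lit 25013) (nat_lit 0xbfe078) (.node (.node .nil (nat_lit 0x8240d5) (nat_lit 20568) (nat_lit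
  0xb30364) .nil) (nat_lit 0x82412f) (nat_lit 2325) (nat_lit 0xbfe12e) .nil)) (nat_lit 0x824182) (nat_lit
  11302) (nat_lit 0x8effa3) (.node (.node (.node .nil (nat_lit 0x824205) (nat_lit 23920) (nat_lit 0xb3596c)
  .nil) (nat_lit 0x8242a8) (nat_lit 9394) (nat_lit 0xf31266) .nil) (nat_lit 0x824352) (nat_lit 26257) (nat_lit
  0xb35c25) (.node (.node .nil (nat_lit 0x8243ff) (nat_lit 24647) (nat_lit 0xd03ee4) .nil) (nat_lit 0x8244cb)
  (nat_lit 17553) (nat_lit 0xb35dde) .nil))))) (nat_lit 0x824531) (nat_lit 16048) (nat_lit 0xb35536) (.node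
  (.node (.node (.node (.node (.node .nil (nat_lit 0x82459c) (nat_lit 7782) (nat_lit 0x8efbbc) .nil) (nat_lit
  0x82461b) (nat_lit 16065) (nat_lit 0xb35536) (.node .nil (nat_lit 0x8246b6) (nat_lit 12487) (nat_lit
  0xd03bac) .nil)) (nat_lit 0x82474c) (nat_lit 13560) (nat_lit 0xdcd63a) (.node (.node .nil (nat_lit 0x824891)
  (nat_lit 5059) (nat_lit 0x8ea04f) .nil) (nat_lit 0x8249c6) (nat_lit 22324) (nat_lit 0x9c9d9d) .nil))
  (nat_lit 0x824aec) (nat_lit 5187) (nat_lit 0x8ea233) (.node (.node (.node .nil (nat_lit 0x824b16) (nat_lit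
  21876) (nat_lit 0x9c9f4c) .nil) (nat_lit 0x824bbb) (nat_lit 18647) (nat_lit 0xd036a1) (.node .nil (nat_lit
  0x824c22) (nat_lit 17704) (nat_lit 0x636b7f) .nil)) (nat_lit 0x824c8f) (nat_lit 1506) (nat_lit 0xf31c40)
  (.node (.node .nil (nat_lit 0x824d75) (nat_lit 472) (nat_lit 0x7157fa) .nil) (nat_lit 0x824dd8) (nat_lit
  5014) (nat_lit 0x8ef3f9) .nil))) (nat_lit 0x824ef2) (nat_lit 2534) (nat_lit 0x8ef0d2) (.node (.node (.node
  (.node .nil (nat_lit 0x824f08) (nat_lit 20387) (nat_lit 0x8ea7d7) .nil) (nat_lit 0x824fa5) (nat_lit 5427)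
  (nat_lit 0x8ea77b) (.node .nil (nat_lit 0x8ea04f) (nat_lit 1224) (nat_lit 0x7defb8) .nil)) (nat_lit
  0x8ea119) (nat_lit 19608) (nat_lit 0x6335c5) (.node (.node .nil (nat_lit 0x8ea233) (nat_lit 1272) (nat_lit
  0x7de19e) .nil) (nat_lit 0x8ea365) (nat_lit 19848) (nat_lit 0x633be3) .nil)) (nat_lit 0x8ea3c9) (nat_lit
  26806) (nat_lit 0x821b26) (.node (.node (.node .nil (nat_lit 0x8ea451) (nat_lit 5298) (nat_lit 0xfff250)
  .nil) (nat_lit 0x8ea4fd) (nat_lit 5984) (nat_lit 0xf34ff6) .nil) (nat_lit 0x8ea507) (nat_lit 8498) (nat_lit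
  0xfff306) (.node (.node .nil (nat_lit 0x8ea5ab) (nat_lit 1859) (nat_lit 0x824d75) .nil) (nat_lit 0x8ea62d)
  (nat_lit 630) (nat_lit 0x821ec3) .nil)))) (nat_lit 0x8ea77b) (nat_lit 1298) (nat_lit 0xfff17a) (.node (.node
  (.node (.node (.node .nil (nat_lit 0x8ea7d7) (nat_lit 7841) (nat_lit 0xf31dba) .nil) (nat_lit 0x8ea80a)
  (nat_lit 20616) (nat_lit 0xd0605e) (.node .nil (nat_lit 0x8ea8a6) (nat_lit 25175) (nat_lit 0xdcda61) .nil))
  (nat_lit 0x8ea95c) (nat_lit 23862) (nat_lit 0x8211b3) (.node (.node .nil (nat_lit 0x8ea9f0) (nat_lit 9605)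
  (nat_lit 0xb30f3f) .nil) (nat_lit 0x8eaa76) (nat_lit 10296) (nat_lit 0xd06e78) .nil)) (nat_lit 0x8eaada)
  (nat_lit 14629) (nat_lit 0xb30c14) (.node (.node (.node .nil (nat_lit 0x8eab20) (nat_lit 17792) (nat_lit
  0xf34be9) .nil) (nat_lit 0x8eab8c) (nat_lit 26503) (nat_lit 0xdcd94b) .nil) (nat_lit 0x8eac14) (nat_lit
  26289) (nat_lit 0xf315ff) (.node (.node .nil (nat_lit 0x8ead42) (nat_lit 20166) (nat_lit 0x8215ac) .nil)
  (nat_lit 0x8eadee) (nat_lit 10710) (nat_lit 0x821500) .nil))) (nat_lit 0x8eae68) (nat_lit 22983) (nat_lit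
  0xdcdcae) (.node (.node (.node (.node .nil (nat_lit 0x8eaec4) (nat_lit 10837) (nat_lit 0xb3080a) .nil)
  (nat_lit 0x8eaf92) (nat_lit 16501) (nat_lit 0xb3095d) (.node .nil (nat_lit 0x8ef0d2) (nat_lit 579) (nat_lit
  0x821ec3) .nil)) (nat_lit 0x8ef128) (nat_lit 9000) (nat_lit 0x12353a) (.node (.node .nil (nat_lit 0x8ef185)
  (nat_lit 1640) (nat_lit 0x7de751) .nil) (nat_lit 0x8ef203) (nat_lit 21588) (nat_lit 0x902d37) .nil))
  (nat_lit 0x8ef2ae) (nat_lit 6406) (nat_lit 0x824c8f) (.node (.node (.node .nil (nat_lit 0x8ef354) (nat_lit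
  1910) (nat_lit 0x824d75) .nil) (nat_lit 0x8ef3f9) (nat_lit 1192) (nat_lit 0x7de977) .nil) (nat_lit 0x8ef4cd)
  (nat_lit 7650) (nat_lit 0xffa2cc) (.node (.node .nil (nat_lit 0x8ef537) (nat_lit 24504) (nat_lit 172) .nil)
  (nat_lit 0x8ef59a) (nat_lit 24324) (nat_lit 0x902aaf) .nil))))))
def t4_9 : T := (.node (.node (.node (.node (.node (.node (.node .nil (nat_lit 0x8ef7e6) (nat_lit 25336)
  (nat_lit 0x6fdce1) .nil) (nat_lit 0x8ef83a) (nat_lit 11105) (nat_lit 0xceebe8) (.node .nil (nat_lit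
  0x8ef897) (nat_lit 18161) (nat_lit 0xcee939) .nil)) (nat_lit 0x8ef96d) (nat_lit 16579) (nat_lit 0x82177d)
  (.node (.node .nil (nat_lit 0x8efaeb) (nat_lit 23249) (nat_lit 0xcee301) .nil) (nat_lit 0x8efb11) (nat_lit
  10659) (nat_lit 0x821500) .nil)) (nat_lit 0x8efbbc) (nat_lit 1824) (nat_lit 0x824d75) (.node (.node (.node
  .nil (nat_lit 0x8efc25) (nat_lit 23025) (nat_lit 0xcee5cf) .nil) (nat_lit 0x8efc88) (nat_lit 2824) (nat_lit
  0xd061a4) (.node .nil (nat_lit 0x8efd72) (nat_lit 17351) (nat_lit 0xdc8dc8) .nil)) (nat_lit 0x8efddf)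
  (nat_lit 16440) (nat_lit 0xc25d21) (.node (.node .nil (nat_lit 0x8efe59) (nat_lit 23320) (nat_lit 0xbfbde9)
  .nil) (nat_lit 0x8efef4) (nat_lit 26320) (nat_lit 0x82461b) .nil))) (nat_lit 0x8eff0e) (nat_lit 6336)
  (nat_lit 0x824c8f) (.node (.node (.node (.node .nil (nat_lit 0x8effa3) (nat_lit 2952) (nat_lit 0xc25307)
  .nil) (nat_lit 0x90203a) (nat_lit 2728) (nat_lit 0xbfbec3) (.node .nil (nat_lit 0x902096) (nat_lit 11268)
  (nat_lit 0x8effa3) .nil)) (nat_lit 0x90216d) (nat_lit 21304) (nat_lit 0xad8246) (.node (.node .nil (nat_lit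
  0x9021c1) (nat_lit 19191) (nat_lit 0xc25e0a) .nil) (nat_lit 0x902246) (nat_lit 21909) (nat_lit 0xad8ccc)
  .nil)) (nat_lit 0x9022ea) (nat_lit 16423) (nat_lit 0xc25d21) (.node (.node (.node .nil (nat_lit 0x902311)
  (nat_lit 16181) (nat_lit 0xad8d9a) .nil) (nat_lit 0x9023bd) (nat_lit 10328) (nat_lit 0xceb8f3) .nil)
  (nat_lit 0x902425) (nat_lit 11152) (nat_lit 0x902ccc) (.node (.node .nil (nat_lit 0x902489) (nat_lit 7748)
  (nat_lit 0x8efbbc) .nil) (nat_lit 0x9025de) (nat_lit 11096) (nat_lit 0xdc8343) .nil)))) (nat_lit 0x902659)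
  (nat_lit 16865) (nat_lit 0xdcd0f5) (.node (.node (.node (.node (.node .nil (nat_lit 0x90270e) (nat_lit
  23111) (nat_lit 0xc258c4) .nil) (nat_lit 0x9027a2) (nat_lit 24215) (nat_lit 0xc25868) (.node .nil (nat_lit
  0x9028d3) (nat_lit 22342) (nat_lit 0x9c9d9d) .nil)) (nat_lit 0x902984) (nat_lit 2215) (nat_lit 0xc2564e)
  (.node (.node .nil (nat_lit 0x902a03) (nat_lit 21480) (nat_lit 0x123f03) .nil) (nat_lit 0x902aaf) (nat_lit
  11784) (nat_lit 0x710b90) .nil)) (nat_lit 0x902bf8) (nat_lit 19682) (nat_lit 0xe178b1) (.node (.node (.node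
  .nil (nat_lit 0x902c60) (nat_lit 8102) (nat_lit 0x9c992f) .nil) (nat_lit 0x902ccc) (nat_lit 2935) (nat_lit
  0xc25307) .nil) (nat_lit 0x902d37) (nat_lit 8968) (nat_lit 0x123836) (.node (.node .nil (nat_lit 0x902d9b)
  (nat_lit 11592) (nat_lit 0x710ca5) .nil) (nat_lit 0x902e1c) (nat_lit 20593) (nat_lit 0xdcd76c) .nil)))
  (nat_lit 0x902eb0) (nat_lit 5719) (nat_lit 0xc2517b) (.node (.node (.node (.node .nil (nat_lit 0x902fe7)
  (nat_lit 2500) (nat_lit 0x8ef0d2) .nil) (nat_lit 0x90700a) (nat_lit 20359) (nat_lit 0xc20dbd) (.node .nil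
  (nat_lit 0x9070a7) (nat_lit 21248) (nat_lit 0xe12b06) .nil)) (nat_lit 0x90715c) (nat_lit 26721) (nat_lit
  0xe123ef) (.node (.node .nil (nat_lit 0x9072db) (nat_lit 26309) (nat_lit 0xaddc51) .nil) (nat_lit 0x907320)
  (nat_lit 14439) (nat_lit 0xc20e97) .nil)) (nat_lit 0x90738d) (nat_lit 21265) (nat_lit 0xe12b06) (.node
  (.node (.node .nil (nat_lit 0x907414) (nat_lit 21702) (nat_lit 0x9cc794) .nil) (nat_lit 0x9074b9) (nat_lit
  6327) (nat_lit 0xc2090f) .nil) (nat_lit 0x907542) (nat_lit 26791) (nat_lit 0xc208f4) (.node (.node .nil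
  (nat_lit 0x9075ef) (nat_lit 24417) (nat_lit 0xe12f18) .nil) (nat_lit 0x907668) (nat_lit 25272) (nat_lit
  0xdc858c) .nil))))) (nat_lit 0x9076c5) (nat_lit 26565) (nat_lit 0xadd84f) (.node (.node (.node (.node (.node
  (.node .nil (nat_lit 0x90773e) (nat_lit 22088) (nat_lit 0xc25ff1) .nil) (nat_lit 0x907793) (nat_lit 16232)
  (nat_lit 0xad8d9a) (.node .nil (nat_lit 0x90784f) (nat_lit 21188) (nat_lit 0x8ea507) .nil)) (nat_lit
  0x9078e2) (nat_lit 7972) (nat_lit 0x8ea5ab) (.node (.node .nil (nat_lit 0x907919) (nat_lit 5600) (nat_lit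
  0xe1297a) .nil) (nat_lit 0x9079b4) (nat_lit 17940) (nat_lit 0x8ea4fd) .nil)) (nat_lit 0x907a33) (nat_lit
  5444) (nat_lit 0x8ea77b) (.node (.node (.node .nil (nat_lit 0x907a9e) (nat_lit 18759) (nat_lit 0xc20728)
  .nil) (nat_lit 0x907b65) (nat_lit 2630) (nat_lit 0x9cc8e4) (.node .nil (nat_lit 0x907c51) (nat_lit 22307)
  (nat_lit 0x9c9d9d) .nil)) (nat_lit 0x907d07) (nat_lit 5076) (nat_lit 0x8ea04f) (.node (.node .nil (nat_lit
  0x907e2d) (nat_lit 11640) (nat_lit 0x710a6a) .nil) (nat_lit 0x907e80) (nat_lit 21464) (nat_lit 0x1ed801)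
  .nil))) (nat_lit 0x907f7b) (nat_lit 5204) (nat_lit 0x8ea233) (.node (.node (.node (.node .nil (nat_lit
  0x9c9090) (nat_lit 23526) (nat_lit 0x9025de) .nil) (nat_lit 0x9c916b) (nat_lit 23271) (nat_lit 0xcee301)
  (.node .nil (nat_lit 0x9c91c7) (nat_lit 20198) (nat_lit 0x902489) .nil)) (nat_lit 0x9c9241) (nat_lit 23303)
  (nat_lit 0xcee02b) (.node (.node .nil (nat_lit 0x9c92ed) (nat_lit 14776) (nat_lit 23750) .nil) (nat_lit
  0x9c9316) (nat_lit 25396) (nat_lit 0x82474c) .nil)) (nat_lit 0x9c9422) (nat_lit 13336) (nat_lit 0x7153e5)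
  (.node (.node (.node .nil (nat_lit 0x9c948e) (nat_lit 22999) (nat_lit 0xcee6e5) .nil) (nat_lit 0x9c9575)
  (nat_lit 9701) (nat_lit 0xa13d30) .nil) (nat_lit 0x9c95d9) (nat_lit 20688) (nat_lit 0xa1303c) (.node (.node
  .nil (nat_lit 0x9c965f) (nat_lit 25344) (nat_lit 0xa13d9c) .nil) (nat_lit 0x9c96f3) (nat_lit 9664) (nat_lit
  0xa13d30) .nil)))) (nat_lit 0x9c9708) (nat_lit 21384) (nat_lit 0x6f87be) (.node (.node (.node (.node (.node
  .nil (nat_lit 0x9c97a4) (nat_lit 23095) (nat_lit 0xcee5cf) .nil) (nat_lit 0x9c9878) (nat_lit 17384) (nat_lit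
  0xcee995) (.node .nil (nat_lit 0x9c98d4) (nat_lit 6372) (nat_lit 0x824c8f) .nil)) (nat_lit 0x9c992f)
  (nat_lit 1876) (nat_lit 0x824d75) (.node (.node .nil (nat_lit 0x9c9983) (nat_lit 11127) (nat_lit 0xceebe8)
  .nil) (nat_lit 0x9c9aa9) (nat_lit 9991) (nat_lit 0xcee8c2) .nil)) (nat_lit 0x9c9b52) (nat_lit 18199)
  (nat_lit 0xcee939) (.node (.node (.node .nil (nat_lit 0x9c9bfe) (nat_lit 16552) (nat_lit 0xb3095d) .nil)
  (nat_lit 0x9c9cca) (nat_lit 6593) (nat_lit 0xa162dd) .nil) (nat_lit 0x9c9d9d) (nat_lit 10024) (nat_lit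
  0xa132ed) (.node (.node .nil (nat_lit 0x9c9eb7) (nat_lit 16708) (nat_lit 0x824aec) .nil) (nat_lit 0x9c9f4c)
  (nat_lit 9272) (nat_lit 0xceeea0) .nil))) (nat_lit 0x9c9fe0) (nat_lit 10584) (nat_lit 0xadda33) (.node
  (.node (.node (.node .nil (nat_lit 0x9cc00d) (nat_lit 15991) (nat_lit 0xceb01b) .nil) (nat_lit 0x9cc0a0)
  (nat_lit 15048) (nat_lit 0x71521f) (.node .nil (nat_lit 0x9cc15b) (nat_lit 16596) (nat_lit 0x82177d) .nil))
  (nat_lit 0x9cc2dd) (nat_lit 23507) (nat_lit 0x9025de) (.node (.node .nil (nat_lit 0x9cc326) (nat_lit 10676)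
  (nat_lit 0x821500) .nil) (nat_lit 0x9cc38b) (nat_lit 8272) (nat_lit 0xd0306e) .nil)) (nat_lit 0x9cc412)
  (nat_lit 23384) (nat_lit 832994) (.node (.node (.node .nil (nat_lit 0x9cc4bf) (nat_lit 17784) (nat_lit
  0x636789) .nil) (nat_lit 0x9cc544) (nat_lit 18544) (nat_lit 0xd036a1) .nil) (nat_lit 0x9cc5e9) (nat_lit
  26391) (nat_lit 0xceb5fe) (.node (.node .nil (nat_lit 0x9cc66f) (nat_lit 12400) (nat_lit 0xd03bac) .nil)
  (nat_lit 0x9cc6c2) (nat_lit 21841) (nat_lit 0x9c9f4c) .nil))))))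
def t4_10 : T := (.node (.node (.node (.node (.node (.node (.node .nil (nat_lit 0x9cc794) (nat_lit 9080)
  (nat_lit 0x71552a) .nil) (nat_lit 0x9cc8e4) (nat_lit 596) (nat_lit 0x821ec3) (.node .nil (nat_lit 0x9cc91f)
  (nat_lit 8065) (nat_lit 0x9c992f) .nil)) (nat_lit 0x9cc9b2) (nat_lit 17108) (nat_lit 0x821f95) (.node (.node
  .nil (nat_lit 0x9cca34) (nat_lit 17160) (nat_lit 0xb301b4) .nil) (nat_lit 0x9cca99) (nat_lit 6535) (nat_lit
  0xceba8e) .nil)) (nat_lit 0x9ccb62) (nat_lit 20519) (nat_lit 0xcebb75) (.node (.node (.node .nil (nat_lit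
  0x9ccbcf) (nat_lit 11015) (nat_lit 0xcebbd8) .nil) (nat_lit 0x9cccfb) (nat_lit 14456) (nat_lit 0xc20e97)
  (.node .nil (nat_lit 0x9ccd00) (nat_lit 9144) (nat_lit 0xb30681) .nil)) (nat_lit 0x9ccdad) (nat_lit 10504)
  (nat_lit 0xdcd4ea) (.node (.node .nil (nat_lit 0x9cce86) (nat_lit 9191) (nat_lit 0xcebe90) .nil) (nat_lit
  0x9ccfd0) (nat_lit 18872) (nat_lit 0xd03c34) .nil))) (nat_lit 0xa1303c) (nat_lit 8136) (nat_lit 0x9c992f)
  (.node (.node (.node (.node .nil (nat_lit 0xa13090) (nat_lit 16999) (nat_lit 0xf34c71) .nil) (nat_lit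
  0xa1316a) (nat_lit 8085) (nat_lit 0x9c992f) (.node .nil (nat_lit 0xa131c6) (nat_lit 19876) (nat_lit
  0xbfedd9) .nil)) (nat_lit 0xa132ed) (nat_lit 2455) (nat_lit 0xf34e0c) (.node (.node .nil (nat_lit 0xa13317)
  (nat_lit 6087) (nat_lit 0xf34ff6) .nil) (nat_lit 0xa133bb) (nat_lit 5767) (nat_lit 0xf34f5a) .nil)) (nat_lit
  0xa1348e) (nat_lit 3974) (nat_lit 0xad870f) (.node (.node (.node .nil (nat_lit 0xa135d8) (nat_lit 6568)
  (nat_lit 0xffa4af) .nil) (nat_lit 0xa136f3) (nat_lit 20087) (nat_lit 0xf34a13) .nil) (nat_lit 0xa13709)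
  (nat_lit 17895) (nat_lit 0xf34be9) (.node (.node .nil (nat_lit 0xa137a5) (nat_lit 17016) (nat_lit 0xf34c71)
  .nil) (nat_lit 0xa138d4) (nat_lit 22804) (nat_lit 0xbfe4cb) .nil)))) (nat_lit 0xa1392e) (nat_lit 22871)
  (nat_lit 0xf345ce) (.node (.node (.node (.node (.node .nil (nat_lit 0xa13982) (nat_lit 20576) (nat_lit
  0xdcd76c) .nil) (nat_lit 0xa13a05) (nat_lit 11169) (nat_lit 0x902ccc) (.node .nil (nat_lit 0xa13aa9)
  (nat_lit 19320) (nat_lit 0x522c7c) .nil)) (nat_lit 0xa13b53) (nat_lit 16848) (nat_lit 0xdcd0f5) (.node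
  (.node .nil (nat_lit 0xa13c66) (nat_lit 12978) (nat_lit 0xd06f2e) .nil) (nat_lit 0xa13cca) (nat_lit 20871)
  (nat_lit 0xf3402b) .nil)) (nat_lit 0xa13d30) (nat_lit 2308) (nat_lit 0xbfe12e) (.node (.node (.node .nil
  (nat_lit 0xa13d9c) (nat_lit 13472) (nat_lit 0xdcd63a) .nil) (nat_lit 0xa13e1b) (nat_lit 16198) (nat_lit
  0xad8d9a) (.node .nil (nat_lit 0xa13eb7) (nat_lit 10465) (nat_lit 0x90203a) .nil)) (nat_lit 0xa13f4d)
  (nat_lit 21926) (nat_lit 0xad8ccc) (.node (.node .nil (nat_lit 0xa13fe1) (nat_lit 24296) (nat_lit 0x52256f)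
  .nil) (nat_lit 0xa160a0) (nat_lit 2613) (nat_lit 0x9cc8e4) .nil))) (nat_lit 0xa1615a) (nat_lit 19558)
  (nat_lit 0xadd414) (.node (.node (.node (.node .nil (nat_lit 0xa161f7) (nat_lit 5575) (nat_lit 0xf31f6a)
  .nil) (nat_lit 0xa16270) (nat_lit 19520) (nat_lit 0xadd414) (.node .nil (nat_lit 0xa162dd) (nat_lit 1575)
  (nat_lit 0xf31c40) .nil)) (nat_lit 0xa16327) (nat_lit 7927) (nat_lit 0xf31dba) (.node (.node .nil (nat_lit
  0xa1638a) (nat_lit 21223) (nat_lit 0xf31d17) .nil) (nat_lit 0xa164bf) (nat_lit 20103) (nat_lit 0xf31a23)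
  .nil)) (nat_lit 0xa16545) (nat_lit 21749) (nat_lit 0x9ccd00) (.node (.node (.node .nil (nat_lit 0xa165e8)
  (nat_lit 18562) (nat_lit 0xd036a1) .nil) (nat_lit 0xa166c2) (nat_lit 3939) (nat_lit 0xad870f) .nil) (nat_lit
  0xa16795) (nat_lit 22552) (nat_lit 0x8eaa76) (.node (.node .nil (nat_lit 0xa16849) (nat_lit 19956) (nat_lit
  0xbfb62b) .nil) (nat_lit 0xa168e4) (nat_lit 12418) (nat_lit 0xd03bac) .nil))))) (nat_lit 0xa1691e) (nat_lit
  20112) (nat_lit 0xadd1f0) (.node (.node (.node (.node (.node (.node .nil (nat_lit 0xa16a99) (nat_lit 26136)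
  (nat_lit 0x2fca7b) .nil) (nat_lit 0xa16b63) (nat_lit 22584) (nat_lit 0x522495) (.node .nil (nat_lit
  0xa16bce) (nat_lit 20759) (nat_lit 0xf31552) .nil)) (nat_lit 0xa16c56) (nat_lit 16147) (nat_lit 0xad8d9a)
  (.node (.node .nil (nat_lit 0xa16cfb) (nat_lit 9447) (nat_lit 0xf31266) .nil) (nat_lit 0xa16d01) (nat_lit
  21891) (nat_lit 0xad8ccc) .nil)) (nat_lit 0xa16dac) (nat_lit 23169) (nat_lit 0xaddd06) (.node (.node (.node
  .nil (nat_lit 0xa16e2b) (nat_lit 19384) (nat_lit 0x522d86) .nil) (nat_lit 0xa16e86) (nat_lit 23152) (nat_lit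
  0xaddd06) (.node .nil (nat_lit 0xa16f7c) (nat_lit 10439) (nat_lit 0xf311e1) .nil)) (nat_lit 0xa16fd1)
  (nat_lit 16920) (nat_lit 0x2fc368) (.node (.node .nil (nat_lit 0xad803a) (nat_lit 1383) (nat_lit 0xfff17a)
  .nil) (nat_lit 0xad8096) (nat_lit 18231) (nat_lit 0xfff1d6) .nil))) (nat_lit 0xad816c) (nat_lit 10007)
  (nat_lit 0xfff02c) (.node (.node (.node (.node .nil (nat_lit 0xad8246) (nat_lit 8567) (nat_lit 0xfff306)
  .nil) (nat_lit 0xad82ea) (nat_lit 19432) (nat_lit 0x2f9dd2) (.node .nil (nat_lit 0xad8310) (nat_lit 5367)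
  (nat_lit 0xfff250) .nil)) (nat_lit 0xad83bc) (nat_lit 13490) (nat_lit 0xdcd63a) (.node (.node .nil (nat_lit
  0xad8425) (nat_lit 21128) (nat_lit 0x5e92f1) .nil) (nat_lit 0xad8489) (nat_lit 24984) (nat_lit 0x3da662)
  .nil)) (nat_lit 0xad8573) (nat_lit 16679) (nat_lit 0xfff432) (.node (.node (.node .nil (nat_lit 0xad8659)
  (nat_lit 18838) (nat_lit 0xa135d8) .nil) (nat_lit 0xad870f) (nat_lit 936) (nat_lit 0x4046aa) .nil) (nat_lit
  0xad88d3) (nat_lit 20020) (nat_lit 0xb35fa2) (.node (.node .nil (nat_lit 0xad8929) (nat_lit 18065) (nat_lit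
  0xed9c99) .nil) (nat_lit 0xad8985) (nat_lit 21159) (nat_lit 0xfff8c4) .nil)))) (nat_lit 0xad8a03) (nat_lit
  20181) (nat_lit 0x902489) (.node (.node (.node (.node (.node .nil (nat_lit 0xad8aaf) (nat_lit 17572)
  (nat_lit 0xb35dde) .nil) (nat_lit 0xad8b55) (nat_lit 23489) (nat_lit 0xed96a1) (.node .nil (nat_lit
  0xad8c60) (nat_lit 21240) (nat_lit 0xf31d17) .nil)) (nat_lit 0xad8ccc) (nat_lit 9288) (nat_lit 0x902984)
  (.node (.node .nil (nat_lit 0xad8d36) (nat_lit 9793) (nat_lit 0xed92be) .nil) (nat_lit 0xad8d9a) (nat_lit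
  5032) (nat_lit 0x8ef3f9) .nil)) (nat_lit 0xad8e1c) (nat_lit 23909) (nat_lit 0x902096) (.node (.node (.node
  .nil (nat_lit 0xad8eb0) (nat_lit 6448) (nat_lit 0xedcd52) .nil) (nat_lit 0xad8f4a) (nat_lit 19864) (nat_lit
  0xedc94c) .nil) (nat_lit 0xad8fe6) (nat_lit 22177) (nat_lit 0xed9a56) (.node (.node .nil (nat_lit 0xadd00a)
  (nat_lit 25218) (nat_lit 0xdc858c) .nil) (nat_lit 0xadd0a7) (nat_lit 24277) (nat_lit 0x907e2d) .nil)))
  (nat_lit 0xadd1f0) (nat_lit 7703) (nat_lit 0xffa2cc) (.node (.node (.node (.node .nil (nat_lit 0xadd2db)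
  (nat_lit 18803) (nat_lit 0xa135d8) .nil) (nat_lit 0xadd38c) (nat_lit 2576) (nat_lit 0x9cc8e4) (.node .nil
  (nat_lit 0xadd414) (nat_lit 7144) (nat_lit 0x2f920e) .nil)) (nat_lit 0xadd4b9) (nat_lit 3864) (nat_lit
  0x404065) (.node (.node .nil (nat_lit 0xadd5ee) (nat_lit 6712) (nat_lit 0x527ce0) .nil) (nat_lit 0xadd668)
  (nat_lit 19576) (nat_lit 0x2f9c28) .nil)) (nat_lit 0xadd6c5) (nat_lit 10916) (nat_lit 0xb303c8) (.node
  (.node (.node .nil (nat_lit 0xadd73f) (nat_lit 12961) (nat_lit 0xd06f2e) .nil) (nat_lit 0xadd792) (nat_lit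
  6551) (nat_lit 0xffa4af) .nil) (nat_lit 0xadd84f) (nat_lit 17266) (nat_lit 0xdc8dc8) (.node (.node .nil
  (nat_lit 0xadd8e2) (nat_lit 21712) (nat_lit 0x9ccd00) .nil) (nat_lit 0xadd918) (nat_lit 14612) (nat_lit
  0xb30c14) .nil))))))
def t4_11 : T := (.node (.node (.node (.node (.node (.node (.node .nil (nat_lit 0xadda33) (nat_lit 2801)
  (nat_lit 0xd061a4) .nil) (nat_lit 0xadda9e) (nat_lit 23831) (nat_lit 0xffa9a3) (.node .nil (nat_lit
  0xaddb64) (nat_lit 25075) (nat_lit 0xa13c66) .nil)) (nat_lit 0xaddbc9) (nat_lit 18680) (nat_lit 0xe12e4e)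
  (.node (.node .nil (nat_lit 0xaddc51) (nat_lit 16040) (nat_lit 0x821de8) .nil) (nat_lit 0xaddd06) (nat_lit
  10820) (nat_lit 0xb3080a) .nil)) (nat_lit 0xadddab) (nat_lit 8584) (nat_lit 0xfff306) (.node (.node (.node
  .nil (nat_lit 0xadde2d) (nat_lit 15911) (nat_lit 0xffad11) .nil) (nat_lit 0xadde80) (nat_lit 20135) (nat_lit
  0xffadbc) (.node .nil (nat_lit 0xaddfd7) (nat_lit 22929) (nat_lit 0xd06a66) .nil)) (nat_lit 0xb300e3)
  (nat_lit 2113) (nat_lit 0xc2564e) (.node (.node .nil (nat_lit 0xb30118) (nat_lit 18776) (nat_lit 0x9cca99)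
  .nil) (nat_lit 0xb301b4) (nat_lit 5461) (nat_lit 0x8ea77b) .nil))) (nat_lit 0xb30233) (nat_lit 17957)
  (nat_lit 0x8ea4fd) (.node (.node (.node (.node .nil (nat_lit 0xb3029f) (nat_lit 5392) (nat_lit 0x8ea77b)
  .nil) (nat_lit 0xb30364) (nat_lit 7989) (nat_lit 0x8ea5ab) (.node .nil (nat_lit 0xb303c8) (nat_lit 2866)
  (nat_lit 0xc25307) .nil)) (nat_lit 0xb304fd) (nat_lit 5221) (nat_lit 0x8ea233) (.node (.node .nil (nat_lit
  0xb30506) (nat_lit 26641) (nat_lit 0xc25d8d) .nil) (nat_lit 0xb305aa) (nat_lit 24929) (nat_lit 0xc25f5d)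
  .nil)) (nat_lit 0xb30681) (nat_lit 2130) (nat_lit 0xc2564e) (.node (.node (.node .nil (nat_lit 0xb307d6)
  (nat_lit 24247) (nat_lit 0xe17b9a) .nil) (nat_lit 0xb3080a) (nat_lit 2849) (nat_lit 0xc25307) .nil) (nat_lit
  0xb308a6) (nat_lit 21316) (nat_lit 0xadddab) (.node (.node .nil (nat_lit 0xb3095d) (nat_lit 5136) (nat_lit
  0x8ea233) .nil) (nat_lit 0xb30ada) (nat_lit 22787) (nat_lit 0xbfe4cb) .nil)))) (nat_lit 0xb30b21) (nat_lit
  19121) (nat_lit 0xc25e0a) (.node (.node (.node (.node (.node .nil (nat_lit 0xb30b8d) (nat_lit 7952) (nat_lit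
  0x8ea5ab) .nil) (nat_lit 0xb30c14) (nat_lit 4360) (nat_lit 0x3daa94) (.node .nil (nat_lit 0xb30cb8) (nat_lit
  9526) (nat_lit 0xbfb298) .nil)) (nat_lit 0xb30d43) (nat_lit 26049) (nat_lit 0xc25a14) (.node (.node .nil
  (nat_lit 0xb30def) (nat_lit 16354) (nat_lit 0xc25d21) .nil) (nat_lit 0xb30e68) (nat_lit 17544) (nat_lit
  0x3da4b2) .nil)) (nat_lit 0xb30ec4) (nat_lit 15784) (nat_lit 0x5e9021) (.node (.node (.node .nil (nat_lit
  0xb30f3f) (nat_lit 2291) (nat_lit 0xbfe12e) .nil) (nat_lit 0xb30f93) (nat_lit 17904) (nat_lit 0x8ea4fd)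
  .nil) (nat_lit 0xb3507f) (nat_lit 3956) (nat_lit 0xad870f) (.node (.node .nil (nat_lit 0xb35129) (nat_lit
  23424) (nat_lit 0xffaceb) .nil) (nat_lit 0xb35203) (nat_lit 10162) (nat_lit 0xc202cc) .nil))) (nat_lit
  0xb35355) (nat_lit 23761) (nat_lit 0xffa9a3) (.node (.node (.node (.node .nil (nat_lit 0xb353f8) (nat_lit
  26936) (nat_lit 0x82162b) .nil) (nat_lit 0xb35460) (nat_lit 16307) (nat_lit 0xbfbcbe) (.node .nil (nat_lit
  0xb354cd) (nat_lit 18016) (nat_lit 0xffa729) .nil)) (nat_lit 0xb35536) (nat_lit 4997) (nat_lit 0x8ef3f9)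
  (.node (.node .nil (nat_lit 0xb3559b) (nat_lit 8182) (nat_lit 0xbfed74) .nil) (nat_lit 0xb3561c) (nat_lit
  2517) (nat_lit 0x8ef0d2) .nil)) (nat_lit 0xb3574a) (nat_lit 5655) (nat_lit 0xe1297a) (.node (.node (.node
  .nil (nat_lit 0xb357e7) (nat_lit 18722) (nat_lit 0xc20728) .nil) (nat_lit 0xb3583a) (nat_lit 25912) (nat_lit
  0x5e9ffd) .nil) (nat_lit 0xb35897) (nat_lit 25030) (nat_lit 0xbfe078) (.node (.node .nil (nat_lit 0xb3596c)
  (nat_lit 11285) (nat_lit 0x8effa3) .nil) (nat_lit 0xb359c1) (nat_lit 2342) (nat_lit 0xbfe12e) .nil)))))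
  (nat_lit 0xb35a46) (nat_lit 9491) (nat_lit 0xbfb298) (.node (.node (.node (.node (.node (.node .nil (nat_lit
  0xb35aeb) (nat_lit 16164) (nat_lit 0xad8d9a) .nil) (nat_lit 0xb35b10) (nat_lit 22232) (nat_lit 0x404ba6)
  (.node .nil (nat_lit 0xb35bbd) (nat_lit 19752) (nat_lit 0x2f99cd) .nil)) (nat_lit 0xb35c25) (nat_lit 15841)
  (nat_lit 0xffad11) (.node (.node .nil (nat_lit 0xb35d73) (nat_lit 7765) (nat_lit 0x8efbbc) .nil) (nat_lit
  0xb35dde) (nat_lit 5848) (nat_lit 0x3da27d) .nil)) (nat_lit 0xb35e59) (nat_lit 14386) (nat_lit 0xc20e97)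
  (.node (.node (.node .nil (nat_lit 0xb35ef4) (nat_lit 16017) (nat_lit 0xffa5f8) .nil) (nat_lit 0xb35fa2)
  (nat_lit 7632) (nat_lit 0xffa2cc) (.node .nil (nat_lit 0xbfb049) (nat_lit 25159) (nat_lit 0xedc1a5) .nil))
  (nat_lit 0xbfb0e5) (nat_lit 19920) (nat_lit 0xbfb62b) (.node (.node .nil (nat_lit 0xbfb11e) (nat_lit 9622)
  (nat_lit 0xb30f3f) .nil) (nat_lit 0xbfb1b2) (nat_lit 23845) (nat_lit 0x8211b3) .nil))) (nat_lit 0xbfb234)
  (nat_lit 14646) (nat_lit 0xb30c14) (.node (.node (.node (.node .nil (nat_lit 0xbfb298) (nat_lit 2257)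
  (nat_lit 0xbfe12e) .nil) (nat_lit 0xbfb363) (nat_lit 22769) (nat_lit 0xbfe4cb) (.node .nil (nat_lit
  0xbfb3cf) (nat_lit 23042) (nat_lit 0xcee5cf) .nil)) (nat_lit 0xbfb4fa) (nat_lit 15576) (nat_lit 0x2fc951)
  (.node (.node .nil (nat_lit 0xbfb501) (nat_lit 10693) (nat_lit 0x821500) .nil) (nat_lit 0xbfb5ad) (nat_lit
  20149) (nat_lit 0x8215ac) .nil)) (nat_lit 0xbfb62b) (nat_lit 7624) (nat_lit 0x40151c) (.node (.node (.node
  .nil (nat_lit 0xbfb687) (nat_lit 24740) (nat_lit 0xa168e4) .nil) (nat_lit 0xbfb77c) (nat_lit 16518) (nat_lit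
  0xb3095d) .nil) (nat_lit 0xbfb8a1) (nat_lit 2672) (nat_lit 0xbfbec3) (.node (.node .nil (nat_lit 0xbfb9f6)
  (nat_lit 26144) (nat_lit 0xbfb4fa) .nil) (nat_lit 0xbfbadc) (nat_lit 16296) (nat_lit 0x907d07) .nil))))
  (nat_lit 0xbfbb27) (nat_lit 26456) (nat_lit 0xe17511) (.node (.node (.node (.node (.node .nil (nat_lit
  0xbfbb8b) (nat_lit 23976) (nat_lit 0x824182) .nil) (nat_lit 0xbfbc12) (nat_lit 20768) (nat_lit 0xbfbf38)
  (.node .nil (nat_lit 0xbfbcbe) (nat_lit 5112) (nat_lit 0x8ea04f) .nil)) (nat_lit 0xbfbd45) (nat_lit 20487)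
  (nat_lit 0xedcca9) (.node (.node .nil (nat_lit 0xbfbde9) (nat_lit 10934) (nat_lit 0xb303c8) .nil) (nat_lit
  0xbfbec3) (nat_lit 613) (nat_lit 0x821ec3) .nil)) (nat_lit 0xbfbf38) (nat_lit 8161) (nat_lit 0xbfed74)
  (.node (.node (.node .nil (nat_lit 0xbfbf94) (nat_lit 9456) (nat_lit 0xbfb298) .nil) (nat_lit 0xbfe078)
  (nat_lit 12920) (nat_lit 0x2fc8ab) .nil) (nat_lit 0xbfe0d5) (nat_lit 15920) (nat_lit 0xceb01b) (.node (.node
  .nil (nat_lit 0xbfe12e) (nat_lit 545) (nat_lit 0x821ec3) .nil) (nat_lit 0xbfe183) (nat_lit 23942) (nat_lit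
  0xb3596c) .nil))) (nat_lit 0xbfe205) (nat_lit 14595) (nat_lit 0xb30c14) (.node (.node (.node (.node .nil
  (nat_lit 0xbfe2a8) (nat_lit 9536) (nat_lit 0xceb72e) .nil) (nat_lit 0xbfe353) (nat_lit 23696) (nat_lit
  0xcebdbb) (.node .nil (nat_lit 0xbfe3fe) (nat_lit 25528) (nat_lit 0x522863) .nil)) (nat_lit 0xbfe4cb)
  (nat_lit 10625) (nat_lit 0x821500) (.node (.node .nil (nat_lit 0xbfe530) (nat_lit 10976) (nat_lit 0xcebbd8)
  .nil) (nat_lit 0xbfe59d) (nat_lit 14904) (nat_lit 0x4013d3) .nil)) (nat_lit 0xbfe61b) (nat_lit 10803)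
  (nat_lit 0xb3080a) (.node (.node (.node .nil (nat_lit 0xbfe6b6) (nat_lit 18001) (nat_lit 0x821f39) .nil)
  (nat_lit 0xbfe74d) (nat_lit 16483) (nat_lit 0xb3095d) .nil) (nat_lit 0xbfe891) (nat_lit 9123) (nat_lit
  0xb30681) (.node (.node .nil (nat_lit 0xbfe9c7) (nat_lit 18820) (nat_lit 0xa135d8) .nil) (nat_lit 0xbfeaec)
  (nat_lit 16725) (nat_lit 0x824aec) .nil))))))
def t4_12 : T := (.node (.node (.node (.node (.node (.node (.node .nil (nat_lit 0xbfebba) (nat_lit 23714)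
  (nat_lit 0xcebdbb) .nil) (nat_lit 0xbfec22) (nat_lit 20724) (nat_lit 0xa1303c) (.node .nil (nat_lit
  0xbfec8f) (nat_lit 6389) (nat_lit 0x824c8f) .nil)) (nat_lit 0xbfed74) (nat_lit 1893) (nat_lit 0x824d75)
  (.node (.node .nil (nat_lit 0xbfedd9) (nat_lit 7544) (nat_lit 0xe17acd) .nil) (nat_lit 0xbfeef2) (nat_lit
  9107) (nat_lit 0xb300e3) .nil)) (nat_lit 0xbfef09) (nat_lit 18119) (nat_lit 0xed9c99) (.node (.node (.node
  .nil (nat_lit 0xbfefa4) (nat_lit 17089) (nat_lit 0x821f95) .nil) (nat_lit 0xc200b0) (nat_lit 9174) (nat_lit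
  0xcebe90) (.node .nil (nat_lit 0xc201e6) (nat_lit 20232) (nat_lit 0x902489) .nil)) (nat_lit 0xc202cc)
  (nat_lit 2568) (nat_lit 0x8ef0d2) (.node (.node .nil (nat_lit 0xc20337) (nat_lit 21176) (nat_lit 0xfff8c4)
  .nil) (nat_lit 0xc2039a) (nat_lit 23750) (nat_lit 0xcebdbb) .nil))) (nat_lit 0xc20402) (nat_lit 13524)
  (nat_lit 0xdcd63a) (.node (.node (.node (.node .nil (nat_lit 0xc204af) (nat_lit 5504) (nat_lit 0xf31f6a)
  .nil) (nat_lit 0xc20554) (nat_lit 20502) (nat_lit 0xcebb75) (.node .nil (nat_lit 0xc205f9) (nat_lit 10488)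
  (nat_lit 0x82111f) .nil)) (nat_lit 0xc206d3) (nat_lit 9909) (nat_lit 0xffa6d3) (.node (.node .nil (nat_lit
  0xc20728) (nat_lit 6520) (nat_lit 0xedcd52) .nil) (nat_lit 0xc20785) (nat_lit 5745) (nat_lit 0xf34f5a)
  .nil)) (nat_lit 0xc20859) (nat_lit 15304) (nat_lit 0x404581) (.node (.node (.node .nil (nat_lit 0xc208f4)
  (nat_lit 17809) (nat_lit 0xf34be9) .nil) (nat_lit 0xc2090f) (nat_lit 1488) (nat_lit 0xf31c40) .nil) (nat_lit
  0xc209a2) (nat_lit 23797) (nat_lit 0xffa9a3) (.node (.node .nil (nat_lit 0xc20a25) (nat_lit 22696) (nat_lit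
  0x404ba7) .nil) (nat_lit 0xc20a88) (nat_lit 10416) (nat_lit 0xf311e1) .nil)))) (nat_lit 0xc20b73) (nat_lit
  19256) (nat_lit 0x5e91da) (.node (.node (.node (.node (.node .nil (nat_lit 0xc20bde) (nat_lit 23059)
  (nat_lit 0xcee5cf) .nil) (nat_lit 0xc20ceb) (nat_lit 22849) (nat_lit 0xf345ce) (.node .nil (nat_lit
  0xc20d10) (nat_lit 15877) (nat_lit 0xffad11) .nil)) (nat_lit 0xc20dbd) (nat_lit 7824) (nat_lit 0xf31dba)
  (.node (.node .nil (nat_lit 0xc20e3a) (nat_lit 15974) (nat_lit 0xceb01b) .nil) (nat_lit 0xc20e97) (nat_lit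
  4312) (nat_lit 0x3dac5a) .nil)) (nat_lit 0xc20f6c) (nat_lit 20002) (nat_lit 0xb35fa2) (.node (.node (.node
  .nil (nat_lit 0xc2502c) (nat_lit 9090) (nat_lit 0xb300e3) .nil) (nat_lit 0xc2517b) (nat_lit 1349) (nat_lit
  0xfff17a) (.node .nil (nat_lit 0xc251d7) (nat_lit 18182) (nat_lit 0xcee939) .nil)) (nat_lit 0xc25250)
  (nat_lit 5333) (nat_lit 0xfff250) (.node (.node .nil (nat_lit 0xc252fc) (nat_lit 17984) (nat_lit 0x821f39)
  .nil) (nat_lit 0xc25307) (nat_lit 664) (nat_lit 0x821ec3) .nil))) (nat_lit 0xc253ab) (nat_lit 10608)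
  (nat_lit 0x821500) (.node (.node (.node (.node .nil (nat_lit 0xc25432) (nat_lit 16661) (nat_lit 0xfff432)
  .nil) (nat_lit 0xc25565) (nat_lit 20936) (nat_lit 0x9cc38b) (.node .nil (nat_lit 0xc255c9) (nat_lit 25252)
  (nat_lit 0xdc858c) .nil)) (nat_lit 0xc2564e) (nat_lit 528) (nat_lit 0x821ec3) (.node (.node .nil (nat_lit
  0xc25719) (nat_lit 22664) (nat_lit 0x9ccdad) .nil) (nat_lit 0xc25868) (nat_lit 11560) (nat_lit 0x31457e)
  .nil)) (nat_lit 0xc258c4) (nat_lit 10786) (nat_lit 0xb3080a) (.node (.node (.node .nil (nat_lit 0xc25993)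
  (nat_lit 16466) (nat_lit 0xb3095d) .nil) (nat_lit 0xc25a14) (nat_lit 14728) (nat_lit 0x314b58) .nil)
  (nat_lit 0xc25b43) (nat_lit 20215) (nat_lit 0x902489) (.node (.node .nil (nat_lit 0xc25bef) (nat_lit 15320)
  (nat_lit 0x40434e) .nil) (nat_lit 0xc25c76) (nat_lit 9553) (nat_lit 0xceb72e) .nil))))) (nat_lit 0xc25cda)
  (nat_lit 14578) (nat_lit 0xb30c14) (.node (.node (.node (.node (.node (.node .nil (nat_lit 0xc25d21)
  (nat_lit 5128) (nat_lit 0x3daa95) .nil) (nat_lit 0xc25d8d) (nat_lit 17300) (nat_lit 0xdc8dc8) (.node .nil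
  (nat_lit 0xc25e0a) (nat_lit 6840) (nat_lit 0x2f9836) .nil)) (nat_lit 0xc25ea6) (nat_lit 25092) (nat_lit
  0xdc8ee3) (.node (.node .nil (nat_lit 0xc25f5d) (nat_lit 12696) (nat_lit 0x3da4b3) .nil) (nat_lit 0xc25ff1)
  (nat_lit 9571) (nat_lit 0xceb72e) .nil)) (nat_lit 0xceb01b) (nat_lit 4945) (nat_lit 0x8ef3f9) (.node (.node
  (.node .nil (nat_lit 0xceb0b6) (nat_lit 14422) (nat_lit 0xc20e97) .nil) (nat_lit 0xceb14d) (nat_lit 10128)
  (nat_lit 0xc202cc) (.node .nil (nat_lit 0xceb2cb) (nat_lit 20552) (nat_lit 0x522862) .nil)) (nat_lit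
  0xceb330) (nat_lit 22624) (nat_lit 0xc205f9) (.node (.node .nil (nat_lit 0xceb39d) (nat_lit 20342) (nat_lit
  0xc20dbd) .nil) (nat_lit 0xceb405) (nat_lit 25971) (nat_lit 0xc25cda) .nil))) (nat_lit 0xceb4a8) (nat_lit
  6240) (nat_lit 0xc2090f) (.node (.node (.node (.node .nil (nat_lit 0xceb553) (nat_lit 26596) (nat_lit
  0xd06c05) .nil) (nat_lit 0xceb5fe) (nat_lit 16371) (nat_lit 0xc25d21) (.node .nil (nat_lit 0xceb678)
  (nat_lit 13012) (nat_lit 0xd06f2e) .nil)) (nat_lit 0xceb6d5) (nat_lit 19139) (nat_lit 0xc25e0a) (.node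
  (.node .nil (nat_lit 0xceb72e) (nat_lit 2274) (nat_lit 0xbfe12e) .nil) (nat_lit 0xceb783) (nat_lit 19352)
  (nat_lit 0x522171) .nil)) (nat_lit 0xceb8f3) (nat_lit 2647) (nat_lit 0x9cc8e4) (.node (.node (.node .nil
  (nat_lit 0xceb908) (nat_lit 8225) (nat_lit 0x8ef354) .nil) (nat_lit 0xceb9a5) (nat_lit 5541) (nat_lit
  0xf31f6a) .nil) (nat_lit 0xceba23) (nat_lit 18704) (nat_lit 0xc20728) (.node (.node .nil (nat_lit 0xceba8e)
  (nat_lit 1541) (nat_lit 0xf31c40) .nil) (nat_lit 0xcebb75) (nat_lit 7893) (nat_lit 0xf31dba) .nil))))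
  (nat_lit 0xcebbd8) (nat_lit 2883) (nat_lit 0xc25307) (.node (.node (.node (.node (.node .nil (nat_lit
  0xcebced) (nat_lit 10198) (nat_lit 0xc202cc) .nil) (nat_lit 0xcebd16) (nat_lit 21767) (nat_lit 0x9ccd00)
  (.node .nil (nat_lit 0xcebdbb) (nat_lit 11217) (nat_lit 0x8effa3) .nil)) (nat_lit 0xcebe90) (nat_lit 2147)
  (nat_lit 0xc2564e) (.node (.node .nil (nat_lit 0xcebfc6) (nat_lit 25960) (nat_lit 0xffae97) .nil) (nat_lit
  0xcee02b) (nat_lit 10897) (nat_lit 0xb303c8) .nil)) (nat_lit 0xcee087) (nat_lit 12436) (nat_lit 0xd03bac)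
  (.node (.node (.node .nil (nat_lit 0xcee17c) (nat_lit 16784) (nat_lit 0xb304fd) .nil) (nat_lit 0xcee2fa)
  (nat_lit 16448) (nat_lit 0xb3095d) .nil) (nat_lit 0xcee301) (nat_lit 10880) (nat_lit 0xb303c8) (.node (.node
  .nil (nat_lit 0xcee3ad) (nat_lit 14561) (nat_lit 0xb30c14) .nil) (nat_lit 0xcee434) (nat_lit 26006) (nat_lit
  0xc25cda) .nil))) (nat_lit 0xcee498) (nat_lit 9474) (nat_lit 0xbfb298) (.node (.node (.node (.node .nil
  (nat_lit 0xcee563) (nat_lit 26662) (nat_lit 0xc25d8d) .nil) (nat_lit 0xcee5cf) (nat_lit 10769) (nat_lit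
  0xb3080a) (.node .nil (nat_lit 0xcee649) (nat_lit 20920) (nat_lit 0x522998) .nil)) (nat_lit 0xcee6e5)
  (nat_lit 10752) (nat_lit 0xb3080a) (.node (.node .nil (nat_lit 0xcee71e) (nat_lit 6275) (nat_lit 0xc2090f)
  .nil) (nat_lit 0xcee7b2) (nat_lit 13720) (nat_lit 0x23218e) .nil)) (nat_lit 0xcee8c2) (nat_lit 2421)
  (nat_lit 0xf34e0c) (.node (.node (.node .nil (nat_lit 0xcee939) (nat_lit 6053) (nat_lit 0xf34ff6) .nil)
  (nat_lit 0xcee995) (nat_lit 5702) (nat_lit 0xc2517b) .nil) (nat_lit 0xceea13) (nat_lit 25380) (nat_lit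
  0xd03139) (.node (.node .nil (nat_lit 0xceeabf) (nat_lit 5496) (nat_lit 0x8ea77b) .nil) (nat_lit 0xceeb44)
  (nat_lit 8119) (nat_lit 0x9c992f) .nil))))))
def t4_13 : T := (.node (.node (.node (.node (.node (.node (.node .nil (nat_lit 0xceecdd) (nat_lit 10179)
  (nat_lit 0xc202cc) .nil) (nat_lit 0xceed26) (nat_lit 17861) (nat_lit 0xf34be9) (.node .nil (nat_lit
  0xceed8a) (nat_lit 18596) (nat_lit 0xd036a1) .nil)) (nat_lit 0xceeea0) (nat_lit 2198) (nat_lit 0xc2564e)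
  (.node (.node .nil (nat_lit 0xceeff7) (nat_lit 22359) (nat_lit 0x9c9d9d) .nil) (nat_lit 0xd0306e) (nat_lit
  1927) (nat_lit 0x824d75) .nil)) (nat_lit 0xd030c3) (nat_lit 11078) (nat_lit 0xdc8343) (.node (.node (.node
  .nil (nat_lit 0xd03139) (nat_lit 13507) (nat_lit 0xdcd63a) .nil) (nat_lit 0xd03194) (nat_lit 6423) (nat_lit
  0x824c8f) (.node .nil (nat_lit 0xd03213) (nat_lit 18085) (nat_lit 0xed9c99) .nil)) (nat_lit 0xd032be)
  (nat_lit 17143) (nat_lit 0x824fa5) (.node (.node .nil (nat_lit 0xd033e9) (nat_lit 9957) (nat_lit 0xed9d62)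
  .nil) (nat_lit 0xd034dc) (nat_lit 16936) (nat_lit 0x8ea451) .nil))) (nat_lit 0xd0358b) (nat_lit 9222)
  (nat_lit 0xdc860a) (.node (.node (.node (.node .nil (nat_lit 0xd0360c) (nat_lit 20824) (nat_lit 0xed9ee4)
  .nil) (nat_lit 0xd036a1) (nat_lit 6440) (nat_lit 0x824c8f) (.node .nil (nat_lit 0xd037f6) (nat_lit 16743)
  (nat_lit 0x824aec) .nil)) (nat_lit 0xd0382b) (nat_lit 15512) (nat_lit 0x5ecc4a) (.node (.node .nil (nat_lit
  0xd03886) (nat_lit 20263) (nat_lit 0x82459c) .nil) (nat_lit 0xd039d1) (nat_lit 26420) (nat_lit 0xcee2fa)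
  .nil)) (nat_lit 0xd03a56) (nat_lit 19368) (nat_lit 0x522494) (.node (.node (.node .nil (nat_lit 0xd03b01)
  (nat_lit 23284) (nat_lit 0xcee02b) .nil) (nat_lit 0xd03bac) (nat_lit 3400) (nat_lit 0x2fca7a) .nil) (nat_lit
  0xd03c34) (nat_lit 6576) (nat_lit 0xa162dd) (.node (.node .nil (nat_lit 0xd03c99) (nat_lit 20705) (nat_lit
  0xa1303c) .nil) (nat_lit 0xd03d63) (nat_lit 18785) (nat_lit 0xa135d8) .nil)))) (nat_lit 0xd03dce) (nat_lit
  14152) (nat_lit 0x311732) (.node (.node (.node (.node (.node .nil (nat_lit 0xd03e49) (nat_lit 17334)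
  (nat_lit 0xdc8dc8) .nil) (nat_lit 0xd03ee4) (nat_lit 12264) (nat_lit 0x2fc369) (.node .nil (nat_lit
  0xd03f1e) (nat_lit 22600) (nat_lit 0x522d87) .nil)) (nat_lit 0xd03fb3) (nat_lit 9681) (nat_lit 0xa13d30)
  (.node (.node .nil (nat_lit 0xd0605e) (nat_lit 8040) (nat_lit 0x8ea5ab) .nil) (nat_lit 0xd060f2) (nat_lit
  17127) (nat_lit 0x821f95) .nil)) (nat_lit 0xd061a4) (nat_lit 647) (nat_lit 0x821ec3) (.node (.node (.node
  .nil (nat_lit 0xd06223) (nat_lit 1944) (nat_lit 0x824d75) .nil) (nat_lit 0xd0628f) (nat_lit 10996) (nat_lit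
  0xcebbd8) .nil) (nat_lit 0xd06375) (nat_lit 13542) (nat_lit 0xdcd63a) (.node (.node .nil (nat_lit 0xd063d9)
  (nat_lit 6485) (nat_lit 0xedcd52) .nil) (nat_lit 0xd06440) (nat_lit 25235) (nat_lit 0xdc858c) .nil)))
  (nat_lit 0xd064ec) (nat_lit 21665) (nat_lit 0x9cc794) (.node (.node (.node (.node .nil (nat_lit 0xd065ba)
  (nat_lit 16823) (nat_lit 0x821adc) .nil) (nat_lit 0xd06691) (nat_lit 18520) (nat_lit 0xffaa88) (.node .nil
  (nat_lit 0xd067c7) (nat_lit 2784) (nat_lit 0xd061a4) .nil)) (nat_lit 0xd0681b) (nat_lit 16615) (nat_lit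
  0x82177d) (.node (.node .nil (nat_lit 0xd0694d) (nat_lit 15940) (nat_lit 0xceb01b) .nil) (nat_lit 0xd069e1)
  (nat_lit 12944) (nat_lit 0xd06f2e) .nil)) (nat_lit 0xd06a66) (nat_lit 10727) (nat_lit 0x821500) (.node
  (.node (.node .nil (nat_lit 0xd06aca) (nat_lit 8304) (nat_lit 0xd06223) .nil) (nat_lit 0xd06b9c) (nat_lit
  22568) (nat_lit 0x522c7d) .nil) (nat_lit 0xd06c05) (nat_lit 17283) (nat_lit 0xdc8dc8) (.node (.node .nil
  (nat_lit 0xd06ca9) (nat_lit 24856) (nat_lit 0x5ecdb0) .nil) (nat_lit 0xd06d53) (nat_lit 26358) (nat_lit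
  0xdcd81d) .nil))))) (nat_lit 0xd06dff) (nat_lit 10240) (nat_lit 0xd06e78) (.node (.node (.node (.node (.node
  (.node .nil (nat_lit 0xd06e78) (nat_lit 2593) (nat_lit 0x9cc8e4) .nil) (nat_lit 0xd06ed4) (nat_lit 23879)
  (nat_lit 0x8211b3) (.node .nil (nat_lit 0xd06f2e) (nat_lit 3640) (nat_lit 0x2fcb80) .nil)) (nat_lit
  0xd06f82) (nat_lit 21729) (nat_lit 0x9ccd00) (.node (.node .nil (nat_lit 0xdc8068) (nat_lit 2551) (nat_lit
  0x8ef0d2) .nil) (nat_lit 0xdc813f) (nat_lit 5621) (nat_lit 0xe1297a) .nil)) (nat_lit 0xdc8192) (nat_lit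
  19538) (nat_lit 0xadd414) (.node (.node (.node .nil (nat_lit 0xdc8214) (nat_lit 16949) (nat_lit 0xe12a50)
  .nil) (nat_lit 0xdc82b9) (nat_lit 25058) (nat_lit 0xadd73f) (.node .nil (nat_lit 0xdc8343) (nat_lit 2900)
  (nat_lit 0xc25307) .nil)) (nat_lit 0xdc83ee) (nat_lit 8247) (nat_lit 0x8ef354) (.node (.node .nil (nat_lit
  0xdc8476) (nat_lit 20055) (nat_lit 0x8ef4cd) .nil) (nat_lit 0xdc8521) (nat_lit 18630) (nat_lit 0xd036a1)
  .nil))) (nat_lit 0xdc858c) (nat_lit 13128) (nat_lit 0x404064) (.node (.node (.node (.node .nil (nat_lit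
  0xdc860a) (nat_lit 2164) (nat_lit 0xc2564e) .nil) (nat_lit 0xdc875d) (nat_lit 19512) (nat_lit 0x2f9c29)
  (.node .nil (nat_lit 0xdc882c) (nat_lit 12470) (nat_lit 0xd03bac) .nil)) (nat_lit 0xdc8881) (nat_lit 11057)
  (nat_lit 0xdc8343) (.node (.node .nil (nat_lit 0xdc89d6) (nat_lit 16752) (nat_lit 0x907f7b) .nil) (nat_lit
  0xdc8a50) (nat_lit 16840) (nat_lit 0x821adc) .nil)) (nat_lit 0xdc8b07) (nat_lit 7799) (nat_lit 0x8efbbc)
  (.node (.node (.node .nil (nat_lit 0xdc8baa) (nat_lit 16696) (nat_lit 0xfff432) .nil) (nat_lit 0xdc8c32)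
  (nat_lit 10599) (nat_lit 0x8efc88) .nil) (nat_lit 0xdc8c9f) (nat_lit 25988) (nat_lit 0xc25cda) (.node (.node
  .nil (nat_lit 0xdc8d65) (nat_lit 16388) (nat_lit 0xc25d21) .nil) (nat_lit 0xdc8dc8) (nat_lit 5672) (nat_lit
  0xe1297a) .nil)))) (nat_lit 0xdc8e4e) (nat_lit 19156) (nat_lit 0xc25e0a) (.node (.node (.node (.node (.node
  .nil (nat_lit 0xdc8ee3) (nat_lit 12995) (nat_lit 0xd06f2e) .nil) (nat_lit 0xdc8f19) (nat_lit 11319) (nat_lit
  0x8effa3) (.node .nil (nat_lit 0xdc8fb4) (nat_lit 10113) (nat_lit 0xdc8068) .nil)) (nat_lit 0xdcd0f5)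
  (nat_lit 5255) (nat_lit 0x8ea233) (.node (.node .nil (nat_lit 0xdcd10f) (nat_lit 24168) (nat_lit 0x4ca766)
  .nil) (nat_lit 0xdcd1a3) (nat_lit 18579) (nat_lit 0xd036a1) .nil)) (nat_lit 0xdcd289) (nat_lit 3922)
  (nat_lit 0xad870f) (.node (.node (.node .nil (nat_lit 0xdcd3df) (nat_lit 19032) (nat_lit 0x2f9dd3) .nil)
  (nat_lit 0xdcd4ea) (nat_lit 2759) (nat_lit 0x8ea62d) .nil) (nat_lit 0xdcd510) (nat_lit 18740) (nat_lit
  0xc20728) (.node (.node .nil (nat_lit 0xdcd5bc) (nat_lit 5479) (nat_lit 0x8ea77b) .nil) (nat_lit 0xdcd63a)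
  (nat_lit 3848) (nat_lit 0x4046ab) .nil))) (nat_lit 0xdcd696) (nat_lit 13224) (nat_lit 0x237238) (.node
  (.node (.node (.node .nil (nat_lit 0xdcd76c) (nat_lit 8023) (nat_lit 0x8ea5ab) .nil) (nat_lit 0xdcd7c0)
  (nat_lit 20624) (nat_lit 0xe177c1) (.node .nil (nat_lit 0xdcd81d) (nat_lit 16130) (nat_lit 0xad8d9a) .nil))
  (nat_lit 0xdcd8b1) (nat_lit 22112) (nat_lit 0xe17372) (.node (.node .nil (nat_lit 0xdcd94b) (nat_lit 17192)
  (nat_lit 0xedce78) .nil) (nat_lit 0xdcd9e7) (nat_lit 23233) (nat_lit 0xe17446) .nil)) (nat_lit 0xdcda61)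
  (nat_lit 13046) (nat_lit 0xd06f2e) (.node (.node (.node .nil (nat_lit 0xdcdacd) (nat_lit 17400) (nat_lit
  0x902eb0) .nil) (nat_lit 0xdcdb37) (nat_lit 6292) (nat_lit 0xc2090f) .nil) (nat_lit 0xdcdb9b) (nat_lit
  20072) (nat_lit 0x8ef4cd) (.node (.node .nil (nat_lit 0xdcdc02) (nat_lit 23207) (nat_lit 0x8eaec4) .nil)
  (nat_lit 0xdcdcae) (nat_lit 10744) (nat_lit 0x821500) .nil))))))
def t4_14 : T := (.node (.node (.node (.node (.node (.node (.node .nil (nat_lit 0xdcded2) (nat_lit 26273)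
  (nat_lit 0xe1776d) .nil) (nat_lit 0xdcdf28) (nat_lit 22919) (nat_lit 0x8eadee) (.node .nil (nat_lit
  0xdcdf84) (nat_lit 20324) (nat_lit 0xc20dbd) .nil)) (nat_lit 0xe12068) (nat_lit 24790) (nat_lit 0xed9527)
  (.node (.node .nil (nat_lit 0xe120c5) (nat_lit 19992) (nat_lit 0xbfb62b) .nil) (nat_lit 0xe12193) (nat_lit
  20039) (nat_lit 0xb35fa2) .nil)) (nat_lit 0xe12214) (nat_lit 22952) (nat_lit 0xd06a66) (.node (.node (.node
  .nil (nat_lit 0xe12342) (nat_lit 16008) (nat_lit 0xceb01b) .nil) (nat_lit 0xe123ef) (nat_lit 17591) (nat_lit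
  0xb35dde) (.node .nil (nat_lit 0xe12476) (nat_lit 9592) (nat_lit 0xceb72e) .nil)) (nat_lit 0xe124db)
  (nat_lit 26375) (nat_lit 0xb35aeb) (.node (.node .nil (nat_lit 0xe12520) (nat_lit 26405) (nat_lit 0xdc8d65)
  .nil) (nat_lit 0xe1258d) (nat_lit 17317) (nat_lit 0xdc8dc8) .nil))) (nat_lit 0xe1260a) (nat_lit 20888)
  (nat_lit 0xceb908) (.node (.node (.node (.node .nil (nat_lit 0xe126a7) (nat_lit 24768) (nat_lit 0xed9527)
  .nil) (nat_lit 0xe1275c) (nat_lit 23959) (nat_lit 0xb3596c) (.node .nil (nat_lit 0xe127f1) (nat_lit 9783)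
  (nat_lit 0xb359c1) .nil)) (nat_lit 0xe1282c) (nat_lit 9974) (nat_lit 0xed9d62) (.node (.node .nil (nat_lit
  0xe1297a) (nat_lit 1332) (nat_lit 0xfff17a) .nil) (nat_lit 0xe129d7) (nat_lit 18102) (nat_lit 0xed9c99)
  .nil)) (nat_lit 0xe12a50) (nat_lit 5316) (nat_lit 0xfff250) (.node (.node (.node .nil (nat_lit 0xe12afd)
  (nat_lit 18048) (nat_lit 0xed9c99) .nil) (nat_lit 0xe12b06) (nat_lit 8532) (nat_lit 0xfff306) .nil) (nat_lit
  0xe12bab) (nat_lit 20420) (nat_lit 0xfff3aa) (.node (.node .nil (nat_lit 0xe12c32) (nat_lit 16644) (nat_lit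
  0xfff432) .nil) (nat_lit 0xe12d64) (nat_lit 24258) (nat_lit 0x907e2d) .nil)))) (nat_lit 0xe12dc9) (nat_lit
  21432) (nat_lit 0x1ed626) (.node (.node (.node (.node (.node .nil (nat_lit 0xe12e4e) (nat_lit 6465) (nat_lit
  0xedcd52) .nil) (nat_lit 0xe12f18) (nat_lit 11896) (nat_lit 0x710a6b) (.node .nil (nat_lit 0xe17059)
  (nat_lit 14663) (nat_lit 0xb30c14) .nil)) (nat_lit 0xe170f5) (nat_lit 18500) (nat_lit 0xffaa88) (.node
  (.node .nil (nat_lit 0xe1710e) (nat_lit 22720) (nat_lit 0x9c9fe0) .nil) (nat_lit 0xe171a2) (nat_lit 21824)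
  (nat_lit 0x9c9f4c) .nil)) (nat_lit 0xe17225) (nat_lit 25142) (nat_lit 0xedc1a5) (.node (.node (.node .nil
  (nat_lit 0xe17289) (nat_lit 19208) (nat_lit 0xc25e0a) .nil) (nat_lit 0xe17372) (nat_lit 9639) (nat_lit
  0xb30f3f) .nil) (nat_lit 0xe173de) (nat_lit 23416) (nat_lit 0xd0628f) (.node (.node .nil (nat_lit 0xe17446)
  (nat_lit 10855) (nat_lit 0xb3080a) .nil) (nat_lit 0xe174ea) (nat_lit 22965) (nat_lit 0xdcdcae) .nil)))
  (nat_lit 0xe17511) (nat_lit 16535) (nat_lit 0xb3095d) (.node (.node (.node (.node .nil (nat_lit 0xe17696)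
  (nat_lit 23460) (nat_lit 0xffaceb) .nil) (nat_lit 0xe1776d) (nat_lit 15860) (nat_lit 0xffad11) (.node .nil
  (nat_lit 0xe177c1) (nat_lit 8048) (nat_lit 0x9c992f) .nil)) (nat_lit 0xe178b1) (nat_lit 7384) (nat_lit
  0x633932) (.node (.node .nil (nat_lit 0xe1794a) (nat_lit 21560) (nat_lit 0x123124) .nil) (nat_lit 0xe179e6)
  (nat_lit 24306) (nat_lit 0x902aaf) .nil)) (nat_lit 0xe17acd) (nat_lit 1784) (nat_lit 0x633714) (.node (.node
  (.node .nil (nat_lit 0xe17b9a) (nat_lit 11608) (nat_lit 0x710b91) .nil) (nat_lit 0xe17cae) (nat_lit 3144)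
  (nat_lit 0x710ca4) .nil) (nat_lit 0xe17d55) (nat_lit 8289) (nat_lit 0xd0306e) (.node (.node .nil (nat_lit
  0xe17df9) (nat_lit 12840) (nat_lit 0x633021) .nil) (nat_lit 0xe17e7e) (nat_lit 8840) (nat_lit 0x123611)
  .nil))))) (nat_lit 0xe17ed2) (nat_lit 6502) (nat_lit 0xedcd52) (.node (.node (.node (.node (.node (.node
  .nil (nat_lit 0xe17f29) (nat_lit 20470) (nat_lit 0xedcca9) .nil) (nat_lit 0xe17f85) (nat_lit 10951) (nat_lit
  0xb303c8) (.node .nil (nat_lit 0xed906e) (nat_lit 24629) (nat_lit 0xd03ee4) .nil)) (nat_lit 0xed90c3)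
  (nat_lit 26694) (nat_lit 0xe1258d) (.node (.node .nil (nat_lit 0xed9138) (nat_lit 17480) (nat_lit 0x1e8075)
  .nil) (nat_lit 0xed9195) (nat_lit 23984) (nat_lit 0xdc8f19) .nil)) (nat_lit 0xed9213) (nat_lit 21682)
  (nat_lit 0x9cc794) (.node (.node (.node .nil (nat_lit 0xed92be) (nat_lit 2359) (nat_lit 0xbfe12e) .nil)
  (nat_lit 0xed9345) (nat_lit 18472) (nat_lit 0x1268ab) (.node .nil (nat_lit 0xed93e8) (nat_lit 24722)
  (nat_lit 0x9cc66f) .nil)) (nat_lit 0xed94dc) (nat_lit 16769) (nat_lit 0x907f7b) (.node (.node .nil (nat_lit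
  0xed9527) (nat_lit 12453) (nat_lit 0xd03bac) .nil) (nat_lit 0xed958a) (nat_lit 23143) (nat_lit 0xbfe61b)
  .nil))) (nat_lit 0xed960c) (nat_lit 20643) (nat_lit 0xe177c1) (.node (.node (.node (.node .nil (nat_lit
  0xed96a1) (nat_lit 11040) (nat_lit 0xdc8343) .nil) (nat_lit 0xed975a) (nat_lit 22823) (nat_lit 0xbfe4cb)
  (.node .nil (nat_lit 0xed982b) (nat_lit 18613) (nat_lit 0xd036a1) .nil)) (nat_lit 0xed9886) (nat_lit 17248)
  (nat_lit 0xdc8dc8) (.node (.node .nil (nat_lit 0xed997d) (nat_lit 19699) (nat_lit 0xe178b1) .nil) (nat_lit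
  0xed9a56) (nat_lit 9736) (nat_lit 0xa13d30) .nil)) (nat_lit 0xed9b00) (nat_lit 7507) (nat_lit 0xe17acd)
  (.node (.node (.node .nil (nat_lit 0xed9c34) (nat_lit 5638) (nat_lit 0xe1297a) .nil) (nat_lit 0xed9c99)
  (nat_lit 6036) (nat_lit 0xf34ff6) .nil) (nat_lit 0xed9d62) (nat_lit 2404) (nat_lit 0xf34e0c) (.node (.node
  .nil (nat_lit 0xed9e49) (nat_lit 19895) (nat_lit 0xbfedd9) .nil) (nat_lit 0xed9ee4) (nat_lit 8199) (nat_lit
  0xbfed74) .nil)))) (nat_lit 0xed9f1f) (nat_lit 16966) (nat_lit 0xe12a50) (.node (.node (.node (.node (.node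
  .nil (nat_lit 0xed9fb2) (nat_lit 21491) (nat_lit 0xe17e7e) .nil) (nat_lit 0xedc05e) (nat_lit 25360) (nat_lit
  0xad83bc) (.node .nil (nat_lit 0xedc0f2) (nat_lit 10277) (nat_lit 0xd06e78) .nil)) (nat_lit 0xedc109)
  (nat_lit 26904) (nat_lit 0x6f808a) (.node (.node .nil (nat_lit 0xedc1a5) (nat_lit 13029) (nat_lit 0xd06f2e)
  .nil) (nat_lit 0xedc223) (nat_lit 22280) (nat_lit 0x7154d1) .nil)) (nat_lit 0xedc28f) (nat_lit 26613)
  (nat_lit 0xd06c05) (.node (.node (.node .nil (nat_lit 0xedc374) (nat_lit 9428) (nat_lit 0xf31266) .nil)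
  (nat_lit 0xedc3d8) (nat_lit 26023) (nat_lit 0xbfb234) .nil) (nat_lit 0xedc440) (nat_lit 16113) (nat_lit
  0xad8d9a) (.node (.node .nil (nat_lit 0xedc4ec) (nat_lit 21280) (nat_lit 0xad8246) .nil) (nat_lit 0xedc517)
  (nat_lit 21640) (nat_lit 0x7153e4) .nil))) (nat_lit 0xedc691) (nat_lit 26439) (nat_lit 0xbfb77c) (.node
  (.node (.node (.node .nil (nat_lit 0xedc76a) (nat_lit 25045) (nat_lit 0xd069e1) .nil) (nat_lit 0xedc7c6)
  (nat_lit 19975) (nat_lit 0xbfb62b) (.node .nil (nat_lit 0xedc81b) (nat_lit 22296) (nat_lit 0xd033e9) .nil))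
  (nat_lit 0xedc94c) (nat_lit 7526) (nat_lit 0xe17acd) (.node (.node .nil (nat_lit 0xedca66) (nat_lit 18536)
  (nat_lit 0xdcdb37) .nil) (nat_lit 0xedcaca) (nat_lit 21858) (nat_lit 0x9c9f4c) .nil)) (nat_lit 0xedcb31)
  (nat_lit 19718) (nat_lit 0xe178b1) (.node (.node (.node .nil (nat_lit 0xedcc05) (nat_lit 21204) (nat_lit
  0xf31d17) .nil) (nat_lit 0xedcca9) (nat_lit 7876) (nat_lit 0xf31dba) .nil) (nat_lit 0xedcd52) (nat_lit 1524)
  (nat_lit 0xf31c40) (.node (.node .nil (nat_lit 0xedcdfe) (nat_lit 21526) (nat_lit 0xe17e7e) .nil) (nat_lit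
  0xedce78) (nat_lit 5524) (nat_lit 0xf31f6a) .nil))))))
def t4_15 : T := (.node (.node (.node (.node (.node (.node (.node .nil (nat_lit 0xedcf2f) (nat_lit 2711)
  (nat_lit 0xbfbec3) .nil) (nat_lit 0xf3101b) (nat_lit 23120) (nat_lit 0xbfe61b) (.node .nil (nat_lit
  0xf310b6) (nat_lit 25125) (nat_lit 0xceb678) .nil)) (nat_lit 0xf3114c) (nat_lit 23814) (nat_lit 0xffa9a3)
  (.node (.node .nil (nat_lit 0xf311e1) (nat_lit 2689) (nat_lit 0xbfbec3) .nil) (nat_lit 0xf31266) (nat_lit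
  2240) (nat_lit 0xbfe12e) .nil)) (nat_lit 0xf312cb) (nat_lit 23686) (nat_lit 0xffaa25) (.node (.node (.node
  .nil (nat_lit 0xf31331) (nat_lit 19937) (nat_lit 0xbfb62b) .nil) (nat_lit 0xf3139c) (nat_lit 26161) (nat_lit
  0xbfb4fa) (.node .nil (nat_lit 0xf31405) (nat_lit 22881) (nat_lit 0xbfb501) .nil)) (nat_lit 0xf31552)
  (nat_lit 8144) (nat_lit 0xbfed74) (.node (.node .nil (nat_lit 0xf315ff) (nat_lit 15894) (nat_lit 0xffad11)
  .nil) (nat_lit 0xf31678) (nat_lit 20785) (nat_lit 0xbfbf38) .nil))) (nat_lit 0xf316d5) (nat_lit 15957)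
  (nat_lit 0xceb01b) (.node (.node (.node (.node .nil (nat_lit 0xf31782) (nat_lit 22421) (nat_lit 0xceb14d)
  .nil) (nat_lit 0xf3185e) (nat_lit 9157) (nat_lit 0xcebe90) (.node .nil (nat_lit 0xf31909) (nat_lit 22752)
  (nat_lit 0xbfe4cb) .nil)) (nat_lit 0xf31a23) (nat_lit 7686) (nat_lit 0xffa2cc) (.node (.node .nil (nat_lit
  0xf31b74) (nat_lit 23733) (nat_lit 0xcebdbb) .nil) (nat_lit 0xf31bd9) (nat_lit 26822) (nat_lit 0xffa336)
  .nil)) (nat_lit 0xf31c40) (nat_lit 376) (nat_lit 0x7157fb) (.node (.node (.node .nil (nat_lit 0xf31ced)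
  (nat_lit 24616) (nat_lit 0x1e8590) .nil) (nat_lit 0xf31d17) (nat_lit 8515) (nat_lit 0xfff306) .nil) (nat_lit
  0xf31dba) (nat_lit 1842) (nat_lit 0x824d75) (.node (.node .nil (nat_lit 0xf31e3d) (nat_lit 9926) (nat_lit
  0xffa6d3) .nil) (nat_lit 0xf31f6a) (nat_lit 1315) (nat_lit 0xfff17a) .nil)))) (nat_lit 0xf31fc7) (nat_lit
  18038) (nat_lit 0xffa729) (.node (.node (.node (.node (.node .nil (nat_lit 0xf3402b) (nat_lit 8216) (nat_lit
  0xbfed74) .nil) (nat_lit 0xf34087) (nat_lit 24752) (nat_lit 0xcee087) (.node .nil (nat_lit 0xf3417d)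
  (nat_lit 23779) (nat_lit 0xffa9a3) .nil)) (nat_lit 0xf341d1) (nat_lit 9719) (nat_lit 0xa13d30) (.node (.node
  .nil (nat_lit 0xf34256) (nat_lit 9745) (nat_lit 0x82412f) .nil) (nat_lit 0xf342fa) (nat_lit 23667) (nat_lit
  0xffaa25) .nil)) (nat_lit 0xf34300) (nat_lit 23077) (nat_lit 0xcee5cf) (.node (.node (.node .nil (nat_lit
  0xf343ac) (nat_lit 20680) (nat_lit 0xceeb44) .nil) (nat_lit 0xf34434) (nat_lit 23443) (nat_lit 0xffaceb)
  .nil) (nat_lit 0xf34562) (nat_lit 17080) (nat_lit 0xb3029f) (.node (.node .nil (nat_lit 0xf345ce) (nat_lit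
  10642) (nat_lit 0x821500) .nil) (nat_lit 0xf34649) (nat_lit 20744) (nat_lit 0xa1303c) .nil))) (nat_lit
  0xf346e5) (nat_lit 16081) (nat_lit 0x824dd8) (.node (.node (.node (.node .nil (nat_lit 0xf347b3) (nat_lit
  16562) (nat_lit 0x82177d) .nil) (nat_lit 0xf3486e) (nat_lit 6353) (nat_lit 0x824c8f) (.node .nil (nat_lit
  0xf34938) (nat_lit 18855) (nat_lit 0xa135d8) .nil)) (nat_lit 0xf34a13) (nat_lit 7667) (nat_lit 0xffa2cc)
  (.node (.node .nil (nat_lit 0xf34b45) (nat_lit 23008) (nat_lit 0xcee5cf) .nil) (nat_lit 0xf34be9) (nat_lit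
  5976) (nat_lit 0x6364a2) .nil)) (nat_lit 0xf34c71) (nat_lit 5350) (nat_lit 0xfff250) (.node (.node (.node
  .nil (nat_lit 0xf34cdd) (nat_lit 18144) (nat_lit 0xcee939) .nil) (nat_lit 0xf34d27) (nat_lit 8550) (nat_lit
  0xfff306) .nil) (nat_lit 0xf34d8b) (nat_lit 20438) (nat_lit 0xfff3aa) (.node (.node .nil (nat_lit 0xf34e0c)
  (nat_lit 562) (nat_lit 0x821ec3) .nil) (nat_lit 0xf34f5a) (nat_lit 1366) (nat_lit 0xfff17a) .nil)))))
  (nat_lit 0xf34ff6) (nat_lit 1432) (nat_lit 0x715134) (.node (.node (.node (.node (.node (.node .nil (nat_lit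
  0xffa0b0) (nat_lit 2480) (nat_lit 0x8ef0d2) .nil) (nat_lit 0xffa1e7) (nat_lit 24228) (nat_lit 0xe17b9a)
  (.node .nil (nat_lit 0xffa2cc) (nat_lit 1816) (nat_lit 0x7de976) .nil)) (nat_lit 0xffa336) (nat_lit 17843)
  (nat_lit 0xf34be9) (.node (.node .nil (nat_lit 0xffa39b) (nat_lit 25560) (nat_lit 0x6fd5f3) .nil) (nat_lit
  0xffa402) (nat_lit 21508) (nat_lit 0xe17e7e) .nil)) (nat_lit 0xffa4af) (nat_lit 1558) (nat_lit 0xf31c40)
  (.node (.node (.node .nil (nat_lit 0xffa555) (nat_lit 7910) (nat_lit 0xf31dba) .nil) (nat_lit 0xffa5f8)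
  (nat_lit 4962) (nat_lit 0x8ef3f9) (.node .nil (nat_lit 0xffa6d3) (nat_lit 2387) (nat_lit 0xf34e0c) .nil))
  (nat_lit 0xffa729) (nat_lit 6019) (nat_lit 0xf34ff6) (.node (.node .nil (nat_lit 0xffa784) (nat_lit 5558)
  (nat_lit 0xf31f6a) .nil) (nat_lit 0xffa859) (nat_lit 26117) (nat_lit 0xc20859) .nil))) (nat_lit 0xffa8f4)
  (nat_lit 20851) (nat_lit 0xf3402b) (.node (.node (.node (.node .nil (nat_lit 0xffa90e) (nat_lit 6309)
  (nat_lit 0xc2090f) .nil) (nat_lit 0xffa9a3) (nat_lit 11234) (nat_lit 0x8effa3) (.node .nil (nat_lit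
  0xffaa25) (nat_lit 11200) (nat_lit 0x8effa3) .nil)) (nat_lit 0xffaa88) (nat_lit 6257) (nat_lit 0xc2090f)
  (.node (.node .nil (nat_lit 0xffab72) (nat_lit 26583) (nat_lit 0xadd84f) .nil) (nat_lit 0xffabdf) (nat_lit
  22456) (nat_lit 0xcebced) .nil)) (nat_lit 0xffaceb) (nat_lit 11032) (nat_lit 0xcebbd8) (.node (.node (.node
  .nil (nat_lit 0xffad11) (nat_lit 4928) (nat_lit 0x8ef3f9) .nil) (nat_lit 0xffadbc) (nat_lit 7714) (nat_lit
  0x8efbbc) .nil) (nat_lit 0xffae3a) (nat_lit 22641) (nat_lit 0xc205f9) (.node (.node .nil (nat_lit 0xffae97)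
  (nat_lit 14405) (nat_lit 0xc20e97) .nil) (nat_lit 0xffaf6d) (nat_lit 10145) (nat_lit 0xc202cc) .nil))))
  (nat_lit 0xfff02c) (nat_lit 2438) (nat_lit 0xf34e0c) (.node (.node (.node (.node (.node .nil (nat_lit
  0xfff17a) (nat_lit 312) (nat_lit 0x7defb9) .nil) (nat_lit 0xfff1d6) (nat_lit 6070) (nat_lit 0xf34ff6) (.node
  .nil (nat_lit 0xfff250) (nat_lit 1280) (nat_lit 0xfff17a) .nil)) (nat_lit 0xfff2fc) (nat_lit 17922) (nat_lit
  0x8ea4fd) (.node (.node .nil (nat_lit 0xfff306) (nat_lit 1976) (nat_lit 0x7de19f) .nil) (nat_lit 0xfff3aa)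
  (nat_lit 7859) (nat_lit 0xf31dba) .nil)) (nat_lit 0xfff432) (nat_lit 5170) (nat_lit 0x8ea233) (.node (.node
  (.node .nil (nat_lit 0xfff564) (nat_lit 22264) (nat_lit 0x633cd7) .nil) (nat_lit 0xfff5c8) (nat_lit 17878)
  (nat_lit 0xf34be9) .nil) (nat_lit 0xfff64e) (nat_lit 2181) (nat_lit 0xc2564e) (.node (.node .nil (nat_lit
  0xfff718) (nat_lit 24436) (nat_lit 0xe12f18) .nil) (nat_lit 0xfff868) (nat_lit 18209) (nat_lit 0xfff1d6)
  .nil))) (nat_lit 0xfff8c4) (nat_lit 8481) (nat_lit 0xfff306) (.node (.node (.node (.node .nil (nat_lit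
  0xfff992) (nat_lit 16624) (nat_lit 0xfff432) .nil) (nat_lit 0xfffa14) (nat_lit 21137) (nat_lit 0xfffbee)
  (.node .nil (nat_lit 0xfffb42) (nat_lit 20400) (nat_lit 0xfff3aa) .nil)) (nat_lit 0xfffbee) (nat_lit 8464)
  (nat_lit 0xfff306) (.node (.node .nil (nat_lit 0xfffc76) (nat_lit 9411) (nat_lit 0xf31266) .nil) (nat_lit
  0xfffcda) (nat_lit 16215) (nat_lit 0xad8d9a) .nil)) (nat_lit 0xfffd20) (nat_lit 16405) (nat_lit 0xc25d21)
  (.node (.node (.node .nil (nat_lit 0xfffd8c) (nat_lit 21943) (nat_lit 0xad8ccc) .nil) (nat_lit 0xfffe0a)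
  (nat_lit 19173) (nat_lit 0xc25e0a) .nil) (nat_lit 0xfffea6) (nat_lit 22904) (nat_lit 0xbfb501) (.node (.node
  .nil (nat_lit 0xffff5c) (nat_lit 24949) (nat_lit 0xc25f5d) .nil) (nat_lit 0xfffff0) (nat_lit 5280) (nat_lit
  0xfff250) .nil))))))
def t4 : T := (.node (.node (.node (.node t4_0 (nat_lit 846350) (nat_lit 3799) (nat_lit 845266) t4_1) (nat_lit
  0x2323f3) (nat_lit 24993) (nat_lit 0x1e8fa8) (.node t4_2 (nat_lit 0x3114b4) (nat_lit 1600) (nat_lit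
  0x4cf971) t4_3)) (nat_lit 0x401284) (nat_lit 1143) (nat_lit 0x401054) (.node (.node t4_4 (nat_lit 0x4cffbf)
  (nat_lit 480) (nat_lit 0x7152b3) t4_5) (nat_lit 0x5ecc4b) (nat_lit 14184) (nat_lit 0x4cf063) (.node t4_6
  (nat_lit 0x6fd9a9) (nat_lit 13592) (nat_lit 846351) t4_7))) (nat_lit 0x7de6ab) (nat_lit 12736) (nat_lit
  0x3da8e8) (.node (.node (.node t4_8 (nat_lit 0x8ef6b1) (nat_lit 9239) (nat_lit 0xdc860a) t4_9) (nat_lit
  0x9cc739) (nat_lit 9384) (nat_lit 0x1e8741) (.node t4_10 (nat_lit 0xadd9b5) (nat_lit 10257) (nat_lit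
  0xd06e78) t4_11)) (nat_lit 0xbfeb17) (nat_lit 26551) (nat_lit 0xed9886) (.node (.node t4_12 (nat_lit
  0xceebe8) (nat_lit 2918) (nat_lit 0xc25307) t4_13) (nat_lit 0xdcdd54) (nat_lit 19664) (nat_lit 0xe178b1)
  (.node t4_14 (nat_lit 0xedced4) (nat_lit 16096) (nat_lit 0xad8d9a) t4_15))))
def u1_0 : T := (.node (.node (.node (.node (.node (.node (.node (.node .nil (nat_lit 342) (nat_lit 0)
  (nat_lit 342) .nil) (nat_lit 343) (nat_lit 51) (nat_lit 342) .nil) (nat_lit 636) (nat_lit 600) (nat_lit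
  3622) (.node (.node .nil (nat_lit 637) (nat_lit 2467) (nat_lit 636) .nil) (nat_lit 810) (nat_lit 608)
  (nat_lit 3340) .nil)) (nat_lit 811) (nat_lit 2533) (nat_lit 810) (.node (.node (.node .nil (nat_lit 902)
  (nat_lit 369) (nat_lit 4060) .nil) (nat_lit 903) (nat_lit 1619) (nat_lit 902) .nil) (nat_lit 1054) (nat_lit
  16) (nat_lit 342) (.node (.node .nil (nat_lit 1055) (nat_lit 118) (nat_lit 1054) .nil) (nat_lit 1634)
  (nat_lit 97) (nat_lit 1054) .nil))) (nat_lit 1635) (nat_lit 419) (nat_lit 1634) (.node (.node (.node (.node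
  .nil (nat_lit 1844) (nat_lit 2513) (nat_lit 810) .nil) (nat_lit 1845) (nat_lit 5573) (nat_lit 1844) .nil)
  (nat_lit 2494) (nat_lit 2448) (nat_lit 636) (.node (.node .nil (nat_lit 2495) (nat_lit 5506) (nat_lit 2494)
  .nil) (nat_lit 2616) (nat_lit 352) (nat_lit 4060) .nil)) (nat_lit 2617) (nat_lit 1586) (nat_lit 2616) (.node
  (.node (.node .nil (nat_lit 3162) (nat_lit 3704) (nat_lit 0xbfba70) .nil) (nat_lit 3163) (nat_lit 5922)
  (nat_lit 3162) .nil) (nat_lit 3340) (nat_lit 161) (nat_lit 3722) (.node (.node .nil (nat_lit 3341) (nat_lit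
  626) (nat_lit 3340) .nil) (nat_lit 3488) (nat_lit 2496) (nat_lit 810) .nil)))) (nat_lit 3489) (nat_lit 5538)
  (nat_lit 3488) (.node (.node (.node (.node (.node .nil (nat_lit 3622) (nat_lit 144) (nat_lit 3722) .nil)
  (nat_lit 3623) (nat_lit 578) (nat_lit 3622) .nil) (nat_lit 3722) (nat_lit 33) (nat_lit 342) (.node (.node
  .nil (nat_lit 3723) (nat_lit 178) (nat_lit 3722) .nil) (nat_lit 4060) (nat_lit 80) (nat_lit 1054) .nil))
  (nat_lit 4061) (nat_lit 386) (nat_lit 4060) (.node (.node (.node .nil (nat_lit 20528) (nat_lit 1683)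
  (nat_lit 22270) .nil) (nat_lit 21068) (nat_lit 4660) (nat_lit 20528) .nil) (nat_lit 21635) (nat_lit 1700)
  (nat_lit 22270) (.node (.node .nil (nat_lit 22270) (nat_lit 408) (nat_lit 4060) .nil) (nat_lit 832385)
  (nat_lit 5960) (nat_lit 0xa13878) .nil))) (nat_lit 832846) (nat_lit 5640) (nat_lit 0xd0375b) (.node (.node
  (.node (.node .nil (nat_lit 833774) (nat_lit 6001) (nat_lit 0x7db811) .nil) (nat_lit 835104) (nat_lit 4536)
  (nat_lit 0x6f8a1e) .nil) (nat_lit 844237) (nat_lit 5300) (nat_lit 846046) (.node (.node .nil (nat_lit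
  845570) (nat_lit 5319) (nat_lit 846046) .nil) (nat_lit 846046) (nat_lit 2280) (nat_lit 0x6f85c2) .nil))
  (nat_lit 847376) (nat_lit 5282) (nat_lit 846046) (.node (.node (.node .nil (nat_lit 0x123125) (nat_lit 4149)
  (nat_lit 0x123fae) .nil) (nat_lit 0x123189) (nat_lit 4881) (nat_lit 0x527017) .nil) (nat_lit 0x12320f)
  (nat_lit 4166) (nat_lit 0x123fae) (.node (.node .nil (nat_lit 0x1232a3) (nat_lit 6021) (nat_lit 0x123c29)
  .nil) (nat_lit 0x12353b) (nat_lit 5250) (nat_lit 0x1236bd) .nil))))) (nat_lit 0x123596) (nat_lit 5891)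
  (nat_lit 0x123c85) (.node (.node (.node (.node (.node (.node .nil (nat_lit 0x123610) (nat_lit 4680) (nat_lit
  21635) .nil) (nat_lit 0x1236bd) (nat_lit 2248) (nat_lit 0x6f86e8) .nil) (nat_lit 0x123837) (nat_lit 4360)
  (nat_lit 0xb3062d) (.node (.node .nil (nat_lit 0x12389a) (nat_lit 5768) (nat_lit 0xdcd446) .nil) (nat_lit
  0x123b1d) (nat_lit 4056) (nat_lit 0xadd276) .nil)) (nat_lit 0x123bb0) (nat_lit 5784) (nat_lit 0xc2001d)
  (.node (.node (.node .nil (nat_lit 0x123c29) (nat_lit 4130) (nat_lit 0x123fae) .nil) (nat_lit 0x123c85)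
  (nat_lit 3496) (nat_lit 0xcee1d0) .nil) (nat_lit 0x123f02) (nat_lit 4183) (nat_lit 0x123fae) (.node (.node
  .nil (nat_lit 0x123fae) (nat_lit 1448) (nat_lit 0xdcd373) .nil) (nat_lit 0x126043) (nat_lit 2257) (nat_lit
  0x6f85c2) .nil))) (nat_lit 0x126115) (nat_lit 1988) (nat_lit 0x126a7b) (.node (.node (.node (.node .nil
  (nat_lit 0x126293) (nat_lit 2049) (nat_lit 0x6f8d2a) .nil) (nat_lit 0x1263c5) (nat_lit 4488) (nat_lit
  0x1269fc) .nil) (nat_lit 0x1264f1) (nat_lit 2005) (nat_lit 0x126a7b) (.node (.node .nil (nat_lit 0x1265a6)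
  (nat_lit 1971) (nat_lit 0x126a7b) .nil) (nat_lit 0x126620) (nat_lit 4467) (nat_lit 0x1269fc) .nil)) (nat_lit
  0x126777) (nat_lit 2225) (nat_lit 0x6f86e8) (.node (.node (.node .nil (nat_lit 0x1268aa) (nat_lit 2023)
  (nat_lit 0x126a7b) .nil) (nat_lit 0x1269fc) (nat_lit 1576) (nat_lit 0xbfe83c) .nil) (nat_lit 0x126a7b)
  (nat_lit 465) (nat_lit 0x6f8862) (.node (.node .nil (nat_lit 0x126b2d) (nat_lit 4040) (nat_lit 0xd03471)
  .nil) (nat_lit 0x126c19) (nat_lit 4807) (nat_lit 0x126ec9) .nil)))) (nat_lit 0x126d4e) (nat_lit 4786)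
  (nat_lit 0x126ec9) (.node (.node (.node (.node (.node .nil (nat_lit 0x126ec9) (nat_lit 1824) (nat_lit
  0x237de5) .nil) (nat_lit 0x126f9e) (nat_lit 4981) (nat_lit 0x126115) .nil) (nat_lit 0x1ed044) (nat_lit 1747)
  (nat_lit 0x1ed957) (.node (.node .nil (nat_lit 0x1ed112) (nat_lit 1765) (nat_lit 0x1ed957) .nil) (nat_lit
  0x1ed239) (nat_lit 1782) (nat_lit 0x1ed957) .nil)) (nat_lit 0x1ed36e) (nat_lit 2615) (nat_lit 0x1edc1f)
  (.node (.node (.node .nil (nat_lit 0x1ed45b) (nat_lit 2581) (nat_lit 0x1edc1f) .nil) (nat_lit 0x1ed50d)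
  (nat_lit 2563) (nat_lit 0x1edc1f) .nil) (nat_lit 0x1ed627) (nat_lit 1799) (nat_lit 0x1ed957) (.node (.node
  .nil (nat_lit 0x1ed770) (nat_lit 2598) (nat_lit 0x1edc1f) .nil) (nat_lit 0x1ed800) (nat_lit 4741) (nat_lit
  0x1ed044) .nil))) (nat_lit 0x1ed957) (nat_lit 440) (nat_lit 1055) (.node (.node (.node (.node .nil (nat_lit
  0x1eda7d) (nat_lit 1936) (nat_lit 0x126a7b) .nil) (nat_lit 0x1edb2b) (nat_lit 4504) (nat_lit 2617) .nil)
  (nat_lit 0x1edc1f) (nat_lit 648) (nat_lit 3340) (.node (.node .nil (nat_lit 0x1edd48) (nat_lit 4759)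
  (nat_lit 0x1ed239) .nil) (nat_lit 0x1ede63) (nat_lit 2552) (nat_lit 810) .nil)) (nat_lit 0x1edf35) (nat_lit
  1816) (nat_lit 0x1ed957) (.node (.node (.node .nil (nat_lit 0x237044) (nat_lit 1910) (nat_lit 0x237de5)
  .nil) (nat_lit 0x2371be) (nat_lit 4851) (nat_lit 0x237e63) .nil) (nat_lit 0x237239) (nat_lit 1875) (nat_lit
  0x237de5) (.node .nil (nat_lit 0x2373c3) (nat_lit 2208) (nat_lit 0x6f86e8) .nil)))))) (nat_lit 0x23745b)
  (nat_lit 4512) (nat_lit 0x6f8a1e) (.node (.node (.node (.node (.node (.node (.node .nil (nat_lit 0x2375a0)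
  (nat_lit 1892) (nat_lit 0x237de5) .nil) (nat_lit 0x237627) (nat_lit 2032) (nat_lit 0x6f8d2a) .nil) (nat_lit
  0x2377dc) (nat_lit 2144) (nat_lit 0x6f87bf) (.node (.node .nil (nat_lit 0x237800) (nat_lit 4870) (nat_lit
  0x2375a0) .nil) (nat_lit 0x2379fb) (nat_lit 4818) (nat_lit 0x237a7d) .nil)) (nat_lit 0x237a7d) (nat_lit
  1841) (nat_lit 0x237de5) (.node (.node (.node .nil (nat_lit 0x237b86) (nat_lit 2424) (nat_lit 0x9cc1f6)
  .nil) (nat_lit 0x237c1f) (nat_lit 1927) (nat_lit 0x237de5) .nil) (nat_lit 0x237de5) (nat_lit 448) (nat_lit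
  0x6f8862) (.node (.node .nil (nat_lit 0x237e63) (nat_lit 1858) (nat_lit 0x237de5) .nil) (nat_lit 0x237f99)
  (nat_lit 4008) (nat_lit 0x8ef460) .nil))) (nat_lit 0x3118ee) (nat_lit 2896) (nat_lit 0x4cf0cf) (.node (.node
  (.node (.node .nil (nat_lit 0x311bc5) (nat_lit 5652) (nat_lit 0x3118ee) .nil) (nat_lit 0x311d0a) (nat_lit
  3800) (nat_lit 0x8247e1) .nil) (nat_lit 0x311e20) (nat_lit 5669) (nat_lit 0x3118ee) (.node (.node .nil
  (nat_lit 0x3148de) (nat_lit 3328) (nat_lit 0x3df6ff) .nil) (nat_lit 0x314989) (nat_lit 4545) (nat_lit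
  0x7107cb) .nil)) (nat_lit 0x314e10) (nat_lit 3840) (nat_lit 0x3df031) (.node (.node (.node .nil (nat_lit
  0x314f46) (nat_lit 5824) (nat_lit 0x3dfa09) .nil) (nat_lit 0x3da000) (nat_lit 3928) (nat_lit 0xf319a4) .nil)
  (nat_lit 0x3da6ce) (nat_lit 5088) (nat_lit 0x7de821) (.node (.node .nil (nat_lit 0x3da844) (nat_lit 5972)
  (nat_lit 0x3da000) .nil) (nat_lit 0x3dae8b) (nat_lit 5991) (nat_lit 0x3da000) .nil)))) (nat_lit 0x3df031)
  (nat_lit 1144) (nat_lit 0x82195b) (.node (.node (.node (.node (.node .nil (nat_lit 0x3df6ff) (nat_lit 904)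
  (nat_lit 0xfff080) .nil) (nat_lit 0x3dfa09) (nat_lit 3367) (nat_lit 0x3df6ff) .nil) (nat_lit 0x3dfcc6)
  (nat_lit 3348) (nat_lit 0x3df6ff) (.node (.node .nil (nat_lit 0x401810) (nat_lit 5105) (nat_lit 0x7de821)
  .nil) (nat_lit 0x401ac1) (nat_lit 4408) (nat_lit 0x82483c) .nil)) (nat_lit 0x401c0e) (nat_lit 5864) (nat_lit
  0xf3471f) (.node (.node (.node .nil (nat_lit 0x401ede) (nat_lit 5800) (nat_lit 0x907daa) .nil) (nat_lit
  0x404820) (nat_lit 5448) (nat_lit 0x907276) .nil) (nat_lit 0x40488d) (nat_lit 6033) (nat_lit 0x401ac1)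
  (.node (.node .nil (nat_lit 0x404e42) (nat_lit 5944) (nat_lit 0x8eaf3e) .nil) (nat_lit 0x404eee) (nat_lit
  4440) (nat_lit 0xed9bad) .nil))) (nat_lit 0x4ca0fe) (nat_lit 1240) (nat_lit 0xfff7b4) (.node (.node (.node
  (.node .nil (nat_lit 0x4ca630) (nat_lit 1664) (nat_lit 22270) .nil) (nat_lit 0x4ca940) (nat_lit 4628)
  (nat_lit 0x4ca630) .nil) (nat_lit 0x4caf8f) (nat_lit 3972) (nat_lit 0x4ca0fe) (.node (.node .nil (nat_lit
  0x4cf0cf) (nat_lit 776) (nat_lit 0x8ef74b) .nil) (nat_lit 0x4cf601) (nat_lit 2914) (nat_lit 0x4cf0cf) .nil))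
  (nat_lit 0x4cfb0d) (nat_lit 5456) (nat_lit 0x715349) (.node (.node (.node .nil (nat_lit 0x4cfdc2) (nat_lit
  2932) (nat_lit 0x4cf0cf) .nil) (nat_lit 0x527017) (nat_lit 1953) (nat_lit 0x126a7b) .nil) (nat_lit 0x5270ba)
  (nat_lit 4648) (nat_lit 0x4ca630) (.node (.node .nil (nat_lit 0x527140) (nat_lit 5816) (nat_lit 0x3148de)
  .nil) (nat_lit 0x5271ec) (nat_lit 4112) (nat_lit 0x123fae) .nil))))) (nat_lit 0x52726b) (nat_lit 4840)
  (nat_lit 0x237a7d) (.node (.node (.node (.node (.node (.node .nil (nat_lit 0x5272c7) (nat_lit 5041) (nat_lit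
  0x126293) .nil) (nat_lit 0x52733d) (nat_lit 5217) (nat_lit 0x126777) .nil) (nat_lit 0x527390) (nat_lit 4898)
  (nat_lit 0x527017) (.node (.node .nil (nat_lit 0x527c4d) (nat_lit 5872) (nat_lit 0x123c85) .nil) (nat_lit
  0x527ce1) (nat_lit 4961) (nat_lit 0x126115) .nil)) (nat_lit 0x527d1b) (nat_lit 4993) (nat_lit 0x1264f1)
  (.node (.node (.node .nil (nat_lit 0x527db6) (nat_lit 4934) (nat_lit 0x527017) .nil) (nat_lit 0x527e30)
  (nat_lit 4449) (nat_lit 0x1269fc) .nil) (nat_lit 0x527e9d) (nat_lit 3912) (nat_lit 0xfff49e) (.node (.node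
  .nil (nat_lit 0x527f67) (nat_lit 4769) (nat_lit 0x126ec9) .nil) (nat_lit 0x527fcb) (nat_lit 4915) (nat_lit
  0x527017) .nil))) (nat_lit 0x6f808b) (nat_lit 2102) (nat_lit 0x6f8d2a) (.node (.node (.node (.node .nil
  (nat_lit 0x6f81dd) (nat_lit 2119) (nat_lit 0x6f8d2a) .nil) (nat_lit 0x6f82f6) (nat_lit 2067) (nat_lit
  0x6f8d2a) .nil) (nat_lit 0x6f83a1) (nat_lit 2085) (nat_lit 0x6f8d2a) (.node (.node .nil (nat_lit 0x6f8494)
  (nat_lit 551) (nat_lit 0x6f8862) .nil) (nat_lit 0x6f85c2) (nat_lit 534) (nat_lit 0x6f8862) .nil)) (nat_lit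
  0x6f86e8) (nat_lit 517) (nat_lit 0x6f8862) (.node (.node (.node .nil (nat_lit 0x6f87bf) (nat_lit 499)
  (nat_lit 0x6f8862) .nil) (nat_lit 0x6f8862) (nat_lit 136) (nat_lit 1054) .nil) (nat_lit 0x6f8934) (nat_lit
  2165) (nat_lit 0x6f87bf) (.node (.node .nil (nat_lit 0x6f8a1e) (nat_lit 1608) (nat_lit 2616) .nil) (nat_lit
  0x6f8b49) (nat_lit 2183) (nat_lit 0x6f87bf) .nil)))) (nat_lit 0x6f8c7c) (nat_lit 5061) (nat_lit 0x6f82f6)
  (.node (.node (.node (.node (.node .nil (nat_lit 0x6f8d2a) (nat_lit 482) (nat_lit 0x6f8862) .nil) (nat_lit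
  0x6f8e01) (nat_lit 4200) (nat_lit 0x123fae) .nil) (nat_lit 0x6f8f56) (nat_lit 1728) (nat_lit 0x1ed957)
  (.node (.node .nil (nat_lit 0x7100fe) (nat_lit 4564) (nat_lit 0x7107cb) .nil) (nat_lit 0x710104) (nat_lit
  4581) (nat_lit 0x7107cb) .nil)) (nat_lit 0x710630) (nat_lit 4599) (nat_lit 0x7107cb) (.node (.node (.node
  .nil (nat_lit 0x7107cb) (nat_lit 1656) (nat_lit 4061) .nil) (nat_lit 0x7150cf) (nat_lit 5265) (nat_lit
  846046) .nil) (nat_lit 0x715349) (nat_lit 2440) (nat_lit 3623) (.node (.node .nil (nat_lit 0x715586)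
  (nat_lit 5475) (nat_lit 0x715349) .nil) (nat_lit 0x715601) (nat_lit 5492) (nat_lit 0x715349) .nil)))
  (nat_lit 0x7db284) (nat_lit 5906) (nat_lit 0x7db44b) (.node (.node (.node (.node .nil (nat_lit 0x7db44b)
  (nat_lit 3624) (nat_lit 0xadd15d) .nil) (nat_lit 0x7db811) (nat_lit 3952) (nat_lit 0x4ca0fe) .nil) (nat_lit
  0x7dbedf) (nat_lit 4608) (nat_lit 0x4ca630) (.node (.node .nil (nat_lit 0x7de0c8) (nat_lit 4104) (nat_lit
  0xa1365f) .nil) (nat_lit 0x7de607) (nat_lit 5124) (nat_lit 0x7de821) .nil)) (nat_lit 0x7de821) (nat_lit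
  2136) (nat_lit 0x6f8d2a) (.node (.node (.node .nil (nat_lit 0x7deeef) (nat_lit 5016) (nat_lit 0x1264f1)
  .nil) (nat_lit 0x821456) (nat_lit 5383) (nat_lit 0xd06b30) .nil) (nat_lit 0x8217d1) (nat_lit 2356) (nat_lit
  0x9cc1f6) (.node .nil (nat_lit 0x82180d) (nat_lit 3057) (nat_lit 0x8ea681) .nil)))))))
def u1_1 : T := (.node (.node (.node (.node (.node (.node (.node (.node .nil (nat_lit 0x821a70) (nat_lit 3654)
  (nat_lit 0x8ea29f) .nil) (nat_lit 0x821e6f) (nat_lit 3126) (nat_lit 0x8ea681) .nil) (nat_lit 0x824466)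
  (nat_lit 5600) (nat_lit 0xb35f0f) (.node (.node .nil (nat_lit 0x8247e1) (nat_lit 1048) (nat_lit 0xb30451)
  .nil) (nat_lit 0x82483c) (nat_lit 1525) (nat_lit 0xbfe83c) .nil)) (nat_lit 0x82496b) (nat_lit 275) (nat_lit
  0x8ea1b5) (.node (.node (.node .nil (nat_lit 0x824a41) (nat_lit 2864) (nat_lit 0xb35184) .nil) (nat_lit
  0x824e5f) (nat_lit 3075) (nat_lit 0x8ea681) .nil) (nat_lit 0x8ea0e3) (nat_lit 2978) (nat_lit 0xfff6e2)
  (.node (.node .nil (nat_lit 0x8ea1b5) (nat_lit 72) (nat_lit 342) .nil) (nat_lit 0x8ea29f) (nat_lit 997)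
  (nat_lit 0xb30451) .nil))) (nat_lit 0x8ea681) (nat_lit 802) (nat_lit 0xfff080) (.node (.node (.node (.node
  .nil (nat_lit 0x8eacb8) (nat_lit 5752) (nat_lit 0xad87a3) .nil) (nat_lit 0x8eaf3e) (nat_lit 3747) (nat_lit
  0x8247e1) .nil) (nat_lit 0x8ef07f) (nat_lit 2626) (nat_lit 0xffa67e) (.node (.node .nil (nat_lit 0x8ef460)
  (nat_lit 1248) (nat_lit 0x82496b) .nil) (nat_lit 0x8ef61c) (nat_lit 3505) (nat_lit 0xcee86e) .nil)) (nat_lit
  0x8ef74b) (nat_lit 200) (nat_lit 3722) (.node (.node (.node .nil (nat_lit 0x8ef9c0) (nat_lit 3782) (nat_lit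
  0x8247e1) .nil) (nat_lit 0x8efa46) (nat_lit 3409) (nat_lit 0xcee1d0) .nil) (nat_lit 0x902572) (nat_lit 4248)
  (nat_lit 0xbfb7d0) (.node (.node .nil (nat_lit 0x9026f5) (nat_lit 2339) (nat_lit 0x9cc1f6) .nil) (nat_lit
  0x90287f) (nat_lit 724) (nat_lit 0x8ef74b) .nil)))) (nat_lit 0x902928) (nat_lit 5560) (nat_lit 3488) (.node
  (.node (.node (.node (.node .nil (nat_lit 0x902b54) (nat_lit 1640) (nat_lit 902) .nil) (nat_lit 0x902f4b)
  (nat_lit 3287) (nat_lit 0xc25080) .nil) (nat_lit 0x9071f1) (nat_lit 4424) (nat_lit 0xb350d2) (.node (.node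
  .nil (nat_lit 0x907276) (nat_lit 2390) (nat_lit 0x9cc1f6) .nil) (nat_lit 0x907bc8) (nat_lit 3092) (nat_lit
  0x8ea681) .nil)) (nat_lit 0x907cfc) (nat_lit 292) (nat_lit 0x8ea1b5) (.node (.node (.node .nil (nat_lit
  0x907daa) (nat_lit 3216) (nat_lit 0xe12881) .nil) (nat_lit 0x907fd6) (nat_lit 2488) (nat_lit 636) .nil)
  (nat_lit 0x9c903c) (nat_lit 5080) (nat_lit 0x6f808b) (.node (.node .nil (nat_lit 0x9c93ba) (nat_lit 3479)
  (nat_lit 0xcee1d0) .nil) (nat_lit 0x9c9a05) (nat_lit 3559) (nat_lit 0xcee86e) .nil))) (nat_lit 0x9c9c66)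
  (nat_lit 4373) (nat_lit 0xa13422) (.node (.node (.node (.node .nil (nat_lit 0x9c9d31) (nat_lit 1268)
  (nat_lit 0x82496b) .nil) (nat_lit 0x9c9e1b) (nat_lit 4071) (nat_lit 0xceec71) .nil) (nat_lit 0x9cc1f6)
  (nat_lit 568) (nat_lit 0x6f8862) (.node (.node .nil (nat_lit 0x9cc270) (nat_lit 5032) (nat_lit 0x1268aa)
  .nil) (nat_lit 0x9cc849) (nat_lit 3816) (nat_lit 0xbfe96a) .nil)) (nat_lit 0x9ccc56) (nat_lit 4016) (nat_lit
  0xd03471) (.node (.node (.node .nil (nat_lit 0x9cce2b) (nat_lit 4295) (nat_lit 0xcebe3d) .nil) (nat_lit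
  0x9ccf7d) (nat_lit 1092) (nat_lit 0x82195b) .nil) (nat_lit 0xa13241) (nat_lit 3303) (nat_lit 0xf34ea0)
  (.node (.node .nil (nat_lit 0xa13422) (nat_lit 1508) (nat_lit 0xbfe83c) .nil) (nat_lit 0xa13574) (nat_lit
  2833) (nat_lit 0x90287f) .nil))))) (nat_lit 0xa1365f) (nat_lit 1424) (nat_lit 0xdcd373) (.node (.node (.node
  (.node (.node (.node .nil (nat_lit 0xa13878) (nat_lit 3864) (nat_lit 0x3df031) .nil) (nat_lit 0xa13bff)
  (nat_lit 5688) (nat_lit 0x4cf601) .nil) (nat_lit 0xa1600d) (nat_lit 3207) (nat_lit 0xf31e90) (.node (.node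
  .nil (nat_lit 0xa16412) (nat_lit 3606) (nat_lit 0xadd15d) .nil) (nat_lit 0xa1666f) (nat_lit 4711) (nat_lit
  0xf318f3) .nil)) (nat_lit 0xa16738) (nat_lit 3736) (nat_lit 0xe1781d) (.node (.node (.node .nil (nat_lit
  0xa169b3) (nat_lit 2373) (nat_lit 0x9cc1f6) .nil) (nat_lit 0xa16a34) (nat_lit 5334) (nat_lit 0xaddf7a) .nil)
  (nat_lit 0xad81c0) (nat_lit 887) (nat_lit 0xfff080) (.node (.node .nil (nat_lit 0xad85df) (nat_lit 3895)
  (nat_lit 0xfff49e) .nil) (nat_lit 0xad86f5) (nat_lit 1223) (nat_lit 0xfff7b4) .nil))) (nat_lit 0xad87a3)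
  (nat_lit 3047) (nat_lit 0xfff6e2) (.node (.node (.node (.node .nil (nat_lit 0xad887f) (nat_lit 3272)
  (nat_lit 0xe12881) .nil) (nat_lit 0xad8bf9) (nat_lit 5152) (nat_lit 0xedc63d) .nil) (nat_lit 0xadd15d)
  (nat_lit 980) (nat_lit 0xb30451) (.node (.node .nil (nat_lit 0xadd276) (nat_lit 1333) (nat_lit 0x907cfc)
  .nil) (nat_lit 0xadd321) (nat_lit 4324) (nat_lit 0xb3062d) .nil)) (nat_lit 0xadd543) (nat_lit 2679) (nat_lit
  0xffa67e) (.node (.node (.node .nil (nat_lit 0xaddcfc) (nat_lit 5430) (nat_lit 0xa169b3) .nil) (nat_lit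
  0xaddf7a) (nat_lit 2288) (nat_lit 0x9cc1f6) .nil) (nat_lit 0xb3004f) (nat_lit 3109) (nat_lit 0x8ea681)
  (.node (.node .nil (nat_lit 0xb30451) (nat_lit 224) (nat_lit 0x8ea1b5) .nil) (nat_lit 0xb3062d) (nat_lit
  1491) (nat_lit 0xbfe83c) .nil)))) (nat_lit 0xb3077a) (nat_lit 309) (nat_lit 0x8ea1b5) (.node (.node (.node
  (.node (.node .nil (nat_lit 0xb309f1) (nat_lit 3632) (nat_lit 0x8ea29f) .nil) (nat_lit 0xb30a76) (nat_lit
  5144) (nat_lit 0x2377dc) .nil) (nat_lit 0xb350d2) (nat_lit 1542) (nat_lit 0xbfe83c) (.node (.node .nil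
  (nat_lit 0xb35184) (nat_lit 741) (nat_lit 0x8ef74b) .nil) (nat_lit 0xb352ae) (nat_lit 2800) (nat_lit
  0xffa14a) .nil)) (nat_lit 0xb356b1) (nat_lit 2721) (nat_lit 0xffa261) (.node (.node (.node .nil (nat_lit
  0xb35c88) (nat_lit 5845) (nat_lit 0x8efa46) .nil) (nat_lit 0xb35f0f) (nat_lit 2704) (nat_lit 0xffa261) .nil)
  (nat_lit 0xbfb456) (nat_lit 4208) (nat_lit 0xbfb7d0) (.node (.node .nil (nat_lit 0xbfb7d0) (nat_lit 1457)
  (nat_lit 0xbfe83c) .nil) (nat_lit 0xbfb80d) (nat_lit 2824) (nat_lit 0xffa14a) .nil))) (nat_lit 0xbfb95a)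
  (nat_lit 1109) (nat_lit 0x82195b) (.node (.node (.node (.node .nil (nat_lit 0xbfba70) (nat_lit 1014)
  (nat_lit 0xb30451) .nil) (nat_lit 0xbfbe6f) (nat_lit 3522) (nat_lit 0xcee86e) .nil) (nat_lit 0xbfe466)
  (nat_lit 5409) (nat_lit 0x8217d1) (.node (.node .nil (nat_lit 0xbfe7e0) (nat_lit 3765) (nat_lit 0x8247e1)
  .nil) (nat_lit 0xbfe83c) (nat_lit 344) (nat_lit 0x8ea1b5) .nil)) (nat_lit 0xbfe96a) (nat_lit 1057) (nat_lit
  0x82195b) (.node (.node (.node .nil (nat_lit 0xbfea41) (nat_lit 963) (nat_lit 0xb30451) .nil) (nat_lit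
  0xbfee5f) (nat_lit 4256) (nat_lit 0xcebe3d) .nil) (nat_lit 0xc2001d) (nat_lit 3152) (nat_lit 0xf31e90)
  (.node .nil (nat_lit 0xc2014b) (nat_lit 1351) (nat_lit 0x907cfc) .nil)))))) (nat_lit 0xc20261) (nat_lit
  2757) (nat_lit 0xffa261) (.node (.node (.node (.node (.node (.node (.node .nil (nat_lit 0xc2067e) (nat_lit
  2661) (nat_lit 0xffa67e) .nil) (nat_lit 0xc20c46) (nat_lit 4952) (nat_lit 0x527017) .nil) (nat_lit 0xc20fc1)
  (nat_lit 3427) (nat_lit 0xcee1d0) (.node (.node .nil (nat_lit 0xc25080) (nat_lit 853) (nat_lit 0xfff080)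
  .nil) (nat_lit 0xc2549e) (nat_lit 946) (nat_lit 0xb30451) .nil)) (nat_lit 0xc256e2) (nat_lit 3013) (nat_lit
  0xfff6e2) (.node (.node (.node .nil (nat_lit 0xc257b5) (nat_lit 1205) (nat_lit 0xfff7b4) .nil) (nat_lit
  0xc2593f) (nat_lit 3462) (nat_lit 0xcee1d0) .nil) (nat_lit 0xc25ab8) (nat_lit 5392) (nat_lit 0x8217d1)
  (.node (.node .nil (nat_lit 0xceb1e0) (nat_lit 2407) (nat_lit 0x9cc1f6) .nil) (nat_lit 0xceb266) (nat_lit
  5364) (nat_lit 0xd06b30) .nil))) (nat_lit 0xceb85e) (nat_lit 3189) (nat_lit 0xf31e90) (.node (.node (.node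
  (.node .nil (nat_lit 0xcebc40) (nat_lit 3571) (nat_lit 0xc2549e) .nil) (nat_lit 0xcebe3d) (nat_lit 1474)
  (nat_lit 0xbfe83c) .nil) (nat_lit 0xcebf6b) (nat_lit 689) (nat_lit 0x8ef74b) (.node (.node .nil (nat_lit
  0xcee1d0) (nat_lit 912) (nat_lit 0xb30451) .nil) (nat_lit 0xcee256) (nat_lit 5700) (nat_lit 0xd0397c) .nil))
  (nat_lit 0xcee86e) (nat_lit 929) (nat_lit 0xb30451) (.node (.node (.node .nil (nat_lit 0xceec71) (nat_lit
  1360) (nat_lit 0xb3077a) .nil) (nat_lit 0xceee0c) (nat_lit 2696) (nat_lit 0xffa67e) .nil) (nat_lit 0xceef5b)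
  (nat_lit 1377) (nat_lit 0xb3077a) (.node (.node .nil (nat_lit 0xd03344) (nat_lit 3540) (nat_lit 0xcee86e)
  .nil) (nat_lit 0xd03471) (nat_lit 1287) (nat_lit 0x82496b) .nil)))) (nat_lit 0xd03526) (nat_lit 4391)
  (nat_lit 0x82483c) (.node (.node (.node (.node (.node .nil (nat_lit 0xd0375b) (nat_lit 2792) (nat_lit
  0xffa261) .nil) (nat_lit 0xd0397c) (nat_lit 2952) (nat_lit 0x4cf0cf) .nil) (nat_lit 0xd03afb) (nat_lit 3384)
  (nat_lit 0x3df6ff) (.node (.node .nil (nat_lit 0xd06108) (nat_lit 5528) (nat_lit 0x907fd6) .nil) (nat_lit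
  0xd06516) (nat_lit 3824) (nat_lit 0xd0663d) .nil)) (nat_lit 0xd0663d) (nat_lit 1127) (nat_lit 0x82195b)
  (.node (.node (.node .nil (nat_lit 0xd0676b) (nat_lit 4276) (nat_lit 0xcebe3d) .nil) (nat_lit 0xd068b7)
  (nat_lit 5189) (nat_lit 0xedc63d) .nil) (nat_lit 0xd06b30) (nat_lit 2305) (nat_lit 0x9cc1f6) (.node (.node
  .nil (nat_lit 0xdc80c5) (nat_lit 3237) (nat_lit 0xe12881) .nil) (nat_lit 0xdc84db) (nat_lit 1296) (nat_lit
  0x907cfc) .nil))) (nat_lit 0xdc86a7) (nat_lit 5733) (nat_lit 0xe12ee3) (.node (.node (.node (.node .nil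
  (nat_lit 0xdc87f0) (nat_lit 759) (nat_lit 0x8ef74b) .nil) (nat_lit 0xdc897b) (nat_lit 2856) (nat_lit
  0x90287f) .nil) (nat_lit 0xdc8afd) (nat_lit 4088) (nat_lit 0xedc8b7) (.node (.node .nil (nat_lit 0xdcd059)
  (nat_lit 3671) (nat_lit 0x8ea29f) .nil) (nat_lit 0xdcd225) (nat_lit 5584) (nat_lit 0xe17c02) .nil)) (nat_lit
  0xdcd373) (nat_lit 327) (nat_lit 0x8ea1b5) (.node (.node (.node .nil (nat_lit 0xdcd446) (nat_lit 3143)
  (nat_lit 0x8ea681) .nil) (nat_lit 0xdcddf8) (nat_lit 3712) (nat_lit 0xe1781d) .nil) (nat_lit 0xdcde7e)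
  (nat_lit 3944) (nat_lit 0xe12fb5) (.node .nil (nat_lit 0xe1213e) (nat_lit 4312) (nat_lit 0xcebe3d) .nil)))))
  (nat_lit 0xe122b9) (nat_lit 5169) (nat_lit 0xedc63d) (.node (.node (.node (.node (.node (.node .nil (nat_lit
  0xe12881) (nat_lit 836) (nat_lit 0xfff080) .nil) (nat_lit 0xe12c9f) (nat_lit 3876) (nat_lit 0xfff49e) .nil)
  (nat_lit 0xe12ee3) (nat_lit 2996) (nat_lit 0xfff6e2) (.node (.node .nil (nat_lit 0xe12fb5) (nat_lit 1188)
  (nat_lit 0xfff7b4) .nil) (nat_lit 0xe175bd) (nat_lit 5206) (nat_lit 0xedc63d) .nil)) (nat_lit 0xe1763a)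
  (nat_lit 5624) (nat_lit 0xb35f0f) (.node (.node (.node .nil (nat_lit 0xe1781d) (nat_lit 1031) (nat_lit
  0xb30451) .nil) (nat_lit 0xe17a61) (nat_lit 4343) (nat_lit 0xb3062d) .nil) (nat_lit 0xe17b36) (nat_lit 1399)
  (nat_lit 0xb3077a) (.node (.node .nil (nat_lit 0xe17c02) (nat_lit 2644) (nat_lit 0xffa67e) .nil) (nat_lit
  0xed9471) (nat_lit 2322) (nat_lit 0x9cc1f6) .nil))) (nat_lit 0xed97f7) (nat_lit 4728) (nat_lit 0x6f8f56)
  (.node (.node (.node (.node .nil (nat_lit 0xed99d0) (nat_lit 2880) (nat_lit 0xdc87f0) .nil) (nat_lit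
  0xed9afb) (nat_lit 1313) (nat_lit 0x907cfc) .nil) (nat_lit 0xed9bad) (nat_lit 1559) (nat_lit 0xbfe83c)
  (.node (.node .nil (nat_lit 0xed9dcf) (nat_lit 3254) (nat_lit 0xe12881) .nil) (nat_lit 0xedc5bb) (nat_lit
  5240) (nat_lit 0x126777) .nil)) (nat_lit 0xedc63d) (nat_lit 2200) (nat_lit 0x6f87bf) (.node (.node (.node
  .nil (nat_lit 0xedc8b7) (nat_lit 1416) (nat_lit 0xb3077a) .nil) (nat_lit 0xedc9e0) (nat_lit 3312) (nat_lit
  0xad81c0) .nil) (nat_lit 0xedcb9d) (nat_lit 3687) (nat_lit 0xbfba70) (.node (.node .nil (nat_lit 0xedcf83)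
  (nat_lit 3172) (nat_lit 0xf31e90) .nil) (nat_lit 0xf314a8) (nat_lit 4225) (nat_lit 0xbfb7d0) .nil))))
  (nat_lit 0xf3172f) (nat_lit 3584) (nat_lit 0xbfea41) (.node (.node (.node (.node (.node .nil (nat_lit
  0xf318f3) (nat_lit 1720) (nat_lit 22270) .nil) (nat_lit 0xf319a4) (nat_lit 1171) (nat_lit 0xfff7b4) .nil)
  (nat_lit 0xf31a8e) (nat_lit 2774) (nat_lit 0xffa261) (.node (.node .nil (nat_lit 0xf31e90) (nat_lit 819)
  (nat_lit 0xfff080) .nil) (nat_lit 0xf34498) (nat_lit 3392) (nat_lit 0xcee1d0) .nil)) (nat_lit 0xf3471f)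
  (nat_lit 3445) (nat_lit 0xcee1d0) (.node (.node (.node .nil (nat_lit 0xf348c2) (nat_lit 3030) (nat_lit
  0xfff6e2) .nil) (nat_lit 0xf34994) (nat_lit 1074) (nat_lit 0x82195b) .nil) (nat_lit 0xf34abf) (nat_lit 2739)
  (nat_lit 0xffa261) (.node (.node .nil (nat_lit 0xf34ea0) (nat_lit 870) (nat_lit 0xfff080) .nil) (nat_lit
  0xffa01d) (nat_lit 4694) (nat_lit 0xf318f3) .nil))) (nat_lit 0xffa14a) (nat_lit 706) (nat_lit 0x8ef74b)
  (.node (.node (.node (.node .nil (nat_lit 0xffa261) (nat_lit 672) (nat_lit 0x8ef74b) .nil) (nat_lit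
  0xffa67e) (nat_lit 664) (nat_lit 3723) .nil) (nat_lit 0xffac46) (nat_lit 5351) (nat_lit 0xaddf7a) (.node
  (.node .nil (nat_lit 0xffafc0) (nat_lit 3984) (nat_lit 0x8ef460) .nil) (nat_lit 0xfff080) (nat_lit 216)
  (nat_lit 343) .nil)) (nat_lit 0xfff49e) (nat_lit 1152) (nat_lit 0xfff7b4) (.node (.node (.node .nil (nat_lit
  0xfff6e2) (nat_lit 784) (nat_lit 0xfff080) .nil) (nat_lit 0xfff7b4) (nat_lit 258) (nat_lit 0x8ea1b5) .nil)
  (nat_lit 0xfff93e) (nat_lit 2961) (nat_lit 0xfff6e2) (.node .nil (nat_lit 0xfffab8) (nat_lit 5712) (nat_lit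
  0xfff93e) .nil)))))))
def u1 : T := (.node u1_0 (nat_lit 0x82195b) (nat_lit 241) (nat_lit 0x8ea1b5) u1_1)
def u2_0 : T := (.node (.node (.node (.node (.node (.node (.node .nil (nat_lit 20636) (nat_lit 0) (nat_lit
  20636) .nil) (nat_lit 20637) (nat_lit 310) (nat_lit 22099) (.node .nil (nat_lit 20838) (nat_lit 11702)
  (nat_lit 22440) .nil)) (nat_lit 20839) (nat_lit 11667) (nat_lit 22440) (.node (.node .nil (nat_lit 21216)
  (nat_lit 103) (nat_lit 20636) .nil) (nat_lit 21217) (nat_lit 68) (nat_lit 20636) (.node .nil (nat_lit 21274)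
  (nat_lit 14400) (nat_lit 0x710b3c) .nil))) (nat_lit 21275) (nat_lit 11824) (nat_lit 0x710b3d) (.node (.node
  (.node .nil (nat_lit 21550) (nat_lit 327) (nat_lit 22099) .nil) (nat_lit 21551) (nat_lit 292) (nat_lit
  22099) (.node .nil (nat_lit 21972) (nat_lit 4688) (nat_lit 0x710df2) .nil)) (nat_lit 21973) (nat_lit 11684)
  (nat_lit 22440) (.node (.node .nil (nat_lit 22098) (nat_lit 86) (nat_lit 20636) .nil) (nat_lit 22099)
  (nat_lit 51) (nat_lit 20636) (.node .nil (nat_lit 22440) (nat_lit 2800) (nat_lit 0x710ac6) .nil)))) (nat_lit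
  22441) (nat_lit 11393) (nat_lit 0x3df1ca) (.node (.node (.node (.node .nil (nat_lit 22744) (nat_lit 10721)
  (nat_lit 0x3df579) .nil) (nat_lit 22745) (nat_lit 16838) (nat_lit 24086) (.node .nil (nat_lit 22818)
  (nat_lit 20806) (nat_lit 24557) .nil)) (nat_lit 22819) (nat_lit 20771) (nat_lit 24557) (.node (.node .nil
  (nat_lit 23204) (nat_lit 17217) (nat_lit 0x3dff41) .nil) (nat_lit 23205) (nat_lit 16944) (nat_lit 0x710941)
  (.node .nil (nat_lit 23390) (nat_lit 21089) (nat_lit 0x3dfaa5) .nil))) (nat_lit 23391) (nat_lit 20881)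
  (nat_lit 0x3dfaa4) (.node (.node (.node .nil (nat_lit 23658) (nat_lit 16820) (nat_lit 24086) .nil) (nat_lit
  23659) (nat_lit 13032) (nat_lit 0xceba8f) (.node .nil (nat_lit 23952) (nat_lit 20788) (nat_lit 24557) .nil))
  (nat_lit 23953) (nat_lit 20823) (nat_lit 24557) (.node (.node .nil (nat_lit 24086) (nat_lit 4368) (nat_lit
  0x7108ba) .nil) (nat_lit 24087) (nat_lit 16802) (nat_lit 24086) (.node .nil (nat_lit 24556) (nat_lit 20754)
  (nat_lit 24557) .nil))))) (nat_lit 24557) (nat_lit 5921) (nat_lit 0x3df652) (.node (.node (.node (.node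
  (.node .nil (nat_lit 831494) (nat_lit 1105) (nat_lit 0x7dbd59) .nil) (nat_lit 831495) (nat_lit 2983)
  (nat_lit 834982) (.node .nil (nat_lit 831658) (nat_lit 2775) (nat_lit 834827) .nil)) (nat_lit 831659)
  (nat_lit 11041) (nat_lit 0x7dbf88) (.node (.node .nil (nat_lit 831824) (nat_lit 1399) (nat_lit 834801) .nil)
  (nat_lit 831825) (nat_lit 6020) (nat_lit 834111) (.node .nil (nat_lit 831996) (nat_lit 577) (nat_lit
  0x7db8bd) .nil))) (nat_lit 831997) (nat_lit 2566) (nat_lit 831996) (.node (.node (.node .nil (nat_lit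
  833124) (nat_lit 11526) (nat_lit 833125) .nil) (nat_lit 833125) (nat_lit 2724) (nat_lit 834827) (.node .nil
  (nat_lit 833224) (nat_lit 3553) (nat_lit 0x7dbb97) .nil)) (nat_lit 833225) (nat_lit 2948) (nat_lit 834982)
  (.node (.node .nil (nat_lit 833330) (nat_lit 2531) (nat_lit 831996) .nil) (nat_lit 833331) (nat_lit 2514)
  (nat_lit 831996) (.node .nil (nat_lit 833438) (nat_lit 1364) (nat_lit 834801) .nil)))) (nat_lit 833439)
  (nat_lit 6055) (nat_lit 834111) (.node (.node (.node (.node .nil (nat_lit 834110) (nat_lit 6038) (nat_lit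
  834111) .nil) (nat_lit 834111) (nat_lit 1346) (nat_lit 834801) (.node .nil (nat_lit 834194) (nat_lit 3505)
  (nat_lit 0x7db229) .nil)) (nat_lit 834195) (nat_lit 2548) (nat_lit 831996) (.node (.node .nil (nat_lit
  834408) (nat_lit 2914) (nat_lit 834982) .nil) (nat_lit 834409) (nat_lit 2931) (nat_lit 834982) (.node .nil
  (nat_lit 834500) (nat_lit 2741) (nat_lit 834827) .nil))) (nat_lit 834501) (nat_lit 2706) (nat_lit 834827)
  (.node (.node (.node .nil (nat_lit 834652) (nat_lit 1041) (nat_lit 0x7db4e7) .nil) (nat_lit 834653) (nat_lit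
  2583) (nat_lit 831996) (.node .nil (nat_lit 834800) (nat_lit 1382) (nat_lit 834801) .nil)) (nat_lit 834801)
  (nat_lit 344) (nat_lit 22099) (.node (.node .nil (nat_lit 834826) (nat_lit 2758) (nat_lit 834827) .nil)
  (nat_lit 834827) (nat_lit 648) (nat_lit 0x7db8bd) (.node .nil (nat_lit 834982) (nat_lit 673) (nat_lit
  0x7db103) .nil)))))) (nat_lit 834983) (nat_lit 2966) (nat_lit 834982) (.node (.node (.node (.node (.node
  (.node .nil (nat_lit 843930) (nat_lit 535) (nat_lit 847687) .nil) (nat_lit 843931) (nat_lit 2119) (nat_lit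
  847686) (.node .nil (nat_lit 844128) (nat_lit 11127) (nat_lit 847549) .nil)) (nat_lit 844129) (nat_lit 9191)
  (nat_lit 847548) (.node (.node .nil (nat_lit 844362) (nat_lit 19704) (nat_lit 0xadd669) .nil) (nat_lit
  844363) (nat_lit 28744) (nat_lit 0xa13091) (.node .nil (nat_lit 844720) (nat_lit 23351) (nat_lit 846957)
  .nil))) (nat_lit 844721) (nat_lit 26336) (nat_lit 0x401df5) (.node (.node (.node .nil (nat_lit 844932)
  (nat_lit 31620) (nat_lit 847255) .nil) (nat_lit 844933) (nat_lit 28560) (nat_lit 0x4011af) (.node .nil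
  (nat_lit 845182) (nat_lit 23488) (nat_lit 0x401b3a) .nil)) (nat_lit 845183) (nat_lit 23316) (nat_lit 846957)
  (.node (.node .nil (nat_lit 845396) (nat_lit 2100) (nat_lit 847686) .nil) (nat_lit 845397) (nat_lit 500)
  (nat_lit 847687) (.node .nil (nat_lit 845742) (nat_lit 11108) (nat_lit 847549) .nil)))) (nat_lit 845743)
  (nat_lit 9172) (nat_lit 847548) (.node (.node (.node (.node .nil (nat_lit 845938) (nat_lit 9154) (nat_lit
  847548) .nil) (nat_lit 845939) (nat_lit 11090) (nat_lit 847549) (.node .nil (nat_lit 846216) (nat_lit 517)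
  (nat_lit 847687) .nil)) (nat_lit 846217) (nat_lit 466) (nat_lit 847687) (.node (.node .nil (nat_lit 846498)
  (nat_lit 23334) (nat_lit 846957) .nil) (nat_lit 846499) (nat_lit 23282) (nat_lit 846957) (.node .nil
  (nat_lit 846680) (nat_lit 19057) (nat_lit 0x4047fc) .nil))) (nat_lit 846681) (nat_lit 31586) (nat_lit
  847255) (.node (.node (.node .nil (nat_lit 846956) (nat_lit 23299) (nat_lit 846957) .nil) (nat_lit 846957)
  (nat_lit 7424) (nat_lit 0x4019eb) (.node .nil (nat_lit 847254) (nat_lit 31603) (nat_lit 847255) .nil))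
  (nat_lit 847255) (nat_lit 16728) (nat_lit 0x636a29) (.node (.node .nil (nat_lit 847548) (nat_lit 2072)
  (nat_lit 0x71588a) .nil) (nat_lit 847549) (nat_lit 2648) (nat_lit 0x7dbe72) (.node .nil (nat_lit 847686)
  (nat_lit 483) (nat_lit 847687) .nil))))) (nat_lit 847687) (nat_lit 120) (nat_lit 20636) (.node (.node (.node
  (.node (.node .nil (nat_lit 0x123072) (nat_lit 3728) (nat_lit 0x5275f2) .nil) (nat_lit 0x123073) (nat_lit
  15648) (nat_lit 0x5275f3) (.node .nil (nat_lit 0x1230de) (nat_lit 3080) (nat_lit 0x7dbd58) .nil)) (nat_lit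
  0x1230df) (nat_lit 11368) (nat_lit 0x715ba0) (.node (.node .nil (nat_lit 0x123358) (nat_lit 12498) (nat_lit
  0x1230de) .nil) (nat_lit 0x123359) (nat_lit 11976) (nat_lit 834408) (.node .nil (nat_lit 0x1233f4) (nat_lit
  15234) (nat_lit 0x123072) .nil))) (nat_lit 0x1233f5) (nat_lit 29431) (nat_lit 0x123359) (.node (.node (.node
  .nil (nat_lit 0x12346c) (nat_lit 29958) (nat_lit 0x1239cd) .nil) (nat_lit 0x12346d) (nat_lit 10920) (nat_lit
  834653) (.node .nil (nat_lit 0x1234c0) (nat_lit 28695) (nat_lit 0x12346d) .nil)) (nat_lit 0x1234c1) (nat_lit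
  31142) (nat_lit 0x123960) (.node (.node .nil (nat_lit 0x123746) (nat_lit 29941) (nat_lit 0x1239cd) .nil)
  (nat_lit 0x123747) (nat_lit 18593) (nat_lit 0x5276d9) (.node .nil (nat_lit 0x1237ea) (nat_lit 29987)
  (nat_lit 0x123ef8) .nil)))) (nat_lit 0x1237eb) (nat_lit 21112) (nat_lit 0x715c95) (.node (.node (.node
  (.node .nil (nat_lit 0x123960) (nat_lit 15268) (nat_lit 0x123072) .nil) (nat_lit 0x123961) (nat_lit 15251)
  (nat_lit 0x123072) (.node .nil (nat_lit 0x1239cc) (nat_lit 12515) (nat_lit 0x1230de) .nil)) (nat_lit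
  0x1239cd) (nat_lit 12532) (nat_lit 0x1230de) (.node (.node .nil (nat_lit 0x123a4a) (nat_lit 15424) (nat_lit
  0x527a2e) .nil) (nat_lit 0x123a4b) (nat_lit 29412) (nat_lit 0x123359) (.node .nil (nat_lit 0x123ae6)
  (nat_lit 22632) (nat_lit 0xdcda60) .nil))) (nat_lit 0x123ae7) (nat_lit 15504) (nat_lit 0x527a83) (.node
  (.node (.node .nil (nat_lit 0x123d7e) (nat_lit 12566) (nat_lit 0x1230de) .nil) (nat_lit 0x123d7f) (nat_lit
  15312) (nat_lit 0x527675) (.node .nil (nat_lit 0x123dd2) (nat_lit 15286) (nat_lit 0x123072) .nil)) (nat_lit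
  0x123dd3) (nat_lit 18576) (nat_lit 0x5276d9) (.node (.node .nil (nat_lit 0x123e54) (nat_lit 12549) (nat_lit
  0x1230de) .nil) (nat_lit 0x123e55) (nat_lit 15329) (nat_lit 0x527675) .nil))))))
def u2_1 : T := (.node (.node (.node (.node (.node (.node (.node .nil (nat_lit 0x123ef9) (nat_lit 29894)
  (nat_lit 0x123358) .nil) (nat_lit 0x1260ee) (nat_lit 14466) (nat_lit 0x126368) (.node .nil (nat_lit
  0x1260ef) (nat_lit 12024) (nat_lit 834983) .nil)) (nat_lit 0x1261b8) (nat_lit 14551) (nat_lit 0x126368)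
  (.node (.node .nil (nat_lit 0x1261b9) (nat_lit 32112) (nat_lit 0x237957) .nil) (nat_lit 0x12623e) (nat_lit
  21648) (nat_lit 0x2374f6) (.node .nil (nat_lit 0x12623f) (nat_lit 29479) (nat_lit 0x1260ef) .nil))) (nat_lit
  0x126368) (nat_lit 3576) (nat_lit 0x7dbb97) (.node (.node (.node .nil (nat_lit 0x126369) (nat_lit 29000)
  (nat_lit 0x715d6f) .nil) (nat_lit 0x12645c) (nat_lit 21526) (nat_lit 0x126f33) (.node .nil (nat_lit
  0x12645d) (nat_lit 20584) (nat_lit 0x715a5a) .nil)) (nat_lit 0x12650a) (nat_lit 21712) (nat_lit 0x2378ac)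
  (.node (.node .nil (nat_lit 0x12650b) (nat_lit 23681) (nat_lit 0x6f8cd0) .nil) (nat_lit 0x12668c) (nat_lit
  30901) (nat_lit 0x126806) (.node .nil (nat_lit 0x12668d) (nat_lit 23969) (nat_lit 0x6f830c) .nil))))
  (nat_lit 0x1267da) (nat_lit 21840) (nat_lit 0x237f34) (.node (.node (.node (.node .nil (nat_lit 0x1267db)
  (nat_lit 14328) (nat_lit 834194) .nil) (nat_lit 0x126806) (nat_lit 14500) (nat_lit 0x126368) (.node .nil
  (nat_lit 0x126807) (nat_lit 14534) (nat_lit 0x126368) .nil)) (nat_lit 0x126950) (nat_lit 22232) (nat_lit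
  0xdcdcaf) (.node (.node .nil (nat_lit 0x126951) (nat_lit 21536) (nat_lit 0x237113) .nil) (nat_lit 0x126ad6)
  (nat_lit 22440) (nat_lit 0xa13c67) (.node .nil (nat_lit 0x126ad7) (nat_lit 30919) (nat_lit 0x126806) .nil)))
  (nat_lit 0x126b80) (nat_lit 21904) (nat_lit 0x23768a) (.node (.node (.node .nil (nat_lit 0x126b81) (nat_lit
  25632) (nat_lit 0x23768b) .nil) (nat_lit 0x126cb4) (nat_lit 21506) (nat_lit 0x126f33) (.node .nil (nat_lit
  0x126cb5) (nat_lit 14483) (nat_lit 0x126368) .nil)) (nat_lit 0x126de2) (nat_lit 29313) (nat_lit 0x6f8999)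
  (.node (.node .nil (nat_lit 0x126de3) (nat_lit 14517) (nat_lit 0x126368) .nil) (nat_lit 0x126e64) (nat_lit
  28177) (nat_lit 0x6f8645) (.node .nil (nat_lit 0x126e65) (nat_lit 22689) (nat_lit 0x6f8644) .nil)))))
  (nat_lit 0x126f32) (nat_lit 30883) (nat_lit 0x1260ee) (.node (.node (.node (.node (.node .nil (nat_lit
  0x126f33) (nat_lit 6304) (nat_lit 0x237771) .nil) (nat_lit 0x1e8122) (nat_lit 18192) (nat_lit 0x6369ae)
  (.node .nil (nat_lit 0x1e8123) (nat_lit 17768) (nat_lit 0xdc8b06) .nil)) (nat_lit 0x1e818e) (nat_lit 18037)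
  (nat_lit 0x1e89cb) (.node (.node .nil (nat_lit 0x1e818f) (nat_lit 16450) (nat_lit 0x1e84c6) .nil) (nat_lit
  0x1e835e) (nat_lit 30152) (nat_lit 0xd063d8) (.node .nil (nat_lit 0x1e835f) (nat_lit 11925) (nat_lit
  0x1e8b1a) .nil))) (nat_lit 0x1e83f2) (nat_lit 25201) (nat_lit 0x2fc777) (.node (.node (.node .nil (nat_lit
  0x1e83f3) (nat_lit 18144) (nat_lit 0x636e37) .nil) (nat_lit 0x1e846a) (nat_lit 29301) (nat_lit 0x1e8c2e)
  (.node .nil (nat_lit 0x1e846b) (nat_lit 18054) (nat_lit 0x1e89cb) .nil)) (nat_lit 0x1e84c6) (nat_lit 4248)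
  (nat_lit 0xb3507e) (.node (.node .nil (nat_lit 0x1e84c7) (nat_lit 18071) (nat_lit 0x1e89cb) .nil) (nat_lit
  0x1e8616) (nat_lit 11959) (nat_lit 0x1e8b1a) (.node .nil (nat_lit 0x1e8617) (nat_lit 18003) (nat_lit
  0x1e89cb) .nil)))) (nat_lit 0x1e86ba) (nat_lit 17248) (nat_lit 0x636558) (.node (.node (.node (.node .nil
  (nat_lit 0x1e86bb) (nat_lit 11942) (nat_lit 0x1e8b1a) .nil) (nat_lit 0x1e8966) (nat_lit 11908) (nat_lit
  0x1e8b1a) (.node .nil (nat_lit 0x1e8967) (nat_lit 23842) (nat_lit 0x1e8c2f) .nil)) (nat_lit 0x1e89ca)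
  (nat_lit 16487) (nat_lit 0x1e84c6) (.node (.node .nil (nat_lit 0x1e89cb) (nat_lit 4752) (nat_lit 0x6361eb)
  .nil) (nat_lit 0x1e8b1a) (nat_lit 2904) (nat_lit 0x710ac6) (.node .nil (nat_lit 0x1e8b1b) (nat_lit 17384)
  (nat_lit 0x7dec3e) .nil))) (nat_lit 0x1e8bb6) (nat_lit 18020) (nat_lit 0x1e89cb) (.node (.node (.node .nil
  (nat_lit 0x1e8bb7) (nat_lit 29383) (nat_lit 0x1e86bb) .nil) (nat_lit 0x1e8c2e) (nat_lit 11800) (nat_lit
  0x710df3) (.node .nil (nat_lit 0x1e8c2f) (nat_lit 7640) (nat_lit 0x7deb0b) .nil)) (nat_lit 0x1e8c82)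
  (nat_lit 16469) (nat_lit 0x1e84c6) (.node (.node .nil (nat_lit 0x1e8c83) (nat_lit 17986) (nat_lit 0x1e89cb)
  .nil) (nat_lit 0x1e8e52) (nat_lit 11890) (nat_lit 0x1e8b1a) .nil))))) (nat_lit 0x1e8e53) (nat_lit 23672)
  (nat_lit 0x7de52d) (.node (.node (.node (.node (.node (.node .nil (nat_lit 0x1e8efe) (nat_lit 18160)
  (nat_lit 0x636db0) .nil) (nat_lit 0x1e8eff) (nat_lit 29366) (nat_lit 0x1e835f) (.node .nil (nat_lit
  0x1ed0e8) (nat_lit 7767) (nat_lit 0x1edf99) .nil)) (nat_lit 0x1ed0e9) (nat_lit 24215) (nat_lit 0x1edf98)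
  (.node (.node .nil (nat_lit 0x1ed1be) (nat_lit 24086) (nat_lit 0x1edad1) .nil) (nat_lit 0x1ed1bf) (nat_lit
  21488) (nat_lit 0x126f33) (.node .nil (nat_lit 0x1ed294) (nat_lit 15217) (nat_lit 0x123072) .nil))) (nat_lit
  0x1ed295) (nat_lit 24069) (nat_lit 0x1edad1) (.node (.node (.node .nil (nat_lit 0x1ed3c2) (nat_lit 21432)
  (nat_lit 0xceb14c) .nil) (nat_lit 0x1ed3c3) (nat_lit 24035) (nat_lit 0x1edad1) (.node .nil (nat_lit
  0x1ed4f6) (nat_lit 22584) (nat_lit 0xceb679) .nil)) (nat_lit 0x1ed4f7) (nat_lit 7750) (nat_lit 0x1edf99)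
  (.node (.node .nil (nat_lit 0x1ed5a0) (nat_lit 26421) (nat_lit 0x1edde5) .nil) (nat_lit 0x1ed5a1) (nat_lit
  24103) (nat_lit 0x1edad1) (.node .nil (nat_lit 0x1ed68a) (nat_lit 7699) (nat_lit 0x1edf99) .nil)))) (nat_lit
  0x1ed68b) (nat_lit 24148) (nat_lit 0x1ed68a) (.node (.node (.node (.node .nil (nat_lit 0x1ed7dc) (nat_lit
  7733) (nat_lit 0x1edf99) .nil) (nat_lit 0x1ed7dd) (nat_lit 24197) (nat_lit 0x1edf98) (.node .nil (nat_lit
  0x1ed8ac) (nat_lit 12200) (nat_lit 0x710c09) .nil)) (nat_lit 0x1ed8ad) (nat_lit 26386) (nat_lit 0x1edde5)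
  (.node (.node .nil (nat_lit 0x1ed9fa) (nat_lit 24183) (nat_lit 0x1ed68a) .nil) (nat_lit 0x1ed9fb) (nat_lit
  29832) (nat_lit 0x63308c) (.node .nil (nat_lit 0x1edad0) (nat_lit 24052) (nat_lit 0x1edad1) .nil))) (nat_lit
  0x1edad1) (nat_lit 7682) (nat_lit 0x1edf99) (.node (.node (.node .nil (nat_lit 0x1edb86) (nat_lit 12481)
  (nat_lit 0x1230de) .nil) (nat_lit 0x1edb87) (nat_lit 24279) (nat_lit 0x1ed4f7) (.node .nil (nat_lit
  0x1edcb2) (nat_lit 31105) (nat_lit 0x1233f4) .nil)) (nat_lit 0x1edcb3) (nat_lit 24230) (nat_lit 0x1ed7dc)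
  (.node (.node .nil (nat_lit 0x1edde4) (nat_lit 26404) (nat_lit 0x1edde5) .nil) (nat_lit 0x1edde5) (nat_lit
  9064) (nat_lit 0x7de3e2) (.node .nil (nat_lit 0x1edece) (nat_lit 24165) (nat_lit 0x1ed68a) .nil)))))
  (nat_lit 0x1edecf) (nat_lit 29921) (nat_lit 0x1239cd) (.node (.node (.node (.node (.node .nil (nat_lit
  0x1edf98) (nat_lit 7716) (nat_lit 0x1edf99) .nil) (nat_lit 0x1edf99) (nat_lit 1704) (nat_lit 0x7dedc4)
  (.node .nil (nat_lit 0x23246a) (nat_lit 23808) (nat_lit 0x1e8c2f) .nil)) (nat_lit 0x23246b) (nat_lit 29280)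
  (nat_lit 0x1e8c2e) (.node (.node .nil (nat_lit 0x2324c6) (nat_lit 31760) (nat_lit 0x1e8c83) .nil) (nat_lit
  0x2324c7) (nat_lit 840) (nat_lit 0x4caf22) (.node .nil (nat_lit 0x23253c) (nat_lit 31736) (nat_lit 0x3da734)
  .nil))) (nat_lit 0x23253d) (nat_lit 25624) (nat_lit 0x3141cc) (.node (.node (.node .nil (nat_lit 0x232590)
  (nat_lit 13157) (nat_lit 0x232dd5) .nil) (nat_lit 0x232591) (nat_lit 31664) (nat_lit 0x1e86ba) (.node .nil
  (nat_lit 0x232616) (nat_lit 31192) (nat_lit 0x23736f) .nil)) (nat_lit 0x232617) (nat_lit 11872) (nat_lit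
  0x1e8b1a) (.node (.node .nil (nat_lit 0x2326ba) (nat_lit 13174) (nat_lit 0x232dd5) .nil) (nat_lit 0x2326bb)
  (nat_lit 31681) (nat_lit 0x1e86ba) (.node .nil (nat_lit 0x232740) (nat_lit 3618) (nat_lit 0x2324c7) .nil))))
  (nat_lit 0x232741) (nat_lit 31749) (nat_lit 0x232f04) (.node (.node (.node (.node .nil (nat_lit 0x2327ec)
  (nat_lit 13140) (nat_lit 0x232dd5) .nil) (nat_lit 0x2327ed) (nat_lit 15608) (nat_lit 0x527b79) (.node .nil
  (nat_lit 0x232c2e) (nat_lit 17969) (nat_lit 0x1e89cb) .nil)) (nat_lit 0x232c2f) (nat_lit 14854) (nat_lit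
  0x232740) (.node (.node .nil (nat_lit 0x232c82) (nat_lit 31206) (nat_lit 0x2327ed) .nil) (nat_lit 0x232c83)
  (nat_lit 3653) (nat_lit 0x2324c7) (.node .nil (nat_lit 0x232d78) (nat_lit 14820) (nat_lit 0x232740) .nil)))
  (nat_lit 0x232d79) (nat_lit 24360) (nat_lit 0x9028d2) (.node (.node (.node .nil (nat_lit 0x232dd4) (nat_lit
  23825) (nat_lit 0x1e8c2f) .nil) (nat_lit 0x232dd5) (nat_lit 3224) (nat_lit 0xf31c41) (.node .nil (nat_lit
  0x232e52) (nat_lit 30840) (nat_lit 0x821a71) .nil)) (nat_lit 0x232e53) (nat_lit 13122) (nat_lit 0x232dd5)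
  (.node (.node .nil (nat_lit 0x232efe) (nat_lit 3636) (nat_lit 0x2324c7) .nil) (nat_lit 0x232eff) (nat_lit
  24520) (nat_lit 0xedc81a) .nil))))))
def u2_2 : T := (.node (.node (.node (.node (.node (.node (.node .nil (nat_lit 0x232f05) (nat_lit 14837)
  (nat_lit 0x232740) .nil) (nat_lit 0x232fa8) (nat_lit 27608) (nat_lit 0xfff49f) (.node .nil (nat_lit
  0x232fa9) (nat_lit 3670) (nat_lit 0x2324c7) .nil)) (nat_lit 0x2370e8) (nat_lit 21733) (nat_lit 0x2378ac)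
  (.node (.node .nil (nat_lit 0x2370e9) (nat_lit 21639) (nat_lit 0x237113) .nil) (nat_lit 0x237112) (nat_lit
  18472) (nat_lit 0x5e925d) (.node .nil (nat_lit 0x237113) (nat_lit 6321) (nat_lit 0x237771) .nil))) (nat_lit
  0x237294) (nat_lit 21570) (nat_lit 0x237113) (.node (.node (.node .nil (nat_lit 0x237295) (nat_lit 21814)
  (nat_lit 0x237f35) .nil) (nat_lit 0x23736e) (nat_lit 28160) (nat_lit 0x6f8645) (.node .nil (nat_lit
  0x23736f) (nat_lit 15576) (nat_lit 0x527a83) .nil)) (nat_lit 0x2374f6) (nat_lit 6338) (nat_lit 0x237771)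
  (.node (.node .nil (nat_lit 0x2374f7) (nat_lit 32024) (nat_lit 0x314925) .nil) (nat_lit 0x23750c) (nat_lit
  21750) (nat_lit 0x2378ac) (.node .nil (nat_lit 0x23750d) (nat_lit 21703) (nat_lit 0x2374f6) .nil))))
  (nat_lit 0x23768a) (nat_lit 6423) (nat_lit 0x237771) (.node (.node (.node (.node .nil (nat_lit 0x23768b)
  (nat_lit 8680) (nat_lit 0x314703) .nil) (nat_lit 0x237770) (nat_lit 21797) (nat_lit 0x237f35) (.node .nil
  (nat_lit 0x237771) (nat_lit 1432) (nat_lit 0x4ca9ed) .nil)) (nat_lit 0x2378ac) (nat_lit 6355) (nat_lit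
  0x237771) (.node (.node .nil (nat_lit 0x2378ad) (nat_lit 23952) (nat_lit 0x6f830c) .nil) (nat_lit 0x237956)
  (nat_lit 21605) (nat_lit 0x237113) (.node .nil (nat_lit 0x237957) (nat_lit 21588) (nat_lit 0x237113) .nil)))
  (nat_lit 0x237ad0) (nat_lit 6406) (nat_lit 0x237771) (.node (.node (.node .nil (nat_lit 0x237ad1) (nat_lit
  21777) (nat_lit 0x237f35) .nil) (nat_lit 0x237b2a) (nat_lit 21667) (nat_lit 0x2374f6) (.node .nil (nat_lit
  0x237b2b) (nat_lit 21895) (nat_lit 0x237ad0) .nil)) (nat_lit 0x237cb2) (nat_lit 21622) (nat_lit 0x237113)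
  (.node (.node .nil (nat_lit 0x237cb3) (nat_lit 21684) (nat_lit 0x2374f6) .nil) (nat_lit 0x237d48) (nat_lit
  15944) (nat_lit 0xe1282d) (.node .nil (nat_lit 0x237d49) (nat_lit 32097) (nat_lit 0x237ecf) .nil)))))
  (nat_lit 0x237ece) (nat_lit 21863) (nat_lit 0x237f34) (.node (.node (.node (.node (.node .nil (nat_lit
  0x237ecf) (nat_lit 21553) (nat_lit 0x237113) .nil) (nat_lit 0x237f34) (nat_lit 6389) (nat_lit 0x237771)
  (.node .nil (nat_lit 0x237f35) (nat_lit 6372) (nat_lit 0x237771) .nil)) (nat_lit 0x2f9072) (nat_lit 13336)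
  (nat_lit 0xed906f) (.node (.node .nil (nat_lit 0x2f9073) (nat_lit 19255) (nat_lit 0x2f9e54) .nil) (nat_lit
  0x2f90de) (nat_lit 19237) (nat_lit 0x2f9e54) (.node .nil (nat_lit 0x2f90df) (nat_lit 29729) (nat_lit
  0x633ffd) .nil))) (nat_lit 0x2f9124) (nat_lit 30404) (nat_lit 0x2f9072) (.node (.node (.node .nil (nat_lit
  0x2f9125) (nat_lit 16241) (nat_lit 0x633a19) .nil) (nat_lit 0x2f9188) (nat_lit 27432) (nat_lit 0x907e81)
  (.node .nil (nat_lit 0x2f9189) (nat_lit 19219) (nat_lit 0x2f9e54) .nil)) (nat_lit 0x2f946c) (nat_lit 30328)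
  (nat_lit 0xf34301) (.node (.node .nil (nat_lit 0x2f946d) (nat_lit 18225) (nat_lit 0x63330b) .nil) (nat_lit
  0x2f94c0) (nat_lit 12065) (nat_lit 0x6331da) (.node .nil (nat_lit 0x2f94c1) (nat_lit 30785) (nat_lit
  0x6331db) .nil)))) (nat_lit 0x2f953a) (nat_lit 30386) (nat_lit 0x2f9072) (.node (.node (.node (.node .nil
  (nat_lit 0x2f953b) (nat_lit 18081) (nat_lit 0x63343f) .nil) (nat_lit 0x2f9596) (nat_lit 20982) (nat_lit
  0x2f9ef9) (.node .nil (nat_lit 0x2f9597) (nat_lit 27400) (nat_lit 0x824b17) .nil)) (nat_lit 0x2f9a4a)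
  (nat_lit 29589) (nat_lit 0x2f94c0) (.node (.node .nil (nat_lit 0x2f9a4b) (nat_lit 28600) (nat_lit 0x4011af)
  .nil) (nat_lit 0x2f9ae6) (nat_lit 29623) (nat_lit 0x2f94c0) (.node .nil (nat_lit 0x2f9ae7) (nat_lit 15121)
  (nat_lit 0x63325d) .nil))) (nat_lit 0x2f9b1c) (nat_lit 20912) (nat_lit 0x2f9ef9) (.node (.node (.node .nil
  (nat_lit 0x2f9b1d) (nat_lit 19202) (nat_lit 0x2f9e54) .nil) (nat_lit 0x2f9bb0) (nat_lit 20946) (nat_lit
  0x2f9ef9) (.node .nil (nat_lit 0x2f9bb1) (nat_lit 17240) (nat_lit 0x3dff41) .nil)) (nat_lit 0x2f9e54)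
  (nat_lit 5384) (nat_lit 0x522439) (.node (.node .nil (nat_lit 0x2f9e55) (nat_lit 14680) (nat_lit 0x5ec2c1)
  .nil) (nat_lit 0x2f9ef8) (nat_lit 29793) (nat_lit 0x633c7a) .nil))))) (nat_lit 0x2f9ef9) (nat_lit 6008)
  (nat_lit 0x3df652) (.node (.node (.node (.node (.node (.node .nil (nat_lit 0x2f9f02) (nat_lit 14209)
  (nat_lit 0x63399e) .nil) (nat_lit 0x2f9f03) (nat_lit 29761) (nat_lit 0x63399f) (.node .nil (nat_lit
  0x2f9fae) (nat_lit 20964) (nat_lit 0x2f9ef9) .nil)) (nat_lit 0x2f9faf) (nat_lit 29606) (nat_lit 0x2f94c0)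
  (.node (.node .nil (nat_lit 0x2fc0ee) (nat_lit 28888) (nat_lit 0xf342fb) .nil) (nat_lit 0x2fc0ef) (nat_lit
  4896) (nat_lit 0x5e9d80) (.node .nil (nat_lit 0x2fc114) (nat_lit 18631) (nat_lit 0x2fcd4f) .nil))) (nat_lit
  0x2fc115) (nat_lit 25392) (nat_lit 0x5e9714) (.node (.node (.node .nil (nat_lit 0x2fc23e) (nat_lit 24978)
  (nat_lit 0x2fc776) .nil) (nat_lit 0x2fc23f) (nat_lit 25218) (nat_lit 0x2fc777) (.node .nil (nat_lit
  0x2fc3c4) (nat_lit 14577) (nat_lit 0x5ec2c1) .nil)) (nat_lit 0x2fc3c5) (nat_lit 28856) (nat_lit 0xe17058)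
  (.node (.node .nil (nat_lit 0x2fc45c) (nat_lit 18611) (nat_lit 0x2fcd4f) .nil) (nat_lit 0x2fc45d) (nat_lit
  25252) (nat_lit 0x2fc777) (.node .nil (nat_lit 0x2fc5a6) (nat_lit 27489) (nat_lit 0x5ec6df) .nil))))
  (nat_lit 0x2fc5a7) (nat_lit 18258) (nat_lit 0x2fc0ef) (.node (.node (.node (.node .nil (nat_lit 0x2fc68c)
  (nat_lit 18480) (nat_lit 0x5e9be3) .nil) (nat_lit 0x2fc68d) (nat_lit 30278) (nat_lit 0x2fcb2d) (.node .nil
  (nat_lit 0x2fc776) (nat_lit 8200) (nat_lit 0x90715d) .nil)) (nat_lit 0x2fc777) (nat_lit 8464) (nat_lit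
  0x5e9176) (.node (.node .nil (nat_lit 0x2fc806) (nat_lit 18512) (nat_lit 0x5e95c5) .nil) (nat_lit 0x2fc807)
  (nat_lit 28664) (nat_lit 0x3df98e) (.node .nil (nat_lit 0x2fc9fc) (nat_lit 25269) (nat_lit 0x2fc777) .nil)))
  (nat_lit 0x2fc9fd) (nat_lit 14960) (nat_lit 0x5e9f50) (.node (.node (.node .nil (nat_lit 0x2fcad6) (nat_lit
  5160) (nat_lit 0x5225c3) .nil) (nat_lit 0x2fcad7) (nat_lit 25040) (nat_lit 0x5e925c) (.node .nil (nat_lit
  0x2fcb2c) (nat_lit 18416) (nat_lit 0x5e98c9) .nil)) (nat_lit 0x2fcb2d) (nat_lit 13192) (nat_lit 0x232dd5)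
  (.node (.node .nil (nat_lit 0x2fccb4) (nat_lit 18295) (nat_lit 0x2fc0ef) .nil) (nat_lit 0x2fccb5) (nat_lit
  25280) (nat_lit 0x5e943e) (.node .nil (nat_lit 0x2fcd4e) (nat_lit 25328) (nat_lit 0x5e9eab) .nil)))))
  (nat_lit 0x2fcd4f) (nat_lit 5024) (nat_lit 0x5e9eaa) (.node (.node (.node (.node (.node .nil (nat_lit
  0x2fce64) (nat_lit 25235) (nat_lit 0x2fc777) .nil) (nat_lit 0x2fce65) (nat_lit 18277) (nat_lit 0x2fc0ef)
  (.node .nil (nat_lit 0x2fcf9e) (nat_lit 25424) (nat_lit 0x5e9933) .nil)) (nat_lit 0x2fcf9f) (nat_lit 18834)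
  (nat_lit 0x2fcad6) (.node (.node .nil (nat_lit 0x311006) (nat_lit 30264) (nat_lit 0x2327ec) .nil) (nat_lit
  0x311007) (nat_lit 31832) (nat_lit 0x2fc114) (.node .nil (nat_lit 0x3110aa) (nat_lit 26070) (nat_lit
  0x311665) .nil))) (nat_lit 0x3110ab) (nat_lit 26053) (nat_lit 0x311665) (.node (.node (.node .nil (nat_lit
  0x31132c) (nat_lit 28552) (nat_lit 0x3df3b7) .nil) (nat_lit 0x31132d) (nat_lit 32198) (nat_lit 0x3115e3)
  (.node .nil (nat_lit 0x311380) (nat_lit 26464) (nat_lit 0x4cf52b) .nil)) (nat_lit 0x311381) (nat_lit 18872)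
  (nat_lit 0x5221dc) (.node (.node .nil (nat_lit 0x31154e) (nat_lit 26087) (nat_lit 0x311665) .nil) (nat_lit
  0x31154f) (nat_lit 26036) (nat_lit 0x311665) (.node .nil (nat_lit 0x3115e2) (nat_lit 32184) (nat_lit
  0x401a6c) .nil)))) (nat_lit 0x3115e3) (nat_lit 25473) (nat_lit 0x4cfe44) (.node (.node (.node (.node .nil
  (nat_lit 0x311664) (nat_lit 20904) (nat_lit 0x3dfaa4) .nil) (nat_lit 0x311665) (nat_lit 8912) (nat_lit
  0x4cfee8) (.node .nil (nat_lit 0x3116c8) (nat_lit 30232) (nat_lit 0x5ece37) .nil)) (nat_lit 0x3116c9)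
  (nat_lit 25456) (nat_lit 0x4cfe44) (.node (.node .nil (nat_lit 0x311914) (nat_lit 26481) (nat_lit 0x4cf52b)
  .nil) (nat_lit 0x311915) (nat_lit 27217) (nat_lit 0x4cf52a) (.node .nil (nat_lit 0x3119b8) (nat_lit 9880)
  (nat_lit 0xffa01c) .nil))) (nat_lit 0x3119b9) (nat_lit 23184) (nat_lit 0x4cfaf6) (.node (.node (.node .nil
  (nat_lit 0x311a3e) (nat_lit 26134) (nat_lit 0x311cf1) .nil) (nat_lit 0x311a3f) (nat_lit 26117) (nat_lit
  0x311cf1) (.node .nil (nat_lit 0x311a92) (nat_lit 10368) (nat_lit 0x4cf7fb) .nil)) (nat_lit 0x311a93)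
  (nat_lit 23201) (nat_lit 0x4cfaf6) (.node (.node .nil (nat_lit 0x311c5c) (nat_lit 25096) (nat_lit 0x9c9d9c)
  .nil) (nat_lit 0x311c5d) (nat_lit 20417) (nat_lit 0x4cfc38) .nil))))))
def u2_3 : T := (.node (.node (.node (.node (.node (.node (.node .nil (nat_lit 0x311cf1) (nat_lit 8929)
  (nat_lit 0x4cfee8) .nil) (nat_lit 0x311f76) (nat_lit 27862) (nat_lit 0x3119b8) (.node .nil (nat_lit
  0x311f77) (nat_lit 20400) (nat_lit 0x4cfc38) .nil)) (nat_lit 0x311fda) (nat_lit 26100) (nat_lit 0x311cf1)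
  (.node (.node .nil (nat_lit 0x311fdb) (nat_lit 26151) (nat_lit 0x311cf1) .nil) (nat_lit 0x31409a) (nat_lit
  8752) (nat_lit 0x3dfe17) (.node .nil (nat_lit 0x31409b) (nat_lit 9440) (nat_lit 0x3dfe16) .nil))) (nat_lit
  0x3141cc) (nat_lit 8661) (nat_lit 0x314703) (.node (.node (.node .nil (nat_lit 0x3141cd) (nat_lit 8627)
  (nat_lit 0x314703) .nil) (nat_lit 0x31424a) (nat_lit 16884) (nat_lit 0x31431c) (.node .nil (nat_lit
  0x31424b) (nat_lit 16337) (nat_lit 0x710f8f) .nil)) (nat_lit 0x31431c) (nat_lit 4385) (nat_lit 0x7108ba)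
  (.node (.node .nil (nat_lit 0x31431d) (nat_lit 16866) (nat_lit 0x31431c) .nil) (nat_lit 0x314484) (nat_lit
  17200) (nat_lit 0x3dff41) (.node .nil (nat_lit 0x314485) (nat_lit 16961) (nat_lit 0x710941) .nil))))
  (nat_lit 0x3145d2) (nat_lit 10704) (nat_lit 0x3df579) (.node (.node (.node (.node .nil (nat_lit 0x3145d3)
  (nat_lit 16901) (nat_lit 0x31431c) .nil) (nat_lit 0x314654) (nat_lit 4465) (nat_lit 0x7101a8) (.node .nil
  (nat_lit 0x314655) (nat_lit 8644) (nat_lit 0x314703) .nil)) (nat_lit 0x314702) (nat_lit 2385) (nat_lit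
  0x71069c) (.node (.node .nil (nat_lit 0x314703) (nat_lit 1856) (nat_lit 0x3df2e0) .nil) (nat_lit 0x314872)
  (nat_lit 20848) (nat_lit 0x3df653) (.node .nil (nat_lit 0x314873) (nat_lit 5904) (nat_lit 0x3df652) .nil)))
  (nat_lit 0x314924) (nat_lit 20711) (nat_lit 0x314873) (.node (.node (.node .nil (nat_lit 0x314925) (nat_lit
  20676) (nat_lit 0x314873) .nil) (nat_lit 0x314aa2) (nat_lit 2817) (nat_lit 0x710ac6) (.node .nil (nat_lit
  0x314aa3) (nat_lit 11376) (nat_lit 0x3df1ca) .nil)) (nat_lit 0x314bf4) (nat_lit 4705) (nat_lit 0x710df2)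
  (.node (.node .nil (nat_lit 0x314bf5) (nat_lit 11764) (nat_lit 0x314aa2) .nil) (nat_lit 0x314c6c) (nat_lit
  7912) (nat_lit 0xe17b9b) (.node .nil (nat_lit 0x314c6d) (nat_lit 11747) (nat_lit 0x314aa2) .nil)))))
  (nat_lit 0x314d3a) (nat_lit 14417) (nat_lit 0x710b3c) (.node (.node (.node (.node (.node .nil (nat_lit
  0x314d3b) (nat_lit 11841) (nat_lit 0x710b3d) .nil) (nat_lit 0x314ebc) (nat_lit 20659) (nat_lit 0x314873)
  (.node .nil (nat_lit 0x314ebd) (nat_lit 20693) (nat_lit 0x314873) .nil)) (nat_lit 0x314fea) (nat_lit 21072)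
  (nat_lit 0x3dfaa5) (.node (.node .nil (nat_lit 0x314feb) (nat_lit 20864) (nat_lit 0x3dfaa4) .nil) (nat_lit
  0x3da156) (nat_lit 21048) (nat_lit 0xedc3d9) (.node .nil (nat_lit 0x3da157) (nat_lit 28944) (nat_lit
  0x7de4d6) .nil))) (nat_lit 0x3da1fa) (nat_lit 26968) (nat_lit 0x8ef74a) (.node (.node (.node .nil (nat_lit
  0x3da1fb) (nat_lit 29220) (nat_lit 0x3da9be) .nil) (nat_lit 0x3da32a) (nat_lit 7399) (nat_lit 0x3dada1)
  (.node .nil (nat_lit 0x3da32b) (nat_lit 9024) (nat_lit 0x7de3e2) .nil)) (nat_lit 0x3da386) (nat_lit 10465)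
  (nat_lit 0x314702) (.node (.node .nil (nat_lit 0x3da387) (nat_lit 8609) (nat_lit 0x314703) .nil) (nat_lit
  0x3da548) (nat_lit 7016) (nat_lit 0xf310b7) (.node .nil (nat_lit 0x3da549) (nat_lit 4360) (nat_lit 0xfff64f)
  .nil)))) (nat_lit 0x3da5e4) (nat_lit 7348) (nat_lit 0x3dada1) (.node (.node (.node (.node .nil (nat_lit
  0x3da5e5) (nat_lit 23237) (nat_lit 0x3da5e4) .nil) (nat_lit 0x3da734) (nat_lit 17825) (nat_lit 0x314bf4)
  (.node .nil (nat_lit 0x3da735) (nat_lit 22264) (nat_lit 0xfff869) .nil)) (nat_lit 0x3da798) (nat_lit 30600)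
  (nat_lit 0x902a02) (.node (.node .nil (nat_lit 0x3da799) (nat_lit 31636) (nat_lit 0x3dafdc) .nil) (nat_lit
  0x3da912) (nat_lit 26560) (nat_lit 0x7dec3f) (.node .nil (nat_lit 0x3da913) (nat_lit 17280) (nat_lit
  0x7dec3e) .nil))) (nat_lit 0x3da9be) (nat_lit 11729) (nat_lit 0x314aa2) (.node (.node (.node .nil (nat_lit
  0x3da9bf) (nat_lit 21768) (nat_lit 0x2378ac) .nil) (nat_lit 0x3dab6e) (nat_lit 7330) (nat_lit 0x3dada1)
  (.node .nil (nat_lit 0x3dab6f) (nat_lit 7382) (nat_lit 0x3dada1) .nil)) (nat_lit 0x3dabc2) (nat_lit 22615)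
  (nat_lit 0x3da548) (.node (.node .nil (nat_lit 0x3dabc3) (nat_lit 16759) (nat_lit 0x3da549) .nil) (nat_lit
  0x3dad0c) (nat_lit 17137) (nat_lit 0x314654) .nil))))) (nat_lit 0x3dad0d) (nat_lit 16740) (nat_lit 0x3da549)
  (.node (.node (.node (.node (.node (.node .nil (nat_lit 0x3dada0) (nat_lit 7365) (nat_lit 0x3dada1) .nil)
  (nat_lit 0x3dada1) (nat_lit 1600) (nat_lit 0x7dedc4) (.node .nil (nat_lit 0x3daf70) (nat_lit 24545) (nat_lit
  0x314c6c) .nil)) (nat_lit 0x3daf71) (nat_lit 18712) (nat_lit 0x5e9177) (.node (.node .nil (nat_lit 0x3dafdc)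
  (nat_lit 16920) (nat_lit 0x31431c) .nil) (nat_lit 0x3dafdd) (nat_lit 23256) (nat_lit 0x3da5e4) (.node .nil
  (nat_lit 0x3df09c) (nat_lit 5938) (nat_lit 0x3df652) .nil))) (nat_lit 0x3df09d) (nat_lit 13720) (nat_lit
  0xe12dc8) (.node (.node (.node .nil (nat_lit 0x3df1ca) (nat_lit 2689) (nat_lit 834827) .nil) (nat_lit
  0x3df1cb) (nat_lit 9768) (nat_lit 0xfff7b5) (.node .nil (nat_lit 0x3df2e0) (nat_lit 432) (nat_lit 847687)
  .nil)) (nat_lit 0x3df2e1) (nat_lit 1910) (nat_lit 0x3df2e0) (.node (.node .nil (nat_lit 0x3df3b6) (nat_lit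
  10785) (nat_lit 833331) .nil) (nat_lit 0x3df3b7) (nat_lit 10738) (nat_lit 0x3df579) (.node .nil (nat_lit
  0x3df42e) (nat_lit 1874) (nat_lit 0x3df2e0) .nil)))) (nat_lit 0x3df42f) (nat_lit 2192) (nat_lit 846216)
  (.node (.node (.node (.node .nil (nat_lit 0x3df578) (nat_lit 10616) (nat_lit 0x8ef6b0) .nil) (nat_lit
  0x3df579) (nat_lit 2497) (nat_lit 831996) (.node .nil (nat_lit 0x3df652) (nat_lit 1329) (nat_lit 834801)
  .nil)) (nat_lit 0x3df653) (nat_lit 5955) (nat_lit 0x3df652) (.node (.node .nil (nat_lit 0x3df704) (nat_lit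
  11410) (nat_lit 0x3df1ca) .nil) (nat_lit 0x3df705) (nat_lit 10168) (nat_lit 0x821e6e) (.node .nil (nat_lit
  0x3df8d8) (nat_lit 8695) (nat_lit 0x3df42e) .nil))) (nat_lit 0x3df8d9) (nat_lit 1892) (nat_lit 0x3df2e0)
  (.node (.node (.node .nil (nat_lit 0x3df98e) (nat_lit 10833) (nat_lit 834195) .nil) (nat_lit 0x3df98f)
  (nat_lit 10759) (nat_lit 0x3df579) (.node .nil (nat_lit 0x3dfaa4) (nat_lit 5991) (nat_lit 0x3df652) .nil))
  (nat_lit 0x3dfaa5) (nat_lit 6097) (nat_lit 833438) (.node (.node .nil (nat_lit 0x3dfbf2) (nat_lit 15416)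
  (nat_lit 0x527675) .nil) (nat_lit 0x3dfbf3) (nat_lit 11428) (nat_lit 0x3df1ca) (.node .nil (nat_lit
  0x3dfc6a) (nat_lit 5972) (nat_lit 0x3df652) .nil))))) (nat_lit 0x3dfc6b) (nat_lit 6129) (nat_lit 831824)
  (.node (.node (.node (.node (.node .nil (nat_lit 0x3dfd3c) (nat_lit 11505) (nat_lit 833125) .nil) (nat_lit
  0x3dfd3d) (nat_lit 11447) (nat_lit 0x3df1ca) (.node .nil (nat_lit 0x3dfe16) (nat_lit 2144) (nat_lit 845397)
  .nil)) (nat_lit 0x3dfe17) (nat_lit 1927) (nat_lit 0x3df2e0) (.node (.node .nil (nat_lit 0x3dff40) (nat_lit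
  10897) (nat_lit 834653) .nil) (nat_lit 0x3dff41) (nat_lit 4513) (nat_lit 834652) (.node .nil (nat_lit
  0x4010f8) (nat_lit 17120) (nat_lit 0x314654) .nil))) (nat_lit 0x4010f9) (nat_lit 23169) (nat_lit 0x7ded68)
  (.node (.node (.node .nil (nat_lit 0x4011ae) (nat_lit 24528) (nat_lit 0x314c6c) .nil) (nat_lit 0x4011af)
  (nat_lit 10776) (nat_lit 0x3df579) (.node .nil (nat_lit 0x401228) (nat_lit 25600) (nat_lit 0x3141cc) .nil))
  (nat_lit 0x401229) (nat_lit 25558) (nat_lit 0x4014e7) (.node (.node .nil (nat_lit 0x40137e) (nat_lit 17808)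
  (nat_lit 0x314bf4) .nil) (nat_lit 0x40137f) (nat_lit 28583) (nat_lit 0x4011af) (.node .nil (nat_lit
  0x4014e6) (nat_lit 10448) (nat_lit 0x314702) .nil)))) (nat_lit 0x4014e7) (nat_lit 8592) (nat_lit 0x314703)
  (.node (.node (.node (.node .nil (nat_lit 0x4015b0) (nat_lit 18312) (nat_lit 0x2fc0ef) .nil) (nat_lit
  0x4015b1) (nat_lit 29207) (nat_lit 0x401760) (.node .nil (nat_lit 0x401636) (nat_lit 18936) (nat_lit
  0x522027) .nil)) (nat_lit 0x401637) (nat_lit 20449) (nat_lit 0x7deba6) (.node (.node .nil (nat_lit 0x401760)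
  (nat_lit 11712) (nat_lit 0x314aa2) .nil) (nat_lit 0x401761) (nat_lit 29008) (nat_lit 0x314aa3) (.node .nil
  (nat_lit 0x4018bc) (nat_lit 31367) (nat_lit 0x401a6d) .nil))) (nat_lit 0x4018bd) (nat_lit 31702) (nat_lit
  0x401e73) (.node (.node (.node .nil (nat_lit 0x4019ea) (nat_lit 7477) (nat_lit 0x4019eb) .nil) (nat_lit
  0x4019eb) (nat_lit 1617) (nat_lit 0x7dedc4) (.node .nil (nat_lit 0x401a6c) (nat_lit 24424) (nat_lit
  0xed9a57) .nil)) (nat_lit 0x401a6d) (nat_lit 16024) (nat_lit 0xe17caf) (.node (.node .nil (nat_lit 0x401b3a)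
  (nat_lit 7511) (nat_lit 0x4019eb) .nil) (nat_lit 0x401b3b) (nat_lit 23478) (nat_lit 0x401df4) .nil))))))
def u2_4 : T := (.node (.node (.node (.node (.node (.node (.node .nil (nat_lit 0x401ca3) (nat_lit 28961)
  (nat_lit 0x7de4d6) .nil) (nat_lit 0x401df4) (nat_lit 7460) (nat_lit 0x4019eb) (.node .nil (nat_lit 0x401df5)
  (nat_lit 9041) (nat_lit 0x7de3e2) .nil)) (nat_lit 0x401e72) (nat_lit 25144) (nat_lit 0xf34939) (.node (.node
  .nil (nat_lit 0x401e73) (nat_lit 17297) (nat_lit 0x7dec3e) .nil) (nat_lit 0x401f24) (nat_lit 7617) (nat_lit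
  0x7deb0b) (.node .nil (nat_lit 0x401f25) (nat_lit 7494) (nat_lit 0x4019eb) .nil))) (nat_lit 0x404132)
  (nat_lit 19091) (nat_lit 0x4047fc) (.node (.node (.node .nil (nat_lit 0x404133) (nat_lit 31224) (nat_lit
  0x2327ed) .nil) (nat_lit 0x40419e) (nat_lit 31924) (nat_lit 0x4047fd) (.node .nil (nat_lit 0x40419f)
  (nat_lit 19108) (nat_lit 0x4047fc) .nil)) (nat_lit 0x404218) (nat_lit 19040) (nat_lit 0x4047fc) (.node
  (.node .nil (nat_lit 0x404219) (nat_lit 28616) (nat_lit 0x3df3b6) .nil) (nat_lit 0x4042b4) (nat_lit 29185)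
  (nat_lit 0x401760) (.node .nil (nat_lit 0x4042b5) (nat_lit 31952) (nat_lit 0x404751) .nil)))) (nat_lit
  0x40447a) (nat_lit 31026) (nat_lit 0x40447b) (.node (.node (.node (.node .nil (nat_lit 0x40447b) (nat_lit
  14904) (nat_lit 0x232efe) .nil) (nat_lit 0x4044d6) (nat_lit 31047) (nat_lit 0x40447b) (.node .nil (nat_lit
  0x4044d7) (nat_lit 31384) (nat_lit 0x401a6d) .nil)) (nat_lit 0x404750) (nat_lit 31943) (nat_lit 0x4047fd)
  (.node (.node .nil (nat_lit 0x404751) (nat_lit 19127) (nat_lit 0x4047fc) .nil) (nat_lit 0x4047fc) (nat_lit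
  5320) (nat_lit 0x5228ce) (.node .nil (nat_lit 0x4047fd) (nat_lit 19074) (nat_lit 0x4047fc) .nil))) (nat_lit
  0x404976) (nat_lit 23395) (nat_lit 0x404fb9) (.node (.node (.node .nil (nat_lit 0x404977) (nat_lit 16424)
  (nat_lit 0x824ef3) .nil) (nat_lit 0x4049da) (nat_lit 23412) (nat_lit 0x404fb9) (.node .nil (nat_lit
  0x4049db) (nat_lit 26353) (nat_lit 0x401df5) .nil)) (nat_lit 0x404a5c) (nat_lit 31318) (nat_lit 0x404a5d)
  (.node (.node .nil (nat_lit 0x404a5d) (nat_lit 15896) (nat_lit 0x9c9aa8) .nil) (nat_lit 0x404af0) (nat_lit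
  27800) (nat_lit 0xf348c3) (.node .nil (nat_lit 0x404af1) (nat_lit 23376) (nat_lit 0x404fb9) .nil)))))
  (nat_lit 0x404c3e) (nat_lit 31905) (nat_lit 0x401636) (.node (.node (.node (.node (.node .nil (nat_lit
  0x404c3f) (nat_lit 31300) (nat_lit 0x404a5d) .nil) (nat_lit 0x404c92) (nat_lit 28305) (nat_lit 0x4014e6)
  (.node .nil (nat_lit 0x404c93) (nat_lit 25537) (nat_lit 0x4014e7) .nil)) (nat_lit 0x404f14) (nat_lit 23505)
  (nat_lit 0x401b3a) (.node (.node .nil (nat_lit 0x404f15) (nat_lit 23447) (nat_lit 0x404fb9) .nil) (nat_lit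
  0x404fb8) (nat_lit 23429) (nat_lit 0x404fb9) (.node .nil (nat_lit 0x404fb9) (nat_lit 7441) (nat_lit
  0x4019eb) .nil))) (nat_lit 0x4ca052) (nat_lit 16) (nat_lit 20636) (.node (.node (.node .nil (nat_lit
  0x4ca053) (nat_lit 369) (nat_lit 21217) .nil) (nat_lit 0x4ca104) (nat_lit 17793) (nat_lit 21972) (.node .nil
  (nat_lit 0x4ca105) (nat_lit 21943) (nat_lit 0x4cae74) .nil)) (nat_lit 0x4ca22e) (nat_lit 11648) (nat_lit
  22440) (.node (.node .nil (nat_lit 0x4ca22f) (nat_lit 29040) (nat_lit 22441) .nil) (nat_lit 0x4ca378)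
  (nat_lit 21400) (nat_lit 0x82177c) (.node .nil (nat_lit 0x4ca379) (nat_lit 20737) (nat_lit 24557) .nil))))
  (nat_lit 0x4ca4e0) (nat_lit 16785) (nat_lit 24086) (.node (.node (.node (.node .nil (nat_lit 0x4ca4e1)
  (nat_lit 14392) (nat_lit 0xedc222) .nil) (nat_lit 0x4ca5b6) (nat_lit 22488) (nat_lit 0xfffea7) (.node .nil
  (nat_lit 0x4ca5b7) (nat_lit 16328) (nat_lit 0xf3185f) .nil)) (nat_lit 0x4ca69c) (nat_lit 162) (nat_lit
  0x4ca052) (.node (.node .nil (nat_lit 0x4ca69d) (nat_lit 179) (nat_lit 0x4ca052) .nil) (nat_lit 0x4ca7ca)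
  (nat_lit 18775) (nat_lit 0x4ca8ba) (.node .nil (nat_lit 0x4ca7cb) (nat_lit 18756) (nat_lit 0x4ca8ba) .nil)))
  (nat_lit 0x4ca8ba) (nat_lit 5080) (nat_lit 0x5e9eaa) (.node (.node (.node .nil (nat_lit 0x4ca8bb) (nat_lit
  15640) (nat_lit 0x527852) .nil) (nat_lit 0x4ca9ec) (nat_lit 33) (nat_lit 20636) (.node .nil (nat_lit
  0x4ca9ed) (nat_lit 352) (nat_lit 21217) .nil)) (nat_lit 0x4caac6) (nat_lit 31444) (nat_lit 0x4ca5b7) (.node
  (.node .nil (nat_lit 0x4caac7) (nat_lit 20720) (nat_lit 24557) .nil) (nat_lit 0x4cab90) (nat_lit 17776)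
  (nat_lit 21972) .nil))))) (nat_lit 0x4cab91) (nat_lit 29168) (nat_lit 21973) (.node (.node (.node (.node
  (.node (.node .nil (nat_lit 0x4cac08) (nat_lit 32034) (nat_lit 0x4caac7) .nil) (nat_lit 0x4cac09) (nat_lit
  32051) (nat_lit 0x4caac7) (.node .nil (nat_lit 0x4cad5e) (nat_lit 23272) (nat_lit 0x3da32a) .nil)) (nat_lit
  0x4cad5f) (nat_lit 28536) (nat_lit 0x3145d2) (.node (.node .nil (nat_lit 0x4cae74) (nat_lit 6440) (nat_lit
  0x237771) .nil) (nat_lit 0x4cae75) (nat_lit 18738) (nat_lit 0x4ca8ba) (.node .nil (nat_lit 0x4caf22)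
  (nat_lit 196) (nat_lit 0x4ca052) .nil))) (nat_lit 0x4caf23) (nat_lit 215) (nat_lit 0x4ca052) (.node (.node
  (.node .nil (nat_lit 0x4cf134) (nat_lit 10405) (nat_lit 0x4cf7fb) .nil) (nat_lit 0x4cf135) (nat_lit 10386)
  (nat_lit 0x4cf7fb) (.node .nil (nat_lit 0x4cf198) (nat_lit 28451) (nat_lit 0x4cf199) .nil)) (nat_lit
  0x4cf199) (nat_lit 10624) (nat_lit 0x715c39) (.node (.node .nil (nat_lit 0x4cf348) (nat_lit 11248) (nat_lit
  0x715ba0) .nil) (nat_lit 0x4cf349) (nat_lit 25112) (nat_lit 0xf31783) (.node .nil (nat_lit 0x4cf3e4)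
  (nat_lit 26182) (nat_lit 0x4cf3e5) .nil)))) (nat_lit 0x4cf3e5) (nat_lit 8964) (nat_lit 0x4cfee8) (.node
  (.node (.node (.node .nil (nat_lit 0x4cf52a) (nat_lit 9472) (nat_lit 0x715dc2) .nil) (nat_lit 0x4cf52b)
  (nat_lit 9104) (nat_lit 0x715dc3) (.node .nil (nat_lit 0x4cf586) (nat_lit 28424) (nat_lit 0x8218a0) .nil))
  (nat_lit 0x4cf587) (nat_lit 28933) (nat_lit 0x4cf348) (.node (.node .nil (nat_lit 0x4cf756) (nat_lit 22640)
  (nat_lit 0x715af6) .nil) (nat_lit 0x4cf757) (nat_lit 28434) (nat_lit 0x4cf199) (.node .nil (nat_lit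
  0x4cf7fa) (nat_lit 17624) (nat_lit 0x821686) .nil))) (nat_lit 0x4cf7fb) (nat_lit 2376) (nat_lit 0x8ef07e)
  (.node (.node (.node .nil (nat_lit 0x4cf826) (nat_lit 8981) (nat_lit 0x4cfee8) .nil) (nat_lit 0x4cf827)
  (nat_lit 8946) (nat_lit 0x4cfee8) (.node .nil (nat_lit 0x4cf88a) (nat_lit 25525) (nat_lit 0x4cfe44) .nil))
  (nat_lit 0x4cf88b) (nat_lit 25490) (nat_lit 0x4cfe44) (.node (.node .nil (nat_lit 0x4cfa5a) (nat_lit 28624)
  (nat_lit 0x715970) .nil) (nat_lit 0x4cfa5b) (nat_lit 28496) (nat_lit 0x715971) (.node .nil (nat_lit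
  0x4cfaf6) (nat_lit 7313) (nat_lit 0x3dada1) .nil))))) (nat_lit 0x4cfaf7) (nat_lit 10423) (nat_lit 0x4cf7fb)
  (.node (.node (.node (.node (.node .nil (nat_lit 0x4cfc38) (nat_lit 5776) (nat_lit 0x715f12) .nil) (nat_lit
  0x4cfc39) (nat_lit 20528) (nat_lit 0x715f13) (.node .nil (nat_lit 0x4cfc94) (nat_lit 28468) (nat_lit
  0x4cf199) .nil)) (nat_lit 0x4cfc95) (nat_lit 17168) (nat_lit 0x715fbf) (.node (.node .nil (nat_lit 0x4cfe44)
  (nat_lit 8584) (nat_lit 0x5e9176) .nil) (nat_lit 0x4cfe45) (nat_lit 25507) (nat_lit 0x4cfe44) (.node .nil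
  (nat_lit 0x4cfee8) (nat_lit 1952) (nat_lit 0x71588a) .nil))) (nat_lit 0x4cfee9) (nat_lit 8998) (nat_lit
  0x4cfee8) (.node (.node (.node .nil (nat_lit 0x522026) (nat_lit 29507) (nat_lit 0x522934) .nil) (nat_lit
  0x522027) (nat_lit 5222) (nat_lit 0x522b48) (.node .nil (nat_lit 0x5221dc) (nat_lit 5189) (nat_lit 0x522f57)
  .nil)) (nat_lit 0x5221dd) (nat_lit 29744) (nat_lit 0x63399f) (.node (.node .nil (nat_lit 0x52225a) (nat_lit
  29558) (nat_lit 0x522934) .nil) (nat_lit 0x52225b) (nat_lit 5172) (nat_lit 0x522f57) (.node .nil (nat_lit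
  0x5223a0) (nat_lit 5286) (nat_lit 0x5228ce) .nil)))) (nat_lit 0x5223a1) (nat_lit 31840) (nat_lit 0x633eab)
  (.node (.node (.node (.node .nil (nat_lit 0x522438) (nat_lit 29524) (nat_lit 0x522934) .nil) (nat_lit
  0x522439) (nat_lit 1255) (nat_lit 0x522644) (.node .nil (nat_lit 0x5225c2) (nat_lit 29680) (nat_lit
  0x6338c8) .nil)) (nat_lit 0x5225c3) (nat_lit 1170) (nat_lit 0x522644) (.node (.node .nil (nat_lit 0x522644)
  (nat_lit 280) (nat_lit 0x4ca9ec) .nil) (nat_lit 0x522645) (nat_lit 19185) (nat_lit 0x2f9e54) (.node .nil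
  (nat_lit 0x5227be) (nat_lit 5143) (nat_lit 0x5225c3) .nil))) (nat_lit 0x5227bf) (nat_lit 29541) (nat_lit
  0x522934) (.node (.node (.node .nil (nat_lit 0x5228ce) (nat_lit 1221) (nat_lit 0x522644) .nil) (nat_lit
  0x5228cf) (nat_lit 30753) (nat_lit 0x2f9f02) (.node .nil (nat_lit 0x522934) (nat_lit 12048) (nat_lit
  0x6331da) .nil)) (nat_lit 0x522935) (nat_lit 5239) (nat_lit 0x522b48) (.node (.node .nil (nat_lit 0x522ab2)
  (nat_lit 29490) (nat_lit 0x522934) .nil) (nat_lit 0x522ab3) (nat_lit 5303) (nat_lit 0x5228ce) .nil))))))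
def u2_5 : T := (.node (.node (.node (.node (.node (.node (.node .nil (nat_lit 0x522b49) (nat_lit 29575)
  (nat_lit 0x522934) .nil) (nat_lit 0x522cd0) (nat_lit 31425) (nat_lit 0x2f9125) (.node .nil (nat_lit
  0x522cd1) (nat_lit 5107) (nat_lit 0x5225c3) .nil)) (nat_lit 0x522d2a) (nat_lit 29808) (nat_lit 0x63308c)
  (.node (.node .nil (nat_lit 0x522d2b) (nat_lit 1238) (nat_lit 0x522644) .nil) (nat_lit 0x522eac) (nat_lit
  31969) (nat_lit 0x2f9b1d) (.node .nil (nat_lit 0x522ead) (nat_lit 5126) (nat_lit 0x5225c3) .nil))) (nat_lit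
  0x522f56) (nat_lit 20929) (nat_lit 0x2f9ef9) (.node (.node (.node .nil (nat_lit 0x522f57) (nat_lit 1187)
  (nat_lit 0x522644) .nil) (nat_lit 0x527408) (nat_lit 25592) (nat_lit 0x3141cd) (.node .nil (nat_lit
  0x527409) (nat_lit 15525) (nat_lit 0x527a83) .nil)) (nat_lit 0x5274a4) (nat_lit 15445) (nat_lit 0x527a2e)
  (.node (.node .nil (nat_lit 0x5274a5) (nat_lit 19016) (nat_lit 0x5e93a6) .nil) (nat_lit 0x52755e) (nat_lit
  14449) (nat_lit 0x126368) (.node .nil (nat_lit 0x52755f) (nat_lit 30871) (nat_lit 0x52755e) .nil))))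
  (nat_lit 0x5275f2) (nat_lit 888) (nat_lit 0x4caf23) (.node (.node (.node (.node .nil (nat_lit 0x5275f3)
  (nat_lit 3831) (nat_lit 0x5275f2) .nil) (nat_lit 0x527674) (nat_lit 15399) (nat_lit 0x527675) (.node .nil
  (nat_lit 0x527675) (nat_lit 3746) (nat_lit 0x5275f2) .nil)) (nat_lit 0x5276d8) (nat_lit 15590) (nat_lit
  0x527b79) (.node (.node .nil (nat_lit 0x5276d9) (nat_lit 5016) (nat_lit 0x5e9d80) .nil) (nat_lit 0x527722)
  (nat_lit 15542) (nat_lit 0x527a83) (.node .nil (nat_lit 0x527723) (nat_lit 31120) (nat_lit 0x123961) .nil)))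
  (nat_lit 0x52778e) (nat_lit 29904) (nat_lit 0x1239cc) (.node (.node (.node .nil (nat_lit 0x52778f) (nat_lit
  15462) (nat_lit 0x527a2e) .nil) (nat_lit 0x527852) (nat_lit 3814) (nat_lit 0x5275f2) (.node .nil (nat_lit
  0x527853) (nat_lit 15623) (nat_lit 0x527852) .nil)) (nat_lit 0x5278fe) (nat_lit 3976) (nat_lit 0xedcf2e)
  (.node (.node .nil (nat_lit 0x5278ff) (nat_lit 15381) (nat_lit 0x527675) .nil) (nat_lit 0x527904) (nat_lit
  31159) (nat_lit 0x527905) (.node .nil (nat_lit 0x527905) (nat_lit 15364) (nat_lit 0x527675) .nil)))))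
  (nat_lit 0x5279a8) (nat_lit 15347) (nat_lit 0x527675) (.node (.node (.node (.node (.node .nil (nat_lit
  0x5279a9) (nat_lit 30929) (nat_lit 0x126807) .nil) (nat_lit 0x527a2e) (nat_lit 3763) (nat_lit 0x5275f2)
  (.node .nil (nat_lit 0x527a2f) (nat_lit 15479) (nat_lit 0x527a2e) .nil)) (nat_lit 0x527a82) (nat_lit 15559)
  (nat_lit 0x527a83) (.node (.node .nil (nat_lit 0x527a83) (nat_lit 3780) (nat_lit 0x5275f2) .nil) (nat_lit
  0x527b78) (nat_lit 12464) (nat_lit 0x1230de) (.node .nil (nat_lit 0x527b79) (nat_lit 3797) (nat_lit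
  0x5275f2) .nil))) (nat_lit 0x527bd4) (nat_lit 15200) (nat_lit 0x123072) (.node (.node (.node .nil (nat_lit
  0x527bd5) (nat_lit 30853) (nat_lit 0x52755e) .nil) (nat_lit 0x5e908c) (nat_lit 22152) (nat_lit 0xe17e7f)
  (.node .nil (nat_lit 0x5e908d) (nat_lit 5088) (nat_lit 0x5225c3) .nil)) (nat_lit 0x5e9176) (nat_lit 1848)
  (nat_lit 0x9c9091) (.node (.node .nil (nat_lit 0x5e9177) (nat_lit 5059) (nat_lit 0x5e9eaa) .nil) (nat_lit
  0x5e925c) (nat_lit 8296) (nat_lit 0x8244ca) (.node .nil (nat_lit 0x5e925d) (nat_lit 4947) (nat_lit 0x5e9d80)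
  .nil)))) (nat_lit 0x5e93a6) (nat_lit 5264) (nat_lit 0x5228ce) (.node (.node (.node (.node .nil (nat_lit
  0x5e93a7) (nat_lit 26648) (nat_lit 0xf34cdc) .nil) (nat_lit 0x5e943e) (nat_lit 8498) (nat_lit 0x5e9176)
  (.node .nil (nat_lit 0x5e943f) (nat_lit 5344) (nat_lit 0x522439) .nil)) (nat_lit 0x5e95c4) (nat_lit 25382)
  (nat_lit 0x5e9eab) (.node (.node .nil (nat_lit 0x5e95c5) (nat_lit 4981) (nat_lit 0x5e9d80) .nil) (nat_lit
  0x5e96ee) (nat_lit 4998) (nat_lit 0x5e9d80) (.node .nil (nat_lit 0x5e96ef) (nat_lit 25365) (nat_lit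
  0x5e9eab) .nil))) (nat_lit 0x5e9714) (nat_lit 8532) (nat_lit 0x5e9176) (.node (.node (.node .nil (nat_lit
  0x5e9715) (nat_lit 5361) (nat_lit 0x522439) .nil) (nat_lit 0x5e98c8) (nat_lit 25348) (nat_lit 0x5e9eab)
  (.node .nil (nat_lit 0x5e98c9) (nat_lit 4930) (nat_lit 0x5e9d80) .nil)) (nat_lit 0x5e9932) (nat_lit 15012)
  (nat_lit 0x5e9f50) (.node (.node .nil (nat_lit 0x5e9933) (nat_lit 8549) (nat_lit 0x5e9176) .nil) (nat_lit
  0x5e9a18) (nat_lit 8566) (nat_lit 0x5e9176) .nil))))) (nat_lit 0x5e9a19) (nat_lit 14994) (nat_lit 0x5e9f50)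
  (.node (.node (.node (.node (.node (.node .nil (nat_lit 0x5e9be2) (nat_lit 25299) (nat_lit 0x5e943e) .nil)
  (nat_lit 0x5e9be3) (nat_lit 4964) (nat_lit 0x5e9d80) (.node .nil (nat_lit 0x5e9c7a) (nat_lit 20840) (nat_lit
  0x3df09c) .nil)) (nat_lit 0x5e9c7b) (nat_lit 18800) (nat_lit 0x522cd1) (.node (.node .nil (nat_lit 0x5e9d80)
  (nat_lit 1136) (nat_lit 0x522644) .nil) (nat_lit 0x5e9d81) (nat_lit 25059) (nat_lit 0x5e925c) (.node .nil
  (nat_lit 0x5e9eaa) (nat_lit 1153) (nat_lit 0x522644) .nil))) (nat_lit 0x5e9eab) (nat_lit 8515) (nat_lit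
  0x5e9176) (.node (.node (.node .nil (nat_lit 0x5e9f50) (nat_lit 3688) (nat_lit 0x2324c7) .nil) (nat_lit
  0x5e9f51) (nat_lit 25318) (nat_lit 0x5e943e) (.node .nil (nat_lit 0x5ec26c) (nat_lit 17841) (nat_lit
  0x6fdd1b) .nil)) (nat_lit 0x5ec26d) (nat_lit 19157) (nat_lit 0x5eca29) (.node (.node .nil (nat_lit 0x5ec2c0)
  (nat_lit 14705) (nat_lit 0x6fdfcb) .nil) (nat_lit 0x5ec2c1) (nat_lit 3584) (nat_lit 0x2324c7) (.node .nil
  (nat_lit 0x5ec33a) (nat_lit 29249) (nat_lit 0x6fda2f) .nil)))) (nat_lit 0x5ec33b) (nat_lit 19139) (nat_lit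
  0x5eca29) (.node (.node (.node (.node .nil (nat_lit 0x5ec396) (nat_lit 14880) (nat_lit 0x232efe) .nil)
  (nat_lit 0x5ec397) (nat_lit 27506) (nat_lit 0x5ec6df) (.node .nil (nat_lit 0x5ec672) (nat_lit 30312)
  (nat_lit 0xe171a3) .nil)) (nat_lit 0x5ec673) (nat_lit 29112) (nat_lit 0xed975b) (.node (.node .nil (nat_lit
  0x5ec6de) (nat_lit 14628) (nat_lit 0x5ec2c1) .nil) (nat_lit 0x5ec6df) (nat_lit 9672) (nat_lit 0x8ea3c8)
  (.node .nil (nat_lit 0x5ec724) (nat_lit 30664) (nat_lit 0xffabde) .nil))) (nat_lit 0x5ec725) (nat_lit 25864)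
  (nat_lit 0xf34d26) (.node (.node (.node .nil (nat_lit 0x5ec788) (nat_lit 30946) (nat_lit 0x5ec2c0) .nil)
  (nat_lit 0x5ec789) (nat_lit 14594) (nat_lit 0x5ec2c1) (.node .nil (nat_lit 0x5eca28) (nat_lit 30241)
  (nat_lit 0x6fda83) .nil)) (nat_lit 0x5eca29) (nat_lit 5336) (nat_lit 0x522d2b) (.node (.node .nil (nat_lit
  0x5eca84) (nat_lit 28680) (nat_lit 0x3dff40) .nil) (nat_lit 0x5eca85) (nat_lit 14645) (nat_lit 0x5ec2c1)
  (.node .nil (nat_lit 0x5ecb7e) (nat_lit 30210) (nat_lit 0x5ece37) .nil))))) (nat_lit 0x5ecb7f) (nat_lit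
  24289) (nat_lit 0x6fddb6) (.node (.node (.node (.node (.node .nil (nat_lit 0x5ecbd2) (nat_lit 30963)
  (nat_lit 0x5ec2c0) .nil) (nat_lit 0x5ecbd3) (nat_lit 14611) (nat_lit 0x5ec2c1) (.node .nil (nat_lit
  0x5ece36) (nat_lit 30993) (nat_lit 0x6fd4a5) .nil)) (nat_lit 0x5ece37) (nat_lit 13088) (nat_lit 0x232dd5)
  (.node (.node .nil (nat_lit 0x5ece9a) (nat_lit 19489) (nat_lit 0x6fd675) .nil) (nat_lit 0x5ece9b) (nat_lit
  18856) (nat_lit 0x2fcad6) (.node .nil (nat_lit 0x5ecf60) (nat_lit 14662) (nat_lit 0x5ec2c1) .nil))) (nat_lit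
  0x5ecf61) (nat_lit 30982) (nat_lit 0x5ec2c0) (.node (.node (.node .nil (nat_lit 0x5ecfcc) (nat_lit 14784)
  (nat_lit 0x232740) .nil) (nat_lit 0x5ecfcd) (nat_lit 27523) (nat_lit 0x5ec6df) (.node .nil (nat_lit
  0x63308c) (nat_lit 12167) (nat_lit 0x6331da) .nil)) (nat_lit 0x63308d) (nat_lit 14227) (nat_lit 0x63399e)
  (.node (.node .nil (nat_lit 0x6331da) (nat_lit 3000) (nat_lit 834982) .nil) (nat_lit 0x6331db) (nat_lit
  14261) (nat_lit 0x63399e) (.node .nil (nat_lit 0x63325c) (nat_lit 12082) (nat_lit 0x6331da) .nil))))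
  (nat_lit 0x63325d) (nat_lit 3720) (nat_lit 0x7dbb96) (.node (.node (.node (.node .nil (nat_lit 0x63330a)
  (nat_lit 29671) (nat_lit 0x63325c) .nil) (nat_lit 0x63330b) (nat_lit 4888) (nat_lit 0x6361eb) (.node .nil
  (nat_lit 0x63343e) (nat_lit 29782) (nat_lit 0x63399f) .nil)) (nat_lit 0x63343f) (nat_lit 4769) (nat_lit
  0x6361eb) (.node (.node .nil (nat_lit 0x633568) (nat_lit 18119) (nat_lit 0x63343f) .nil) (nat_lit 0x633569)
  (nat_lit 29718) (nat_lit 0x6338c8) (.node .nil (nat_lit 0x6336ee) (nat_lit 10856) (nat_lit 834195) .nil)))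
  (nat_lit 0x6336ef) (nat_lit 29700) (nat_lit 0x6338c8) (.node (.node (.node .nil (nat_lit 0x6337b8) (nat_lit
  25184) (nat_lit 0x2fc777) .nil) (nat_lit 0x6337b9) (nat_lit 14244) (nat_lit 0x63399e) (.node .nil (nat_lit
  0x6338c8) (nat_lit 12099) (nat_lit 0x6331da) .nil)) (nat_lit 0x6338c9) (nat_lit 14279) (nat_lit 0x63399e)
  (.node (.node .nil (nat_lit 0x63399e) (nat_lit 3480) (nat_lit 0xadd4b8) .nil) (nat_lit 0x63399f) (nat_lit
  12133) (nat_lit 0x6331da) .nil))))))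
def u2_6 : T := (.node (.node (.node (.node (.node (.node (.node .nil (nat_lit 0x633a19) (nat_lit 4088)
  (nat_lit 0xdcd288) .nil) (nat_lit 0x633b4e) (nat_lit 15139) (nat_lit 0x63325d) (.node .nil (nat_lit
  0x633b4f) (nat_lit 29651) (nat_lit 0x63325c) .nil)) (nat_lit 0x633c7a) (nat_lit 12150) (nat_lit 0x6331da)
  (.node (.node .nil (nat_lit 0x633c7b) (nat_lit 15156) (nat_lit 0x63325d) .nil) (nat_lit 0x633d2c) (nat_lit
  28216) (nat_lit 0xd03345) (.node .nil (nat_lit 0x633d2d) (nat_lit 18099) (nat_lit 0x63343f) .nil))) (nat_lit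
  0x633eaa) (nat_lit 16296) (nat_lit 0xadd38d) (.node (.node (.node .nil (nat_lit 0x633eab) (nat_lit 18641)
  (nat_lit 0x636e9b) .nil) (nat_lit 0x633ffc) (nat_lit 15174) (nat_lit 0x63325d) (.node .nil (nat_lit
  0x633ffd) (nat_lit 12116) (nat_lit 0x6331da) .nil)) (nat_lit 0x636146) (nat_lit 18433) (nat_lit 0x5e98c9)
  (.node (.node .nil (nat_lit 0x636147) (nat_lit 16694) (nat_lit 0x636a29) .nil) (nat_lit 0x6361ea) (nat_lit
  18373) (nat_lit 0x6369af) (.node .nil (nat_lit 0x6361eb) (nat_lit 1128) (nat_lit 0x7dbd59) .nil)))) (nat_lit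
  0x63626c) (nat_lit 11992) (nat_lit 834409) (.node (.node (.node (.node .nil (nat_lit 0x63626d) (nat_lit
  4786) (nat_lit 0x6361eb) .nil) (nat_lit 0x6362c0) (nat_lit 18390) (nat_lit 0x6369af) (.node .nil (nat_lit
  0x6362c1) (nat_lit 4871) (nat_lit 0x6361eb) .nil)) (nat_lit 0x636558) (nat_lit 4536) (nat_lit 834652) (.node
  (.node .nil (nat_lit 0x636559) (nat_lit 18545) (nat_lit 0x5e96ee) .nil) (nat_lit 0x6365f4) (nat_lit 18356)
  (nat_lit 0x6369af) (.node .nil (nat_lit 0x6365f5) (nat_lit 16659) (nat_lit 0x636a29) .nil))) (nat_lit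
  0x636672) (nat_lit 18339) (nat_lit 0x6369af) (.node (.node (.node .nil (nat_lit 0x636673) (nat_lit 16676)
  (nat_lit 0x636a29) .nil) (nat_lit 0x6366de) (nat_lit 17266) (nat_lit 0x636558) (.node .nil (nat_lit
  0x6366df) (nat_lit 18677) (nat_lit 0x636e9b) .nil)) (nat_lit 0x636902) (nat_lit 16711) (nat_lit 0x636a29)
  (.node (.node .nil (nat_lit 0x636903) (nat_lit 14977) (nat_lit 0x5e9f50) .nil) (nat_lit 0x6369ae) (nat_lit
  4837) (nat_lit 0x6361eb) (.node .nil (nat_lit 0x6369af) (nat_lit 4913) (nat_lit 0x5e9d80) .nil))))) (nat_lit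
  0x636a28) (nat_lit 18322) (nat_lit 0x6369af) (.node (.node (.node (.node (.node .nil (nat_lit 0x636a29)
  (nat_lit 4328) (nat_lit 0xa1348f) .nil) (nat_lit 0x636a84) (nat_lit 14560) (nat_lit 0x5ec2c1) (.node .nil
  (nat_lit 0x636a85) (nat_lit 4854) (nat_lit 0x6361eb) .nil)) (nat_lit 0x636d1c) (nat_lit 18658) (nat_lit
  0x636e9b) (.node (.node .nil (nat_lit 0x636d1d) (nat_lit 8481) (nat_lit 0x5e9176) .nil) (nat_lit 0x636db0)
  (nat_lit 4820) (nat_lit 0x6361eb) (.node .nil (nat_lit 0x636db1) (nat_lit 18695) (nat_lit 0x636e9b) .nil)))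
  (nat_lit 0x636e36) (nat_lit 29460) (nat_lit 0x63626c) (.node (.node (.node .nil (nat_lit 0x636e37) (nat_lit
  4803) (nat_lit 0x6361eb) .nil) (nat_lit 0x636e9a) (nat_lit 16200) (nat_lit 0xd0358a) (.node .nil (nat_lit
  0x636e9b) (nat_lit 5041) (nat_lit 0x5e9eaa) .nil)) (nat_lit 0x6f8026) (nat_lit 23781) (nat_lit 0x6f8eac)
  (.node (.node .nil (nat_lit 0x6f8027) (nat_lit 23735) (nat_lit 0x6f8cd0) .nil) (nat_lit 0x6f8170) (nat_lit
  29331) (nat_lit 0x6f8ead) (.node .nil (nat_lit 0x6f8171) (nat_lit 23718) (nat_lit 0x6f8cd0) .nil))))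
  (nat_lit 0x6f825a) (nat_lit 23701) (nat_lit 0x6f8cd0) (.node (.node (.node (.node .nil (nat_lit 0x6f825b)
  (nat_lit 23799) (nat_lit 0x6f8eac) .nil) (nat_lit 0x6f830c) (nat_lit 7665) (nat_lit 0x1edf99) (.node .nil
  (nat_lit 0x6f830d) (nat_lit 22706) (nat_lit 0x6f8644) .nil)) (nat_lit 0x6f8438) (nat_lit 23910) (nat_lit
  0x6f8998) (.node (.node .nil (nat_lit 0x6f8439) (nat_lit 22520) (nat_lit 0xb35896) .nil) (nat_lit 0x6f856e)
  (nat_lit 23927) (nat_lit 0x6f8998) (.node .nil (nat_lit 0x6f856f) (nat_lit 24128) (nat_lit 0x1ed68a) .nil)))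
  (nat_lit 0x6f8644) (nat_lit 7160) (nat_lit 0xbfb048) (.node (.node (.node .nil (nat_lit 0x6f8645) (nat_lit
  10296) (nat_lit 0xb356b0) .nil) (nat_lit 0x6f8712) (nat_lit 26328) (nat_lit 0xa16a35) (.node .nil (nat_lit
  0x6f8713) (nat_lit 23893) (nat_lit 0x6f8998) .nil)) (nat_lit 0x6f88ce) (nat_lit 22725) (nat_lit 0x6f8644)
  (.node (.node .nil (nat_lit 0x6f88cf) (nat_lit 19560) (nat_lit 0x6fd675) .nil) (nat_lit 0x6f8998) (nat_lit
  7648) (nat_lit 0x1edf99) .nil))))) (nat_lit 0x6f8999) (nat_lit 11816) (nat_lit 0x710c08) (.node (.node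
  (.node (.node (.node (.node .nil (nat_lit 0x6f8ab2) (nat_lit 22759) (nat_lit 0x6f8644) .nil) (nat_lit
  0x6f8ab3) (nat_lit 28199) (nat_lit 0x6f8645) (.node .nil (nat_lit 0x6f8be4) (nat_lit 23762) (nat_lit
  0x6f8eac) .nil)) (nat_lit 0x6f8be5) (nat_lit 22742) (nat_lit 0x6f8644) (.node (.node .nil (nat_lit 0x6f8cd0)
  (nat_lit 7592) (nat_lit 0x7de3e3) .nil) (nat_lit 0x6f8cd1) (nat_lit 23876) (nat_lit 0x6f8998) (.node .nil
  (nat_lit 0x6f8d86) (nat_lit 14296) (nat_lit 0x63399e) .nil))) (nat_lit 0x6f8d87) (nat_lit 23989) (nat_lit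
  0x6f830c) (.node (.node (.node .nil (nat_lit 0x6f8eac) (nat_lit 7608) (nat_lit 0x7dedc5) .nil) (nat_lit
  0x6f8ead) (nat_lit 11864) (nat_lit 0x710b3d) (.node .nil (nat_lit 0x6f8ffa) (nat_lit 24257) (nat_lit
  0x1ed4f7) .nil)) (nat_lit 0x6f8ffb) (nat_lit 24007) (nat_lit 0x6f830c) (.node (.node .nil (nat_lit 0x6fd140)
  (nat_lit 14757) (nat_lit 0x6fdfcb) .nil) (nat_lit 0x6fd141) (nat_lit 19540) (nat_lit 0x6fd675) (.node .nil
  (nat_lit 0x6fd1ec) (nat_lit 14801) (nat_lit 0x232740) .nil)))) (nat_lit 0x6fd1ed) (nat_lit 30136) (nat_lit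
  0xad8311) (.node (.node (.node (.node .nil (nat_lit 0x6fd33c) (nat_lit 19506) (nat_lit 0x6fd675) .nil)
  (nat_lit 0x6fd33d) (nat_lit 14945) (nat_lit 0x232fa9) (.node .nil (nat_lit 0x6fd390) (nat_lit 17877)
  (nat_lit 0x6fdd1b) .nil)) (nat_lit 0x6fd391) (nat_lit 23653) (nat_lit 0x6fdd1a) (.node (.node .nil (nat_lit
  0x6fd408) (nat_lit 19416) (nat_lit 0xc25869) .nil) (nat_lit 0x6fd409) (nat_lit 14913) (nat_lit 0x232c83)
  (.node .nil (nat_lit 0x6fd4a4) (nat_lit 29232) (nat_lit 0x6fda2f) .nil))) (nat_lit 0x6fd4a5) (nat_lit 14774)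
  (nat_lit 0x6fdfcb) (.node (.node (.node .nil (nat_lit 0x6fd674) (nat_lit 16520) (nat_lit 0xc2564f) .nil)
  (nat_lit 0x6fd675) (nat_lit 5512) (nat_lit 0xceb0b7) (.node .nil (nat_lit 0x6fd6d8) (nat_lit 13080) (nat_lit
  0xa162dc) .nil)) (nat_lit 0x6fd6d9) (nat_lit 14723) (nat_lit 0x6fdfcb) (.node (.node .nil (nat_lit 0x6fd852)
  (nat_lit 23618) (nat_lit 0x6fdd1a) .nil) (nat_lit 0x6fd853) (nat_lit 17858) (nat_lit 0x6fdd1b) (.node .nil
  (nat_lit 0x6fd8fe) (nat_lit 14740) (nat_lit 0x6fdfcb) .nil))))) (nat_lit 0x6fd8ff) (nat_lit 15304) (nat_lit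
  0x123072) (.node (.node (.node (.node (.node .nil (nat_lit 0x6fda2e) (nat_lit 23636) (nat_lit 0x6fdd1a)
  .nil) (nat_lit 0x6fda2f) (nat_lit 11784) (nat_lit 0x710ac7) (.node .nil (nat_lit 0x6fda82) (nat_lit 29880)
  (nat_lit 0x1ed8ac) .nil)) (nat_lit 0x6fda83) (nat_lit 13105) (nat_lit 0x232dd5) (.node (.node .nil (nat_lit
  0x6fdd1a) (nat_lit 7560) (nat_lit 0x7deb0a) .nil) (nat_lit 0x6fdd1b) (nat_lit 4728) (nat_lit 0x710df2)
  (.node .nil (nat_lit 0x6fddb6) (nat_lit 7784) (nat_lit 0x1edf99) .nil))) (nat_lit 0x6fddb7) (nat_lit 30198)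
  (nat_lit 0x6fd6d8) (.node (.node (.node .nil (nat_lit 0x6fdf66) (nat_lit 19523) (nat_lit 0x6fd675) .nil)
  (nat_lit 0x6fdf67) (nat_lit 29266) (nat_lit 0x6fda2f) (.node .nil (nat_lit 0x6fdfca) (nat_lit 14688)
  (nat_lit 0x6fdfcb) .nil)) (nat_lit 0x6fdfcb) (nat_lit 3601) (nat_lit 0x2324c7) (.node (.node .nil (nat_lit
  0x710052) (nat_lit 2437) (nat_lit 0x71069c) .nil) (nat_lit 0x710053) (nat_lit 2624) (nat_lit 0x7dbe72)
  (.node .nil (nat_lit 0x7101a8) (nat_lit 1024) (nat_lit 0x7db4e7) .nil)))) (nat_lit 0x7101a9) (nat_lit 2420)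
  (nat_lit 0x71069c) (.node (.node (.node (.node .nil (nat_lit 0x71022e) (nat_lit 21120) (nat_lit 0x7db947)
  .nil) (nat_lit 0x71022f) (nat_lit 15192) (nat_lit 0x63325d) (.node .nil (nat_lit 0x7103d4) (nat_lit 25152)
  (nat_lit 0x7db3d3) .nil)) (nat_lit 0x7103d5) (nat_lit 31095) (nat_lit 0x71022f) (.node (.node .nil (nat_lit
  0x7104e0) (nat_lit 26448) (nat_lit 0x7dbf89) .nil) (nat_lit 0x7104e1) (nat_lit 11024) (nat_lit 0x7dbf88)
  (.node .nil (nat_lit 0x71051a) (nat_lit 28759) (nat_lit 0x7104e1) .nil))) (nat_lit 0x71051b) (nat_lit 31076)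
  (nat_lit 0x71022f) (.node (.node (.node .nil (nat_lit 0x71069c) (nat_lit 560) (nat_lit 0x7db8bd) .nil)
  (nat_lit 0x71069d) (nat_lit 2403) (nat_lit 0x71069c) (.node .nil (nat_lit 0x710766) (nat_lit 3488) (nat_lit
  0x7db229) .nil)) (nat_lit 0x710767) (nat_lit 2455) (nat_lit 0x71069c) (.node (.node .nil (nat_lit 0x7108ba)
  (nat_lit 1016) (nat_lit 0xad870e) .nil) (nat_lit 0x7108bb) (nat_lit 4402) (nat_lit 0x7108ba) .nil))))))
def u2_7 : T := (.node (.node (.node (.node (.node (.node (.node .nil (nat_lit 0x710941) (nat_lit 4439)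
  (nat_lit 0x7108ba) .nil) (nat_lit 0x710ac6) (nat_lit 656) (nat_lit 0x7db103) (.node .nil (nat_lit 0x710ac7)
  (nat_lit 2834) (nat_lit 0x710ac6) .nil)) (nat_lit 0x710b3c) (nat_lit 3536) (nat_lit 0x7dbb97) (.node (.node
  .nil (nat_lit 0x710b3d) (nat_lit 2887) (nat_lit 0x710ac6) .nil) (nat_lit 0x710c08) (nat_lit 2869) (nat_lit
  0x710ac6) (.node .nil (nat_lit 0x710c09) (nat_lit 3008) (nat_lit 0x7db7cc) .nil))) (nat_lit 0x710df2)
  (nat_lit 1088) (nat_lit 0x7dbd59) (.node (.node (.node .nil (nat_lit 0x710df3) (nat_lit 2852) (nat_lit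
  0x710ac6) .nil) (nat_lit 0x710e74) (nat_lit 4421) (nat_lit 0x7108ba) (.node .nil (nat_lit 0x710e75) (nat_lit
  16391) (nat_lit 0x710f8f) .nil)) (nat_lit 0x710f8e) (nat_lit 16354) (nat_lit 0x710f8f) (.node (.node .nil
  (nat_lit 0x710f8f) (nat_lit 4184) (nat_lit 0xa166c3) .nil) (nat_lit 0x715826) (nat_lit 28768) (nat_lit
  831659) (.node .nil (nat_lit 0x715827) (nat_lit 11351) (nat_lit 0x715ba0) .nil)))) (nat_lit 0x71588a)
  (nat_lit 449) (nat_lit 847687) (.node (.node (.node (.node .nil (nat_lit 0x71588b) (nat_lit 1986) (nat_lit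
  0x71588a) .nil) (nat_lit 0x715970) (nat_lit 10816) (nat_lit 834195) (.node .nil (nat_lit 0x715971) (nat_lit
  10692) (nat_lit 0x715c39) .nil)) (nat_lit 0x7159dc) (nat_lit 5827) (nat_lit 0x715f12) (.node (.node .nil
  (nat_lit 0x7159dd) (nat_lit 5861) (nat_lit 0x715f12) .nil) (nat_lit 0x715a5a) (nat_lit 5844) (nat_lit
  0x715f12) (.node .nil (nat_lit 0x715a5b) (nat_lit 6080) (nat_lit 833438) .nil))) (nat_lit 0x715af6) (nat_lit
  7080) (nat_lit 0xd06f2f) (.node (.node (.node .nil (nat_lit 0x715af7) (nat_lit 10675) (nat_lit 0x715c39)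
  .nil) (nat_lit 0x715b0c) (nat_lit 9079) (nat_lit 0x71588b) (.node .nil (nat_lit 0x715b0d) (nat_lit 2055)
  (nat_lit 0x71588a) .nil)) (nat_lit 0x715ba0) (nat_lit 2672) (nat_lit 834827) (.node (.node .nil (nat_lit
  0x715ba1) (nat_lit 11282) (nat_lit 0x715ba0) .nil) (nat_lit 0x715c38) (nat_lit 10658) (nat_lit 0x715c39)
  (.node .nil (nat_lit 0x715c39) (nat_lit 2480) (nat_lit 831996) .nil))))) (nat_lit 0x715c94) (nat_lit 5879)
  (nat_lit 0x715f12) (.node (.node (.node (.node (.node .nil (nat_lit 0x715c95) (nat_lit 6112) (nat_lit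
  831824) .nil) (nat_lit 0x715d6e) (nat_lit 11334) (nat_lit 0x715ba0) (.node .nil (nat_lit 0x715d6f) (nat_lit
  11299) (nat_lit 0x715ba0) .nil)) (nat_lit 0x715dc2) (nat_lit 2161) (nat_lit 845397) (.node (.node .nil
  (nat_lit 0x715dc3) (nat_lit 2020) (nat_lit 0x71588a) .nil) (nat_lit 0x715e44) (nat_lit 2037) (nat_lit
  0x71588a) (.node .nil (nat_lit 0x715e45) (nat_lit 2003) (nat_lit 0x71588a) .nil))) (nat_lit 0x715ee8)
  (nat_lit 11488) (nat_lit 833125) (.node (.node (.node .nil (nat_lit 0x715ee9) (nat_lit 11316) (nat_lit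
  0x715ba0) .nil) (nat_lit 0x715f12) (nat_lit 1312) (nat_lit 834801) (.node .nil (nat_lit 0x715f13) (nat_lit
  5810) (nat_lit 0x715f12) .nil)) (nat_lit 0x715fbe) (nat_lit 10880) (nat_lit 834653) (.node (.node .nil
  (nat_lit 0x715fbf) (nat_lit 4496) (nat_lit 834652) .nil) (nat_lit 0x7db0f8) (nat_lit 31232) (nat_lit
  0x4ca8bb) (.node .nil (nat_lit 0x7db0f9) (nat_lit 18720) (nat_lit 0x4ca8ba) .nil)))) (nat_lit 0x7db102)
  (nat_lit 725) (nat_lit 0x7db103) (.node (.node (.node (.node .nil (nat_lit 0x7db103) (nat_lit 145) (nat_lit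
  0x4ca052) .nil) (nat_lit 0x7db228) (nat_lit 848) (nat_lit 0x4caf23) (.node .nil (nat_lit 0x7db229) (nat_lit
  800) (nat_lit 0x4caf22) .nil)) (nat_lit 0x7db3d2) (nat_lit 22136) (nat_lit 0xc20403) (.node (.node .nil
  (nat_lit 0x7db3d3) (nat_lit 8456) (nat_lit 0xcee2fb) .nil) (nat_lit 0x7db4e6) (nat_lit 628) (nat_lit
  0x7db8bd) (.node .nil (nat_lit 0x7db4e7) (nat_lit 240) (nat_lit 0x4ca9ec) .nil))) (nat_lit 0x7db51c)
  (nat_lit 25170) (nat_lit 0x7db3d3) (.node (.node (.node .nil (nat_lit 0x7db51d) (nat_lit 21140) (nat_lit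
  0x7db947) .nil) (nat_lit 0x7db636) (nat_lit 31858) (nat_lit 0x7db0f9) (.node .nil (nat_lit 0x7db637)
  (nat_lit 21920) (nat_lit 0x4cae74) .nil)) (nat_lit 0x7db7cc) (nat_lit 690) (nat_lit 0x7db103) (.node (.node
  .nil (nat_lit 0x7db7cd) (nat_lit 707) (nat_lit 0x7db103) .nil) (nat_lit 0x7db8bc) (nat_lit 1060) (nat_lit
  0x7db4e7) .nil))))) (nat_lit 0x7db8bd) (nat_lit 128) (nat_lit 0x4ca052) (.node (.node (.node (.node (.node
  (.node .nil (nat_lit 0x7db946) (nat_lit 11058) (nat_lit 0x7dbf88) .nil) (nat_lit 0x7db947) (nat_lit 6152)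
  (nat_lit 831824) (.node .nil (nat_lit 0x7dba6c) (nat_lit 31784) (nat_lit 0x1e83f3) .nil)) (nat_lit 0x7dba6d)
  (nat_lit 31872) (nat_lit 0x4ca7ca) (.node (.node .nil (nat_lit 0x7dbb96) (nat_lit 865) (nat_lit 0x4caf23)
  .nil) (nat_lit 0x7dbb97) (nat_lit 817) (nat_lit 0x4caf22) (.node .nil (nat_lit 0x7dbca2) (nat_lit 31800)
  (nat_lit 0x636a28) .nil))) (nat_lit 0x7dbca3) (nat_lit 23752) (nat_lit 0x6f8cd0) (.node (.node (.node .nil
  (nat_lit 0x7dbd58) (nat_lit 743) (nat_lit 0x7db103) .nil) (nat_lit 0x7dbd59) (nat_lit 257) (nat_lit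
  0x4ca9ec) (.node .nil (nat_lit 0x7dbe72) (nat_lit 611) (nat_lit 0x7db8bd) .nil)) (nat_lit 0x7dbe73) (nat_lit
  594) (nat_lit 0x7db8bd) (.node (.node .nil (nat_lit 0x7dbf88) (nat_lit 2616) (nat_lit 0x7dbe73) .nil)
  (nat_lit 0x7dbf89) (nat_lit 9096) (nat_lit 0x71588b) (.node .nil (nat_lit 0x7de218) (nat_lit 17332) (nat_lit
  0x7dec3e) .nil)))) (nat_lit 0x7de219) (nat_lit 17367) (nat_lit 0x7dec3e) (.node (.node (.node (.node .nil
  (nat_lit 0x7de2b4) (nat_lit 28484) (nat_lit 0x7dec93) .nil) (nat_lit 0x7de2b5) (nat_lit 17185) (nat_lit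
  0x715fbf) (.node .nil (nat_lit 0x7de34e) (nat_lit 20561) (nat_lit 0x715a5a) .nil)) (nat_lit 0x7de34f)
  (nat_lit 21057) (nat_lit 0x715a5b) (.node (.node .nil (nat_lit 0x7de3e2) (nat_lit 1969) (nat_lit 0x71588a)
  .nil) (nat_lit 0x7de3e3) (nat_lit 1652) (nat_lit 0x7dedc4) (.node .nil (nat_lit 0x7de47a) (nat_lit 28641)
  (nat_lit 0x715970) .nil))) (nat_lit 0x7de47b) (nat_lit 28513) (nat_lit 0x715971) (.node (.node (.node .nil
  (nat_lit 0x7de4d6) (nat_lit 11265) (nat_lit 0x715ba0) .nil) (nat_lit 0x7de4d7) (nat_lit 28977) (nat_lit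
  0x715ba1) (.node .nil (nat_lit 0x7de52c) (nat_lit 7540) (nat_lit 0x7deb0a) .nil)) (nat_lit 0x7de52d)
  (nat_lit 7574) (nat_lit 0x7de3e3) (.node (.node .nil (nat_lit 0x7de580) (nat_lit 20519) (nat_lit 0x7deba6)
  .nil) (nat_lit 0x7de581) (nat_lit 20484) (nat_lit 0x7deba6) (.node .nil (nat_lit 0x7dea5c) (nat_lit 22657)
  (nat_lit 0x715af6) .nil))))) (nat_lit 0x7dea5d) (nat_lit 24024) (nat_lit 0x6f830c) (.node (.node (.node
  (.node (.node .nil (nat_lit 0x7deaf0) (nat_lit 17314) (nat_lit 0x7dec3e) .nil) (nat_lit 0x7deaf1) (nat_lit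
  17350) (nat_lit 0x7dec3e) (.node .nil (nat_lit 0x7deb0a) (nat_lit 1634) (nat_lit 0x7dedc4) .nil)) (nat_lit
  0x7deb0b) (nat_lit 1686) (nat_lit 0x7dedc4) (.node (.node .nil (nat_lit 0x7deba6) (nat_lit 5793) (nat_lit
  0x715f12) .nil) (nat_lit 0x7deba7) (nat_lit 20467) (nat_lit 0x7deba6) (.node .nil (nat_lit 0x7dec3e)
  (nat_lit 4552) (nat_lit 0x7db8bc) .nil))) (nat_lit 0x7dec3f) (nat_lit 9144) (nat_lit 0x715e44) (.node (.node
  (.node .nil (nat_lit 0x7dec92) (nat_lit 23864) (nat_lit 0x1e8c2f) .nil) (nat_lit 0x7dec93) (nat_lit 10641)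
  (nat_lit 0x715c39) (.node .nil (nat_lit 0x7ded68) (nat_lit 7296) (nat_lit 0x3dada1) .nil)) (nat_lit
  0x7ded69) (nat_lit 20502) (nat_lit 0x7deba6) (.node (.node .nil (nat_lit 0x7dedc4) (nat_lit 408) (nat_lit
  22098) .nil) (nat_lit 0x7dedc5) (nat_lit 1669) (nat_lit 0x7dedc4) (.node .nil (nat_lit 0x821048) (nat_lit
  7063) (nat_lit 0xd06f2f) .nil)))) (nat_lit 0x8210e4) (nat_lit 9569) (nat_lit 0x8ea3c8) (.node (.node (.node
  (.node .nil (nat_lit 0x82111e) (nat_lit 23015) (nat_lit 0xd06e79) .nil) (nat_lit 0x8211b2) (nat_lit 20196)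
  (nat_lit 0x9cc795) (.node .nil (nat_lit 0x821235) (nat_lit 21192) (nat_lit 0xaddfd6) .nil)) (nat_lit
  0x821299) (nat_lit 23040) (nat_lit 0xc25ff0) (.node (.node .nil (nat_lit 0x821363) (nat_lit 7956) (nat_lit
  0x9cc545) .nil) (nat_lit 0x8213cf) (nat_lit 13584) (nat_lit 0xc255c8) (.node .nil (nat_lit 0x821457)
  (nat_lit 27207) (nat_lit 0xd06b31) .nil))) (nat_lit 0x8214fb) (nat_lit 13752) (nat_lit 0xd0360d) (.node
  (.node (.node .nil (nat_lit 0x821501) (nat_lit 5588) (nat_lit 0x9cc327) .nil) (nat_lit 0x8215ad) (nat_lit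
  23158) (nat_lit 0x8ead43) (.node .nil (nat_lit 0x82162a) (nat_lit 28785) (nat_lit 0x8ea506) .nil)) (nat_lit
  0x821686) (nat_lit 4628) (nat_lit 0x9cc0a1) (.node (.node .nil (nat_lit 0x82177c) (nat_lit 6228) (nat_lit
  0x9cc15a) .nil) (nat_lit 0x8217d0) (nat_lit 30168) (nat_lit 0xc204ae) .nil))))))
def u2_8 : T := (.node (.node (.node (.node (.node (.node (.node .nil (nat_lit 0x8218a0) (nat_lit 10563)
  (nat_lit 0x8ef6b0) .nil) (nat_lit 0x82195a) (nat_lit 26931) (nat_lit 0x8ef74a) (.node .nil (nat_lit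
  0x8219f6) (nat_lit 24995) (nat_lit 0x8ef7e7) .nil)) (nat_lit 0x821a71) (nat_lit 14440) (nat_lit 833224)
  (.node (.node .nil (nat_lit 0x821add) (nat_lit 17027) (nat_lit 0x8ef4cc) .nil) (nat_lit 0x821b27) (nat_lit
  9638) (nat_lit 0x8ea3c8) (.node .nil (nat_lit 0x821b8b) (nat_lit 29140) (nat_lit 0x9ccdac) .nil))) (nat_lit
  0x821c13) (nat_lit 22167) (nat_lit 0xd06374) (.node (.node (.node .nil (nat_lit 0x821cbf) (nat_lit 10946)
  (nat_lit 0xf34c70) .nil) (nat_lit 0x821d45) (nat_lit 10872) (nat_lit 831997) (.node .nil (nat_lit 0x821de9)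
  (nat_lit 23105) (nat_lit 0x8ead43) .nil)) (nat_lit 0x821e6e) (nat_lit 2291) (nat_lit 0x8ef07e) (.node (.node
  .nil (nat_lit 0x821ec2) (nat_lit 3048) (nat_lit 0x7db7cd) .nil) (nat_lit 0x821f38) (nat_lit 12210) (nat_lit
  0xf34ff7) (.node .nil (nat_lit 0x821f94) (nat_lit 18184) (nat_lit 0x636db0) .nil)))) (nat_lit 0x824079)
  (nat_lit 6804) (nat_lit 0x9c9423) (.node (.node (.node (.node .nil (nat_lit 0x8240d4) (nat_lit 29079)
  (nat_lit 0xd03dcf) .nil) (nat_lit 0x82412e) (nat_lit 23079) (nat_lit 0xd03c35) (.node .nil (nat_lit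
  0x824183) (nat_lit 11604) (nat_lit 0x9c95d8) .nil)) (nat_lit 0x824204) (nat_lit 26532) (nat_lit 0x9c965e)
  (.node (.node .nil (nat_lit 0x8242a9) (nat_lit 29968) (nat_lit 0xb359c0) .nil) (nat_lit 0x824353) (nat_lit
  8904) (nat_lit 0xcee3ac) (.node .nil (nat_lit 0x8243fe) (nat_lit 30343) (nat_lit 0xd03ee5) .nil))) (nat_lit
  0x824467) (nat_lit 27696) (nat_lit 0xb35f0e) (.node (.node (.node .nil (nat_lit 0x8244ca) (nat_lit 1780)
  (nat_lit 0x9c9091) .nil) (nat_lit 0x824530) (nat_lit 26680) (nat_lit 0xdcd81c) (.node .nil (nat_lit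
  0x82459d) (nat_lit 23123) (nat_lit 0x8ead43) .nil)) (nat_lit 0x82461a) (nat_lit 32213) (nat_lit 0xbfe61a)
  (.node (.node .nil (nat_lit 0x8246b7) (nat_lit 19365) (nat_lit 0xbfe6b7) .nil) (nat_lit 0x82474d) (nat_lit
  15060) (nat_lit 0x9c9317) (.node .nil (nat_lit 0x8247e0) (nat_lit 26752) (nat_lit 0xb352af) .nil)))))
  (nat_lit 0x82483d) (nat_lit 10256) (nat_lit 0xb356b0) (.node (.node (.node (.node (.node .nil (nat_lit
  0x824890) (nat_lit 10582) (nat_lit 0x8ef6b0) .nil) (nat_lit 0x82496a) (nat_lit 26865) (nat_lit 0xb35185)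
  (.node .nil (nat_lit 0x8249c7) (nat_lit 12040) (nat_lit 831495) .nil)) (nat_lit 0x824a40) (nat_lit 26848)
  (nat_lit 0xb35185) (.node (.node .nil (nat_lit 0x824aed) (nat_lit 17078) (nat_lit 0x8ef4cc) .nil) (nat_lit
  0x824b17) (nat_lit 9587) (nat_lit 0x8ea3c8) (.node .nil (nat_lit 0x824bba) (nat_lit 27249) (nat_lit
  0xb3596d) .nil))) (nat_lit 0x824c23) (nat_lit 22119) (nat_lit 0xd03138) (.node (.node (.node .nil (nat_lit
  0x824c8e) (nat_lit 3122) (nat_lit 0xf31c41) .nil) (nat_lit 0x824d74) (nat_lit 3064) (nat_lit 0x7db102)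
  (.node .nil (nat_lit 0x824dd9) (nat_lit 25926) (nat_lit 0x8ef3f8) .nil)) (nat_lit 0x824e5e) (nat_lit 2342)
  (nat_lit 0x8ef07e) (.node (.node .nil (nat_lit 0x824ef3) (nat_lit 4192) (nat_lit 0xb3507e) .nil) (nat_lit
  0x824f09) (nat_lit 20552) (nat_lit 0x7159dc) (.node .nil (nat_lit 0x824fa4) (nat_lit 28342) (nat_lit
  0x8ef184) .nil)))) (nat_lit 0x8ea04e) (nat_lit 3105) (nat_lit 0xf31c41) (.node (.node (.node (.node .nil
  (nat_lit 0x8ea0e2) (nat_lit 28016) (nat_lit 0xf34ea1) .nil) (nat_lit 0x8ea118) (nat_lit 24487) (nat_lit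
  0xdcd3de) (.node .nil (nat_lit 0x8ea1b4) (nat_lit 9698) (nat_lit 0xfff7b5) .nil)) (nat_lit 0x8ea232)
  (nat_lit 14312) (nat_lit 0x710766) (.node (.node .nil (nat_lit 0x8ea29e) (nat_lit 26976) (nat_lit 0xf34995)
  .nil) (nat_lit 0x8ea364) (nat_lit 17896) (nat_lit 0x6fdd1b) (.node .nil (nat_lit 0x8ea3c8) (nat_lit 2216)
  (nat_lit 846216) .nil))) (nat_lit 0x8ea450) (nat_lit 12771) (nat_lit 0x824c8e) (.node (.node (.node .nil
  (nat_lit 0x8ea4fc) (nat_lit 6567) (nat_lit 0xdcd63b) .nil) (nat_lit 0x8ea506) (nat_lit 11080) (nat_lit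
  0x710053) (.node .nil (nat_lit 0x8ea5aa) (nat_lit 12403) (nat_lit 0x824d74) .nil)) (nat_lit 0x8ea62c)
  (nat_lit 12342) (nat_lit 0x821ec2) (.node (.node .nil (nat_lit 0x8ea680) (nat_lit 9288) (nat_lit 843931)
  .nil) (nat_lit 0x8ea77a) (nat_lit 14053) (nat_lit 0xb301b5) .nil))))) (nat_lit 0x8ea7d6) (nat_lit 28864)
  (nat_lit 0xf342fb) (.node (.node (.node (.node (.node (.node .nil (nat_lit 0x8ea80b) (nat_lit 27366)
  (nat_lit 0x8210e4) .nil) (nat_lit 0x8ea8a7) (nat_lit 22356) (nat_lit 0x9075ee) (.node .nil (nat_lit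
  0x8ea95d) (nat_lit 22292) (nat_lit 0x907415) .nil)) (nat_lit 0x8ea9f1) (nat_lit 10928) (nat_lit 0xf34c70)
  (.node (.node .nil (nat_lit 0x8eaa77) (nat_lit 31252) (nat_lit 0x90773f) .nil) (nat_lit 0x8eaadb) (nat_lit
  20304) (nat_lit 0xf3417c) (.node .nil (nat_lit 0x8eab21) (nat_lit 26632) (nat_lit 0xc252fd) .nil))) (nat_lit
  0x8eab8d) (nat_lit 24678) (nat_lit 0x821363) (.node (.node (.node .nil (nat_lit 0x8eac15) (nat_lit 8148)
  (nat_lit 0x90715d) .nil) (nat_lit 0x8eacb9) (nat_lit 32008) (nat_lit 0xa1615b) (.node .nil (nat_lit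
  0x8ead43) (nat_lit 7288) (nat_lit 0xdc8fb5) .nil)) (nat_lit 0x8eadef) (nat_lit 19958) (nat_lit 0x821501)
  (.node (.node .nil (nat_lit 0x8eae69) (nat_lit 17606) (nat_lit 0x821686) .nil) (nat_lit 0x8eaec5) (nat_lit
  28296) (nat_lit 0xa16f7d) (.node .nil (nat_lit 0x8eaf3f) (nat_lit 15784) (nat_lit 0xdc8193) .nil))))
  (nat_lit 0x8eaf93) (nat_lit 21382) (nat_lit 0x82177c) (.node (.node (.node (.node .nil (nat_lit 0x8ef07e)
  (nat_lit 552) (nat_lit 847687) .nil) (nat_lit 0x8ef0d3) (nat_lit 12307) (nat_lit 0x821ec2) (.node .nil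
  (nat_lit 0x8ef129) (nat_lit 15767) (nat_lit 0xdc8193) .nil)) (nat_lit 0x8ef184) (nat_lit 10488) (nat_lit
  0x7101a9) (.node (.node .nil (nat_lit 0x8ef202) (nat_lit 9522) (nat_lit 0xffa403) .nil) (nat_lit 0x8ef2af)
  (nat_lit 12822) (nat_lit 0x824c8e) (.node .nil (nat_lit 0x8ef355) (nat_lit 12438) (nat_lit 0x824d74) .nil)))
  (nat_lit 0x8ef3f8) (nat_lit 8801) (nat_lit 0xcee3ac) (.node (.node (.node .nil (nat_lit 0x8ef461) (nat_lit
  24120) (nat_lit 0x1edad1) .nil) (nat_lit 0x8ef4cc) (nat_lit 4456) (nat_lit 0x7108ba) (.node .nil (nat_lit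
  0x8ef536) (nat_lit 3351) (nat_lit 0xdc858d) .nil)) (nat_lit 0x8ef59b) (nat_lit 18136) (nat_lit 0x63343f)
  (.node (.node .nil (nat_lit 0x8ef61d) (nat_lit 9794) (nat_lit 0xffa01c) .nil) (nat_lit 0x8ef6b0) (nat_lit
  2472) (nat_lit 0x71069c) (.node .nil (nat_lit 0x8ef74a) (nat_lit 9330) (nat_lit 0xffa14b) .nil))))) (nat_lit
  0x8ef7e7) (nat_lit 8208) (nat_lit 0x8244ca) (.node (.node (.node (.node (.node .nil (nat_lit 0x8ef83b)
  (nat_lit 31336) (nat_lit 0xa160a1) .nil) (nat_lit 0x8ef896) (nat_lit 17524) (nat_lit 0x9027a3) (.node .nil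
  (nat_lit 0x8ef96c) (nat_lit 21316) (nat_lit 0x902658) .nil)) (nat_lit 0x8ef9c1) (nat_lit 13448) (nat_lit
  0xdc8e4f) (.node (.node .nil (nat_lit 0x8efa47) (nat_lit 30552) (nat_lit 0xa16e87) .nil) (nat_lit 0x8efaea)
  (nat_lit 8262) (nat_lit 0x8244ca) (.node .nil (nat_lit 0x8efb10) (nat_lit 19876) (nat_lit 0x902424) .nil)))
  (nat_lit 0x8efbbd) (nat_lit 12368) (nat_lit 0x824d74) (.node (.node (.node .nil (nat_lit 0x8efc24) (nat_lit
  29152) (nat_lit 0x824183) .nil) (nat_lit 0x8efc89) (nat_lit 22951) (nat_lit 0xdc8c33) (.node .nil (nat_lit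
  0x8efd73) (nat_lit 8433) (nat_lit 0xcee2fb) .nil)) (nat_lit 0x8efdde) (nat_lit 27376) (nat_lit 0x824b17)
  (.node (.node .nil (nat_lit 0x8efe58) (nat_lit 22390) (nat_lit 0x824079) .nil) (nat_lit 0x8efef5) (nat_lit
  13431) (nat_lit 0xdc8e4f) (.node .nil (nat_lit 0x8eff0f) (nat_lit 7271) (nat_lit 0xdc8fb5) .nil)))) (nat_lit
  0x8effa2) (nat_lit 18920) (nat_lit 0xceb5ff) (.node (.node (.node (.node .nil (nat_lit 0x90203b) (nat_lit
  21461) (nat_lit 0xad8eb1) .nil) (nat_lit 0x902097) (nat_lit 6465) (nat_lit 0xdcd63b) (.node .nil (nat_lit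
  0x90216c) (nat_lit 6838) (nat_lit 0x9c9423) .nil)) (nat_lit 0x9021c0) (nat_lit 27473) (nat_lit 0xdcd10e)
  (.node (.node .nil (nat_lit 0x902247) (nat_lit 7939) (nat_lit 0x9cc545) .nil) (nat_lit 0x9022eb) (nat_lit
  30291) (nat_lit 0x9cc5e8) (.node .nil (nat_lit 0x902310) (nat_lit 22016) (nat_lit 0x902097) .nil))) (nat_lit
  0x9023bc) (nat_lit 22545) (nat_lit 0xdcdb36) (.node (.node (.node .nil (nat_lit 0x902424) (nat_lit 5571)
  (nat_lit 0x9cc327) .nil) (nat_lit 0x902488) (nat_lit 26007) (nat_lit 0xc25b42) (.node .nil (nat_lit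
  0x902573) (nat_lit 16545) (nat_lit 0xdcddf9) .nil)) (nat_lit 0x9025df) (nat_lit 1814) (nat_lit 0x9c9091)
  (.node (.node .nil (nat_lit 0x902658) (nat_lit 6211) (nat_lit 0x9cc15a) .nil) (nat_lit 0x9026f4) (nat_lit
  27943) (nat_lit 0xc2593e) .nil))))))
def u2_9 : T := (.node (.node (.node (.node (.node (.node (.node .nil (nat_lit 0x9027a3) (nat_lit 4611)
  (nat_lit 0x9cc0a1) .nil) (nat_lit 0x90287e) (nat_lit 26948) (nat_lit 0x8ef74a) (.node .nil (nat_lit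
  0x9028d2) (nat_lit 7810) (nat_lit 0xe17b9b) .nil)) (nat_lit 0x902929) (nat_lit 10176) (nat_lit 0x902f4a)
  (.node (.node .nil (nat_lit 0x902985) (nat_lit 965) (nat_lit 0xad870e) .nil) (nat_lit 0x902a02) (nat_lit
  13639) (nat_lit 0xc255c8) (.node .nil (nat_lit 0x902aae) (nat_lit 20149) (nat_lit 0xad8424) .nil))) (nat_lit
  0x902b55) (nat_lit 32152) (nat_lit 845182) (.node (.node (.node .nil (nat_lit 0x902bf9) (nat_lit 17044)
  (nat_lit 0x8ef4cc) .nil) (nat_lit 0x902c61) (nat_lit 19856) (nat_lit 0x902424) (.node .nil (nat_lit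
  0x902ccd) (nat_lit 25892) (nat_lit 0x8ef3f8) .nil)) (nat_lit 0x902d36) (nat_lit 22069) (nat_lit 0xad83bd)
  (.node (.node .nil (nat_lit 0x902d9a) (nat_lit 30086) (nat_lit 0x9c98d5) .nil) (nat_lit 0x902e1d) (nat_lit
  23368) (nat_lit 846957) (.node .nil (nat_lit 0x902eb1) (nat_lit 28324) (nat_lit 0x8ef184) .nil)))) (nat_lit
  0x902f4a) (nat_lit 2308) (nat_lit 0x8ef07e) (.node (.node (.node (.node .nil (nat_lit 0x902fe6) (nat_lit
  4001) (nat_lit 0xdcd288) .nil) (nat_lit 0x90700b) (nat_lit 9992) (nat_lit 0xcebe3c) (.node .nil (nat_lit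
  0x9070a6) (nat_lit 5622) (nat_lit 0x9cc327) .nil)) (nat_lit 0x90715d) (nat_lit 1763) (nat_lit 0x9c9091)
  (.node (.node .nil (nat_lit 0x9071f0) (nat_lit 32246) (nat_lit 0x9cc271) .nil) (nat_lit 0x907277) (nat_lit
  27304) (nat_lit 0xceb01a) (.node .nil (nat_lit 0x9072da) (nat_lit 6262) (nat_lit 0x9cc15a) .nil))) (nat_lit
  0x907321) (nat_lit 4662) (nat_lit 0x9cc0a1) (.node (.node (.node .nil (nat_lit 0x90738c) (nat_lit 30480)
  (nat_lit 0xe1260b) .nil) (nat_lit 0x907415) (nat_lit 6656) (nat_lit 0xe12afc) (.node .nil (nat_lit 0x9074b8)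
  (nat_lit 12679) (nat_lit 0xc2090e) .nil)) (nat_lit 0x907543) (nat_lit 13665) (nat_lit 0xe12dc8) (.node
  (.node .nil (nat_lit 0x9075ee) (nat_lit 6787) (nat_lit 0x9c9423) .nil) (nat_lit 0x907669) (nat_lit 13648)
  (nat_lit 0xe12dc8) (.node .nil (nat_lit 0x9076c4) (nat_lit 7990) (nat_lit 0x9cc545) .nil))))) (nat_lit
  0x90773f) (nat_lit 15792) (nat_lit 0xe127f0) (.node (.node (.node (.node (.node .nil (nat_lit 0x907792)
  (nat_lit 13808) (nat_lit 0xe1275d) .nil) (nat_lit 0x90784e) (nat_lit 12184) (nat_lit 0x6331da) (.node .nil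
  (nat_lit 0x9078e3) (nat_lit 19653) (nat_lit 0xadd669) .nil)) (nat_lit 0x907918) (nat_lit 30052) (nat_lit
  0x8ea450) (.node (.node .nil (nat_lit 0x9079b5) (nat_lit 6674) (nat_lit 0xe12afc) .nil) (nat_lit 0x907a32)
  (nat_lit 3445) (nat_lit 0xadd4b8) (.node .nil (nat_lit 0x907a9f) (nat_lit 20016) (nat_lit 0xe124da) .nil)))
  (nat_lit 0x907b64) (nat_lit 15859) (nat_lit 0x9c9aa8) (.node (.node (.node .nil (nat_lit 0x907bc9) (nat_lit
  26708) (nat_lit 0x8ea680) .nil) (nat_lit 0x907c50) (nat_lit 24880) (nat_lit 0xe12215) (.node .nil (nat_lit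
  0x907cfd) (nat_lit 27079) (nat_lit 0xc2014a) .nil)) (nat_lit 0x907d06) (nat_lit 12724) (nat_lit 0x8ea04e)
  (.node (.node .nil (nat_lit 0x907dab) (nat_lit 27831) (nat_lit 0xc2001c) .nil) (nat_lit 0x907e2c) (nat_lit
  13825) (nat_lit 0xe1275d) (.node .nil (nat_lit 0x907e81) (nat_lit 9604) (nat_lit 0x8ea3c8) .nil)))) (nat_lit
  0x907f7a) (nat_lit 30804) (nat_lit 0x8ea232) (.node (.node (.node (.node .nil (nat_lit 0x907fd7) (nat_lit
  27648) (nat_lit 0xe12fb4) .nil) (nat_lit 0x9c903d) (nat_lit 31509) (nat_lit 0xa13879) (.node .nil (nat_lit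
  0x9c9091) (nat_lit 424) (nat_lit 21216) .nil)) (nat_lit 0x9c916a) (nat_lit 19894) (nat_lit 0x902424) (.node
  (.node .nil (nat_lit 0x9c91c6) (nat_lit 8887) (nat_lit 0xcee3ac) .nil) (nat_lit 0x9c9240) (nat_lit 25797)
  (nat_lit 0xa13a04) (.node .nil (nat_lit 0x9c92ec) (nat_lit 17542) (nat_lit 0x9027a3) .nil))) (nat_lit
  0x9c9317) (nat_lit 3704) (nat_lit 0x7db228) (.node (.node (.node .nil (nat_lit 0x9c93bb) (nat_lit 29400)
  (nat_lit 0x1e86bb) .nil) (nat_lit 0x9c9423) (nat_lit 1490) (nat_lit 0xedc1a4) (.node .nil (nat_lit 0x9c948f)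
  (nat_lit 25760) (nat_lit 0xa13a04) .nil)) (nat_lit 0x9c9574) (nat_lit 23944) (nat_lit 0x6f8998) (.node
  (.node .nil (nat_lit 0x9c95d8) (nat_lit 2792) (nat_lit 834827) .nil) (nat_lit 0x9c965e) (nat_lit 9128)
  (nat_lit 0x715dc3) .nil))))) (nat_lit 0x9c96f2) (nat_lit 28257) (nat_lit 0xa16f7d) (.node (.node (.node
  (.node (.node (.node .nil (nat_lit 0x9c9709) (nat_lit 24646) (nat_lit 0x902247) .nil) (nat_lit 0x9c97a5)
  (nat_lit 14338) (nat_lit 0xedc222) (.node .nil (nat_lit 0x9c9879) (nat_lit 22323) (nat_lit 0x9079b5) .nil))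
  (nat_lit 0x9c98d5) (nat_lit 12788) (nat_lit 0x824c8e) (.node (.node .nil (nat_lit 0x9c992e) (nat_lit 12420)
  (nat_lit 0x824d74) .nil) (nat_lit 0x9c9982) (nat_lit 29843) (nat_lit 0x90784e) (.node .nil (nat_lit
  0x9c9a04) (nat_lit 10230) (nat_lit 0x902f4a) .nil))) (nat_lit 0x9c9aa8) (nat_lit 3874) (nat_lit 0xedcf2e)
  (.node (.node (.node .nil (nat_lit 0x9c9b53) (nat_lit 22568) (nat_lit 0xdcdb36) .nil) (nat_lit 0x9c9bff)
  (nat_lit 13873) (nat_lit 0xa161f6) (.node .nil (nat_lit 0x9c9c67) (nat_lit 28118) (nat_lit 0x902929) .nil))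
  (nat_lit 0x9c9ccb) (nat_lit 4262) (nat_lit 0x902985) (.node (.node .nil (nat_lit 0x9c9d30) (nat_lit 31472)
  (nat_lit 0xa13879) .nil) (nat_lit 0x9c9d9c) (nat_lit 8304) (nat_lit 0xa138d5) (.node .nil (nat_lit 0x9c9e1a)
  (nat_lit 26225) (nat_lit 0xa16a35) .nil)))) (nat_lit 0x9c9eb6) (nat_lit 17649) (nat_lit 0xa168e5) (.node
  (.node (.node (.node .nil (nat_lit 0x9c9f4d) (nat_lit 24705) (nat_lit 0xa16d00) .nil) (nat_lit 0x9c9fe1)
  (nat_lit 30023) (nat_lit 0xceed8b) (.node .nil (nat_lit 0x9cc00c) (nat_lit 27287) (nat_lit 0xceb01a) .nil))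
  (nat_lit 0x9cc0a1) (nat_lit 1080) (nat_lit 0x7db4e7) (.node (.node .nil (nat_lit 0x9cc15a) (nat_lit 1416)
  (nat_lit 834801) .nil) (nat_lit 0x9cc1f7) (nat_lit 31400) (nat_lit 0x636e9a) (.node .nil (nat_lit 0x9cc271)
  (nat_lit 26277) (nat_lit 0xa16a35) .nil))) (nat_lit 0x9cc2dc) (nat_lit 8166) (nat_lit 0x90715d) (.node
  (.node (.node .nil (nat_lit 0x9cc327) (nat_lit 1288) (nat_lit 21551) .nil) (nat_lit 0x9cc38a) (nat_lit
  22776) (nat_lit 0x6f8644) (.node .nil (nat_lit 0x9cc413) (nat_lit 11170) (nat_lit 0xed9194) .nil)) (nat_lit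
  0x9cc4be) (nat_lit 22786) (nat_lit 0xed9139) (.node (.node .nil (nat_lit 0x9cc545) (nat_lit 1729) (nat_lit
  0x9c9091) .nil) (nat_lit 0x9cc5e8) (nat_lit 13234) (nat_lit 0xed906f) (.node .nil (nat_lit 0x9cc66e)
  (nat_lit 11544) (nat_lit 834500) .nil))))) (nat_lit 0x9cc6c3) (nat_lit 18408) (nat_lit 0x6369af) (.node
  (.node (.node (.node (.node .nil (nat_lit 0x9cc738) (nat_lit 15841) (nat_lit 0x9c9aa8) .nil) (nat_lit
  0x9cc795) (nat_lit 5682) (nat_lit 0xed9212) (.node .nil (nat_lit 0x9cc848) (nat_lit 10116) (nat_lit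
  0x821e6e) .nil)) (nat_lit 0x9cc8e5) (nat_lit 12324) (nat_lit 0x821ec2) (.node (.node .nil (nat_lit 0x9cc91e)
  (nat_lit 28896) (nat_lit 0xd03f1f) .nil) (nat_lit 0x9cc9b3) (nat_lit 13941) (nat_lit 0xa161f6) (.node .nil
  (nat_lit 0x9cca35) (nat_lit 6769) (nat_lit 0x9c9423) .nil))) (nat_lit 0x9cca98) (nat_lit 13015) (nat_lit
  0xceba8f) (.node (.node (.node .nil (nat_lit 0x9ccb63) (nat_lit 15025) (nat_lit 0x9c9317) .nil) (nat_lit
  0x9ccbce) (nat_lit 25680) (nat_lit 0xd03887) (.node .nil (nat_lit 0x9ccc57) (nat_lit 25832) (nat_lit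
  0xa13a04) .nil)) (nat_lit 0x9cccfa) (nat_lit 31415) (nat_lit 0xcebcec) (.node (.node .nil (nat_lit 0x9ccd01)
  (nat_lit 19272) (nat_lit 0xbfe079) .nil) (nat_lit 0x9ccdac) (nat_lit 11569) (nat_lit 0x9c95d8) (.node .nil
  (nat_lit 0x9cce2a) (nat_lit 9975) (nat_lit 0xcebe3c) .nil)))) (nat_lit 0x9cce87) (nat_lit 4133) (nat_lit
  0xa166c3) (.node (.node (.node (.node .nil (nat_lit 0x9ccf7c) (nat_lit 31992) (nat_lit 0xb308a7) .nil)
  (nat_lit 0x9ccfd1) (nat_lit 24323) (nat_lit 0x9028d2) (.node .nil (nat_lit 0xa1303d) (nat_lit 22086)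
  (nat_lit 0xad83bd) .nil)) (nat_lit 0xa13091) (nat_lit 10999) (nat_lit 0xf34c70) (.node (.node .nil (nat_lit
  0xa1316b) (nat_lit 19619) (nat_lit 0xadd669) .nil) (nat_lit 0xa131c7) (nat_lit 22888) (nat_lit 0xed9139)
  (.node .nil (nat_lit 0xa13240) (nat_lit 27892) (nat_lit 0xbfee5e) .nil))) (nat_lit 0xa132ec) (nat_lit 3984)
  (nat_lit 0xdcd288) (.node (.node (.node .nil (nat_lit 0xa13316) (nat_lit 12279) (nat_lit 0xf34ff7) .nil)
  (nat_lit 0xa133ba) (nat_lit 3411) (nat_lit 0xadd4b8) (.node .nil (nat_lit 0xa13423) (nat_lit 10193) (nat_lit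
  0x902f4a) .nil)) (nat_lit 0xa1348f) (nat_lit 982) (nat_lit 0xad870e) (.node (.node .nil (nat_lit 0xa13575)
  (nat_lit 24760) (nat_lit 0x9076c4) .nil) (nat_lit 0xa135d9) (nat_lit 24806) (nat_lit 0xad8658) .nil))))))
def u2_10 : T := (.node (.node (.node (.node (.node (.node (.node .nil (nat_lit 0xa136f2) (nat_lit 17442)
  (nat_lit 0xd065bb) .nil) (nat_lit 0xa13708) (nat_lit 13491) (nat_lit 0xadd00b) (.node .nil (nat_lit
  0xa137a4) (nat_lit 20166) (nat_lit 0xad8424) .nil)) (nat_lit 0xa13879) (nat_lit 16528) (nat_lit 0xdcddf9)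
  (.node (.node .nil (nat_lit 0xa138d5) (nat_lit 1797) (nat_lit 0x9c9091) .nil) (nat_lit 0xa1392f) (nat_lit
  30675) (nat_lit 0xadde2c) (.node .nil (nat_lit 0xa13983) (nat_lit 25991) (nat_lit 0xf34563) .nil))) (nat_lit
  0xa13a04) (nat_lit 8776) (nat_lit 0x3dfe17) (.node (.node (.node .nil (nat_lit 0xa13aa8) (nat_lit 6630)
  (nat_lit 0xad8928) .nil) (nat_lit 0xa13b52) (nat_lit 15077) (nat_lit 0x9c9317) (.node .nil (nat_lit
  0xa13bfe) (nat_lit 28097) (nat_lit 0x902929) .nil)) (nat_lit 0xa13c67) (nat_lit 6821) (nat_lit 0x9c9423)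
  (.node (.node .nil (nat_lit 0xa13ccb) (nat_lit 23554) (nat_lit 0xd06f83) .nil) (nat_lit 0xa13d31) (nat_lit
  16145) (nat_lit 0x902fe6) (.node .nil (nat_lit 0xa13d9d) (nat_lit 6448) (nat_lit 0xdcd63b) .nil)))) (nat_lit
  0xa13e1a) (nat_lit 26549) (nat_lit 0x9c965e) (.node (.node (.node (.node .nil (nat_lit 0xa13eb6) (nat_lit
  22528) (nat_lit 0xdcdb36) .nil) (nat_lit 0xa13f4c) (nat_lit 8385) (nat_lit 0x9025df) (.node .nil (nat_lit
  0xa13fe0) (nat_lit 18962) (nat_lit 0xd06ca8) .nil)) (nat_lit 0xa1600c) (nat_lit 27840) (nat_lit 0xadd320)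
  (.node (.node .nil (nat_lit 0xa160a1) (nat_lit 15959) (nat_lit 0xf31e3c) .nil) (nat_lit 0xa1615b) (nat_lit
  19585) (nat_lit 0xadd669) (.node .nil (nat_lit 0xa161f6) (nat_lit 3377) (nat_lit 0xadd4b8) .nil))) (nat_lit
  0xa16271) (nat_lit 17393) (nat_lit 0xaddb65) (.node (.node (.node .nil (nat_lit 0xa162dc) (nat_lit 3207)
  (nat_lit 0xf31c41) .nil) (nat_lit 0xa16326) (nat_lit 19670) (nat_lit 0xadd669) (.node .nil (nat_lit
  0xa1638b) (nat_lit 30688) (nat_lit 0xadde81) .nil)) (nat_lit 0xa16413) (nat_lit 27104) (nat_lit 0xadd277)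
  (.node (.node .nil (nat_lit 0xa164be) (nat_lit 30104) (nat_lit 0x9c98d5) .nil) (nat_lit 0xa16544) (nat_lit
  13510) (nat_lit 0xadd00b) (.node .nil (nat_lit 0xa165e9) (nat_lit 20115) (nat_lit 0xad8424) .nil)))))
  (nat_lit 0xa1666e) (nat_lit 17943) (nat_lit 0xf318f2) (.node (.node (.node (.node (.node .nil (nat_lit
  0xa166c3) (nat_lit 931) (nat_lit 0xad870e) .nil) (nat_lit 0xa16739) (nat_lit 27095) (nat_lit 0xf319a5)
  (.node .nil (nat_lit 0xa16794) (nat_lit 12856) (nat_lit 0x824c8e) .nil)) (nat_lit 0xa16848) (nat_lit 30448)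
  (nat_lit 0xaddbc8) (.node (.node .nil (nat_lit 0xa168e5) (nat_lit 4645) (nat_lit 0x9cc0a1) .nil) (nat_lit
  0xa1691f) (nat_lit 6245) (nat_lit 0x9cc15a) (.node .nil (nat_lit 0xa169b2) (nat_lit 25656) (nat_lit
  0x3df8d8) .nil))) (nat_lit 0xa16a35) (nat_lit 9016) (nat_lit 0x4cfee8) (.node (.node (.node .nil (nat_lit
  0xa16a98) (nat_lit 14936) (nat_lit 0x232c83) .nil) (nat_lit 0xa16b62) (nat_lit 5605) (nat_lit 0x9cc327)
  (.node .nil (nat_lit 0xa16bcf) (nat_lit 19568) (nat_lit 0xadd669) .nil)) (nat_lit 0xa16c57) (nat_lit 19032)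
  (nat_lit 0x5223a0) (.node (.node .nil (nat_lit 0xa16cfa) (nat_lit 22960) (nat_lit 0xadda32) .nil) (nat_lit
  0xa16d00) (nat_lit 7973) (nat_lit 0x9cc545) (.node .nil (nat_lit 0xa16dad) (nat_lit 13456) (nat_lit
  0xadd00b) .nil)))) (nat_lit 0xa16e2a) (nat_lit 6999) (nat_lit 0xf310b7) (.node (.node (.node (.node .nil
  (nat_lit 0xa16e87) (nat_lit 13473) (nat_lit 0xadd00b) .nil) (nat_lit 0xa16f7d) (nat_lit 10440) (nat_lit
  0x4cf7fb) (.node .nil (nat_lit 0xa16fd0) (nat_lit 20213) (nat_lit 0x9cc795) .nil)) (nat_lit 0xad803b)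
  (nat_lit 13907) (nat_lit 0xa161f6) (.node (.node .nil (nat_lit 0xad8097) (nat_lit 20992) (nat_lit 0xedc3d9)
  .nil) (nat_lit 0xad816d) (nat_lit 16118) (nat_lit 0xa132ec) (.node .nil (nat_lit 0xad81c1) (nat_lit 10213)
  (nat_lit 0x902f4a) .nil))) (nat_lit 0xad8247) (nat_lit 23464) (nat_lit 0x404fb9) (.node (.node (.node .nil
  (nat_lit 0xad82eb) (nat_lit 21217) (nat_lit 0xed94dd) .nil) (nat_lit 0xad8311) (nat_lit 12919) (nat_lit
  0xfff251) (.node .nil (nat_lit 0xad83bd) (nat_lit 6482) (nat_lit 0xdcd63b) .nil)) (nat_lit 0xad8424)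
  (nat_lit 5665) (nat_lit 0xed9212) (.node (.node .nil (nat_lit 0xad8488) (nat_lit 24577) (nat_lit 0xed90c2)
  .nil) (nat_lit 0xad8572) (nat_lit 17457) (nat_lit 0xed9526) .nil))))) (nat_lit 0xad85de) (nat_lit 26804)
  (nat_lit 0xb352af) (.node (.node (.node (.node (.node (.node .nil (nat_lit 0xad8658) (nat_lit 8032) (nat_lit
  0xedc516) .nil) (nat_lit 0xad86f4) (nat_lit 9751) (nat_lit 0xfff7b5) (.node .nil (nat_lit 0xad870e) (nat_lit
  232) (nat_lit 0x4ca052) .nil)) (nat_lit 0xad87a2) (nat_lit 27972) (nat_lit 0xb350d3) (.node (.node .nil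
  (nat_lit 0xad887e) (nat_lit 16562) (nat_lit 0xdcddf9) .nil) (nat_lit 0xad88d2) (nat_lit 21333) (nat_lit
  0x902658) (.node .nil (nat_lit 0xad8928) (nat_lit 1456) (nat_lit 0xedc1a4) .nil))) (nat_lit 0xad8984)
  (nat_lit 22056) (nat_lit 0x902097) (.node (.node (.node .nil (nat_lit 0xad8a02) (nat_lit 11153) (nat_lit
  0xed9194) .nil) (nat_lit 0xad8aae) (nat_lit 17112) (nat_lit 0x8ef4cc) (.node .nil (nat_lit 0xad8b54)
  (nat_lit 8342) (nat_lit 0xa138d5) .nil)) (nat_lit 0xad8bf8) (nat_lit 26259) (nat_lit 0xa16a35) (.node (.node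
  .nil (nat_lit 0xad8c61) (nat_lit 30417) (nat_lit 0xed958b) .nil) (nat_lit 0xad8ccd) (nat_lit 24629) (nat_lit
  0x902247) (.node .nil (nat_lit 0xad8d37) (nat_lit 31280) (nat_lit 0xedc0f3) .nil)))) (nat_lit 0xad8d9b)
  (nat_lit 13217) (nat_lit 0xed906f) (.node (.node (.node (.node .nil (nat_lit 0xad8e1d) (nat_lit 22006)
  (nat_lit 0xa13d9d) .nil) (nat_lit 0xad8eb1) (nat_lit 6296) (nat_lit 0x9cc15a) (.node .nil (nat_lit 0xad8f4b)
  (nat_lit 27672) (nat_lit 0xe12fb4) .nil)) (nat_lit 0xad8fe7) (nat_lit 22406) (nat_lit 0xa13c67) (.node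
  (.node .nil (nat_lit 0xadd00b) (nat_lit 3266) (nat_lit 0xdc858d) .nil) (nat_lit 0xadd0a6) (nat_lit 15672)
  (nat_lit 0x5275f3) (.node .nil (nat_lit 0xadd15c) (nat_lit 27153) (nat_lit 0xd06b31) .nil))) (nat_lit
  0xadd1f1) (nat_lit 19425) (nat_lit 0xd069e0) (.node (.node (.node .nil (nat_lit 0xadd277) (nat_lit 9415)
  (nat_lit 0xffa14b) .nil) (nat_lit 0xadd2da) (nat_lit 24471) (nat_lit 0xffa1e6) (.node .nil (nat_lit
  0xadd320) (nat_lit 9863) (nat_lit 0xffa01c) .nil)) (nat_lit 0xadd38d) (nat_lit 4150) (nat_lit 0xa166c3)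
  (.node (.node .nil (nat_lit 0xadd415) (nat_lit 15698) (nat_lit 0xdc8193) .nil) (nat_lit 0xadd4b8) (nat_lit
  792) (nat_lit 0x4ca69d) (.node .nil (nat_lit 0xadd542) (nat_lit 10087) (nat_lit 0xffa67f) .nil))))) (nat_lit
  0xadd5ef) (nat_lit 16083) (nat_lit 0xa132ec) (.node (.node (.node (.node (.node .nil (nat_lit 0xadd669)
  (nat_lit 5520) (nat_lit 0x9cc327) .nil) (nat_lit 0xadd6c4) (nat_lit 29861) (nat_lit 0x90784e) (.node .nil
  (nat_lit 0xadd73e) (nat_lit 7025) (nat_lit 0xd06f2f) .nil)) (nat_lit 0xadd793) (nat_lit 13047) (nat_lit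
  0xffa4ae) (.node (.node .nil (nat_lit 0xadd84e) (nat_lit 19713) (nat_lit 0xd06b9d) .nil) (nat_lit 0xadd8e3)
  (nat_lit 27316) (nat_lit 0xb30dee) (.node .nil (nat_lit 0xadd919) (nat_lit 18945) (nat_lit 0xd06ca8) .nil)))
  (nat_lit 0xadd9b4) (nat_lit 22898) (nat_lit 0xdc8c33) (.node (.node (.node .nil (nat_lit 0xadda32) (nat_lit
  7202) (nat_lit 0xdc8fb5) .nil) (nat_lit 0xadda9f) (nat_lit 21987) (nat_lit 0xa13d9d) (.node .nil (nat_lit
  0xaddb65) (nat_lit 4560) (nat_lit 0x9cc0a1) .nil)) (nat_lit 0xaddbc8) (nat_lit 13378) (nat_lit 0xdc8e4f)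
  (.node (.node .nil (nat_lit 0xaddc50) (nat_lit 17425) (nat_lit 0xd065bb) .nil) (nat_lit 0xaddcfd) (nat_lit
  27953) (nat_lit 0xd0676a) (.node .nil (nat_lit 0xaddd07) (nat_lit 20248) (nat_lit 0x9cc795) .nil))))
  (nat_lit 0xadddaa) (nat_lit 17670) (nat_lit 0xa168e5) (.node (.node (.node (.node .nil (nat_lit 0xadde2c)
  (nat_lit 13800) (nat_lit 0x8ef536) .nil) (nat_lit 0xadde81) (nat_lit 13864) (nat_lit 0xe1275d) (.node .nil
  (nat_lit 0xaddf7b) (nat_lit 26294) (nat_lit 0xa16a35) .nil)) (nat_lit 0xaddfd6) (nat_lit 6160) (nat_lit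
  0x9cc15a) (.node (.node .nil (nat_lit 0xb3004e) (nat_lit 26725) (nat_lit 0x8ea680) .nil) (nat_lit 0xb300e2)
  (nat_lit 12704) (nat_lit 0x8ea04e) (.node .nil (nat_lit 0xb30119) (nat_lit 28086) (nat_lit 0xbfbf39) .nil)))
  (nat_lit 0xb301b5) (nat_lit 3428) (nat_lit 0xadd4b8) (.node (.node (.node .nil (nat_lit 0xb30232) (nat_lit
  12360) (nat_lit 0x821ec2) .nil) (nat_lit 0xb3029e) (nat_lit 30069) (nat_lit 0x8ea450) (.node .nil (nat_lit
  0xb30365) (nat_lit 19636) (nat_lit 0xadd669) .nil)) (nat_lit 0xb303c9) (nat_lit 23088) (nat_lit 0x8ead43)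
  (.node (.node .nil (nat_lit 0xb30450) (nat_lit 27616) (nat_lit 0x8ea1b4) .nil) (nat_lit 0xb304fc) (nat_lit
  19298) (nat_lit 0xc25433) .nil))))))
def u2_11 : T := (.node (.node (.node (.node (.node (.node (.node .nil (nat_lit 0xb305ab) (nat_lit 30739)
  (nat_lit 0xbfebbb) .nil) (nat_lit 0xb3062c) (nat_lit 26688) (nat_lit 0x8ea680) (.node .nil (nat_lit
  0xb30680) (nat_lit 12741) (nat_lit 0x8ea04e) .nil)) (nat_lit 0xb3077b) (nat_lit 27047) (nat_lit 0xe17b37)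
  (.node (.node .nil (nat_lit 0xb307d7) (nat_lit 7895) (nat_lit 0xe17b9b) .nil) (nat_lit 0xb3080b) (nat_lit
  30776) (nat_lit 0x2f9f02) (.node .nil (nat_lit 0xb308a7) (nat_lit 19347) (nat_lit 0xbfe6b7) .nil))) (nat_lit
  0xb3095c) (nat_lit 19281) (nat_lit 0xc25433) (.node (.node (.node .nil (nat_lit 0xb309f0) (nat_lit 25416)
  (nat_lit 0x5e9714) .nil) (nat_lit 0xb30a77) (nat_lit 27905) (nat_lit 0xc2593e) (.node .nil (nat_lit
  0xb30adb) (nat_lit 21156) (nat_lit 0xaddfd6) .nil)) (nat_lit 0xb30b20) (nat_lit 7416) (nat_lit 0x3dada1)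
  (.node (.node .nil (nat_lit 0xb30b8c) (nat_lit 23141) (nat_lit 0x8ead43) .nil) (nat_lit 0xb30c15) (nat_lit
  24568) (nat_lit 0x314c6c) (.node .nil (nat_lit 0xb30cb9) (nat_lit 23057) (nat_lit 0xc25ff0) .nil))))
  (nat_lit 0xb30d42) (nat_lit 25121) (nat_lit 0xc25a15) (.node (.node (.node (.node .nil (nat_lit 0xb30dee)
  (nat_lit 9552) (nat_lit 0x8ea3c8) .nil) (nat_lit 0xb30e69) (nat_lit 7095) (nat_lit 0xe17224) (.node .nil
  (nat_lit 0xb30ec5) (nat_lit 13601) (nat_lit 0xc255c8) .nil)) (nat_lit 0xb30f3e) (nat_lit 22980) (nat_lit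
  0xadda32) (.node (.node .nil (nat_lit 0xb30f92) (nat_lit 20279) (nat_lit 0xe173df) .nil) (nat_lit 0xb3507e)
  (nat_lit 948) (nat_lit 0xad870e) (.node .nil (nat_lit 0xb350d3) (nat_lit 10000) (nat_lit 0xffa67f) .nil)))
  (nat_lit 0xb35128) (nat_lit 24788) (nat_lit 0xad8658) (.node (.node (.node .nil (nat_lit 0xb35185) (nat_lit
  9313) (nat_lit 0xffa14b) .nil) (nat_lit 0xb35202) (nat_lit 17061) (nat_lit 0x8ef4cc) (.node .nil (nat_lit
  0xb352af) (nat_lit 9296) (nat_lit 0xffa14b) .nil)) (nat_lit 0xb35354) (nat_lit 20132) (nat_lit 0xad8424)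
  (.node (.node .nil (nat_lit 0xb353f9) (nat_lit 13703) (nat_lit 0xe12dc8) .nil) (nat_lit 0xb35461) (nat_lit
  14160) (nat_lit 0xffa785) (.node .nil (nat_lit 0xb354cc) (nat_lit 6743) (nat_lit 0xe12afc) .nil)))))
  (nat_lit 0xb35537) (nat_lit 25909) (nat_lit 0x8ef3f8) (.node (.node (.node (.node (.node .nil (nat_lit
  0xb3559a) (nat_lit 28246) (nat_lit 0xbfed75) .nil) (nat_lit 0xb3561d) (nat_lit 12984) (nat_lit 0xedcd53)
  (.node .nil (nat_lit 0xb356b0) (nat_lit 2325) (nat_lit 0x8ef07e) .nil)) (nat_lit 0xb3574b) (nat_lit 14177)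
  (nat_lit 0xffa785) (.node (.node .nil (nat_lit 0xb357e6) (nat_lit 8024) (nat_lit 0x9cc545) .nil) (nat_lit
  0xb3583b) (nat_lit 30503) (nat_lit 0xe1260b) (.node .nil (nat_lit 0xb35896) (nat_lit 6935) (nat_lit
  0xe126a6) .nil))) (nat_lit 0xb3596d) (nat_lit 9504) (nat_lit 0xffa403) (.node (.node (.node .nil (nat_lit
  0xb359c0) (nat_lit 12610) (nat_lit 0xc2090e) .nil) (nat_lit 0xb35a47) (nat_lit 25747) (nat_lit 0xbfb299)
  (.node .nil (nat_lit 0xb35aea) (nat_lit 20071) (nat_lit 0xe124da) .nil)) (nat_lit 0xb35b11) (nat_lit 30359)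
  (nat_lit 0xe12521) (.node (.node .nil (nat_lit 0xb35bbc) (nat_lit 21832) (nat_lit 0x237f35) .nil) (nat_lit
  0xb35c24) (nat_lit 24919) (nat_lit 0xe12215) (.node .nil (nat_lit 0xb35c89) (nat_lit 32163) (nat_lit
  0xbfb457) .nil)))) (nat_lit 0xb35d72) (nat_lit 18568) (nat_lit 0x5e96ee) (.node (.node (.node (.node .nil
  (nat_lit 0xb35ddf) (nat_lit 31014) (nat_lit 0xbfe531) .nil) (nat_lit 0xb35e58) (nat_lit 6612) (nat_lit
  0xad8928) (.node .nil (nat_lit 0xb35ef5) (nat_lit 31649) (nat_lit 0xffa5f9) .nil)) (nat_lit 0xb35f0e)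
  (nat_lit 9777) (nat_lit 0xffa01c) (.node (.node .nil (nat_lit 0xb35fa3) (nat_lit 29032) (nat_lit 0x314aa3)
  .nil) (nat_lit 0xbfb048) (nat_lit 1575) (nat_lit 0xedc1a4) (.node .nil (nat_lit 0xbfb0e4) (nat_lit 27349)
  (nat_lit 0x8210e4) .nil))) (nat_lit 0xbfb11f) (nat_lit 28276) (nat_lit 0xa16f7d) (.node (.node (.node .nil
  (nat_lit 0xbfb1b3) (nat_lit 22465) (nat_lit 0xbfec23) .nil) (nat_lit 0xbfb235) (nat_lit 21031) (nat_lit
  0xedc3d9) (.node .nil (nat_lit 0xbfb299) (nat_lit 8744) (nat_lit 0x3df2e1) .nil)) (nat_lit 0xbfb362)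
  (nat_lit 24661) (nat_lit 0x821363) (.node (.node .nil (nat_lit 0xbfb3ce) (nat_lit 14375) (nat_lit 0xedc222)
  .nil) (nat_lit 0xbfb457) (nat_lit 23528) (nat_lit 0x401b3a) .nil))))) (nat_lit 0xbfb4fb) (nat_lit 8119)
  (nat_lit 0xedc516) (.node (.node (.node (.node (.node (.node .nil (nat_lit 0xbfb500) (nat_lit 19941)
  (nat_lit 0x821501) .nil) (nat_lit 0xbfb5ac) (nat_lit 8818) (nat_lit 0xcee3ac) (.node .nil (nat_lit 0xbfb62a)
  (nat_lit 32232) (nat_lit 0x4cf3e4) .nil)) (nat_lit 0xbfb686) (nat_lit 7120) (nat_lit 0xbfb048) (.node (.node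
  .nil (nat_lit 0xbfb77d) (nat_lit 21365) (nat_lit 0x82177c) .nil) (nat_lit 0xbfb7d1) (nat_lit 27715) (nat_lit
  0xb35f0e) (.node .nil (nat_lit 0xbfb80c) (nat_lit 27873) (nat_lit 0xbfee5e) .nil))) (nat_lit 0xbfb8a0)
  (nat_lit 4116) (nat_lit 0xa166c3) (.node (.node (.node .nil (nat_lit 0xbfb95b) (nat_lit 26883) (nat_lit
  0xb35185) .nil) (nat_lit 0xbfb9f7) (nat_lit 24503) (nat_lit 0xedc81a) (.node .nil (nat_lit 0xbfba71)
  (nat_lit 26787) (nat_lit 0xb352af) .nil)) (nat_lit 0xbfbadd) (nat_lit 19329) (nat_lit 0xbfe6b7) (.node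
  (.node .nil (nat_lit 0xbfbb26) (nat_lit 22504) (nat_lit 0xed93e9) .nil) (nat_lit 0xbfbb8a) (nat_lit 20369)
  (nat_lit 0xbfe182) (.node .nil (nat_lit 0xbfbc13) (nat_lit 7112) (nat_lit 0xe17224) .nil)))) (nat_lit
  0xbfbcbf) (nat_lit 12967) (nat_lit 0xedcd53) (.node (.node (.node (.node .nil (nat_lit 0xbfbd44) (nat_lit
  28056) (nat_lit 0xf34ea1) .nil) (nat_lit 0xbfbde8) (nat_lit 14152) (nat_lit 0x907a32) (.node .nil (nat_lit
  0xbfbe6e) (nat_lit 10133) (nat_lit 0x821e6e) .nil)) (nat_lit 0xbfbec2) (nat_lit 3959) (nat_lit 0xedcf2e)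
  (.node (.node .nil (nat_lit 0xbfbf39) (nat_lit 10104) (nat_lit 0xffa67f) .nil) (nat_lit 0xbfbf95) (nat_lit
  13924) (nat_lit 0xa161f6) (.node .nil (nat_lit 0xbfe079) (nat_lit 5392) (nat_lit 0xceb0b7) .nil))) (nat_lit
  0xbfe0d4) (nat_lit 20440) (nat_lit 0x4cfc38) (.node (.node (.node .nil (nat_lit 0xbfe12f) (nat_lit 8712)
  (nat_lit 0x3df42e) .nil) (nat_lit 0xbfe182) (nat_lit 5751) (nat_lit 0xed9212) (.node .nil (nat_lit 0xbfe204)
  (nat_lit 11239) (nat_lit 0xed9194) .nil)) (nat_lit 0xbfe2a9) (nat_lit 22871) (nat_lit 0xed9139) (.node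
  (.node .nil (nat_lit 0xbfe352) (nat_lit 24599) (nat_lit 0xed90c2) .nil) (nat_lit 0xbfe3ff) (nat_lit 13319)
  (nat_lit 0xed906f) (.node .nil (nat_lit 0xbfe467) (nat_lit 29064) (nat_lit 0x3dfd3d) .nil))))) (nat_lit
  0xbfe4ca) (nat_lit 8245) (nat_lit 0x8244ca) (.node (.node (.node (.node (.node .nil (nat_lit 0xbfe531)
  (nat_lit 14872) (nat_lit 0x232740) .nil) (nat_lit 0xbfe59c) (nat_lit 26504) (nat_lit 0x4cf52b) (.node .nil
  (nat_lit 0xbfe61a) (nat_lit 25780) (nat_lit 0xa13a04) .nil)) (nat_lit 0xbfe6b7) (nat_lit 5426) (nat_lit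
  0xceb0b7) (.node (.node .nil (nat_lit 0xbfe74c) (nat_lit 21303) (nat_lit 0xed94dd) .nil) (nat_lit 0xbfe7e1)
  (nat_lit 26376) (nat_lit 0x401df5) (.node .nil (nat_lit 0xbfe83d) (nat_lit 9922) (nat_lit 0xcebe3c) .nil)))
  (nat_lit 0xbfe890) (nat_lit 4214) (nat_lit 0xb3507e) (.node (.node (.node .nil (nat_lit 0xbfe96b) (nat_lit
  26902) (nat_lit 0xb35185) .nil) (nat_lit 0xbfe9c6) (nat_lit 24407) (nat_lit 0xed9a57) (.node .nil (nat_lit
  0xbfea40) (nat_lit 26822) (nat_lit 0xb352af) .nil)) (nat_lit 0xbfeaed) (nat_lit 17585) (nat_lit 0x821686)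
  (.node (.node .nil (nat_lit 0xbfeb16) (nat_lit 22376) (nat_lit 0x9075ee) .nil) (nat_lit 0xbfebbb) (nat_lit
  14200) (nat_lit 0xffa785) (.node .nil (nat_lit 0xbfec23) (nat_lit 6872) (nat_lit 0x9c9423) .nil)))) (nat_lit
  0xbfec8e) (nat_lit 12805) (nat_lit 0x824c8e) (.node (.node (.node (.node .nil (nat_lit 0xbfed75) (nat_lit
  10328) (nat_lit 0x824e5e) .nil) (nat_lit 0xbfedd8) (nat_lit 30728) (nat_lit 0xed9c35) (.node .nil (nat_lit
  0xbfee5e) (nat_lit 9888) (nat_lit 0xcebe3c) .nil)) (nat_lit 0xbfeef3) (nat_lit 16100) (nat_lit 0xa132ec)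
  (.node (.node .nil (nat_lit 0xbfef08) (nat_lit 24774) (nat_lit 0xb357e6) .nil) (nat_lit 0xbfefa5) (nat_lit
  14020) (nat_lit 0xa133ba) (.node .nil (nat_lit 0xc2001c) (nat_lit 9845) (nat_lit 0xffa01c) .nil))) (nat_lit
  0xc200b1) (nat_lit 4036) (nat_lit 0xdcd288) (.node (.node (.node .nil (nat_lit 0xc2014a) (nat_lit 9381)
  (nat_lit 0xffa14b) .nil) (nat_lit 0xc201e7) (nat_lit 24437) (nat_lit 0xffa1e6) (.node .nil (nat_lit
  0xc20260) (nat_lit 26770) (nat_lit 0xb352af) .nil)) (nat_lit 0xc202cd) (nat_lit 24308) (nat_lit 0xdcd0f4)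
  (.node (.node .nil (nat_lit 0xc20336) (nat_lit 15976) (nat_lit 0xf31e3c) .nil) (nat_lit 0xc2039b) (nat_lit
  20321) (nat_lit 0xf3417c) .nil))))))
def u2_12 : T := (.node (.node (.node (.node (.node (.node (.node .nil (nat_lit 0xc204ae) (nat_lit 12998)
  (nat_lit 0xceba8f) .nil) (nat_lit 0xc20555) (nat_lit 24872) (nat_lit 0xe1258c) (.node .nil (nat_lit
  0xc205f8) (nat_lit 25016) (nat_lit 0x8ef7e7) .nil)) (nat_lit 0xc2067f) (nat_lit 10053) (nat_lit 0xffa67f)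
  (.node (.node .nil (nat_lit 0xc206d2) (nat_lit 16304) (nat_lit 0xf3185f) .nil) (nat_lit 0xc20729) (nat_lit
  20593) (nat_lit 0xf34d8a) (.node .nil (nat_lit 0xc20784) (nat_lit 14135) (nat_lit 0x907a32) .nil))) (nat_lit
  0xc20858) (nat_lit 19440) (nat_lit 0xf31679) (.node (.node (.node .nil (nat_lit 0xc208f5) (nat_lit 30631)
  (nat_lit 0x907543) .nil) (nat_lit 0xc2090e) (nat_lit 3088) (nat_lit 0xf31c41) (.node .nil (nat_lit 0xc209a3)
  (nat_lit 22311) (nat_lit 0x907415) .nil)) (nat_lit 0xc20a24) (nat_lit 26660) (nat_lit 0xdcd81c) (.node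
  (.node .nil (nat_lit 0xc20a89) (nat_lit 21880) (nat_lit 0x237f34) .nil) (nat_lit 0xc20b72) (nat_lit 24743)
  (nat_lit 0x9076c4) (.node .nil (nat_lit 0xc20bdf) (nat_lit 16776) (nat_lit 0x3da549) .nil)))) (nat_lit
  0xc20c47) (nat_lit 32131) (nat_lit 0xcee257) (.node (.node (.node (.node .nil (nat_lit 0xc20cea) (nat_lit
  8183) (nat_lit 0x90715d) .nil) (nat_lit 0xc20d11) (nat_lit 19991) (nat_lit 0x9070a6) (.node .nil (nat_lit
  0xc20dbc) (nat_lit 8835) (nat_lit 0xcee3ac) .nil)) (nat_lit 0xc20e3b) (nat_lit 18456) (nat_lit 0x5e98c9)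
  (.node (.node .nil (nat_lit 0xc20e96) (nat_lit 5494) (nat_lit 0xceb0b7) .nil) (nat_lit 0xc20f6d) (nat_lit
  21415) (nat_lit 0x9072da) (.node .nil (nat_lit 0xc20fc0) (nat_lit 16596) (nat_lit 0xdcddf9) .nil))) (nat_lit
  0xc2502d) (nat_lit 16167) (nat_lit 0x902fe6) (.node (.node (.node .nil (nat_lit 0xc25081) (nat_lit 10247)
  (nat_lit 0x902f4a) .nil) (nat_lit 0xc2517a) (nat_lit 13988) (nat_lit 0xdc813e) (.node .nil (nat_lit
  0xc251d6) (nat_lit 15732) (nat_lit 0xdc8193) .nil)) (nat_lit 0xc25251) (nat_lit 12901) (nat_lit 0xfff251)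
  (.node (.node .nil (nat_lit 0xc252fd) (nat_lit 9237) (nat_lit 0xfff2fd) .nil) (nat_lit 0xc25306) (nat_lit
  28405) (nat_lit 0xfff307) (.node .nil (nat_lit 0xc253aa) (nat_lit 19920) (nat_lit 0x821501) .nil)))))
  (nat_lit 0xc25433) (nat_lit 5409) (nat_lit 0xceb0b7) (.node (.node (.node (.node (.node .nil (nat_lit
  0xc2549f) (nat_lit 27573) (nat_lit 0xfff49f) .nil) (nat_lit 0xc25564) (nat_lit 30006) (nat_lit 0xceed8b)
  (.node .nil (nat_lit 0xc255c8) (nat_lit 3300) (nat_lit 0xdc858d) .nil)) (nat_lit 0xc2564f) (nat_lit 4279)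
  (nat_lit 0x902985) (.node (.node .nil (nat_lit 0xc256e3) (nat_lit 9939) (nat_lit 0xcebe3c) .nil) (nat_lit
  0xc25718) (nat_lit 24343) (nat_lit 0x9028d2) (.node .nil (nat_lit 0xc257b4) (nat_lit 9733) (nat_lit
  0xfff7b5) .nil))) (nat_lit 0xc25869) (nat_lit 5443) (nat_lit 0xceb0b7) (.node (.node (.node .nil (nat_lit
  0xc258c5) (nat_lit 19176) (nat_lit 0x5e9715) .nil) (nat_lit 0xc2593e) (nat_lit 9905) (nat_lit 0xcebe3c)
  (.node .nil (nat_lit 0xc25992) (nat_lit 21351) (nat_lit 0x902658) .nil)) (nat_lit 0xc25a15) (nat_lit 8407)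
  (nat_lit 0x9025df) (.node (.node .nil (nat_lit 0xc25ab9) (nat_lit 25448) (nat_lit 0x5e9933) .nil) (nat_lit
  0xc25b42) (nat_lit 8870) (nat_lit 0xcee3ac) (.node .nil (nat_lit 0xc25bee) (nat_lit 19911) (nat_lit
  0x902424) .nil)))) (nat_lit 0xc25c77) (nat_lit 22932) (nat_lit 0xdc8c33) (.node (.node (.node (.node .nil
  (nat_lit 0xc25cdb) (nat_lit 18881) (nat_lit 0xceb5ff) .nil) (nat_lit 0xc25d20) (nat_lit 18899) (nat_lit
  0xceb5ff) (.node .nil (nat_lit 0xc25d8c) (nat_lit 16072) (nat_lit 0x5278fe) .nil)) (nat_lit 0xc25e0b)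
  (nat_lit 13396) (nat_lit 0xdc8e4f) (.node (.node .nil (nat_lit 0xc25ea7) (nat_lit 17568) (nat_lit 0x821686)
  .nil) (nat_lit 0xc25f5c) (nat_lit 22039) (nat_lit 0x902097) (.node .nil (nat_lit 0xc25ff0) (nat_lit 7236)
  (nat_lit 0xdc8fb5) .nil))) (nat_lit 0xceb01a) (nat_lit 9544) (nat_lit 0x3df42f) (.node (.node (.node .nil
  (nat_lit 0xceb0b7) (nat_lit 1272) (nat_lit 0x522644) .nil) (nat_lit 0xceb14c) (nat_lit 6279) (nat_lit
  0x9cc15a) (.node .nil (nat_lit 0xceb1e1) (nat_lit 27761) (nat_lit 0x8ef61d) .nil)) (nat_lit 0xceb267)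
  (nat_lit 26168) (nat_lit 0x311cf1) (.node (.node .nil (nat_lit 0xceb2ca) (nat_lit 19748) (nat_lit 0xd06b9d)
  .nil) (nat_lit 0xceb331) (nat_lit 5639) (nat_lit 0x9cc327) .nil))))) (nat_lit 0xceb39c) (nat_lit 25576)
  (nat_lit 0x4014e7) (.node (.node (.node (.node (.node (.node .nil (nat_lit 0xceb404) (nat_lit 28823)
  (nat_lit 0x9cc413) .nil) (nat_lit 0xceb4a9) (nat_lit 12576) (nat_lit 0xc2090e) (.node .nil (nat_lit
  0xceb552) (nat_lit 8007) (nat_lit 0x9cc545) .nil)) (nat_lit 0xceb5ff) (nat_lit 5208) (nat_lit 0x522f57)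
  (.node (.node .nil (nat_lit 0xceb679) (nat_lit 6965) (nat_lit 0xf310b7) .nil) (nat_lit 0xceb6d4) (nat_lit
  13777) (nat_lit 0x8ef536) (.node .nil (nat_lit 0xceb72f) (nat_lit 12662) (nat_lit 0xc2090e) .nil))) (nat_lit
  0xceb782) (nat_lit 20231) (nat_lit 0x9cc795) (.node (.node (.node .nil (nat_lit 0xceb85f) (nat_lit 27808)
  (nat_lit 0xc2001c) .nil) (nat_lit 0xceb8f2) (nat_lit 10545) (nat_lit 0x8ef6b0) (.node .nil (nat_lit
  0xceb909) (nat_lit 27640) (nat_lit 0x8ea1b4) .nil)) (nat_lit 0xceb9a4) (nat_lit 20296) (nat_lit 0xe173df)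
  (.node (.node .nil (nat_lit 0xceba22) (nat_lit 15112) (nat_lit 0x9c9317) .nil) (nat_lit 0xceba8f) (nat_lit
  3173) (nat_lit 0xf31c41) (.node .nil (nat_lit 0xcebb74) (nat_lit 21204) (nat_lit 0xd06222) .nil)))) (nat_lit
  0xcebbd9) (nat_lit 25968) (nat_lit 0xc20dbc) (.node (.node (.node (.node .nil (nat_lit 0xcebc41) (nat_lit
  27056) (nat_lit 0xc2014a) .nil) (nat_lit 0xcebcec) (nat_lit 16232) (nat_lit 0xe17acc) (.node .nil (nat_lit
  0xcebd17) (nat_lit 13556) (nat_lit 0xd06441) .nil)) (nat_lit 0xcebdba) (nat_lit 17160) (nat_lit 0xffa0b1)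
  (.node (.node .nil (nat_lit 0xcebe3c) (nat_lit 2257) (nat_lit 0x8ef07e) .nil) (nat_lit 0xcebe91) (nat_lit
  5768) (nat_lit 0xed9212) (.node .nil (nat_lit 0xcebf6a) (nat_lit 26913) (nat_lit 0x8ef74a) .nil))) (nat_lit
  0xcebfc7) (nat_lit 16648) (nat_lit 0xf3486f) (.node (.node (.node .nil (nat_lit 0xcee02a) (nat_lit 30560)
  (nat_lit 0xb30ec5) .nil) (nat_lit 0xcee086) (nat_lit 19398) (nat_lit 0xc25869) (.node .nil (nat_lit
  0xcee17d) (nat_lit 15095) (nat_lit 0x9c9317) .nil)) (nat_lit 0xcee1d1) (nat_lit 27926) (nat_lit 0xc2593e)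
  (.node (.node .nil (nat_lit 0xcee257) (nat_lit 23224) (nat_lit 0x4cfaf6) .nil) (nat_lit 0xcee2fb) (nat_lit
  1831) (nat_lit 0x9c9091) (.node .nil (nat_lit 0xcee300) (nat_lit 30577) (nat_lit 0xb30ec5) .nil)))))
  (nat_lit 0xcee3ac) (nat_lit 1944) (nat_lit 0x3df2e0) (.node (.node (.node (.node (.node .nil (nat_lit
  0xcee435) (nat_lit 18824) (nat_lit 0x5227be) .nil) (nat_lit 0xcee499) (nat_lit 25730) (nat_lit 0xbfb299)
  (.node .nil (nat_lit 0xcee562) (nat_lit 25029) (nat_lit 0xf343ad) .nil)) (nat_lit 0xcee5ce) (nat_lit 27440)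
  (nat_lit 0xb30507) (.node (.node .nil (nat_lit 0xcee648) (nat_lit 6855) (nat_lit 0x9c9423) .nil) (nat_lit
  0xcee6e4) (nat_lit 27457) (nat_lit 0xb30507) (.node .nil (nat_lit 0xcee71f) (nat_lit 12627) (nat_lit
  0xc2090e) .nil))) (nat_lit 0xcee7b3) (nat_lit 11623) (nat_lit 0x9c95d8) (.node (.node (.node .nil (nat_lit
  0xcee86f) (nat_lit 28037) (nat_lit 0xf34ea1) .nil) (nat_lit 0xcee8c3) (nat_lit 15879) (nat_lit 0x9c9aa8)
  (.node .nil (nat_lit 0xcee938) (nat_lit 9432) (nat_lit 0xffa14b) .nil)) (nat_lit 0xcee994) (nat_lit 11640)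
  (nat_lit 0x9c95d8) (.node (.node .nil (nat_lit 0xceea12) (nat_lit 22100) (nat_lit 0xd03138) .nil) (nat_lit
  0xceeabe) (nat_lit 10981) (nat_lit 0xf34c70) (.node .nil (nat_lit 0xceeb45) (nat_lit 20629) (nat_lit
  0xf34d8a) .nil)))) (nat_lit 0xceebe9) (nat_lit 25845) (nat_lit 0xf34d26) (.node (.node (.node (.node .nil
  (nat_lit 0xceec70) (nat_lit 22600) (nat_lit 0xffa858) .nil) (nat_lit 0xceecdc) (nat_lit 16504) (nat_lit
  0x9c9ccb) (.node .nil (nat_lit 0xceed27) (nat_lit 13622) (nat_lit 0xc255c8) .nil)) (nat_lit 0xceed8b)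
  (nat_lit 12760) (nat_lit 0x8ea04e) (.node (.node .nil (nat_lit 0xceee0d) (nat_lit 27781) (nat_lit 0xf348c3)
  .nil) (nat_lit 0xceeea1) (nat_lit 16180) (nat_lit 0xd0358a) (.node .nil (nat_lit 0xceef5a) (nat_lit 27013)
  (nat_lit 0xf34995) .nil))) (nat_lit 0xceeff6) (nat_lit 25079) (nat_lit 0x9c9d9c) (.node (.node (.node .nil
  (nat_lit 0xd0306f) (nat_lit 12455) (nat_lit 0x824d74) .nil) (nat_lit 0xd030c2) (nat_lit 31272) (nat_lit
  0x90773f) (.node .nil (nat_lit 0xd03138) (nat_lit 6499) (nat_lit 0xdcd63b) .nil)) (nat_lit 0xd03195)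
  (nat_lit 12839) (nat_lit 0x824c8e) (.node (.node .nil (nat_lit 0xd03212) (nat_lit 15750) (nat_lit 0xdc8193)
  .nil) (nat_lit 0xd032bf) (nat_lit 13890) (nat_lit 0xa161f6) .nil))))))
def u2_13 : T := (.node (.node (.node (.node (.node (.node (.node .nil (nat_lit 0xd033e8) (nat_lit 4096)
  (nat_lit 0xa166c3) .nil) (nat_lit 0xd03470) (nat_lit 24616) (nat_lit 0xed90c2) (.node .nil (nat_lit
  0xd034dd) (nat_lit 24373) (nat_lit 0xed9a57) .nil)) (nat_lit 0xd03527) (nat_lit 28151) (nat_lit 0x82483d)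
  (.node (.node .nil (nat_lit 0xd0358a) (nat_lit 4019) (nat_lit 0xdcd288) .nil) (nat_lit 0xd0360d) (nat_lit
  3334) (nat_lit 0xdc858d) (.node .nil (nat_lit 0xd036a0) (nat_lit 21953) (nat_lit 0xa13d9d) .nil))) (nat_lit
  0xd0375a) (nat_lit 31489) (nat_lit 0xa13879) (.node (.node (.node .nil (nat_lit 0xd037f7) (nat_lit 22241)
  (nat_lit 0xa13aa8) .nil) (nat_lit 0xd0382a) (nat_lit 19829) (nat_lit 0xed96a0) (.node .nil (nat_lit
  0xd03887) (nat_lit 8728) (nat_lit 0x3df8d9) .nil)) (nat_lit 0xd0397d) (nat_lit 26242) (nat_lit 0xa16a35)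
  (.node (.node .nil (nat_lit 0xd039d0) (nat_lit 8279) (nat_lit 0x8244ca) .nil) (nat_lit 0xd03a57) (nat_lit
  21269) (nat_lit 0xed94dd) (.node .nil (nat_lit 0xd03afa) (nat_lit 16579) (nat_lit 0xdcddf9) .nil))))
  (nat_lit 0xd03b00) (nat_lit 26216) (nat_lit 0x4cfee9) (.node (.node (.node (.node .nil (nat_lit 0xd03bad)
  (nat_lit 17493) (nat_lit 0xed9526) .nil) (nat_lit 0xd03c35) (nat_lit 7254) (nat_lit 0xdc8fb5) (.node .nil
  (nat_lit 0xd03c98) (nat_lit 5733) (nat_lit 0xed9212) .nil)) (nat_lit 0xd03d62) (nat_lit 17632) (nat_lit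
  0xa168e5) (.node (.node .nil (nat_lit 0xd03dcf) (nat_lit 11464) (nat_lit 0x3df1ca) .nil) (nat_lit 0xd03e48)
  (nat_lit 8321) (nat_lit 0xa138d5) (.node .nil (nat_lit 0xd03ee5) (nat_lit 13285) (nat_lit 0xed906f) .nil)))
  (nat_lit 0xd03f1f) (nat_lit 11221) (nat_lit 0xed9194) (.node (.node (.node .nil (nat_lit 0xd03fb2) (nat_lit
  22837) (nat_lit 0xed9139) .nil) (nat_lit 0xd0605f) (nat_lit 15715) (nat_lit 0xdc8193) (.node .nil (nat_lit
  0xd060f3) (nat_lit 13971) (nat_lit 0xdc813e) .nil)) (nat_lit 0xd06109) (nat_lit 10151) (nat_lit 0x821e6e)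
  (.node (.node .nil (nat_lit 0xd061a5) (nat_lit 3925) (nat_lit 0xedcf2e) .nil) (nat_lit 0xd06222) (nat_lit
  6177) (nat_lit 0x9cc15a) (.node .nil (nat_lit 0xd0628e) (nat_lit 28712) (nat_lit 0xed9f1e) .nil)))))
  (nat_lit 0xd06374) (nat_lit 6550) (nat_lit 0xdcd63b) (.node (.node (.node (.node (.node .nil (nat_lit
  0xd063d8) (nat_lit 12933) (nat_lit 0xedcd53) .nil) (nat_lit 0xd06441) (nat_lit 3283) (nat_lit 0xdc858d)
  (.node .nil (nat_lit 0xd064ed) (nat_lit 13064) (nat_lit 0xffa4ae) .nil)) (nat_lit 0xd06517) (nat_lit 30823)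
  (nat_lit 0x821a71) (.node (.node .nil (nat_lit 0xd065bb) (nat_lit 4577) (nat_lit 0x9cc0a1) .nil) (nat_lit
  0xd0663c) (nat_lit 27136) (nat_lit 0xd06b31) (.node .nil (nat_lit 0xd06690) (nat_lit 11016) (nat_lit
  0xf34c70) .nil))) (nat_lit 0xd0676a) (nat_lit 9956) (nat_lit 0xcebe3c) (.node (.node (.node .nil (nat_lit
  0xd067c6) (nat_lit 4070) (nat_lit 0xdcd288) .nil) (nat_lit 0xd0681a) (nat_lit 17408) (nat_lit 0xd065bb)
  (.node .nil (nat_lit 0xd068b6) (nat_lit 16630) (nat_lit 0xdcddf9) .nil)) (nat_lit 0xd0694c) (nat_lit 23536)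
  (nat_lit 0xd06f83) (.node (.node .nil (nat_lit 0xd069e0) (nat_lit 5460) (nat_lit 0xceb0b7) .nil) (nat_lit
  0xd06a67) (nat_lit 19975) (nat_lit 0x821501) (.node .nil (nat_lit 0xd06acb) (nat_lit 17731) (nat_lit
  0xdc8b06) .nil)))) (nat_lit 0xd06b31) (nat_lit 9464) (nat_lit 0x3dfe16) (.node (.node (.node (.node .nil
  (nat_lit 0xd06b9d) (nat_lit 5537) (nat_lit 0x9cc327) .nil) (nat_lit 0xd06c04) (nat_lit 24695) (nat_lit
  0x821363) (.node .nil (nat_lit 0xd06ca8) (nat_lit 5256) (nat_lit 0x522b48) .nil)) (nat_lit 0xd06d52)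
  (nat_lit 21013) (nat_lit 0xedc3d9) (.node (.node .nil (nat_lit 0xd06dfe) (nat_lit 22915) (nat_lit 0xdc8c33)
  .nil) (nat_lit 0xd06e79) (nat_lit 7219) (nat_lit 0xdc8fb5) (.node .nil (nat_lit 0xd06ed5) (nat_lit 21970)
  (nat_lit 0xa13d9d) .nil))) (nat_lit 0xd06f2f) (nat_lit 1541) (nat_lit 0xedc1a4) (.node (.node (.node .nil
  (nat_lit 0xd06f83) (nat_lit 7528) (nat_lit 0x4019eb) .nil) (nat_lit 0xdc8069) (nat_lit 15909) (nat_lit
  0xe1282d) (.node .nil (nat_lit 0xdc80c4) (nat_lit 2359) (nat_lit 0x8ef07e) .nil)) (nat_lit 0xdc813e)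
  (nat_lit 3394) (nat_lit 0xadd4b8) (.node (.node .nil (nat_lit 0xdc8193) (nat_lit 3848) (nat_lit 0x5275f2)
  .nil) (nat_lit 0xdc8215) (nat_lit 14096) (nat_lit 0x907a32) .nil))))) (nat_lit 0xdc82b8) (nat_lit 6709)
  (nat_lit 0xe12afc) (.node (.node (.node (.node (.node (.node .nil (nat_lit 0xdc8342) (nat_lit 17713)
  (nat_lit 0xdc8b06) .nil) (nat_lit 0xdc83ef) (nat_lit 19602) (nat_lit 0xadd669) (.node .nil (nat_lit
  0xdc8477) (nat_lit 17095) (nat_lit 0x8ef4cc) .nil)) (nat_lit 0xdc84da) (nat_lit 31064) (nat_lit 0x5e9a19)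
  (.node (.node .nil (nat_lit 0xdc8520) (nat_lit 30179) (nat_lit 0xd064ed) .nil) (nat_lit 0xdc858d) (nat_lit
  776) (nat_lit 0x4ca69c) (.node .nil (nat_lit 0xdc860b) (nat_lit 10599) (nat_lit 0x8ef6b0) .nil))) (nat_lit
  0xdc86a6) (nat_lit 10353) (nat_lit 0xdc80c4) (.node (.node (.node .nil (nat_lit 0xdc875c) (nat_lit 8128)
  (nat_lit 0x90715d) .nil) (nat_lit 0xdc87f1) (nat_lit 18792) (nat_lit 0x4ca8ba) (.node .nil (nat_lit
  0xdc882d) (nat_lit 15681) (nat_lit 0xdc8193) .nil)) (nat_lit 0xdc8880) (nat_lit 30608) (nat_lit 0x907543)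
  (.node (.node .nil (nat_lit 0xdc897a) (nat_lit 16280) (nat_lit 0x9cce87) .nil) (nat_lit 0xdc89d7) (nat_lit
  22680) (nat_lit 0xf31cec) (.node .nil (nat_lit 0xdc8a51) (nat_lit 19731) (nat_lit 0xd06b9d) .nil))))
  (nat_lit 0xdc8afc) (nat_lit 16440) (nat_lit 0xe12e4f) (.node (.node (.node (.node .nil (nat_lit 0xdc8b06)
  (nat_lit 4680) (nat_lit 0x9cc0a1) .nil) (nat_lit 0xdc8bab) (nat_lit 13361) (nat_lit 0xdc8e4f) (.node .nil
  (nat_lit 0xdc8c33) (nat_lit 7185) (nat_lit 0xdc8fb5) .nil)) (nat_lit 0xdc8c9e) (nat_lit 20053) (nat_lit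
  0xe124da) (.node (.node .nil (nat_lit 0xdc8d64) (nat_lit 18979) (nat_lit 0xd06ca8) .nil) (nat_lit 0xdc8dc9)
  (nat_lit 24853) (nat_lit 0xe1258c) (.node .nil (nat_lit 0xdc8e4f) (nat_lit 3249) (nat_lit 0xdc858d) .nil)))
  (nat_lit 0xdc8ee2) (nat_lit 6901) (nat_lit 0xe126a6) (.node (.node (.node .nil (nat_lit 0xdc8f18) (nat_lit
  13845) (nat_lit 0xe1275d) .nil) (nat_lit 0xdc8fb5) (nat_lit 1592) (nat_lit 0xedc1a4) (.node .nil (nat_lit
  0xdcd058) (nat_lit 18504) (nat_lit 0x5e9be3) .nil)) (nat_lit 0xdcd0f4) (nat_lit 7792) (nat_lit 0xe17b9b)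
  (.node (.node .nil (nat_lit 0xdcd10e) (nat_lit 9655) (nat_lit 0x8ea3c8) .nil) (nat_lit 0xdcd1a2) (nat_lit
  20098) (nat_lit 0xad8424) (.node .nil (nat_lit 0xdcd224) (nat_lit 18536) (nat_lit 0x5e95c5) .nil)))))
  (nat_lit 0xdcd288) (nat_lit 914) (nat_lit 0xad870e) (.node (.node (.node (.node (.node .nil (nat_lit
  0xdcd372) (nat_lit 27025) (nat_lit 0xe17b37) .nil) (nat_lit 0xdcd3de) (nat_lit 7861) (nat_lit 0xe17b9b)
  (.node .nil (nat_lit 0xdcd447) (nat_lit 26743) (nat_lit 0x8ea680) .nil)) (nat_lit 0xdcd4eb) (nat_lit 15990)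
  (nat_lit 0xd061a5) (.node (.node .nil (nat_lit 0xdcd511) (nat_lit 28832) (nat_lit 0xe17058) .nil) (nat_lit
  0xdcd5bd) (nat_lit 27128) (nat_lit 0x31409b) (.node .nil (nat_lit 0xdcd63b) (nat_lit 1448) (nat_lit
  0x4ca053) .nil))) (nat_lit 0xdcd697) (nat_lit 29640) (nat_lit 0x2f94c0) (.node (.node (.node .nil (nat_lit
  0xdcd76d) (nat_lit 15496) (nat_lit 0x527a2e) .nil) (nat_lit 0xdcd7c1) (nat_lit 28807) (nat_lit 0x8ea506)
  (.node .nil (nat_lit 0xdcd81c) (nat_lit 9272) (nat_lit 0xfff2fd) .nil)) (nat_lit 0xdcd8b0) (nat_lit 29128)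
  (nat_lit 0x9cc66e) (.node (.node .nil (nat_lit 0xdcd94a) (nat_lit 24929) (nat_lit 0xe17697) .nil) (nat_lit
  0xdcd9e6) (nat_lit 18998) (nat_lit 0xd06ca8) (.node .nil (nat_lit 0xdcda60) (nat_lit 7046) (nat_lit
  0xd06f2f) .nil)))) (nat_lit 0xdcdacc) (nat_lit 23590) (nat_lit 0xd06f83) (.node (.node (.node (.node .nil
  (nat_lit 0xdcdb36) (nat_lit 6952) (nat_lit 0xe126a6) .nil) (nat_lit 0xdcdb9a) (nat_lit 20261) (nat_lit
  0xe173df) (.node .nil (nat_lit 0xdcdc03) (nat_lit 27240) (nat_lit 0xedc76b) .nil)) (nat_lit 0xdcdcaf)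
  (nat_lit 6594) (nat_lit 0xad8928) (.node (.node .nil (nat_lit 0xdcdd55) (nat_lit 31718) (nat_lit 0xd0681a)
  .nil) (nat_lit 0xdcddf9) (nat_lit 4296) (nat_lit 0x902985) (.node .nil (nat_lit 0xdcde7f) (nat_lit 27190)
  (nat_lit 0xd06b31) .nil))) (nat_lit 0xdcded3) (nat_lit 19766) (nat_lit 0xd06b9d) (.node (.node (.node .nil
  (nat_lit 0xdcdf29) (nat_lit 30641) (nat_lit 0xe17288) .nil) (nat_lit 0xdcdf85) (nat_lit 17560) (nat_lit
  0x9027a3) (.node .nil (nat_lit 0xe12069) (nat_lit 17510) (nat_lit 0xed9526) .nil)) (nat_lit 0xe120c4)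
  (nat_lit 28008) (nat_lit 0xb350d3) (.node (.node .nil (nat_lit 0xe1213f) (nat_lit 27735) (nat_lit 0xb35f0e)
  .nil) (nat_lit 0xe12192) (nat_lit 21286) (nat_lit 0xed94dd) .nil))))))
def u2_14 : T := (.node (.node (.node (.node (.node (.node (.node .nil (nat_lit 0xe122b8) (nat_lit 31461)
  (nat_lit 0xdc8afc) .nil) (nat_lit 0xe12343) (nat_lit 17749) (nat_lit 0xdc8b06) (.node .nil (nat_lit
  0xe123ee) (nat_lit 19846) (nat_lit 0xed96a0) .nil)) (nat_lit 0xe12477) (nat_lit 22854) (nat_lit 0xed9139)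
  (.node (.node .nil (nat_lit 0xe124da) (nat_lit 5648) (nat_lit 0xed9212) .nil) (nat_lit 0xe12521) (nat_lit
  13302) (nat_lit 0xed906f) (.node .nil (nat_lit 0xe1258c) (nat_lit 8049) (nat_lit 0xedc516) .nil))) (nat_lit
  0xe1260b) (nat_lit 13413) (nat_lit 0xdc8e4f) (.node (.node (.node .nil (nat_lit 0xe126a6) (nat_lit 1507)
  (nat_lit 0xedc1a4) .nil) (nat_lit 0xe1275d) (nat_lit 3368) (nat_lit 0xdc858d) (.node .nil (nat_lit 0xe127f0)
  (nat_lit 3857) (nat_lit 0xedcf2e) .nil)) (nat_lit 0xe1282d) (nat_lit 3891) (nat_lit 0xedcf2e) (.node (.node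
  .nil (nat_lit 0xe12880) (nat_lit 10279) (nat_lit 0xb356b0) .nil) (nat_lit 0xe1297b) (nat_lit 14005) (nat_lit
  0xdc813e) (.node .nil (nat_lit 0xe129d6) (nat_lit 11136) (nat_lit 0xed9194) .nil)))) (nat_lit 0xe12a51)
  (nat_lit 12884) (nat_lit 0xfff251) (.node (.node (.node (.node .nil (nat_lit 0xe12afc) (nat_lit 1473)
  (nat_lit 0xedc1a4) .nil) (nat_lit 0xe12b07) (nat_lit 28388) (nat_lit 0xfff307) (.node .nil (nat_lit
  0xe12baa) (nat_lit 19776) (nat_lit 0xed96a0) .nil)) (nat_lit 0xe12c33) (nat_lit 22179) (nat_lit 0xedcb30)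
  (.node (.node .nil (nat_lit 0xe12c9e) (nat_lit 26839) (nat_lit 0xb352af) .nil) (nat_lit 0xe12d65) (nat_lit
  13200) (nat_lit 0xed906f) (.node .nil (nat_lit 0xe12dc8) (nat_lit 3317) (nat_lit 0xdc858d) .nil))) (nat_lit
  0xe12e4f) (nat_lit 4231) (nat_lit 0xb3507e) (.node (.node (.node .nil (nat_lit 0xe12ee2) (nat_lit 27991)
  (nat_lit 0xb350d3) .nil) (nat_lit 0xe12f19) (nat_lit 24390) (nat_lit 0xed9a57) (.node .nil (nat_lit
  0xe12fb4) (nat_lit 9716) (nat_lit 0xfff7b5) .nil)) (nat_lit 0xe17058) (nat_lit 11187) (nat_lit 0xed9194)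
  (.node (.node .nil (nat_lit 0xe170f4) (nat_lit 22803) (nat_lit 0xed9139) .nil) (nat_lit 0xe1710f) (nat_lit
  16056) (nat_lit 0xbfbec2) (.node .nil (nat_lit 0xe171a3) (nat_lit 13251) (nat_lit 0xed906f) .nil)))))
  (nat_lit 0xe17224) (nat_lit 1558) (nat_lit 0xedc1a4) (.node (.node (.node (.node (.node .nil (nat_lit
  0xe17288) (nat_lit 13729) (nat_lit 0xd0360d) .nil) (nat_lit 0xe17373) (nat_lit 16257) (nat_lit 0xd033e8)
  (.node .nil (nat_lit 0xe173df) (nat_lit 5699) (nat_lit 0xed9212) .nil)) (nat_lit 0xe17447) (nat_lit 30435)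
  (nat_lit 0xed958b) (.node (.node .nil (nat_lit 0xe174eb) (nat_lit 6752) (nat_lit 0x9c9423) .nil) (nat_lit
  0xe17510) (nat_lit 21235) (nat_lit 0xed94dd) (.node .nil (nat_lit 0xe175bc) (nat_lit 16613) (nat_lit
  0xdcddf9) .nil))) (nat_lit 0xe1763b) (nat_lit 31554) (nat_lit 0x902573) (.node (.node (.node .nil (nat_lit
  0xe17697) (nat_lit 8102) (nat_lit 0xedc516) .nil) (nat_lit 0xe1776c) (nat_lit 19795) (nat_lit 0xed96a0)
  (.node .nil (nat_lit 0xe177c0) (nat_lit 28913) (nat_lit 0xd03f1f) .nil)) (nat_lit 0xe1781c) (nat_lit 31813)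
  (nat_lit 0xdcd058) (.node (.node .nil (nat_lit 0xe178b0) (nat_lit 22214) (nat_lit 0xedcb30) .nil) (nat_lit
  0xe1794b) (nat_lit 24248) (nat_lit 0x1ed7dc) (.node .nil (nat_lit 0xe179e7) (nat_lit 20337) (nat_lit
  0xd03c98) .nil)))) (nat_lit 0xe17a60) (nat_lit 9828) (nat_lit 0xffa01c) (.node (.node (.node (.node .nil
  (nat_lit 0xe17acc) (nat_lit 4053) (nat_lit 0xdcd288) .nil) (nat_lit 0xe17b37) (nat_lit 9364) (nat_lit
  0xffa14b) (.node .nil (nat_lit 0xe17b9b) (nat_lit 1712) (nat_lit 0x9c9091) .nil)) (nat_lit 0xe17c03)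
  (nat_lit 10036) (nat_lit 0xffa67f) (.node (.node .nil (nat_lit 0xe17caf) (nat_lit 3942) (nat_lit 0xedcf2e)
  .nil) (nat_lit 0xe17d54) (nat_lit 26512) (nat_lit 0x9c965e) (.node .nil (nat_lit 0xe17df8) (nat_lit 14071)
  (nat_lit 0xb301b5) .nil))) (nat_lit 0xe17e7f) (nat_lit 6533) (nat_lit 0xdcd63b) (.node (.node (.node .nil
  (nat_lit 0xe17ed3) (nat_lit 12950) (nat_lit 0xedcd53) .nil) (nat_lit 0xe17f28) (nat_lit 31173) (nat_lit
  0xdcd76d) (.node .nil (nat_lit 0xe17f84) (nat_lit 25697) (nat_lit 0xd03887) .nil)) (nat_lit 0xed906f)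
  (nat_lit 3232) (nat_lit 0xdc858d) (.node (.node .nil (nat_lit 0xed90c2) (nat_lit 7922) (nat_lit 0x9cc545)
  .nil) (nat_lit 0xed9139) (nat_lit 7168) (nat_lit 0xdc8fb5) .nil))))) (nat_lit 0xed9194) (nat_lit 2664)
  (nat_lit 0x7db4e6) (.node (.node (.node (.node (.node (.node .nil (nat_lit 0xed9212) (nat_lit 1304) (nat_lit
  21550) .nil) (nat_lit 0xed92bf) (nat_lit 15830) (nat_lit 0xe127f0) (.node .nil (nat_lit 0xed9344) (nat_lit
  27409) (nat_lit 0x907e81) .nil)) (nat_lit 0xed93e9) (nat_lit 6918) (nat_lit 0xe126a6) (.node (.node .nil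
  (nat_lit 0xed9470) (nat_lit 29352) (nat_lit 0x1e8966) .nil) (nat_lit 0xed94dd) (nat_lit 6194) (nat_lit
  0x9cc15a) (.node .nil (nat_lit 0xed9526) (nat_lit 4594) (nat_lit 0x9cc0a1) .nil))) (nat_lit 0xed958b)
  (nat_lit 13344) (nat_lit 0xdc8e4f) (.node (.node (.node .nil (nat_lit 0xed960d) (nat_lit 25717) (nat_lit
  0xd03887) .nil) (nat_lit 0xed96a0) (nat_lit 5554) (nat_lit 0x9cc327) (.node .nil (nat_lit 0xed975b) (nat_lit
  11480) (nat_lit 834501) .nil)) (nat_lit 0xed97f6) (nat_lit 18216) (nat_lit 0x6369ae) (.node (.node .nil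
  (nat_lit 0xed982a) (nat_lit 22273) (nat_lit 0x907415) .nil) (nat_lit 0xed9887) (nat_lit 13686) (nat_lit
  0xe12dc8) (.node .nil (nat_lit 0xed997c) (nat_lit 17681) (nat_lit 0x907321) .nil)))) (nat_lit 0xed99d1)
  (nat_lit 31888) (nat_lit 0xdc87f1) (.node (.node (.node (.node .nil (nat_lit 0xed9a57) (nat_lit 7827)
  (nat_lit 0xe17b9b) .nil) (nat_lit 0xed9afa) (nat_lit 26996) (nat_lit 0xf34995) (.node .nil (nat_lit
  0xed9b01) (nat_lit 14088) (nat_lit 0xb301b5) .nil)) (nat_lit 0xed9bac) (nat_lit 10336) (nat_lit 0xdc80c4)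
  (.node (.node .nil (nat_lit 0xed9c35) (nat_lit 14113) (nat_lit 0x907a32) .nil) (nat_lit 0xed9c98) (nat_lit
  12244) (nat_lit 0xf34ff7) (.node .nil (nat_lit 0xed9d63) (nat_lit 15926) (nat_lit 0xe1282d) .nil))) (nat_lit
  0xed9dce) (nat_lit 19480) (nat_lit 0xc20e96) (.node (.node (.node .nil (nat_lit 0xed9e48) (nat_lit 17696)
  (nat_lit 0xdc8b06) .nil) (nat_lit 0xed9ee5) (nat_lit 20612) (nat_lit 0xf34d8a) (.node .nil (nat_lit
  0xed9f1e) (nat_lit 10964) (nat_lit 0xf34c70) .nil)) (nat_lit 0xed9fb3) (nat_lit 6726) (nat_lit 0xe12afc)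
  (.node (.node .nil (nat_lit 0xedc05f) (nat_lit 11586) (nat_lit 0x9c95d8) .nil) (nat_lit 0xedc0f3) (nat_lit
  15811) (nat_lit 0xe127f0) (.node .nil (nat_lit 0xedc108) (nat_lit 23573) (nat_lit 0xd06f83) .nil)))))
  (nat_lit 0xedc1a4) (nat_lit 392) (nat_lit 21217) (.node (.node (.node (.node (.node .nil (nat_lit 0xedc222)
  (nat_lit 3528) (nat_lit 0x7db229) .nil) (nat_lit 0xedc28e) (nat_lit 20080) (nat_lit 0xad8424) (.node .nil
  (nat_lit 0xedc375) (nat_lit 21440) (nat_lit 0xad8eb1) .nil)) (nat_lit 0xedc3d9) (nat_lit 6072) (nat_lit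
  834111) (.node (.node .nil (nat_lit 0xedc441) (nat_lit 25959) (nat_lit 0xbfb5ac) .nil) (nat_lit 0xedc4ed)
  (nat_lit 11560) (nat_lit 834826) (.node .nil (nat_lit 0xedc516) (nat_lit 1746) (nat_lit 0x9c9091) .nil)))
  (nat_lit 0xedc5ba) (nat_lit 27173) (nat_lit 0xd06b31) (.node (.node (.node .nil (nat_lit 0xedc63c) (nat_lit
  31574) (nat_lit 0xe175bc) .nil) (nat_lit 0xedc690) (nat_lit 15042) (nat_lit 0x9c9317) (.node .nil (nat_lit
  0xedc76b) (nat_lit 9496) (nat_lit 0x715dc2) .nil)) (nat_lit 0xedc7c7) (nat_lit 32088) (nat_lit 0x126951)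
  (.node (.node .nil (nat_lit 0xedc81a) (nat_lit 7878) (nat_lit 0xe17b9b) .nil) (nat_lit 0xedc8b6) (nat_lit
  20392) (nat_lit 0xbfe182) (.node .nil (nat_lit 0xedc94d) (nat_lit 16214) (nat_lit 0xe17acc) .nil))))
  (nat_lit 0xedc9e1) (nat_lit 17924) (nat_lit 0xf318f2) (.node (.node (.node (.node .nil (nat_lit 0xedca67)
  (nat_lit 29096) (nat_lit 0xd03dcf) .nil) (nat_lit 0xedcacb) (nat_lit 13573) (nat_lit 0xd06441) (.node .nil
  (nat_lit 0xedcb30) (nat_lit 6577) (nat_lit 0xad8928) .nil)) (nat_lit 0xedcb9c) (nat_lit 27680) (nat_lit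
  0xad86f4) (.node (.node .nil (nat_lit 0xedcc04) (nat_lit 28072) (nat_lit 0xc2067f) .nil) (nat_lit 0xedcca8)
  (nat_lit 16136) (nat_lit 0xa132ec) (.node .nil (nat_lit 0xedcd53) (nat_lit 3156) (nat_lit 0xf31c41) .nil)))
  (nat_lit 0xedcdff) (nat_lit 6691) (nat_lit 0xe12afc) (.node (.node (.node .nil (nat_lit 0xedce79) (nat_lit
  30706) (nat_lit 0x9c9bff) .nil) (nat_lit 0xedced5) (nat_lit 23000) (nat_lit 0xadda32) (.node .nil (nat_lit
  0xedcf2e) (nat_lit 896) (nat_lit 0xad870e) .nil)) (nat_lit 0xedcf82) (nat_lit 19384) (nat_lit 0xbfe6b7)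
  (.node (.node .nil (nat_lit 0xf3101a) (nat_lit 30040) (nat_lit 0xceed8b) .nil) (nat_lit 0xf310b7) (nat_lit
  1524) (nat_lit 0xedc1a4) .nil))))))
def u2_15 : T := (.node (.node (.node (.node (.node (.node (.node .nil (nat_lit 0xf311e0) (nat_lit 16033)
  (nat_lit 0xbfbec2) .nil) (nat_lit 0xf31267) (nat_lit 25664) (nat_lit 0xbfe12f) (.node .nil (nat_lit
  0xf312ca) (nat_lit 20352) (nat_lit 0xbfe182) .nil)) (nat_lit 0xf31330) (nat_lit 14356) (nat_lit 0xedc222)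
  (.node (.node .nil (nat_lit 0xf3139d) (nat_lit 24727) (nat_lit 0xa16d00) .nil) (nat_lit 0xf31404) (nat_lit
  8084) (nat_lit 0xedc516) (.node .nil (nat_lit 0xf314a9) (nat_lit 26311) (nat_lit 0xa16a35) .nil))) (nat_lit
  0xf31553) (nat_lit 28224) (nat_lit 0xbfed75) (.node (.node (.node .nil (nat_lit 0xf315fe) (nat_lit 13544)
  (nat_lit 0xadd00b) .nil) (nat_lit 0xf31679) (nat_lit 5477) (nat_lit 0xceb0b7) (.node .nil (nat_lit 0xf316d4)
  (nat_lit 27269) (nat_lit 0xceb01a) .nil)) (nat_lit 0xf3172e) (nat_lit 28728) (nat_lit 0xceeabe) (.node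
  (.node .nil (nat_lit 0xf31783) (nat_lit 8376) (nat_lit 0xa138d5) .nil) (nat_lit 0xf3185f) (nat_lit 4167)
  (nat_lit 0xa166c3) (.node .nil (nat_lit 0xf318f2) (nat_lit 4744) (nat_lit 831494) .nil)))) (nat_lit
  0xf31908) (nat_lit 24454) (nat_lit 0xffa1e6) (.node (.node (.node (.node .nil (nat_lit 0xf319a5) (nat_lit
  9398) (nat_lit 0xffa14b) .nil) (nat_lit 0xf31a22) (nat_lit 22196) (nat_lit 0xedcb30) (.node .nil (nat_lit
  0xf31a8f) (nat_lit 27555) (nat_lit 0xfff49f) .nil)) (nat_lit 0xf31b75) (nat_lit 30368) (nat_lit 0xbfe3ff)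
  (.node (.node .nil (nat_lit 0xf31bd8) (nat_lit 26611) (nat_lit 0xfff5c9) .nil) (nat_lit 0xf31c41) (nat_lit
  760) (nat_lit 0x7db103) (.node .nil (nat_lit 0xf31cec) (nat_lit 7137) (nat_lit 0xbfb048) .nil))) (nat_lit
  0xf31d16) (nat_lit 25937) (nat_lit 0xbfb5ac) (.node (.node (.node .nil (nat_lit 0xf31dbb) (nat_lit 12386)
  (nat_lit 0x824d74) .nil) (nat_lit 0xf31e3c) (nat_lit 3908) (nat_lit 0xedcf2e) (.node .nil (nat_lit 0xf31e91)
  (nat_lit 10070) (nat_lit 0xffa67f) .nil)) (nat_lit 0xf31f6b) (nat_lit 13959) (nat_lit 0xa161f6) (.node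
  (.node .nil (nat_lit 0xf31fc6) (nat_lit 10808) (nat_lit 833331) .nil) (nat_lit 0xf3402a) (nat_lit 27330)
  (nat_lit 0x8210e4) (.node .nil (nat_lit 0xf34086) (nat_lit 22423) (nat_lit 0xa13c67) .nil))))) (nat_lit
  0xf3417c) (nat_lit 5716) (nat_lit 0xed9212) (.node (.node (.node (.node (.node .nil (nat_lit 0xf341d0)
  (nat_lit 16401) (nat_lit 0x824ef3) .nil) (nat_lit 0xf34257) (nat_lit 22820) (nat_lit 0xed9139) (.node .nil
  (nat_lit 0xf342fb) (nat_lit 11204) (nat_lit 0xed9194) .nil)) (nat_lit 0xf34301) (nat_lit 13268) (nat_lit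
  0xed906f) (.node (.node .nil (nat_lit 0xf343ad) (nat_lit 8225) (nat_lit 0x8244ca) .nil) (nat_lit 0xf34435)
  (nat_lit 8359) (nat_lit 0xa138d5) (.node .nil (nat_lit 0xf34499) (nat_lit 31527) (nat_lit 0xa13879) .nil)))
  (nat_lit 0xf34563) (nat_lit 8853) (nat_lit 0xcee3ac) (.node (.node (.node .nil (nat_lit 0xf345cf) (nat_lit
  19812) (nat_lit 0xed96a0) .nil) (nat_lit 0xf34648) (nat_lit 17476) (nat_lit 0xed9526) (.node .nil (nat_lit
  0xf346e4) (nat_lit 25815) (nat_lit 0xa13a04) .nil)) (nat_lit 0xf3471e) (nat_lit 28129) (nat_lit 0x82483d)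
  (.node (.node .nil (nat_lit 0xf347b2) (nat_lit 21252) (nat_lit 0xed94dd) .nil) (nat_lit 0xf3486f) (nat_lit
  4311) (nat_lit 0xa1348f) (.node .nil (nat_lit 0xf348c3) (nat_lit 9811) (nat_lit 0xffa01c) .nil)))) (nat_lit
  0xf34939) (nat_lit 8416) (nat_lit 0xcee2fb) (.node (.node (.node (.node .nil (nat_lit 0xf34995) (nat_lit
  9347) (nat_lit 0xffa14b) .nil) (nat_lit 0xf34a12) (nat_lit 28358) (nat_lit 0xfff433) (.node .nil (nat_lit
  0xf34abe) (nat_lit 27590) (nat_lit 0xfff49f) .nil)) (nat_lit 0xf34b44) (nat_lit 12008) (nat_lit 833225)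
  (.node (.node .nil (nat_lit 0xf34be8) (nat_lit 26017) (nat_lit 0x824353) .nil) (nat_lit 0xf34c70) (nat_lit
  2600) (nat_lit 831996) (.node .nil (nat_lit 0xf34cdc) (nat_lit 9254) (nat_lit 0xfff2fd) .nil))) (nat_lit
  0xf34d26) (nat_lit 8784) (nat_lit 0xcee3ac) (.node (.node (.node .nil (nat_lit 0xf34d8a) (nat_lit 5896)
  (nat_lit 0x715f12) .nil) (nat_lit 0xf34e0d) (nat_lit 12290) (nat_lit 0x821ec2) (.node .nil (nat_lit
  0xf34ea1) (nat_lit 10019) (nat_lit 0xffa67f) .nil)) (nat_lit 0xf34f5b) (nat_lit 14039) (nat_lit 0xa133ba)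
  (.node (.node .nil (nat_lit 0xf34ff7) (nat_lit 3032) (nat_lit 0x7db7cc) .nil) (nat_lit 0xffa01c) (nat_lit
  2240) (nat_lit 0x8ef07e) .nil))))) (nat_lit 0xffa0b1) (nat_lit 4488) (nat_lit 0x7101a8) (.node (.node (.node
  (.node (.node (.node .nil (nat_lit 0xffa14b) (nat_lit 2136) (nat_lit 847686) .nil) (nat_lit 0xffa1e6)
  (nat_lit 7844) (nat_lit 0xe17b9b) (.node .nil (nat_lit 0xffa260) (nat_lit 26440) (nat_lit 0x1edde5) .nil))
  (nat_lit 0xffa2cd) (nat_lit 17010) (nat_lit 0x8ef4cc) (.node (.node .nil (nat_lit 0xffa337) (nat_lit 13527)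
  (nat_lit 0xadd00b) .nil) (nat_lit 0xffa39a) (nat_lit 18248) (nat_lit 0x63330b) (.node .nil (nat_lit
  0xffa403) (nat_lit 2184) (nat_lit 845397) .nil))) (nat_lit 0xffa4ae) (nat_lit 3190) (nat_lit 0xf31c41)
  (.node (.node (.node .nil (nat_lit 0xffa554) (nat_lit 19687) (nat_lit 0xadd669) .nil) (nat_lit 0xffa5f9)
  (nat_lit 16936) (nat_lit 0x7108bb) (.node .nil (nat_lit 0xffa67f) (nat_lit 2274) (nat_lit 0x8ef07e) .nil))
  (nat_lit 0xffa6d2) (nat_lit 10528) (nat_lit 0x8ef6b0) (.node (.node .nil (nat_lit 0xffa728) (nat_lit 12227)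
  (nat_lit 0xf34ff7) .nil) (nat_lit 0xffa785) (nat_lit 3463) (nat_lit 0xadd4b8) (.node .nil (nat_lit 0xffa858)
  (nat_lit 6982) (nat_lit 0xf310b7) .nil)))) (nat_lit 0xffa8f5) (nat_lit 30471) (nat_lit 0xaddbc8) (.node
  (.node (.node (.node .nil (nat_lit 0xffa90f) (nat_lit 12645) (nat_lit 0xc2090e) .nil) (nat_lit 0xffa9a2)
  (nat_lit 19320) (nat_lit 0xc25433) (.node .nil (nat_lit 0xffaa24) (nat_lit 24952) (nat_lit 0xbfb4fb) .nil))
  (nat_lit 0xffaa89) (nat_lit 12593) (nat_lit 0xc2090e) (.node (.node .nil (nat_lit 0xffab73) (nat_lit 24961)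
  (nat_lit 0xc20cea) .nil) (nat_lit 0xffabde) (nat_lit 13760) (nat_lit 0x8ef536) (.node .nil (nat_lit
  0xffac47) (nat_lit 30528) (nat_lit 0x8ef9c1) .nil))) (nat_lit 0xffacea) (nat_lit 21175) (nat_lit 0xaddfd6)
  (.node (.node (.node .nil (nat_lit 0xffad10) (nat_lit 25872) (nat_lit 0x8ef3f8) .nil) (nat_lit 0xffadbd)
  (nat_lit 16008) (nat_lit 0xd061a5) (.node .nil (nat_lit 0xffae3b) (nat_lit 30512) (nat_lit 0x8efef5) .nil))
  (nat_lit 0xffae96) (nat_lit 19462) (nat_lit 0xf31679) (.node (.node .nil (nat_lit 0xffaf6c) (nat_lit 16992)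
  (nat_lit 0x8ef4cc) .nil) (nat_lit 0xffafc1) (nat_lit 23608) (nat_lit 0xd06f83) (.node .nil (nat_lit
  0xfff02d) (nat_lit 4336) (nat_lit 0xfff64f) .nil))))) (nat_lit 0xfff081) (nat_lit 26584) (nat_lit 845743)
  (.node (.node (.node (.node (.node .nil (nat_lit 0xfff17b) (nat_lit 16984) (nat_lit 0x710941) .nil) (nat_lit
  0xfff1d7) (nat_lit 12262) (nat_lit 0xf34ff7) (.node .nil (nat_lit 0xfff251) (nat_lit 3139) (nat_lit
  0xf31c41) .nil)) (nat_lit 0xfff2fd) (nat_lit 2088) (nat_lit 846217) (.node (.node .nil (nat_lit 0xfff307)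
  (nat_lit 10520) (nat_lit 0x710767) .nil) (nat_lit 0xfff3ab) (nat_lit 20646) (nat_lit 0xf34d8a) (.node .nil
  (nat_lit 0xfff433) (nat_lit 10504) (nat_lit 0x710052) .nil))) (nat_lit 0xfff49f) (nat_lit 9680) (nat_lit
  0xfff7b5) (.node (.node (.node .nil (nat_lit 0xfff565) (nat_lit 20183) (nat_lit 0xad8424) .nil) (nat_lit
  0xfff5c9) (nat_lit 9208) (nat_lit 847548) (.node .nil (nat_lit 0xfff64f) (nat_lit 999) (nat_lit 0xad870e)
  .nil)) (nat_lit 0xfff6e3) (nat_lit 17907) (nat_lit 0xf318f2) (.node (.node .nil (nat_lit 0xfff719) (nat_lit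
  24823) (nat_lit 0xad8658) .nil) (nat_lit 0xfff7b5) (nat_lit 2232) (nat_lit 843930) (.node .nil (nat_lit
  0xfff869) (nat_lit 6647) (nat_lit 0xad8928) .nil)))) (nat_lit 0xfff8c5) (nat_lit 21480) (nat_lit 0xad8eb1)
  (.node (.node (.node (.node .nil (nat_lit 0xfff93f) (nat_lit 27536) (nat_lit 0xfff49f) .nil) (nat_lit
  0xfff993) (nat_lit 22344) (nat_lit 0xb354cc) (.node .nil (nat_lit 0xfffa15) (nat_lit 24900) (nat_lit
  0xe12215) .nil)) (nat_lit 0xfffab9) (nat_lit 32072) (nat_lit 0xad8097) (.node (.node .nil (nat_lit 0xfffb43)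
  (nat_lit 23032) (nat_lit 0xd06e79) .nil) (nat_lit 0xfffbef) (nat_lit 28368) (nat_lit 0xfff307) (.node .nil
  (nat_lit 0xfffc77) (nat_lit 30112) (nat_lit 0xfffff1) .nil))) (nat_lit 0xfffcdb) (nat_lit 20036) (nat_lit
  0xe124da) (.node (.node (.node .nil (nat_lit 0xfffd21) (nat_lit 20008) (nat_lit 0xceb331) .nil) (nat_lit
  0xfffd8d) (nat_lit 24836) (nat_lit 0xe1258c) (.node .nil (nat_lit 0xfffe0b) (nat_lit 26593) (nat_lit
  0xfff5c9) .nil)) (nat_lit 0xfffea7) (nat_lit 6884) (nat_lit 0xe126a6) (.node (.node .nil (nat_lit 0xffff5d)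
  (nat_lit 9216) (nat_lit 0xfff2fd) .nil) (nat_lit 0xfffff1) (nat_lit 12864) (nat_lit 0xfff251) .nil))))))
def u2 : T := (.node (.node (.node (.node u2_0 (nat_lit 0x123ef8) (nat_lit 12696) (nat_lit 0xc2090e) u2_1)
  (nat_lit 0x232f04) (nat_lit 17952) (nat_lit 0x1e89cb) (.node u2_2 (nat_lit 0x311cf0) (nat_lit 26193)
  (nat_lit 0x4cfee9) u2_3)) (nat_lit 0x401ca2) (nat_lit 31350) (nat_lit 0x401a6d) (.node (.node u2_4 (nat_lit
  0x522b48) (nat_lit 1204) (nat_lit 0x522644) u2_5) (nat_lit 0x633a18) (nat_lit 29441) (nat_lit 0x63626c)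
  (.node u2_6 (nat_lit 0x710940) (nat_lit 16373) (nat_lit 0x710f8f) u2_7))) (nat_lit 0x82180c) (nat_lit 16856)
  (nat_lit 24086) (.node (.node (.node u2_8 (nat_lit 0x90270f) (nat_lit 27752) (nat_lit 0xb35f0e) u2_9)
  (nat_lit 0xa1365e) (nat_lit 31537) (nat_lit 0x902573) (.node u2_10 (nat_lit 0xb30507) (nat_lit 9621)
  (nat_lit 0x8ea3c8) u2_11)) (nat_lit 0xc20403) (nat_lit 6516) (nat_lit 0xdcd63b) (.node (.node u2_12 (nat_lit
  0xd03345) (nat_lit 10311) (nat_lit 0x824e5e) u2_13) (nat_lit 0xe12215) (nat_lit 8067) (nat_lit 0xedc516)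
  (.node u2_14 (nat_lit 0xf3114d) (nat_lit 22448) (nat_lit 0xbfec23) u2_15))))

theorem cov {x : Lt} (hx : prm wA • x = x ∧ x ∈ orbit Co0 x8) :
    t4.has (cdx x) = true := by
  have := cover fx.1 (f := fun c => bor (Nat.beq c 0) (bor (u1.has c) (bor (u2.has c) (t4.has c)))) (by decide +kernel) hx.1
  simp only [bor_eq, Bool.or_eq_true, Nat.beq_eq] at this
  rcases this with h | h | h | h
  · exact absurd hx.2 (zero_not_orbit h)
  · exact absurd hx.2 (not_orbit valid_l [0, 0, 0, 0, 0, 0, 0, 0, 0, 0, 0, 0, 0, 0, 4, 0, 0, 0, 0, 0,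
      -4, 0, 0, 0] (nat_lit 0xc00000400000000000000) (by decide +kernel) (by decide +kernel) h)
  · exact absurd hx.2 (not_orbit valid_l [0, 0, -2, -2, -2, -2, -2, -4, 0, -2, 0, 0, -2, 0, 2, 0, 0,
      0, 0, 0, 0, 0, 0, 0] (nat_lit 0x20e00e0ceeeee00) (by decide +kernel) (by decide +kernel) h)
  · exact h

theorem le_c : gen mat l ≤ C1[prm wA] :=
  gen_le_cent (odd_prm orderOf_wA (by decide)) hY (by decide +kernel)

theorem ce : C1[prm wA] = gen mat l ∧ (∀ x, x ∈ orbit C1[prm wA] x8 ↔ t4.has (cdx x) = true) ∧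
    (orbit C1[prm wA] x8).ncard = t4.size ∧
    Nat.card C1[prm wA] = Nat.card ↥(Nm ⊓ C1[prm wA]) * t4.size :=
  cent_eq_gen valid_l le_c (Nm_cent_le mcode_wA cent_wA (cs := [nat_lit 0x8ea003, nat_lit 843820, nat_lit 0x1ed080, nat_lit 0x3da100, nat_lit 832080, nat_lit 0x527c00]) (by decide +kernel))
    (fun _ hx => cov (orbit_fix hx)) (by decide +kernel)

theorem sz : t4.size = 1701 := by decide +kernel

def tl_0 : T := (.node (.node (.node (.node (.node (.node (.node (.node .nil (nat_lit 342) (nat_lit 0)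
  (nat_lit 0) .nil) (nat_lit 343) (nat_lit 1) (nat_lit 0) .nil) (nat_lit 636) (nat_lit 2) (nat_lit 0) (.node
  (.node .nil (nat_lit 637) (nat_lit 3) (nat_lit 0) .nil) (nat_lit 810) (nat_lit 4) (nat_lit 0) .nil))
  (nat_lit 811) (nat_lit 5) (nat_lit 0) (.node (.node (.node .nil (nat_lit 902) (nat_lit 6) (nat_lit 0) .nil)
  (nat_lit 903) (nat_lit 7) (nat_lit 0) .nil) (nat_lit 1054) (nat_lit 8) (nat_lit 0) (.node (.node .nil
  (nat_lit 1055) (nat_lit 9) (nat_lit 0) .nil) (nat_lit 1634) (nat_lit 10) (nat_lit 0) .nil))) (nat_lit 1635)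
  (nat_lit 11) (nat_lit 0) (.node (.node (.node (.node .nil (nat_lit 1844) (nat_lit 12) (nat_lit 0) .nil)
  (nat_lit 1845) (nat_lit 13) (nat_lit 0) .nil) (nat_lit 2494) (nat_lit 14) (nat_lit 0) (.node (.node .nil
  (nat_lit 2495) (nat_lit 15) (nat_lit 0) .nil) (nat_lit 2616) (nat_lit 16) (nat_lit 0) .nil)) (nat_lit 2617)
  (nat_lit 17) (nat_lit 0) (.node (.node (.node .nil (nat_lit 3162) (nat_lit 18) (nat_lit 0) .nil) (nat_lit
  3163) (nat_lit 19) (nat_lit 0) .nil) (nat_lit 3340) (nat_lit 20) (nat_lit 0) (.node (.node .nil (nat_lit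
  3341) (nat_lit 21) (nat_lit 0) .nil) (nat_lit 3488) (nat_lit 22) (nat_lit 0) .nil)))) (nat_lit 3489)
  (nat_lit 23) (nat_lit 0) (.node (.node (.node (.node (.node .nil (nat_lit 3622) (nat_lit 24) (nat_lit 0)
  .nil) (nat_lit 3623) (nat_lit 25) (nat_lit 0) .nil) (nat_lit 3722) (nat_lit 26) (nat_lit 0) (.node (.node
  .nil (nat_lit 3723) (nat_lit 27) (nat_lit 0) .nil) (nat_lit 4060) (nat_lit 28) (nat_lit 0) .nil)) (nat_lit
  4061) (nat_lit 29) (nat_lit 0) (.node (.node (.node .nil (nat_lit 20528) (nat_lit 2) (nat_lit 0) .nil)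
  (nat_lit 21068) (nat_lit 2) (nat_lit 0) .nil) (nat_lit 21635) (nat_lit 3) (nat_lit 0) (.node (.node .nil
  (nat_lit 22270) (nat_lit 3) (nat_lit 0) .nil) (nat_lit 832385) (nat_lit 23) (nat_lit 0) .nil))) (nat_lit
  832846) (nat_lit 22) (nat_lit 0) (.node (.node (.node (.node .nil (nat_lit 833774) (nat_lit 22) (nat_lit 0)
  .nil) (nat_lit 835104) (nat_lit 23) (nat_lit 0) .nil) (nat_lit 844237) (nat_lit 29) (nat_lit 0) (.node
  (.node .nil (nat_lit 845570) (nat_lit 28) (nat_lit 0) .nil) (nat_lit 846046) (nat_lit 28) (nat_lit 0) .nil))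
  (nat_lit 847376) (nat_lit 29) (nat_lit 0) (.node (.node (.node .nil (nat_lit 0x123125) (nat_lit 30) (nat_lit
  0) .nil) (nat_lit 0x123189) (nat_lit 31) (nat_lit 0) .nil) (nat_lit 0x12320f) (nat_lit 32) (nat_lit 0)
  (.node (.node .nil (nat_lit 0x1232a3) (nat_lit 33) (nat_lit 0) .nil) (nat_lit 0x12353b) (nat_lit 34)
  (nat_lit 0) .nil))))) (nat_lit 0x123596) (nat_lit 35) (nat_lit 0) (.node (.node (.node (.node (.node (.node
  .nil (nat_lit 0x123610) (nat_lit 36) (nat_lit 0) .nil) (nat_lit 0x1236bd) (nat_lit 37) (nat_lit 0) .nil)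
  (nat_lit 0x123837) (nat_lit 38) (nat_lit 0) (.node (.node .nil (nat_lit 0x12389a) (nat_lit 39) (nat_lit 0)
  .nil) (nat_lit 0x123b1d) (nat_lit 40) (nat_lit 0) .nil)) (nat_lit 0x123bb0) (nat_lit 41) (nat_lit 0) (.node
  (.node (.node .nil (nat_lit 0x123c29) (nat_lit 42) (nat_lit 0) .nil) (nat_lit 0x123c85) (nat_lit 43)
  (nat_lit 0) .nil) (nat_lit 0x123f02) (nat_lit 44) (nat_lit 0) (.node (.node .nil (nat_lit 0x123fae) (nat_lit
  45) (nat_lit 0) .nil) (nat_lit 0x126043) (nat_lit 46) (nat_lit 0) .nil))) (nat_lit 0x126115) (nat_lit 47)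
  (nat_lit 0) (.node (.node (.node (.node .nil (nat_lit 0x126293) (nat_lit 48) (nat_lit 0) .nil) (nat_lit
  0x1263c5) (nat_lit 49) (nat_lit 0) .nil) (nat_lit 0x1264f1) (nat_lit 50) (nat_lit 0) (.node (.node .nil
  (nat_lit 0x1265a6) (nat_lit 51) (nat_lit 0) .nil) (nat_lit 0x126620) (nat_lit 52) (nat_lit 0) .nil))
  (nat_lit 0x126777) (nat_lit 53) (nat_lit 0) (.node (.node (.node .nil (nat_lit 0x1268aa) (nat_lit 54)
  (nat_lit 0) .nil) (nat_lit 0x1269fc) (nat_lit 55) (nat_lit 0) .nil) (nat_lit 0x126a7b) (nat_lit 56) (nat_lit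
  0) (.node (.node .nil (nat_lit 0x126b2d) (nat_lit 57) (nat_lit 0) .nil) (nat_lit 0x126c19) (nat_lit 58)
  (nat_lit 0) .nil)))) (nat_lit 0x126d4e) (nat_lit 59) (nat_lit 0) (.node (.node (.node (.node (.node .nil
  (nat_lit 0x126ec9) (nat_lit 60) (nat_lit 0) .nil) (nat_lit 0x126f9e) (nat_lit 61) (nat_lit 0) .nil) (nat_lit
  0x1ed044) (nat_lit 62) (nat_lit 0) (.node (.node .nil (nat_lit 0x1ed112) (nat_lit 63) (nat_lit 0) .nil)
  (nat_lit 0x1ed239) (nat_lit 64) (nat_lit 0) .nil)) (nat_lit 0x1ed36e) (nat_lit 65) (nat_lit 0) (.node (.node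
  (.node .nil (nat_lit 0x1ed45b) (nat_lit 66) (nat_lit 0) .nil) (nat_lit 0x1ed50d) (nat_lit 67) (nat_lit 0)
  .nil) (nat_lit 0x1ed627) (nat_lit 68) (nat_lit 0) (.node (.node .nil (nat_lit 0x1ed770) (nat_lit 69)
  (nat_lit 0) .nil) (nat_lit 0x1ed800) (nat_lit 70) (nat_lit 0) .nil))) (nat_lit 0x1ed957) (nat_lit 71)
  (nat_lit 0) (.node (.node (.node (.node .nil (nat_lit 0x1eda7d) (nat_lit 72) (nat_lit 0) .nil) (nat_lit
  0x1edb2b) (nat_lit 73) (nat_lit 0) .nil) (nat_lit 0x1edc1f) (nat_lit 74) (nat_lit 0) (.node (.node .nil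
  (nat_lit 0x1edd48) (nat_lit 75) (nat_lit 0) .nil) (nat_lit 0x1ede63) (nat_lit 76) (nat_lit 0) .nil))
  (nat_lit 0x1edf35) (nat_lit 77) (nat_lit 0) (.node (.node (.node .nil (nat_lit 0x237044) (nat_lit 78)
  (nat_lit 0) .nil) (nat_lit 0x2371be) (nat_lit 79) (nat_lit 0) .nil) (nat_lit 0x237239) (nat_lit 80) (nat_lit
  0) (.node .nil (nat_lit 0x2373c3) (nat_lit 81) (nat_lit 0) .nil)))))) (nat_lit 0x23745b) (nat_lit 82)
  (nat_lit 0) (.node (.node (.node (.node (.node (.node (.node .nil (nat_lit 0x2375a0) (nat_lit 83) (nat_lit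
  0) .nil) (nat_lit 0x237627) (nat_lit 84) (nat_lit 0) .nil) (nat_lit 0x2377dc) (nat_lit 85) (nat_lit 0)
  (.node (.node .nil (nat_lit 0x237800) (nat_lit 86) (nat_lit 0) .nil) (nat_lit 0x2379fb) (nat_lit 87)
  (nat_lit 0) .nil)) (nat_lit 0x237a7d) (nat_lit 88) (nat_lit 0) (.node (.node (.node .nil (nat_lit 0x237b86)
  (nat_lit 89) (nat_lit 0) .nil) (nat_lit 0x237c1f) (nat_lit 90) (nat_lit 0) .nil) (nat_lit 0x237de5) (nat_lit
  91) (nat_lit 0) (.node (.node .nil (nat_lit 0x237e63) (nat_lit 92) (nat_lit 0) .nil) (nat_lit 0x237f99)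
  (nat_lit 93) (nat_lit 0) .nil))) (nat_lit 0x3118ee) (nat_lit 5) (nat_lit 0) (.node (.node (.node (.node .nil
  (nat_lit 0x311bc5) (nat_lit 5) (nat_lit 0) .nil) (nat_lit 0x311d0a) (nat_lit 4) (nat_lit 0) .nil) (nat_lit
  0x311e20) (nat_lit 4) (nat_lit 0) (.node (.node .nil (nat_lit 0x3148de) (nat_lit 1) (nat_lit 0) .nil)
  (nat_lit 0x314989) (nat_lit 1) (nat_lit 0) .nil)) (nat_lit 0x314e10) (nat_lit 0) (nat_lit 0) (.node (.node
  (.node .nil (nat_lit 0x314f46) (nat_lit 0) (nat_lit 0) .nil) (nat_lit 0x3da000) (nat_lit 27) (nat_lit 0)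
  .nil) (nat_lit 0x3da6ce) (nat_lit 26) (nat_lit 0) (.node (.node .nil (nat_lit 0x3da844) (nat_lit 26)
  (nat_lit 0) .nil) (nat_lit 0x3dae8b) (nat_lit 27) (nat_lit 0) .nil)))) (nat_lit 0x3df031) (nat_lit 16)
  (nat_lit 0) (.node (.node (.node (.node (.node .nil (nat_lit 0x3df6ff) (nat_lit 17) (nat_lit 0) .nil)
  (nat_lit 0x3dfa09) (nat_lit 16) (nat_lit 0) .nil) (nat_lit 0x3dfcc6) (nat_lit 17) (nat_lit 0) (.node (.node
  .nil (nat_lit 0x401810) (nat_lit 8) (nat_lit 0) .nil) (nat_lit 0x401ac1) (nat_lit 9) (nat_lit 0) .nil))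
  (nat_lit 0x401c0e) (nat_lit 8) (nat_lit 0) (.node (.node (.node .nil (nat_lit 0x401ede) (nat_lit 9) (nat_lit
  0) .nil) (nat_lit 0x404820) (nat_lit 10) (nat_lit 0) .nil) (nat_lit 0x40488d) (nat_lit 11) (nat_lit 0)
  (.node (.node .nil (nat_lit 0x404e42) (nat_lit 10) (nat_lit 0) .nil) (nat_lit 0x404eee) (nat_lit 11)
  (nat_lit 0) .nil))) (nat_lit 0x4ca0fe) (nat_lit 14) (nat_lit 0) (.node (.node (.node (.node .nil (nat_lit
  0x4ca630) (nat_lit 15) (nat_lit 0) .nil) (nat_lit 0x4ca940) (nat_lit 14) (nat_lit 0) .nil) (nat_lit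
  0x4caf8f) (nat_lit 15) (nat_lit 0) (.node (.node .nil (nat_lit 0x4cf0cf) (nat_lit 21) (nat_lit 0) .nil)
  (nat_lit 0x4cf601) (nat_lit 20) (nat_lit 0) .nil)) (nat_lit 0x4cfb0d) (nat_lit 20) (nat_lit 0) (.node (.node
  (.node .nil (nat_lit 0x4cfdc2) (nat_lit 21) (nat_lit 0) .nil) (nat_lit 0x527017) (nat_lit 94) (nat_lit 0)
  .nil) (nat_lit 0x5270ba) (nat_lit 95) (nat_lit 0) (.node (.node .nil (nat_lit 0x527140) (nat_lit 96)
  (nat_lit 0) .nil) (nat_lit 0x5271ec) (nat_lit 97) (nat_lit 0) .nil))))) (nat_lit 0x52726b) (nat_lit 98)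
  (nat_lit 0) (.node (.node (.node (.node (.node (.node .nil (nat_lit 0x5272c7) (nat_lit 99) (nat_lit 0) .nil)
  (nat_lit 0x52733d) (nat_lit 100) (nat_lit 0) .nil) (nat_lit 0x527390) (nat_lit 101) (nat_lit 0) (.node
  (.node .nil (nat_lit 0x527c4d) (nat_lit 102) (nat_lit 0) .nil) (nat_lit 0x527ce1) (nat_lit 103) (nat_lit 0)
  .nil)) (nat_lit 0x527d1b) (nat_lit 104) (nat_lit 0) (.node (.node (.node .nil (nat_lit 0x527db6) (nat_lit
  105) (nat_lit 0) .nil) (nat_lit 0x527e30) (nat_lit 106) (nat_lit 0) .nil) (nat_lit 0x527e9d) (nat_lit 107)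
  (nat_lit 0) (.node (.node .nil (nat_lit 0x527f67) (nat_lit 108) (nat_lit 0) .nil) (nat_lit 0x527fcb)
  (nat_lit 109) (nat_lit 0) .nil))) (nat_lit 0x6f808b) (nat_lit 110) (nat_lit 0) (.node (.node (.node (.node
  .nil (nat_lit 0x6f81dd) (nat_lit 111) (nat_lit 0) .nil) (nat_lit 0x6f82f6) (nat_lit 112) (nat_lit 0) .nil)
  (nat_lit 0x6f83a1) (nat_lit 113) (nat_lit 0) (.node (.node .nil (nat_lit 0x6f8494) (nat_lit 114) (nat_lit 0)
  .nil) (nat_lit 0x6f85c2) (nat_lit 115) (nat_lit 0) .nil)) (nat_lit 0x6f86e8) (nat_lit 116) (nat_lit 0)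
  (.node (.node (.node .nil (nat_lit 0x6f87bf) (nat_lit 117) (nat_lit 0) .nil) (nat_lit 0x6f8862) (nat_lit
  118) (nat_lit 0) .nil) (nat_lit 0x6f8934) (nat_lit 119) (nat_lit 0) (.node (.node .nil (nat_lit 0x6f8a1e)
  (nat_lit 120) (nat_lit 0) .nil) (nat_lit 0x6f8b49) (nat_lit 121) (nat_lit 0) .nil)))) (nat_lit 0x6f8c7c)
  (nat_lit 122) (nat_lit 0) (.node (.node (.node (.node (.node .nil (nat_lit 0x6f8d2a) (nat_lit 123) (nat_lit
  0) .nil) (nat_lit 0x6f8e01) (nat_lit 124) (nat_lit 0) .nil) (nat_lit 0x6f8f56) (nat_lit 125) (nat_lit 0)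
  (.node (.node .nil (nat_lit 0x7100fe) (nat_lit 13) (nat_lit 0) .nil) (nat_lit 0x710104) (nat_lit 12)
  (nat_lit 0) .nil)) (nat_lit 0x710630) (nat_lit 12) (nat_lit 0) (.node (.node (.node .nil (nat_lit 0x7107cb)
  (nat_lit 13) (nat_lit 0) .nil) (nat_lit 0x7150cf) (nat_lit 6) (nat_lit 0) .nil) (nat_lit 0x715349) (nat_lit
  6) (nat_lit 0) (.node (.node .nil (nat_lit 0x715586) (nat_lit 7) (nat_lit 0) .nil) (nat_lit 0x715601)
  (nat_lit 7) (nat_lit 0) .nil))) (nat_lit 0x7db284) (nat_lit 19) (nat_lit 0) (.node (.node (.node (.node .nil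
  (nat_lit 0x7db44b) (nat_lit 18) (nat_lit 0) .nil) (nat_lit 0x7db811) (nat_lit 18) (nat_lit 0) .nil) (nat_lit
  0x7dbedf) (nat_lit 19) (nat_lit 0) (.node (.node .nil (nat_lit 0x7de0c8) (nat_lit 25) (nat_lit 0) .nil)
  (nat_lit 0x7de607) (nat_lit 24) (nat_lit 0) .nil)) (nat_lit 0x7de821) (nat_lit 24) (nat_lit 0) (.node (.node
  (.node .nil (nat_lit 0x7deeef) (nat_lit 25) (nat_lit 0) .nil) (nat_lit 0x821456) (nat_lit 113) (nat_lit 0)
  .nil) (nat_lit 0x8217d1) (nat_lit 68) (nat_lit 0) (.node .nil (nat_lit 0x82180d) (nat_lit 30) (nat_lit 0)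
  .nil)))))))
def tl_1 : T := (.node (.node (.node (.node (.node (.node (.node (.node .nil (nat_lit 0x821a70) (nat_lit 51)
  (nat_lit 0) .nil) (nat_lit 0x821e6f) (nat_lit 108) (nat_lit 0) .nil) (nat_lit 0x824466) (nat_lit 111)
  (nat_lit 0) (.node (.node .nil (nat_lit 0x8247e1) (nat_lit 66) (nat_lit 0) .nil) (nat_lit 0x82483c) (nat_lit
  35) (nat_lit 0) .nil)) (nat_lit 0x82496b) (nat_lit 90) (nat_lit 0) (.node (.node (.node .nil (nat_lit
  0x824a41) (nat_lit 47) (nat_lit 0) .nil) (nat_lit 0x824e5f) (nat_lit 104) (nat_lit 0) .nil) (nat_lit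
  0x8ea0e3) (nat_lit 43) (nat_lit 0) (.node (.node .nil (nat_lit 0x8ea1b5) (nat_lit 81) (nat_lit 0) .nil)
  (nat_lit 0x8ea29f) (nat_lit 60) (nat_lit 0) .nil))) (nat_lit 0x8ea681) (nat_lit 99) (nat_lit 0) (.node
  (.node (.node (.node .nil (nat_lit 0x8eacb8) (nat_lit 124) (nat_lit 0) .nil) (nat_lit 0x8eaf3e) (nat_lit 75)
  (nat_lit 0) .nil) (nat_lit 0x8ef07f) (nat_lit 95) (nat_lit 0) (.node (.node .nil (nat_lit 0x8ef460) (nat_lit
  56) (nat_lit 0) .nil) (nat_lit 0x8ef61c) (nat_lit 38) (nat_lit 0) .nil)) (nat_lit 0x8ef74b) (nat_lit 79)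
  (nat_lit 0) (.node (.node (.node .nil (nat_lit 0x8ef9c0) (nat_lit 77) (nat_lit 0) .nil) (nat_lit 0x8efa46)
  (nat_lit 122) (nat_lit 0) .nil) (nat_lit 0x902572) (nat_lit 119) (nat_lit 0) (.node (.node .nil (nat_lit
  0x9026f5) (nat_lit 77) (nat_lit 0) .nil) (nat_lit 0x90287f) (nat_lit 87) (nat_lit 0) .nil)))) (nat_lit
  0x902928) (nat_lit 30) (nat_lit 0) (.node (.node (.node (.node (.node .nil (nat_lit 0x902b54) (nat_lit 47)
  (nat_lit 0) .nil) (nat_lit 0x902f4b) (nat_lit 109) (nat_lit 0) .nil) (nat_lit 0x9071f1) (nat_lit 121)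
  (nat_lit 0) (.node (.node .nil (nat_lit 0x907276) (nat_lit 75) (nat_lit 0) .nil) (nat_lit 0x907bc8) (nat_lit
  105) (nat_lit 0) .nil)) (nat_lit 0x907cfc) (nat_lit 89) (nat_lit 0) (.node (.node (.node .nil (nat_lit
  0x907daa) (nat_lit 35) (nat_lit 0) .nil) (nat_lit 0x907fd6) (nat_lit 51) (nat_lit 0) .nil) (nat_lit
  0x9c903c) (nat_lit 114) (nat_lit 0) (.node (.node .nil (nat_lit 0x9c93ba) (nat_lit 66) (nat_lit 0) .nil)
  (nat_lit 0x9c9a05) (nat_lit 98) (nat_lit 0) .nil))) (nat_lit 0x9c9c66) (nat_lit 43) (nat_lit 0) (.node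
  (.node (.node (.node .nil (nat_lit 0x9c9d31) (nat_lit 82) (nat_lit 0) .nil) (nat_lit 0x9c9e1b) (nat_lit 56)
  (nat_lit 0) .nil) (nat_lit 0x9cc1f6) (nat_lit 68) (nat_lit 0) (.node (.node .nil (nat_lit 0x9cc270) (nat_lit
  116) (nat_lit 0) .nil) (nat_lit 0x9cc849) (nat_lit 94) (nat_lit 0) .nil)) (nat_lit 0x9ccc56) (nat_lit 60)
  (nat_lit 0) (.node (.node (.node .nil (nat_lit 0x9cce2b) (nat_lit 38) (nat_lit 0) .nil) (nat_lit 0x9ccf7d)
  (nat_lit 84) (nat_lit 0) .nil) (nat_lit 0xa13241) (nat_lit 103) (nat_lit 0) (.node (.node .nil (nat_lit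
  0xa13422) (nat_lit 32) (nat_lit 0) .nil) (nat_lit 0xa13574) (nat_lit 90) (nat_lit 0) .nil))))) (nat_lit
  0xa1365f) (nat_lit 50) (nat_lit 0) (.node (.node (.node (.node (.node (.node .nil (nat_lit 0xa13878)
  (nat_lit 120) (nat_lit 0) .nil) (nat_lit 0xa13bff) (nat_lit 74) (nat_lit 0) .nil) (nat_lit 0xa1600d)
  (nat_lit 107) (nat_lit 0) (.node (.node .nil (nat_lit 0xa16412) (nat_lit 46) (nat_lit 0) .nil) (nat_lit
  0xa1666f) (nat_lit 37) (nat_lit 0) .nil)) (nat_lit 0xa16738) (nat_lit 92) (nat_lit 0) (.node (.node (.node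
  .nil (nat_lit 0xa169b3) (nat_lit 76) (nat_lit 0) .nil) (nat_lit 0xa16a34) (nat_lit 118) (nat_lit 0) .nil)
  (nat_lit 0xad81c0) (nat_lit 96) (nat_lit 0) (.node (.node .nil (nat_lit 0xad85df) (nat_lit 61) (nat_lit 0)
  .nil) (nat_lit 0xad86f5) (nat_lit 79) (nat_lit 0) .nil))) (nat_lit 0xad87a3) (nat_lit 45) (nat_lit 0) (.node
  (.node (.node (.node .nil (nat_lit 0xad887f) (nat_lit 69) (nat_lit 0) .nil) (nat_lit 0xad8bf9) (nat_lit 117)
  (nat_lit 0) .nil) (nat_lit 0xadd15d) (nat_lit 57) (nat_lit 0) (.node (.node .nil (nat_lit 0xadd276) (nat_lit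
  81) (nat_lit 0) .nil) (nat_lit 0xadd321) (nat_lit 40) (nat_lit 0) .nil)) (nat_lit 0xadd543) (nat_lit 100)
  (nat_lit 0) (.node (.node (.node .nil (nat_lit 0xaddcfc) (nat_lit 67) (nat_lit 0) .nil) (nat_lit 0xaddf7a)
  (nat_lit 115) (nat_lit 0) .nil) (nat_lit 0xb3004f) (nat_lit 102) (nat_lit 0) (.node (.node .nil (nat_lit
  0xb30451) (nat_lit 46) (nat_lit 0) .nil) (nat_lit 0xb3062d) (nat_lit 32) (nat_lit 0) .nil)))) (nat_lit
  0xb3077a) (nat_lit 89) (nat_lit 0) (.node (.node (.node (.node (.node .nil (nat_lit 0xb309f1) (nat_lit 67)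
  (nat_lit 0) .nil) (nat_lit 0xb30a76) (nat_lit 110) (nat_lit 0) .nil) (nat_lit 0xb350d2) (nat_lit 37)
  (nat_lit 0) (.node (.node .nil (nat_lit 0xb35184) (nat_lit 87) (nat_lit 0) .nil) (nat_lit 0xb352ae) (nat_lit
  50) (nat_lit 0) .nil)) (nat_lit 0xb356b1) (nat_lit 106) (nat_lit 0) (.node (.node (.node .nil (nat_lit
  0xb35c88) (nat_lit 112) (nat_lit 0) .nil) (nat_lit 0xb35f0f) (nat_lit 69) (nat_lit 0) .nil) (nat_lit
  0xbfb456) (nat_lit 123) (nat_lit 0) (.node (.node .nil (nat_lit 0xbfb7d0) (nat_lit 76) (nat_lit 0) .nil)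
  (nat_lit 0xbfb80d) (nat_lit 45) (nat_lit 0) .nil))) (nat_lit 0xbfb95a) (nat_lit 84) (nat_lit 0) (.node
  (.node (.node (.node .nil (nat_lit 0xbfba70) (nat_lit 57) (nat_lit 0) .nil) (nat_lit 0xbfbe6f) (nat_lit 97)
  (nat_lit 0) .nil) (nat_lit 0xbfe466) (nat_lit 125) (nat_lit 0) (.node (.node .nil (nat_lit 0xbfe7e0)
  (nat_lit 74) (nat_lit 0) .nil) (nat_lit 0xbfe83c) (nat_lit 40) (nat_lit 0) .nil)) (nat_lit 0xbfe96a)
  (nat_lit 82) (nat_lit 0) (.node (.node (.node .nil (nat_lit 0xbfea41) (nat_lit 61) (nat_lit 0) .nil)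
  (nat_lit 0xbfee5f) (nat_lit 101) (nat_lit 0) .nil) (nat_lit 0xc2001d) (nat_lit 34) (nat_lit 0) (.node .nil
  (nat_lit 0xc2014b) (nat_lit 88) (nat_lit 0) .nil)))))) (nat_lit 0xc20261) (nat_lit 53) (nat_lit 0) (.node
  (.node (.node (.node (.node (.node (.node .nil (nat_lit 0xc2067e) (nat_lit 105) (nat_lit 0) .nil) (nat_lit
  0xc20c46) (nat_lit 117) (nat_lit 0) .nil) (nat_lit 0xc20fc1) (nat_lit 64) (nat_lit 0) (.node (.node .nil
  (nat_lit 0xc25080) (nat_lit 109) (nat_lit 0) .nil) (nat_lit 0xc2549e) (nat_lit 49) (nat_lit 0) .nil))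
  (nat_lit 0xc256e2) (nat_lit 31) (nat_lit 0) (.node (.node (.node .nil (nat_lit 0xc257b5) (nat_lit 86)
  (nat_lit 0) .nil) (nat_lit 0xc2593f) (nat_lit 62) (nat_lit 0) .nil) (nat_lit 0xc25ab8) (nat_lit 115)
  (nat_lit 0) (.node (.node .nil (nat_lit 0xceb1e0) (nat_lit 71) (nat_lit 0) .nil) (nat_lit 0xceb266) (nat_lit
  120) (nat_lit 0) .nil))) (nat_lit 0xceb85e) (nat_lit 94) (nat_lit 0) (.node (.node (.node (.node .nil
  (nat_lit 0xcebc40) (nat_lit 58) (nat_lit 0) .nil) (nat_lit 0xcebe3d) (nat_lit 39) (nat_lit 0) .nil) (nat_lit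
  0xcebf6b) (nat_lit 85) (nat_lit 0) (.node (.node .nil (nat_lit 0xcee1d0) (nat_lit 73) (nat_lit 0) .nil)
  (nat_lit 0xcee256) (nat_lit 118) (nat_lit 0) .nil)) (nat_lit 0xcee86e) (nat_lit 98) (nat_lit 0) (.node
  (.node (.node .nil (nat_lit 0xceec71) (nat_lit 54) (nat_lit 0) .nil) (nat_lit 0xceee0c) (nat_lit 42)
  (nat_lit 0) .nil) (nat_lit 0xceef5b) (nat_lit 83) (nat_lit 0) (.node (.node .nil (nat_lit 0xd03344) (nat_lit
  104) (nat_lit 0) .nil) (nat_lit 0xd03471) (nat_lit 91) (nat_lit 0) .nil)))) (nat_lit 0xd03526) (nat_lit 34)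
  (nat_lit 0) (.node (.node (.node (.node (.node .nil (nat_lit 0xd0375b) (nat_lit 49) (nat_lit 0) .nil)
  (nat_lit 0xd0397c) (nat_lit 123) (nat_lit 0) .nil) (nat_lit 0xd03afb) (nat_lit 73) (nat_lit 0) (.node (.node
  .nil (nat_lit 0xd06108) (nat_lit 108) (nat_lit 0) .nil) (nat_lit 0xd06516) (nat_lit 53) (nat_lit 0) .nil))
  (nat_lit 0xd0663d) (nat_lit 93) (nat_lit 0) (.node (.node (.node .nil (nat_lit 0xd0676b) (nat_lit 31)
  (nat_lit 0) .nil) (nat_lit 0xd068b7) (nat_lit 71) (nat_lit 0) .nil) (nat_lit 0xd06b30) (nat_lit 125)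
  (nat_lit 0) (.node (.node .nil (nat_lit 0xdc80c5) (nat_lit 95) (nat_lit 0) .nil) (nat_lit 0xdc84db) (nat_lit
  54) (nat_lit 0) .nil))) (nat_lit 0xdc86a7) (nat_lit 39) (nat_lit 0) (.node (.node (.node (.node .nil
  (nat_lit 0xdc87f0) (nat_lit 78) (nat_lit 0) .nil) (nat_lit 0xdc897b) (nat_lit 62) (nat_lit 0) .nil) (nat_lit
  0xdc8afd) (nat_lit 110) (nat_lit 0) (.node (.node .nil (nat_lit 0xdcd059) (nat_lit 58) (nat_lit 0) .nil)
  (nat_lit 0xdcd225) (nat_lit 42) (nat_lit 0) .nil)) (nat_lit 0xdcd373) (nat_lit 80) (nat_lit 0) (.node (.node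
  (.node .nil (nat_lit 0xdcd446) (nat_lit 99) (nat_lit 0) .nil) (nat_lit 0xdcddf8) (nat_lit 64) (nat_lit 0)
  .nil) (nat_lit 0xdcde7e) (nat_lit 112) (nat_lit 0) (.node .nil (nat_lit 0xe1213e) (nat_lit 70) (nat_lit 0)
  .nil))))) (nat_lit 0xe122b9) (nat_lit 124) (nat_lit 0) (.node (.node (.node (.node (.node (.node .nil
  (nat_lit 0xe12881) (nat_lit 106) (nat_lit 0) .nil) (nat_lit 0xe12c9f) (nat_lit 52) (nat_lit 0) .nil)
  (nat_lit 0xe12ee3) (nat_lit 36) (nat_lit 0) (.node (.node .nil (nat_lit 0xe12fb5) (nat_lit 86) (nat_lit 0)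
  .nil) (nat_lit 0xe175bd) (nat_lit 72) (nat_lit 0) .nil)) (nat_lit 0xe1763a) (nat_lit 122) (nat_lit 0) (.node
  (.node (.node .nil (nat_lit 0xe1781d) (nat_lit 48) (nat_lit 0) .nil) (nat_lit 0xe17a61) (nat_lit 33)
  (nat_lit 0) .nil) (nat_lit 0xe17b36) (nat_lit 88) (nat_lit 0) (.node (.node .nil (nat_lit 0xe17c02) (nat_lit
  102) (nat_lit 0) .nil) (nat_lit 0xed9471) (nat_lit 65) (nat_lit 0) .nil))) (nat_lit 0xed97f7) (nat_lit 113)
  (nat_lit 0) (.node (.node (.node (.node .nil (nat_lit 0xed99d0) (nat_lit 59) (nat_lit 0) .nil) (nat_lit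
  0xed9afb) (nat_lit 83) (nat_lit 0) .nil) (nat_lit 0xed9bad) (nat_lit 41) (nat_lit 0) (.node (.node .nil
  (nat_lit 0xed9dcf) (nat_lit 101) (nat_lit 0) .nil) (nat_lit 0xedc5bb) (nat_lit 111) (nat_lit 0) .nil))
  (nat_lit 0xedc63d) (nat_lit 63) (nat_lit 0) (.node (.node (.node .nil (nat_lit 0xedc8b7) (nat_lit 85)
  (nat_lit 0) .nil) (nat_lit 0xedc9e0) (nat_lit 44) (nat_lit 0) .nil) (nat_lit 0xedcb9d) (nat_lit 55) (nat_lit
  0) (.node (.node .nil (nat_lit 0xedcf83) (nat_lit 97) (nat_lit 0) .nil) (nat_lit 0xf314a8) (nat_lit 114)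
  (nat_lit 0) .nil)))) (nat_lit 0xf3172f) (nat_lit 63) (nat_lit 0) (.node (.node (.node (.node (.node .nil
  (nat_lit 0xf318f3) (nat_lit 36) (nat_lit 0) .nil) (nat_lit 0xf319a4) (nat_lit 93) (nat_lit 0) .nil) (nat_lit
  0xf31a8e) (nat_lit 48) (nat_lit 0) (.node (.node .nil (nat_lit 0xf31e90) (nat_lit 107) (nat_lit 0) .nil)
  (nat_lit 0xf34498) (nat_lit 116) (nat_lit 0) .nil)) (nat_lit 0xf3471f) (nat_lit 65) (nat_lit 0) (.node
  (.node (.node .nil (nat_lit 0xf348c2) (nat_lit 33) (nat_lit 0) .nil) (nat_lit 0xf34994) (nat_lit 91)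
  (nat_lit 0) .nil) (nat_lit 0xf34abf) (nat_lit 52) (nat_lit 0) (.node (.node .nil (nat_lit 0xf34ea0) (nat_lit
  103) (nat_lit 0) .nil) (nat_lit 0xffa01d) (nat_lit 41) (nat_lit 0) .nil))) (nat_lit 0xffa14a) (nat_lit 80)
  (nat_lit 0) (.node (.node (.node (.node .nil (nat_lit 0xffa261) (nat_lit 55) (nat_lit 0) .nil) (nat_lit
  0xffa67e) (nat_lit 100) (nat_lit 0) .nil) (nat_lit 0xffac46) (nat_lit 119) (nat_lit 0) (.node (.node .nil
  (nat_lit 0xffafc0) (nat_lit 72) (nat_lit 0) .nil) (nat_lit 0xfff080) (nat_lit 96) (nat_lit 0) .nil))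
  (nat_lit 0xfff49e) (nat_lit 59) (nat_lit 0) (.node (.node (.node .nil (nat_lit 0xfff6e2) (nat_lit 44)
  (nat_lit 0) .nil) (nat_lit 0xfff7b4) (nat_lit 78) (nat_lit 0) .nil) (nat_lit 0xfff93e) (nat_lit 70) (nat_lit
  0) (.node .nil (nat_lit 0xfffab8) (nat_lit 121) (nat_lit 0) .nil)))))))
def tl : T := (.node tl_0 (nat_lit 0x82195b) (nat_lit 92) (nat_lit 0) tl_1)
def ps : List (ℕ × ℕ) := [(nat_lit
  0xf2f1ed6487aa448caa08dea2133d65444eae58ce8c288fae244e8c24cb8e6a0e0e686caa000104000120000cc60001400007e20000ec0005000002da000b4e000900000e68000001,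
  nat_lit
  0x2ed9a942752af6ead1b962b5a9f4cf1f448d3a656a922540856ac52a1ab178e1b3a5ecdeb968c17326eefbfbddcba70fbe77f3edebe78ebc5fc38d2a6488b063cb7d0a2409b270e0cd9f56bcb93469bf7b1e2d9b48903260d9a0e182841a3008026481821628e9c2a50b961e38488),
  (nat_lit
  0xbb7feb088dd60d0dfe55c5ac36bfd90dca3c4c5bae61081601c9f60464e04f8c9848cfbc000204000220000a00000d120004e20006000003ec00084e0001da000fc6000210000001,
  nat_lit
  0x1cb360e9db164e1bb55cf1eaf68d9028568d4a144a96a53c9922c4e7e8d2b16e9d0b566b5d9f52e57ab3bc72e3efd70e7e77fdedd3af7f9bb0ecc1b75ded57f269cba3363cf89fc689362cc7d1e14b832204987283862a5048822402842e5818226480803a7058a326068c1e38d9a),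
  (nat_lit
  0xf15a754000022000011000010803d90401ed020ab9010002008dc500400200293d001002000801000401000201000101000081000041000021000011000009000005000002000001,
  nat_lit
  0x3c79eddfe7df5ef871ddbfa75e5cf367d1a756bd9b6f5fc187163c996d5bb976b57b166953a95674fa1464498d1e64d952e0417cfe245850dd3b78f5b3770e593368d572f60c552b58b532750a51234894f1f4084e1d346cc192c5ca15244c8111c3c68c16284880e182840608080),
  (nat_lit
  0x8cee3540000d2000291000250803d20401c1020029010000008dc20046c200291300100d000800000400000200000100000080000040000021000010000009000005000002000001,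
  nat_lit
  0x376fe1c7973e9d7b77f1e7d7bf9f6f5fc187163c997367d1a756bd9b674fa146953a956b57b166d5bb976245850e0417cfe64d952e4498d1d72f60c593368d5b3770e5d3b78f52a446890a03e796ac56a94a84e98e9c346cc982c5ca94244c8901c3c68c142c4880c1c284040c001),
  (nat_lit
  0x9ed80040000020000010073408035a04016c020a38010000008d4600466200200000141e000800000400000200000100000081000040000020000010000008000004000002000001,
  nat_lit
  0x3c79eddfe7df5ef871ddbfa75e5cefdec3831e2cb933e6d3a35eadbb2ad4a74a8d09f3aedcb76acd8af5a6cc972a4c88f1a2c4870a0c07ef993368d572f60c5d3b78f5b3770e52a446890a03e796ac56a94a84e98e1d346cc982c5ca9426488901c3c68c16284880c1c2840608080),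
  (nat_lit
  0xbda000400000200e681006b40802da0400ec020000010e12008cc600400000283e001000000800000400000200000101000080000040000020000010000008000004000002000001,
  nat_lit
  0x37eee3c39f2ebd3bf6f3e3dfafbf3061bd7f265c58f469cd9f66dd5aead4a74a8d09f3aedcb76acd8af5a2c4870a0c07efa6cc972a4c88f197ae62c19b26ad1bb672e1dba7af0f1f4085123489532750a552b58b4e1d3668c982c5ca1526488901c3c60d16284880c1c2050608001),
  (nat_lit
  0x8cbe7140024120024110021108018b0401ac020211010211008d8600424100292e00148e000800000400000201000100000080000041000020000011000008000004000002000001,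
  nat_lit
  0x3871ddbfa75e5cfc79eddfe7df5ef163c996f5fc18756bd9b7367d1a68519d3ea55a54ec59ad5ee5db56e1438915f3f810654b9936347912593368d572f60c5d3b78f5b3770e50213c7d225448d4294c9d62d54ace1d346cc192e58a9426488901c3c68c16284090c1c205040c080),
  (nat_lit
  0xd27d4140024e200c011003b40800000400000202b8010c01008c010042e200213e00109e000801000401000200000100000080000040000020000010000008000004000002000001,
  nat_lit
  0x38f0dfbbaf4e7cbcf8efdbefcf7eb6ecd7ab4e8cf9b2e4c78b0e0bf7ae5db56ec59ad5ea55a54e8519d3df3f81061438916347912654b9935dba7af1bb672e19b26ad17ae62c162d54ad4294c9d225448d0213c7ce9c3668c982e58a9426488111c3c60d142c4090e182840608080),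
  (nat_lit
  0xf228a6e6058dec05edd77a19eb882a6187856137fd59fc198c882c61f83a36775369efa559f24d0e884000004828a41012888b7b7073fd7fbe777251bc75f4dd77f6777071715135,
  nat_lit
  0x38b5316f3975d11fa5396b4133fcb98f291693a6d86a2a4f9619135d4d9072f6ae27dc3740a77942d2a3b57714b15809b5bd59781043bd3220b2d67495d63d37a2d864b5c410be5802e05b78d9bced12a42a6975c683c93c302607bdca688e4f8bf40607c73a3f642bfecc48cf051)]
def cA_t0 : T := (.node (.node (.node (.node (.node (.node (.node .nil (nat_lit 0) (nat_lit 0) (nat_lit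
  0x3efcf7ebcf8efdbaf4e7cb8f0dfbb6ecd7ab4e8cf9b2e4c78b0e0bf7aedcb76acd8af5aad4a74a8d09f3a6cc972a4c88f1a2c4870a0c07ef9ebc76e9cb86ed9ab466c98b05eb96ac56a94a84e992a446890a03e78e9c3668c982e58a9426488901e3868c16284880e182840608080)
  .nil) (nat_lit 1) (nat_lit 0x1184042) (nat_lit
  0x105afbd14d37ad0283c700a1297a48360cdf796dc22bc74b7b05c8c7b47a71924b0e50ced63e685545a35e35a0abe75b28ca93cf282028396aa79cb22ead913b775eb84970e4521b397530c173fde6c4e58c885ceda8a487cba77e2c2ba2899f0e2ca6ebdb307990261fdfc2f800e)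
  (.node .nil (nat_lit 2) (nat_lit 0x42308c210) (nat_lit
  0x12f8ae18b3e74fef2b1d46dc64207ae22a25964272dce70e8dc71fb67305d00e0f022f69fa53ef19766d748d782d6f49f94cf68bdd78f5db36c2049ea12906e673a0b055a629358487564a63a52772553505618c2e5f11e6e9c3d85a403e6a57c7640c60a5b946f89a9ba28e01b58)
  .nil)) (nat_lit 3) (nat_lit 0x20208421) (nat_lit
  0x3aa5215f40fcd013b5aa273d202a13117afea79e2f8b956df2f136f15d0e892e9f353cb2f03119c9a707127dacede048e0a68898cc376d5df7eb4342783410afaf447495d1b916da0b0edee55b711f165171bc3618dce8585593cc25634633c608265a07f73967a65b15c801a64d1)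
  (.node (.node .nil (nat_lit 4) (nat_lit 0x2020c610) (nat_lit
  0x2672e0af1c3407194241f099d97d7507bf04c05eaa8b0e0ee58856c544e46f85364bea6a29ea7724702fb7523dfcf2e641a5a412adb28285cef1b5ac5398b5bfb195ecd27eb198efb1ae483d262f11ed611f8777286cc4ea55d055327891de3ad463103d25b205e9e3000d66f69d)
  .nil) (nat_lit 5) (nat_lit 526401) (nat_lit
  0x3561be4346323994c1674e21eb8ef4b49edd6b68a6201944bac2fc0f28a186a9c93dab2b267c95892c88f8840458efd026c50eea33c73e426bd47e9186229655c2b742715d6e26d5989c33a979e45a92803b28d7a5473ea06f6a577b8b1fd3c886af7d832fc02fad99407cde68e6e)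
  (.node .nil (nat_lit 6) (nat_lit 17936) (nat_lit
  0x1ba3c292ee2b4e37047c305f3070ce535a5094f526af79958dd46faf15544d40e95266debbcb83c4b8ff2b5fb2d9ca0c87f7827e286f20b088ec6660bb2d43a65b4337bd845d8ce96a41a0f2d9e4d74b22e7af67b5af59498e661a2728daba8a7575408789c20741203ac10c238c5)
  .nil))) (nat_lit 7) (nat_lit 17937) (nat_lit
  0x26e18fb98b860d1b7498715d716bebc751a563bde549a253d694394ddbdc1965f8f91ea2aa098a9d364e105e43453f05bcfe440e5b59bf5adcc9a86c77ec8b61130cd9171daabc99097d5c3def49920d47b4ce597eba4b18e6d0c2728dab93d15754381e113a400027ac10c238c5)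
  (.node (.node (.node .nil (nat_lit 8) (nat_lit 0x21184602) (nat_lit
  0x3eb5195b3e31491bef8c3db6e3378fc2b92026128714cf46fabfb1ae4b20e6e9e5ae5a4805c5e6503c8d164c2e1e74d67c6c5203b11288a3a9d9f4e16bf4a2e1c9044ae9ebe68a8877989c0f9a1506f0c6874cac20f57b2f5a7a87780922cb6d54c6d7d1b7de200c11d72b43d8c6a)
  .nil) (nat_lit 9) (nat_lit 0x20210841) (nat_lit
  0x1bd8c021b22f260378b6f875e42fd6c2c8526d915db98d40e09eb5f51887ea9d80fd3556671322774332627c357656a387f83d520f1b3a6176a6e568aae16e660c86491f79f8b8d6092f2a40517eaa3acb65036f0b018cebde64b448976b0747a575efefa4780106903761b8a23bb)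
  (.node .nil (nat_lit 10) (nat_lit 526370) (nat_lit
  0xa10f8e1d3925d26472eb304e9bc51a21a82bb0da0aafac24ce62914b401647c45dcda680e233fc2d5528ec17ada337363e8e389dfef65661f45e1cde727eec289d97031e06d0d64be553fb92a05da4ac7584b3629c381965992de6f75dd537a6530855bce017a40ecf5355d58621)
  .nil)) (nat_lit 11) (nat_lit 542256) (nat_lit
  0x31d8712dc971089ea5586677c035c6b649ee88234bf0aa60527d2988fcedb51101683ad91ded1fbe9206f8933fe2eea8c5476691d24986ba03ee190056c77bc4bf539e9f0bcf942d24c685fb337d5608ad71c6e2f9a1ca1b03a94462b3a80c2a6b7cae4200f2ae2ead3e8fc89e19e)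
  (.node (.node .nil (nat_lit 12) (nat_lit 574001) (nat_lit
  0x2fe9d7971edcf8716ccd82f68d591027588d5253ca532144b522b507e755b95e853b566b5da93ec5ba54653f81366417d2e14791162498d0dc3578c583d68e5b3374bd73b64df97cebefa7ae7f77f9e1db8f7dde0386346c4882c5c68c204458a3874080244c1821c3c2843064a15)
  .nil) (nat_lit 13) (nat_lit 574000) (nat_lit
  0x3662c19b45ec9ab4dfcbaf6e3c39d41f48ad12d4c84f295495623409eed69f52dd8a34aaceaf729d0b36a1c693122c88f0a5be83326c07f299b65ee9dae6ec9ab862f1eb072d3cefedc3bf1f1bbe72f7d7d74fbcc30736684882e5868c204450b387400126481031e382843064a15)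
  (.node .nil (nat_lit 14) (nat_lit 0x1180822) (nat_lit
  0x3dc94b70c9668d647a3d5c790d39c5b718e375d8691f5ae68c1e109895603bf2395cb51ed0f06c9cb4cec68adf0aca0c97dcb6ac7dff20a0bbcd2e6115bd5b267622390d866ca7ba292bc9c78a71ad8c48d7da77aaab594840661a22f189c176d12027284f458e65fafac1e900381)
  .nil)))) (nat_lit 15) (nat_lit 0x404208421) (nat_lit
  0x300f8dc4ac8ab91d7d31d2493c49d1b99a82730da4ac36ee2e8a508765add2928195eca796ac23caa02b812bec89894716ab9b6e375ac9965a6518fa06ce487a867e284deb7cde9a837fde35110e10c3f23fa2f4aa420a7a511bba383bce1f72900cee03869b31fa7bf535f03a2bc)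
  (.node (.node (.node (.node .nil (nat_lit 16) (nat_lit 529) (nat_lit
  0x24571b570a3da709a2058a93041e8249c894a8bb09d46b626ad5ff76655003996913e234e81caaeb29fe1b2bec760fd30f7b9b6f471c61f139058a18f3e12f1dece60da70b8fd61099f23b82e526ba9dd3012e2e43b3cb017a4f25855b4dbf380874c621a9b975684a7535332fade)
  .nil) (nat_lit 17) (nat_lit 528) (nat_lit
  0x1113c409852f482bc8aa351e139b7dd9b57d89a51aec272a2f2250927469543995df13e84acc048ad107e20f8d8e8b737dde98fb04ef656db63b07cf8347f702f20d15f1e7825d4de93896073c482cf931c47285d98781957a42de455b4dbc067874d08cdd52b2e530b535332fade)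
  (.node .nil (nat_lit 18) (nat_lit 573506) (nat_lit
  0x2d657cb14da17025b4deafc2ab671ced7069de8d9842cdbe5489e3a2c76e90375d8ff379fd26517731b3c207c5e248af9cb494bc355a7f2de93766dcb51441c0e18c80950e74164f67b08347ce1a44f450cca8a971c741a94f951581478006b61ed08b316df0655e6bef550b5892)
  .nil)) (nat_lit 19) (nat_lit 540738) (nat_lit
  0x1bfa08b9459a04959c175afb15b367633289eb9af2d608f9600b84a5fcc7406c816edb5944efae0e9b4764f41da0fea8c4eef8e2564186b9a9e71502f3f77b84be0fbd4f019b014ff6c150d4668a24a5457cc6d8795bca193e49444f4300f01d4ead22b34c1703a43cfe8fc55615c)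
  (.node (.node .nil (nat_lit 20) (nat_lit 0x423010421) (nat_lit
  0x3dd836b5cd2adacd25ed427615d698b6d38e8d97acbe7960dcb17568d56daea104fbe8979d59ebba438e138fcde2eeac4e871ffb930556ba03a969c832177bedf5dd9e9f0e79624b2434cc105363880930090282ef6c7c2a4959446280a9702c313001c266f0c467e32413e9c531e)
  .nil) (nat_lit 21) (nat_lit 34850) (nat_lit
  0xfa546856a752ad1203c9142a589b8fde5dbaf9ddeb9f7e1f37fbe9e2ed2b33a7d8a772adaa35abd0b7520c28afa5c88f324ca9b1a1c07f118b272e97b46ef1aae7ad99b076e3461d58f26dbd9f16bc1a735fd99470f36681032e5800116289130e18a942044c983874284102460d)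
  (.node .nil (nat_lit 22) (nat_lit 1090) (nat_lit
  0x1fcd1f03c32b487a34b68263e1d2f1153a13665c06011b2793387025982e1027af99f3a2c658b57b174f28c8e6e45a248993a54629bf78742ad7a95a4ab84abb36e4e06d819662473e7bdeff9c377a20459b5b97496dc20cd68c600beabc1a0ca50a5ebbe3f6953399af8529acce9)
  .nil))) (nat_lit 23) (nat_lit 0x10c631) (nat_lit
  0xec3a089e2c19f215301cb65086dafc8e40f6ebbef8332313d1fdf71e455d3d8ac13d67308cebc885abdcc3ef46437a1cc524449d28b4c8d5f6ae36c556d25572ac32cd4710904de83da40b6fc7787c8665a96c8e660786953018debb95078fdda48ce90d78a6b52a2f85d06b517)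
  (.node (.node (.node .nil (nat_lit 24) (nat_lit 0x423010821) (nat_lit
  0x2bd8a94ecd6a556e5b9f42d5da339eb274d573962d97b860dde3376d3878f7cf776fbd7e74dfdfd72e3e72decdb70e2d5a7667bf9346bc780f21469132956b12a2407d6aa509e24b90fe14d8d063c087324be8b2878e20440801628a1536682841220c192e581821a309133a70307)
  .nil) (nat_lit 25) (nat_lit 573968) (nat_lit
  0x260b4d9982905da485a0bf6cf19ed46f7cac73ac060b5e764296e7f479c2c6f48974eb2ace323de65e50ed14d3c22b53758ea483b19f4404a68dd6b552e09de403634ea6815e8d1fd5119712a8c9d9cfd5a4039743018fe4008b079b614b6dce2fb2c487f92b238b88afb7435e378)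
  (.node .nil (nat_lit 26) (nat_lit 0x43184210) (nat_lit
  0x3a6e953f2a831dfe768b4b02d33bf841ab0e37899431975534b5e849eb294bcd65bf68013ed09a48357b7d3f9d52b8549ae8d391cb321096871d66c5d146a2808c22483307a6e209be8c44b3d8b25ce3aace1cfe46ae6803ef5bb61c9320ed9076e69b1c1ef23c07054fa2d3b05af)
  .nil)) (nat_lit 27) (nat_lit 0x43184211) (nat_lit
  0x3b7ca5156e0de677749f29465ee621272d7954dc65e6508de2ac3e105f024da01c9daad4d6e696dac41eed04439b948a7475a40b5ea4e7fe8601244580636f4e8e62cca3a14d6e64d5c70d9f39c4c4477e588c47970d00d3ef5b175c9320ec3b26e68e36783e0472ae0fa2d3b05af)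
  (.node (.node .nil (nat_lit 28) (nat_lit 0x1184610) (nat_lit
  0x1aed9e20ba67cd3e3fa81c82dd7f464bca7192cb8ebc1e9dc0d69822b1ca4b559bb166ce8df3c53d7819f22bde48af6a50ede608d97839089e4d0c92e91bef7ae1127eb1699d10c26e4d714b18a8c9dc17b8251a0c00b2a471961ce260f6e22de4140781b4aa3eaf4e636c63c91d3)
  .nil) (nat_lit 29) (nat_lit 0x1010421) (nat_lit
  0x2fe78964f71119316a97711f913871cdab0615e8d41517e10cb2799e2977f9977cfc1d0cca5bba298eca333fb53a885e4929d791ad0fa0950e8662f5d0c6a48a011444730666df0241ec1c9e6954d6daaedac4da00347057669bb61d9016bde0f6e6990738da3c05c37ef5447c9b9)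
  (.node .nil (nat_lit 30) (nat_lit 34353) (nat_lit
  0x2cb7742df14650842f59f2305625fd7ac99c932de3d830cea26adab2a550e0b9b29a9231e63c0b92c37855f40f7ec3d63ae1b6b255750338448a2cfcda4244ac1d1c9c63521278b45ba02eba3f61a95d9436c00061d5b1c698cb61e6fc567e2f3f14e197c95a77d34ba37cd4e627)
  .nil))))) (nat_lit 31) (nat_lit 0x108c041) (nat_lit
  0x26546fc787a5a42fea5e0c216d8c4da050ae98a83a67828acfcc72776cd11b033aaa47127864982c48c50f8974c3bbb7d58395f782f6b25bdb34e9db0f56bb6450183b40b52639274ae2e170d3a1cbb03d0e2012b73fabf398822e5e579ab8f3dfab00c2b47516533931db9398d23)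
  (.node (.node (.node (.node (.node .nil (nat_lit 32) (nat_lit 0x1010842) (nat_lit
  0x260eeb9928a7b8bed34e05ad97c6cbf0b6adc939168173cf2dd0653a2f0570b3695f51ab91e292a0966ffc94ac79d84ab11808c29b910d5349632d918c1f08d921f7083d10743b1f17497471f6349a8bbb2805adae5f3236028eef2ee03a325225fd1a6f9280e18d93fe3786ab5ce)
  .nil) (nat_lit 33) (nat_lit 573954) (nat_lit
  0x20fb5190b518500a7674e373b224f3b34216b5d175cd2c89831f15656c321890f9ed20b2923b7a2d5a5c37f533393dfe925e43383a61b6ef65b96de7c7a912822e0d6d168120e8727f3c7a65241188dbb006ab4c26e18eb4c3ee65d57dc5de9fc8d535814a35a590ec5aa05f9ae0a)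
  (.node .nil (nat_lit 34) (nat_lit 16450) (nat_lit
  0x15c487da9451ce2472551c7b6a71858a66d6cd84a925c04c9d429ebe4f095d5abb0107def79ae9e3ee6ec8b7abc374c59c5c90f951ffafab6878953e8f4833905c1ad10dd18c8c1b285f11c2787682ce00305d3a37fbc86729a2b78b5f9308ee3c04b60346880e60fac26ab7697b1)
  .nil)) (nat_lit 35) (nat_lit 0x1080841) (nat_lit
  0x79a87e30d492e9c3b32b7d797c75b6f81d3331b2084060a81cc2eb06f29082eea32918dfcd35ee34ca989fd48781b5c13f1d04a333da391c815912cb2af6f5bbcc54f74ae64bb8ed5617eb59495d500250ec9a44556da043ae51c224ebefcbf644cadb361a26188a9e8f1e59069f)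
  (.node (.node .nil (nat_lit 36) (nat_lit 0x21184610) (nat_lit
  0x111481d987cd3bf8c82a87c66e6d462c4e376467daf3f9dda3236778ea0aae38c9d9d3c1872e4ec10114b2b7e4d252e501313afac613356160f75f2f84986c929a8fb4d9ed4fd4bce88d07b72aaf003f3222403841517ae28062d6bd75b64ac91134efe0aa2eb0f31766c5b87132d)
  .nil) (nat_lit 37) (nat_lit 542224) (nat_lit
  0x3a26352f82aaa48ffdd23275a66106adcdeda40719089715535cd6b04595f94c1ca473d91d4fd73acadc4dc37ac6e89cbb7924918c39c98f24c5320986c1f4356253de2390ab833645e37df3d48010aeadf18b7e79c28ca2e3a2d877012882f586e3b021f5a043f8f452bb5fd89d9)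
  (.node .nil (nat_lit 38) (nat_lit 0x21010821) (nat_lit
  0x38d29d408f6266217b80f8d5e789a6d397f63f9a9dc301d01188d4570b6e86671ac57805856964fb2dac27d1ab10b9c983b7c9ebccae576a6e8cce091afd5987bfe441ea84eeb4a46a810d71001c64bede2923bc242d8ce7178c32be36f4aa094e86eb33b07b65ab61c4a514bb583)
  .nil))) (nat_lit 39) (nat_lit 34352) (nat_lit
  0x2110cfe986412ae585a0ef8db288f6ac89a833af60cb78724eb267f5cf46e0c4917bd86ad4041d9734936701eaaa4b5377076b87f5ea0be2a095e5a31b808a64086746d792284d6ced29b2801805cfdc897401f74e8c8eb4698b195e6fc5657fc3f14c9c4afbbb4a5a7a37cd4e627)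
  (.node (.node (.node .nil (nat_lit 40) (nat_lit 0x21010421) (nat_lit
  0x21d2f4f7c93ed9550f58f93178e6aa771cede119b4c5b0d010f58d59d444e29f940eafc30acc7ec825c05d48abbaf4c392d69057cd498fa541afb8cb58c44d3de0c726816333f4a4136d980b55dc1b28df146f9868ef252a2b6e0e4ef89d0a0dfe9936211ac6b08401daa50bb51dd)
  .nil) (nat_lit 41) (nat_lit 0x1184041) (nat_lit
  0x1010fb0d87cdf678c84247dd85dc2d5bf3d5ebba34162d1a32edc8d17c2250e9e2947d1244aa2c5548e964b510aa9b769c99c25625cd2ecc8f8e995cf0f7f5a0f75f2e5736300e99bf8005e35b4a66c410383265db38058c3642da0967dde8ae90b970819f3b51bd66361c9af9327)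
  (.node .nil (nat_lit 42) (nat_lit 0x108c610) (nat_lit
  0x4ceb4ea51accfbd358886a0232dd98e596f7cf8f02ce13ac433d9017e6828c838a4d97945517d1f6315c47b5af0f12d7c504b1fb8662d5473c9e693c834b4d581c0db691e87179576036432d6209f9bf68551ae725c20a9a27e02fc3808fee9799a7ac236c23225d789e3535a977)
  .nil)) (nat_lit 43) (nat_lit 0x1010831) (nat_lit
  0x39488ea9b0f8d4e22bed0e2d2703baf950a532797012a4b3619b5162bbbd7535f3c77cc49eacb98573e216fdf4fea7c20e78ac99bb8556e46e206836ea16433c509f2ba519d0416d019c286d1a4d982e50e62c24fdef339329abc54b5f930b19dc0481ec448f301d61c26ab7697b1)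
  (.node (.node .nil (nat_lit 44) (nat_lit 542225) (nat_lit
  0x3e9f19a6d4e08cd37496695702555ac1d734554225dc64690337b1ab4eb2ea9d667e358a8ba7f25039e8de4c381f1c849cb6e513758bd866f16aeea5cc45c162c90467630a03c800575cc3ef36db06f08afefa47a173511ae3ac25b7012882c5e6e390e0d1e9f88a31d2bb5fd89d9)
  .nil) (nat_lit 45) (nat_lit 0x2110441) (nat_lit
  0x21f8505727179e8a2bdf2fab9ed8d969ccbfbe2cbc26e1bd14f0c1a9430326588d1b6245dd1d38e19ad5c2a27525c7467a02216f05efb5d9cdacbf1139a998374a80da179772006c7e996c7d605aa055f792946c2c0262d2c87a65f9fca448850116b56d15707cfa861f46aa74fa4)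
  (.node .nil (nat_lit 46) (nat_lit 0x2020c631) (nat_lit
  0x30111a911e11e9dd4a04bd852fb920a5f526c442a70bebf15ad7c5c3914de86c957edc485db26744796c4b2b3ee42207a627666fe6363da2c2f2dc32f3e84f135b801e9f0b801c696b7d92c51aa813ee0642d10741e567cf155a2db7ec762b3bf86d03544317d9a12a4a4c553fa9e)
  .nil)))) (nat_lit 47) (nat_lit 560) (nat_lit
  0x20e75008f27add236a5a0d1aab7f3dcd317e173c467cd2e09a7f157e0bf7c2fb796939284a96a62d55910ff5af3a88581a69dafa8b6470950e8a1a68ab46a49bae0c4473000e32d9418ee60bc97708db304f687a198c36e90a4bb61d9c16c9e1328f578720dbd7202c643fd7987b9)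
  (.node (.node (.node (.node .nil (nat_lit 48) (nat_lit 34865) (nat_lit
  0x3b4c11a31e04b6774313b6f654173527b6a15675b5be028c781f44705f50c916ac9958549789bcb2cef2ed048ff749f9d47ac00b5ea5345b1c372475806683488e345570014d4c2685c5599f3367f3e17fdd2c5e0a3d746f36bb175c8f20d85b202c4e3b784d221663243fe5e83af)
  .nil) (nat_lit 49) (nat_lit 17922) (nat_lit
  0x1fc33902f3ca9eafb89fd234a3b2528d0c10f9e4620c9b20a530f2859834060b4e8b36a5c2dfe5cbd74da9c8caec9f5e5bbc7cf649be48342ad19d4a2f699c3532d6b8058036df47fbcf061c58f3e616298b5ad748a85860d2d5454bab4e3a6c4e3dd9afdbb2e570e8500518904a2)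
  (.node .nil (nat_lit 50) (nat_lit 541232) (nat_lit
  0xea8c12cbb99f23bdf7467e4e544f14448120d516bd801c3c4423e948b7ac8d8e79a29d6e38c49ed09a60a57f07c8eaecc730e4532c9b6b299d443945720bbdf89840299ebcd2c328e574a592436aef63eb20fa6830c81cdc2cd174187dd15da6b7b1e29cf7010deaf9babb5ae1f0)
  .nil)) (nat_lit 51) (nat_lit 0x1184210) (nat_lit
  0x246dc622c6049e89a07a052ba5e7309da1f7bd21eb4a969d13cc982e679221566aac51e5b635c6899e9ec12b3f2bc6a59688e66e375b86a3a9b30cfb9db0b53a8c01be11ed900c5609f17462e2d3e9477d96450c1089e579157d177826ce0e2a97f96e0786ecdf66828a4c636773c)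
  (.node (.node .nil (nat_lit 52) (nat_lit 0x1084611) (nat_lit
  0x1aed18daaeefa67e3f59905e8683913be7df19592c0965de21d5b0f981ec4b62352266e54e5bc4533809a0ea1a86a2b9670a278fc2e32093d50f88e2efa4132c80481a296a77fc516e401692f898afce161f251e5e5a0335f6b3478fe0f625c91e9414f5c262476bd5ab9d84b91bd)
  .nil) (nat_lit 53) (nat_lit 526385) (nat_lit
  0x100f5c68aa520cb6fdadee4d88fa6fb95582728753c9cbee5ccc8f875b2d4ef6851c7909163073ccdf51873536898943e46bf6d5e25669965a3fdeccf42e484053ca284dea815271828fa2f6110455c213101174adece7035dabba3843cf73745eaf838376996380c31bab1a094bc)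
  (.node .nil (nat_lit 54) (nat_lit 561) (nat_lit
  0x354606b5523f96f3c104a139ee9595f89fc7826f34b11985ccc5ff736550532eac588b3b977d84b6fc926a048fb117db54f4c00b46757ea7d737221980e700051d3435a1524d446e99b7b09d10ece5c68305c4b78633746d0a4b175d9c16c89bc28f43af6c4397a620643fd7987b9)
  .nil))) (nat_lit 55) (nat_lit 526402) (nat_lit
  0x3569beb099d5a05ab250e2477a0230ca1bf48d21e0926446e93afc0c2ef48fdb8e836426d9af2d8923289c84305b1b7cdb7cc6173901f56f5f6ee101e05009b942b77065e0f4eb7af960e2e4a5e25a93e35c11c55a43e6ce7aa6d44f758a8453b52277ecceff1550794a4cf668354)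
  (.node (.node (.node .nil (nat_lit 56) (nat_lit 0x1180831) (nat_lit
  0x1c5fe93e54692761bf8071e5ef550a164c3c829326d1883e783044a3614bf3bdeb96ce9a30040f469b566841c8dc97bf9e3772ea4dde5914d96a5daec00b6068d5a53bb45e133367142dab1bb5a3bee7f70e0c78941130b0d2d2aa8bab4e3a24de3dd7b3d9b6bdc421d00518904a2)
  .nil) (nat_lit 57) (nat_lit 34) (nat_lit
  0x21eeda272deb882676d023063b2951c107d231ef8096d6559eda8d49cba9df1161697de83e8b924d5c32b622a752b8581d68ce3fa7ec709687112a6802e6a29bb83a483301ad39cfbfc297bf189318e308cab9be5e9436eb36bbb61c8f20d990b02c5d9c26f10a418ce43fe5e83af)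
  (.node .nil (nat_lit 58) (nat_lit 0x1184211) (nat_lit
  0x101302f5d2538bf6c8118f058f4920b9f3267442a587adef4a87dc275b4be268cd1f7d094faa4154d8f8873571ac6b7cc46d2cd5e251f5608675de00f4281b19d37c1adf3a8174a7be8f23260a2b18f81232e165c4a1bdc9157bba3826ce0d4c57f943dc770fb1b14d0a4c636773c)
  .nil)) (nat_lit 59) (nat_lit 526369) (nat_lit
  0xa23f9a6ec6ae6d484cad05deb89885396dc916dcf79aa95ecae290f3cd48664eba1ee0d3b7d27c2df58444104d9ca0e99b7d9ea198c00b088a1015692fd439589d937bd8d6b28246a706139f9f05a4bf41c7c679132ec5c69f61a2744da068f1986170751c3964b6cdfdf15593c5)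
  (.node (.node .nil (nat_lit 60) (nat_lit 514) (nat_lit
  0x3eedf75ac49d31c7a034b92956443e1d3323b97272dd4f9ca1560bee4b1238626f98de96b67a9e8d0c98eccccd2bc6aed5c89f28c511b6a3a9801596f090b51fb467be11e43caa8809840e2a42f8a447057f488c365b81cf5dad177843cf722eeeaf81874cedc2c1819bab1a094bc)
  .nil) (nat_lit 61) (nat_lit 0x108821) (nat_lit
  0x377c26c53a4c02468fc2a6dc9d3c7ad530fd0f955b337bc67c5146e1984ad475e530a1f8426d4528e9b74daf89732889141c32500df56fa6401cbdac83345cfa76b32d6645a0ad7a86d06268f5e93a037e0ae2a5c2459e5b78b3ce71469d9c8a36bde072f160968daed5cca880d3d)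
  (.node .nil (nat_lit 62) (nat_lit 574992) (nat_lit
  0x100be798ae15b7227dee1f19866ac1d597eda1b133e2e876d8cd97e89370daf46ca47937eca43c988f496014a708b3875f1724d53865b9803c11d608f1deb4242803a4fde6fc8354832595f609de6e8c1075a3960d31af88965baa882987d1cf90afb02fac5d635ed4788a431f3cd)
  .nil)))))) (nat_lit 63) (nat_lit 0x2020c602) (nat_lit
  0x105f5d928b19c7fa81801447015147dbd65085dce6d9fa8cbd1c8f87b45cd968715226922168c3ccd97de8359e892e0658f70b862427300f8c3c4c4ceac6e5a653cb1fc52c5ec938566549738ee4d5c32aa7ded79ca7cd5953d50dac6a74b6be9db6468689be17106339410e0ba3f)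
  (.node (.node (.node (.node (.node (.node .nil (nat_lit 64) (nat_lit 0x108c231) (nat_lit
  0x21b6e69ea14a46954575d48e11f944d88c985d7f2e3e290b9a5b703b770e7c429adaaf4df02b01ce2517854811df53bd2b1e565767d009a109228370b32df75899d70901dd9d0e714b6df98b4d7917d0b89c43f9d0afc93e3f63cc038cf1267631a0f051688d9a4a17e67d041bdca)
  .nil) (nat_lit 65) (nat_lit 16449) (nat_lit
  0x158b867d86eb2b300532cb696698e26fcb3071593567f37670ba9eb46f42f6688d2e3d8c4ea04de3e809abb749c22b57020ee9be84064404a6b1452fc8109dfedc1b4ea680d1dee6d4a17a7748c782cefc672217452ef4a99d6b079b7c4a25cc690b6d87c32ba1b07ae094d96b178)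
  (.node .nil (nat_lit 66) (nat_lit 17) (nat_lit
  0x1fa5396b4133fcb8b5316f3975d1219135d6a2a4f9693a6d8798f2914a8e50b69dedd01f70ab89cbd36434c810ede04f5666d6560052cd5df7a2d864b5c410a0b2d67495d63d25d70a984a9f3b636616dc0b8f960683c93c3023cc257b46d3c49bf40607c73bb475e8667d6693051)
  .nil)) (nat_lit 67) (nat_lit 0x20210631) (nat_lit
  0x1b9bdf353c9c30e2f834ea5de82b2663c910f67d09570d18cfb60bfc4b120c0ab0a1d548d21362edc327537c02d106a54f96f300c51ed5319c14f394abdc5bb84a51ee177e8afd3b09a73056dd5cc044c97a190f01db487c3da2745fc72f407d4175f66bb2229909c73ef29e61ab0)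
  (.node (.node .nil (nat_lit 68) (nat_lit 0x108c042) (nat_lit
  0x261b6e71577a6fbee2f8621bc1cf6a6ee6ed6919aebb46285dc472785cae7e20ff0adc796d6c182c40517389d2c3d2b2148f00afa07d590b19233b3eea2c7e095019b304a420d265b7e4d334d6824bb1794ea2a2d00dd6bd4401564b7b83443b1bfbe4999dd3aa78591aa5039ae34)
  .nil) (nat_lit 69) (nat_lit 1058) (nat_lit
  0x2fce3e8325162b8288e10008a8bd49bc3add6164c629c7c5e3dd29997ca169de5b0493475cd8688dad055935a18d2a29f8000bdcf820987ceadea9864f6fb295a976e0c97384b59b1f77394216d1faf8bd9c88c7acedad996ba729ec6aafa5eaa50da0f2e308382180dff4df10686)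
  (.node .nil (nat_lit 70) (nat_lit 0x108831) (nat_lit
  0x40581c0501eb1675f407e8e45cc6665f74b178a71d3185858eb726f2e0e35b2d112ba10f9eed184b9a939c31211f6e160304f44971d06ac94ab70ecb992472f55c353b4995f7d235ff24333d18debba3ca67b6436d9cd596ba4ee6c6aafa553d50db94185c41070631ff4df10686)
  .nil))) (nat_lit 71) (nat_lit 0x404210821) (nat_lit
  0x30c52ef5e7a884358bc886c311924d92b5f02de45c46ba3dd6cc75738aa3c16f802fa713a0e829dd78d48fee5447453015a1795f3d319f01d803c7d87e50935bc1b9b5ca5806049ad4e3648e6743286b31a627f4793eaa4e1886ddf3ad1cbaa6928b00ef9776833bfed9292d9924a)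
  (.node (.node (.node .nil (nat_lit 72) (nat_lit 0x20210422) (nat_lit
  0x3abbd21603c42c82666de97a273224f8df04ddec26a6ac4f161ba6f2e906b83aadd04449091464ed6b059a207c9b680e6a58a38cb7501f8a9ef9eea373857c0a6295d3295f7099e4c0792dfc6bb3f688306cce3a2b8b3e90c4fa24d83511668173939fc71f503da076fef2a64366b)
  .nil) (nat_lit 73) (nat_lit 16) (nat_lit
  0x1af1b660be788b92bfb4709e8e47ca45e63db61a4e93e5a8a8d75864783ec555eb9206c7155aa2f5381bbbea582802bad36cfa08f1d8891a59413baee92e8c516f33b2e1684833466e2dc01b1f2bcb4c15489dbe418d9f90302607a57b46d24f8bf4038c9d8e3f642be67d6693051)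
  (.node .nil (nat_lit 74) (nat_lit 0x110441) (nat_lit
  0x267032b2938263db7e4b12dd5d53636750a22a4fa3b9a2367c8c0f5d7b3467a4dec51e770a1b86863642605d60093f3387ea9e8ed95b414a7c687eac64d5d4f8a10c5e173aae8c591f3356e78110916d4e384c59ca4b9bdea15ac2d7150d3c53ed54794c6fafc02a0b4cd1c0f6cb)
  .nil)) (nat_lit 75) (nat_lit 0x108c230) (nat_lit
  0x22aaeaeb091ca3db434fcca5435480ed96dc2e6f8a7cb8175e326136381b8057139bca076e20f96d37b5424d01eacabacf166977abb889028cb185acea0e9b1112b905916bbbcbf25da2213ce7f89cb694c3f6b697a19f923f6607838cf1271ce1a0e8e046d1233bf4267d041bdca)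
  (.node (.node .nil (nat_lit 76) (nat_lit 0x1010821) (nat_lit
  0x3e67163af08e3e97949f730d1848e350481049ec734ca8e10db1c6ac584ebecc54b9005522251773d3e5cd80b5dfcf20b55a11c1aea648285c8cf06098698b7574df5ecd2cb99f02fab83a5812549a1eaf6387775fd35962d90d0553698989e6d6f5a3834e59973f63507595d9d1d)
  .nil) (nat_lit 77) (nat_lit 33858) (nat_lit
  0x3a46d53c83de61db92f6b82dcaa92dd4770d96403e8c56e26bc0d50c0bf6808301e362f62c974c336cd0803fd761535048f2f527295cdbe3ad25c71c8c85f88469dea4e271917b89dc58a344d76744af781fd62e5c1fd0770f01527ccca265e15a486cc1f8133d0e4b47a2dae99be)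
  (.node .nil (nat_lit 78) (nat_lit 16945) (nat_lit
  0x7cd67985a6e38a93b4806c797e6dbe7804f47c2ea15067968143b7dc55370b0759f51a230d268f72ca00afdad142b5aab5b08997b7104bb507492bcb502547183c81f7ca688bb1fd451747c211ea7a827abeae44619d73d4cb73c0e8d9db11c1f6c90c263e0e18b9815c8e6eafdd)
  .nil)))) (nat_lit 79) (nat_lit 0x21184630) (nat_lit
  0x18917dd8f79add394d20bfc57ea7c63c7436ecb8172d7ce16e7aa573b084cc6c916c79018738636950196926e28e5257a2a9a7fa8a0a4762e17a431b7498a8170f8f60730b311c2cded197b5adaa886b31fb3135016050a6f863b9fbf3d067514038a851bc1749a27b2443d65dbb9)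
  (.node (.node (.node (.node .nil (nat_lit 80) (nat_lit 0x2110431) (nat_lit
  0x3ed28a77cce2aa6df417a951e04c94112c361348f9a8ebe62b0b58ce31774d69b06e358cc9e07c8009e8d088d178e4c62f0d8786f6c7a7f834dfabbdcca5c0df4b30133b0583e205575c90c4fd686cf088d33f94e054f735da02f92e1303d92656e3b96dc7744c85b057eeb2e8a25)
  .nil) (nat_lit 81) (nat_lit 1) (nat_lit
  0x2262910f109a23037d7bfe5d6938fb27531f70f0b721a156f4011f45cb1f7ce2a74b1ed63a19c00e362e30548548bf12b3677bebde4fe972cc2839ac2957a7e9206f5b170dda9cb91890d2ca8fa8226d43aedc59df2ad859faf2c2a6de2e2f57d554e0c55290401a651433a61449)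
  (.node .nil (nat_lit 82) (nat_lit 0x1080821) (nat_lit
  0x3da6e2db84d213dc7d4fbe7117df3c2d59d1a1e3ecad0b156e52a5704b9508181ebbe4b21dd2033e6306bb3b48c6e897eeb93d4abee0898f24a9a2394421f41bc78bde239e71a9cb4434623814bad5aed59d6a9e42ec5cc03ed2d8777a2982f13d40902103a0e65c466443c66ec59)
  .nil)) (nat_lit 83) (nat_lit 0x108822) (nat_lit
  0x3775261e9e54321aae2c0a962968fe04de2301e9d135cdba99a146e41ce78a2cda7a0c6d73011d28ef78de2fd97123f12148958cb2fcfe9ddb3db198312570bef6b3a419782a78689828d1fa3e2dba02f968f6592aeaad84c1df2c24a85529c711a66a6daf799fae4ed143808061c)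
  (.node (.node .nil (nat_lit 84) (nat_lit 574978) (nat_lit
  0x352b06b22a2e168a5c36d6cbb1af230c43f7e58171c36492276dff6c2eb26692a2aa6b44005da0b6f330aa84a5b11f1b7109a538d103a14f5f39218a6f2905fa9d35d28dec0a3bfa7e607f3c2d93e5c7389418057c29ae0a7cb4d28f05f3434d6ce7f5b1864476e5e05c4c0f9bb37)
  .nil) (nat_lit 85) (nat_lit 0x118c211) (nat_lit
  0x263c62f4dc3381f1c8cbb44dde493539c5136496114782a067b8552b883ebe1a922576c018ded8f78afe5a386bac88acc360648334bd4f6b5984aa49570b538669966ba263ff69a3e29d6322a0fe4fadd739d172b021d1ea8c7b17a1738ca30967e217f67696e3a6e38a2003bac93)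
  (.node .nil (nat_lit 86) (nat_lit 0x21180842) (nat_lit
  0x1295f64130759d5d8370fbeed655ad1d19233aa872dd6b9c18bdcbfc2522307290bca01b2d3fd9a6f5fd0f3548598894e130bda9e097199ca27a61182eabc5315103410d98438455ae459bf9be4de6828f263a62b63705ce7fc7975c93ef837458eb9049b03cd6932a2dab1b014e8)
  .nil))) (nat_lit 87) (nat_lit 16944) (nat_lit
  0x1dd20293cd836fe68fcccd30bc5c6df7050de5a5418ba8d1f20136f9d84435a791e019698a58e2c8e8deb6a521baf4c10d96d56a162d6fa541e30f9256f44d3a205f26816a2493bd1351f75235cff629aa3ae0984c8c9fad4cbe0e4e8d9db20a3f6ca121f0c4c1cc1715c8e6eafdd)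
  (.node (.node (.node .nil (nat_lit 88) (nat_lit 1073) (nat_lit
  0x1be0dfaeefc9cd1304885081e11347d1d00455bc86bc2d7dc1d4c3ecb1dacf40700166d8b9e7ed3c58e96e749ef17dfefb16097e44aa40b1897d7a0cbb6ec1a159cd054d8d2ac1756a4d7072dba5d3c522921479793bc3599fa61e6a6de2e2bded55461c94aa02032351433a61449)
  .nil) (nat_lit 89) (nat_lit 33857) (nat_lit
  0x3a5bd42cf2a640a97d3b167795256338c2d798aa3ae3e684d0b0d50464993fc0010473fbe2b498336adc703ff561ec30e6de319872f6810865be08618671eb2fe9df5653906bb65045e199aa7f02c4aeac612ea9ea409bedda0c85ee1303db2a46e3b6f2bb8e40982b57eeb2e8a25)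
  (.node .nil (nat_lit 90) (nat_lit 0x23184230) (nat_lit
  0x609bf1ec30c9f7e7b0c86349da2f9c0cafe7776c48a8f309fd638386ead32019aa2da0442a6c976fa890e4446949f1b6d293d4012aba15b0d17c18882891d3af2a2e5f5e9a7628db4ef85944f15b5065165cd46c0afae0876e4d2b5b1ada48c353e1bf6f343307ce7dc4c973c29e)
  .nil)) (nat_lit 91) (nat_lit 0x420208431) (nat_lit
  0x3eb8de9c8cef8f937b6dc66f09e415c194a855bb42cfb26879674f0b4ee401a73673460a970c13583257de4c11717a57bc9d3f13758a477da3b7ef15cc48dcd4c91d46128a03eaf56b5eb33f3525d31a8918ca50360560b83edc25b77a29809ded4090a0d00729c338a443c66ec59)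
  (.node (.node .nil (nat_lit 92) (nat_lit 573505) (nat_lit
  0x2e357f2ec4a75c7cc0c761b064dab2ea52284a78f8d98d80cf09e2e6280393fc62cfc81107a8d17759b7720cc5e6c1b91c6d428068ba70d34926e23460fa7df8e195782a43eb7e5eaa58f9322efa44fa83db9256774b49b5c0bd621258dd8b59092d42fe6edae4666857b22b7093)
  .nil) (nat_lit 93) (nat_lit 1089) (nat_lit
  0x1fe21f3bc8bd8914350767717712a692348ad63bdceb3a79bcf070324006dba28f84d0222aabf17b1364fac830e5904433e0dcd4348e1eca5669fa08b52bf1a1b6e43855d66822d30b9cce45bc667a20dc6344b60a88ef6ce89cac1f23c0b93cbe940a1ce1515c7779a11f7bafdd7)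
  (.node .nil (nat_lit 94) (nat_lit 33) (nat_lit
  0x21a3dbdcb578d000ab74d1339242f73dcc16e5d214cd6195ef828d402c3629af665ea2798a1de24d5aca96220552f74412d94d1e1a11b6ec62af78b53a190f82383b674f932228247f6c3e7c84f018e3f46f69cc20ef8fa01c43c5f19ff8a68a5996b90cc45574f38cdadf77ea911)
  .nil))))) (nat_lit 95) (nat_lit 0x40420c630) (nat_lit
  0x384b0d689e8e6adca9056cbe775223ad342f776b195b2ea5a4fc5003ef466645c15a892bbff417889dab30c47621804aa9ab4de453c90d47bda30790b50f1099410f8c95162852bec565eb5146c701ebf7353989e7ec3234e18eef1a6f4529049bf7276b3a315435fd3e37510305d)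
  (.node (.node (.node (.node (.node .nil (nat_lit 96) (nat_lit 0x21184210) (nat_lit
  0x1594a9d9cf596611896582beb8434d03a6d6228bf9a51edde8b807776034f03bb8b5559631c84ef067f6d237da2b38f8d564bae81f99245416995fa6d62985528ca3c9e798a2011bfbc504d613ac364d0f66502594c73844290c3c347ca4cecb8909df2108767aedf8fdeab8f4fc1)
  .nil) (nat_lit 97) (nat_lit 0x2208421) (nat_lit
  0xe04bd6ecca66f204e6b8878a59c9d18adc5164cc4f637c8c07c90c96da9a0873a0ed0d39892d3e843bcc4312f17df41e964f44759c00b189661b56b3bec1b519fb054d8e58686b6a3ca0bb7bbdcec47c447e1974b6565caec61e6a4ae232ba8840dc1cdaa9277b2f5ff42372f49)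
  (.node .nil (nat_lit 98) (nat_lit 0x21010422) (nat_lit
  0x21d4f4fe05e7873a46953dc1d937e9518b33b709d5592e0202dd8d5adcc2ded9d7996f74b4076ac8261a3948a7b89bbcbd60fcf141b92f79335d622f3d66a2bee0c71f9e1c4f83084a791843e3531b28a4c8f205bbf130b072722a0bab9b1169a54542a0af70624421d109d9b59af)
  .nil)) (nat_lit 99) (nat_lit 17969) (nat_lit
  0x3ad9672d30b4aa138a48a7cd86b00293379cbedd18b086006011439a5dbd1221f4dad5cf9eefcd82e74f387df445bbf5b56a2c98e486ee3f3a20f086ed0b94670d9e3194a69063c4910f97654ae9d26ce078e8d143eb33900e6bc57603c6751a2f7bd7b18526dda258026a3596f96)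
  (.node (.node .nil (nat_lit 100) (nat_lit 0x218c210) (nat_lit
  0x1162274fc87f502f35aa6775619b739262fed2d5110b807897c0b6f25d06951689ec8939aa073179a683f59fb8e59048e2609884f4eabeca5672cd42d88bf1ba3bd23855d2bdf44e0b36ca6c7c7e6c2005c1bdf619d240588cfcac1f70c0513fb860971c47530a16df75481bd65d7)
  .nil) (nat_lit 101) (nat_lit 0x10c610) (nat_lit
  0x2471e062c7bd6845df623313a763f78ea07d4d60fa0016a9296cb86bed8a27560e3f91e2bc34a2b82408c4ead8f93f6c33897a6e579346a1a8bd3b10f590b691141ab2365fb001dc0895c4c2e42f75c1d1b77dac331949e34d3f375567dc224e47fce91c9ae4dab5c440c2673d332)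
  (.node .nil (nat_lit 102) (nat_lit 0x218c211) (nat_lit
  0x1ade3356b6eda33122a64c3f981e9bc9f02de252e01444b4b58bfce49573980cd2f1ed033a8b28f5149914f65675ec231044c708c9cdc3faddf41da6e8aee5792ca19845b8d7f67c0240db8b1be7689a15359e38e9332c808cf6195f70c053da78608e2ea88d0e1fadb5481bd65d7)
  .nil))) (nat_lit 103) (nat_lit 540737) (nat_lit
  0x1bce09b4b1f7b1bacc0db0a1edf53d724faa84a003a05a3a358384b788bcb7924a826b816ea68e0e911f087497a2ca225d81b686a68e512d3bdc0ab0be0fb11abe0eb4ae15f5993a1e06158d69afa4a52061cf1c31a0302cc9b73e58f1af1eecd579b1213429fcf67cddfb8b55567)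
  (.node (.node (.node .nil (nat_lit 104) (nat_lit 0x110421) (nat_lit
  0x35109bb18269f87d8504db8965dc252ce7083009756d9e723cbe4455fc46466895650ac1d4a02d944819e9b7d6aa4b56860775e9986f7be2a0b3d31568c08a4fd22b46d793b1d8faedb5dde7580389dcfca2427748b8438dedcb195e25c4657cc91a2c9cdef901b11ca181fb3be27)
  .nil) (nat_lit 105) (nat_lit 17968) (nat_lit
  0x5275292c7980d6cf596cc5a65094e690450018c21b4622fb4de70a4cf1fe7dd73078e9ebb10266beaf5be71dc41ccc5952aad7edc8fafbc06ce193e53282d107443e285da37295370d870f8b1a2478723b7256ab587c8640e62b7b603c675123f7bd8af930ad5bc04826a3596f96)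
  (.node .nil (nat_lit 106) (nat_lit 0x20210421) (nat_lit
  0x3ac9d246eed37cce4c490b3b0e85ddd730010d110f94582d7cf3a6fb89d9173da4052159f07b8ced6589eaa03499e41640a8716b9461f293856ba936587fa27e6294e56e81be895ae50f645323d7f689abde64657c5c02db78ebd49146c2198c808aa9835dddc648f6d5e07e412f9)
  .nil)) (nat_lit 107) (nat_lit 0x23084202) (nat_lit
  0x26284cb0bc51c6fec0f3e89b6a78858600d41584ba56f287c626e7ea8f5b0222d30ad98d779a55e65bcec89431c14abec9dc9cc353ac7912ccf8945a8e4bf39003623365d68beab86f4a3101ff36d9cecc50549a37e3e941f3d75ce7c1c108efb92490dc47ad71f0e8826a135d90d)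
  (.node (.node .nil (nat_lit 108) (nat_lit 16913) (nat_lit
  0x15900e38d26283518548a94161263e80cb5e54e73600f3b992ac3b6f4553c0eb349dbd9b61a02f86c819d8b75c0ddb504ca24fe97aa4dbfe8e4cb2bfce98f04ec5b4cf7e87d22378d5c6b1261efbebdcffab427750994e2214b2e7b1e2f9ca95108b46292a7d01b78e07a20cb1291)
  .nil) (nat_lit 109) (nat_lit 0x21180821) (nat_lit
  0x2dceae5653d3f963b551b2a59a05000eec27796f5c817c3a3451afa170e86ebc38686fa04589051acab6ab6396f0f12449d02d26a5a46d5473e0bda555c4b4e62e92db691c84193a76cd0a69f62fe69b20c9862e7a0339e4671e02fc1b09d6ed25691fc270c316b03cc7fbdc20bf7)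
  (.node .nil (nat_lit 110) (nat_lit 542210) (nat_lit
  0x24041a208c12a6219280fe68a0602b875ff76f94dd834ff0e3e5ff678b6f6691b617b5563ce45eeb2d6c56ab4e751a5387f3f1b6d3a65774c75edca2caed5a07ece6828b9c18b4d66b6ba9a555293a9d8ee2237c24818c0b2661729837b143bfa2710cc22915f1042a44cc192e385)
  .nil)))) (nat_lit 111) (nat_lit 0x2110422) (nat_lit
  0x26158d223913249f8214246c20016bdeb3f4da7b6eb64ff144f9a6b4f23352c6817f4c9b217999ef72d61c2bb5891afd148371ebcfa07ddc0765b9ed2aebf8c7e7a9d96b9dba4ed651e536a54d3e209c71da2c07a5939a635e1924183748b2add292824002f8644e5be1888a2e083)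
  (.node (.node (.node (.node .nil (nat_lit 112) (nat_lit 34849) (nat_lit
  0xff14772c4beb1c3df34e31006c4d28e05214971715d5ba9b71fbe8bcb0a1e0e0ad988743c637abd0efc27c2f4f93f6574c96c02cf49b6a1a88d23cfc190b69fae7ab2365cc92a9809bc67cac4146bc10dda094c3ed9807b94ef37554ddd4a4a6451041ccee5a612875bea2a27232)
  .nil) (nat_lit 113) (nat_lit 0x1080831) (nat_lit
  0x4df4192557f1b0a35376c039acda1dd17d7701d7011ac88c032be20d8e6b0ca9dea995a1e0434bf731368229e16e7bdb2482e1f9c53ad4f77c8e467cbc38a68ad4f8e3912b325937699fc22debb0e35f55609ca3145b4239d5e187404a4f8fd94ba50b33bf23125e33a370e91c41)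
  (.node .nil (nat_lit 114) (nat_lit 0x2308c210) (nat_lit
  0x3a904a6585ccdd28c8aa03dac0ea305ba881e9ae292c781a4d4fc09156a2e075e5dbd66844425057907f5f1c84aa9b73791988d93436aecc8faf31971b87f582eb1d2e5736c09d43bf688a377b45efc519747185d88f8079cf22da094fdd84aa6835fd01cf3a934ef315b513274a7)
  .nil)) (nat_lit 115) (nat_lit 0x44108422) (nat_lit
  0x3a709482dd78c91be1006f239241f70dfa14c5d21398abdb2d1de84eac3b5dd7d65d73e20a1c7a4832ea963fa151443efed967261b534026b42f798d3c73ef820c2267979b34814044585cd4c3f05ce399ef6a6c20a54316af3f1596c898a68eff96b4b8c4cca093855adf6db041d)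
  (.node (.node .nil (nat_lit 116) (nat_lit 0x1010631) (nat_lit
  0x2608d8f546717ee480b49dd5d0bdb56e81b4b23604ce334266b75875f83e5e90c1dd39acd8245cf34e71671471bdfab354076482f1371c04238473af42d03e250a556ee3613f4de36f116742b7c8cf77c94c21f4438d97e8602a57912ec34d2b1f934186ef1991fa989aa0cb56479)
  .nil) (nat_lit 117) (nat_lit 0x108c210) (nat_lit
  0x354ef8e8b3848b804ca708a40196c0f2d2de86bea08f113be141f917ad3ca8ca4b0b11876e0d7e0a73812afb6da2ca29e6c1cb7714cbf12d3b87e7985a0fb115b3b8b4ae1c66326d1feb61394991bda4977881bc17e0ac5e8f673e589aaf8aeaa6ab23a1e22b2927c161f452426e7)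
  (.node .nil (nat_lit 118) (nat_lit 0x40418c630) (nat_lit
  0x1330e956895cc0286d3795dc45e2364e050de5a3231417bb7f9ba6f9e90bac402de7ecda6f70b0759c7907c9d314f35e25892499cb71a41603c607e910a954c0fdc4966b6f2b4e188485f75ae47b1fd45197b828d50697ad4cfe075c8def6c2615d1c4d463e1ea791715e0804fe68)
  .nil))) (nat_lit 119) (nat_lit 0x108841) (nat_lit
  0x115d99d5c9501406af7756317d3098a98efc75c7bdeb1d0903233a41889cd5ef2a69c090716c05f21d1f118f89e5e5fce26a7350312e625db04a57e8f14dccba19db6b10a5a1e5eb6a681d3315dbbaa22394549271ae17e37cf209d65b0b2181b87b0fc12d63ecdb386f1371c1a2a)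
  (.node (.node (.node .nil (nat_lit 120) (nat_lit 16898) (nat_lit
  0x1a94b66dc806d5af89c882bcad9e38830cae23046b35c0dc045f58774f341a0bb979a633316562f53cb51eea742b38f5c424edf7702cf45416d1c69c8c7985646f33c9e795270776fa6b02a51389cb4cee13ff45a2e2116b9d5c3c3404a4fac9f4ba59a1f87494618bfa370e91c41)
  .nil) (nat_lit 121) (nat_lit 0x10c602) (nat_lit
  0x1b8fde6c02f15df521acae5d4837b072677e730e33c1c74a1c9cc3e5fcb877eae5dd9ac10624593c55af877434f3e01682eba3daa646185579c955e194044e42d9cc208e5a4518a086e9470f728853c45748413628e74913450b78cf3fc96964d4d18e99dcf5b753837b35186177d)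
  (.node .nil (nat_lit 122) (nat_lit 0x21180841) (nat_lit
  0x12daf6005b1ce9e3e3e638db9a114aec9e2563cee9232fe8fc8dcbe16ee06ff0f2608404148935a6fd73a93596583c8eb977532685182c4b8fe81eeb81ab6b665102cbc0ac8f9b69565d486ed63ee6824a1037b64e98e2e061c552b6d4868b0d677c8699f2c355592a2f5741019fa)
  .nil)) (nat_lit 123) (nat_lit 0x2308c211) (nat_lit
  0x2451015567b501c8753296e30e99824553f0693b1e38a47a6aa20c16e2502887c8afa0d12d3bc2ebcb379976d41a6ec10cf21b6f4d54238fb585963b9ca04d979fca61c63acff78b8d8a3ae2e321bab57d191daec7b13d01cf2d05894fdd85315835c0fa9d9da5299dd5b513274a7)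
  (.node (.node .nil (nat_lit 124) (nat_lit 0x108c211) (nat_lit
  0x2600854e014b63276a75f1c165c9245e507cef83c47a82a1af4b703cb70ebe193c10871e5a65518498d61a097e662bb960cdcf4567436f7559ab5b73095318c3f7cdcd00b89f5ea34b4846fe0376e4f43c9ec4d2b02f2f5a8f6f2e589aaf8955d6ab10c715c49650afa1f452426e7)
  .nil) (nat_lit 125) (nat_lit 0x1010630) (nat_lit
  0x494f6aebaec1444c7bb33a8f62e1d7add509938cd8132c8e06dd5bac592e49a1e8bcdf7048bce98cda4860e299e41c83a81a56ff7b8293854ab6a9b5cfa24247d6e56e8f006791e4ee129a23f19b88dfa2cbe54687f52c602bd4912ec34d8a5f9343038ddcfb2c551aa0cb56479)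
  .nil))))))
def cA_l0 : Lvl := ⟨nat_lit 0, [nat_lit
  0x1af1b660be788b92bfb4709e8e47ca45e63db61a4e93e5a8a8d75864783ec555eb9206c7155aa2f5381bbbea582802bad36cfa08f1d8891a59413baee92e8c516f33b2e1684833466e2dc01b1f2bcb4c15489dbe418d9f90302607a57b46d24f8bf4038c9d8e3f642be67d6693051,
  nat_lit
  0x1fa5396b4133fcb8b5316f3975d1219135d6a2a4f9693a6d8798f2914a8e50b69dedd01f70ab89cbd36434c810ede04f5666d6560052cd5df7a2d864b5c410a0b2d67495d63d25d70a984a9f3b636616dc0b8f960683c93c3023cc257b46d3c49bf40607c73bb475e8667d6693051],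
  [nat_lit 0, nat_lit 0], cA_t0⟩
def cA_t1 : T := (.node (.node (.node (.node (.node (.node (.node .nil (nat_lit 2) (nat_lit 0) (nat_lit
  0x3efcf7ebcf8efdbaf4e7cb8f0dfbb6ecd7ab4e8cf9b2e4c78b0e0bf7aedcb76acd8af5aad4a74a8d09f3a6cc972a4c88f1a2c4870a0c07ef9ebc76e9cb86ed9ab466c98b05eb96ac56a94a84e992a446890a03e78e9c3668c982e58a9426488901e3868c16284880e182840608080)
  .nil) (nat_lit 3) (nat_lit 33858) (nat_lit
  0x3488182a3e39321a06495b07df5ef146c9d2f7381ca5ad2d3cd3d38406eecc51b9f52c61d7360ee38b49899533e5f3ff905d0f5543ae5bf840b22f1172fa4a04ece262da14f550543ce4e8584969b06d7741217bd6769ddf3b5f0eec6d45ac7700faa6d198ade4a8a442230565980)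
  .nil) (nat_lit 4) (nat_lit 67650) (nat_lit
  0x32e3bf874e7d7b705ec59366acda3b71efc3ceef1bfef2f9cfd75f7d149e4e811ac4aa90a63ea15a45a8a64d9729f3f83022c4850e3c69125ebc6ad1c3960c5dba66c9b375cbe7d8a35aed2b752bd0b33aadaa770d9a3a704092e5850b18348900c1c9132854c191c3c1820a10080)
  (.node (.node .nil (nat_lit 5) (nat_lit 49) (nat_lit
  0x303545620867cfe207870b4bd5b3c18f0be00f6e1dfe0c2c28e0835d51ac244ee535cda649c5ad41f4c86fe1ca415d18cf1a4bac908ecd19b3c7bd29cb862c199876653d5416aa5ba57726d9b217b73ca4a15b3386f317c8bfde827d9df46e045d58d525a15d93a1de416e09bf880)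
  .nil) (nat_lit 10) (nat_lit 82448) (nat_lit
  0x4409b3084a14300c52a4e3190a0dbe76df59d22ea32b0f0c6d3c405a9ed36e2ca6abe979abf6fbdd3d45256f8ee72c69e6f0fcda076cc593a06d2ea82ae5cf887c6d6c22dfbae2bec7f0a15c713fb4750eb953ac5bf1afb87596467d75a95eb213061048608c47d580a482526200)
  .nil)) (nat_lit 11) (nat_lit 558640) (nat_lit
  0x3e412654cf97cfc7bac37f2f5a0aad8943b38a731562282f497b25c0469f5251beeccc41da710d31baf7060a8f8e4c8d220334f7ebee0ac9083d2d2ce1a9eb6374bd03164e7c929ea875cc20a834306dbe99217775a2db63507e03bbceecb1df86b9c2230565e4a8a466d198ad980)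
  (.node (.node (.node .nil (nat_lit 12) (nat_lit 0x284221) (nat_lit
  0x197c850c7c4ae95a709320747ac918ca61c60affab845274a298952f10ccf679fa03fbeaab14e55546e2f9f296d5158e8459c0eddc878b28f287c004283bf84be9d4649953675b0da0986384f46eee7d6bd5cb737314d04a345f3d759cda6b396d863202c411dbdc61962d9d3ef00)
  .nil) (nat_lit 13) (nat_lit 0x284631) (nat_lit
  0x22fd3674bc0f7e88b4cda364b495ae783c61db702d8428bd4adc7425bb2f52153ac2568e5da829ce292c3973138c68bd5d34c49eb5e87850facacff36eb99347b333c0a934766431719130c347ca20ab3a983eebafd1c2ac3608c4113fb0fa0b5799415008a99711de77a5dd5dd00)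
  .nil) (nat_lit 18) (nat_lit 2562) (nat_lit
  0x45e436dd813d72396a4a3c186cdfd6cf72cbd680922e8fb98e9136d132e340eab1299299fee31c20913b9f2138e1c27a1f4c45b3f5741637aca1ecf5ed26573fc33c26ccb28e4ac736bb0a53749624ec0e05a8bf0abbf478b28c41504a00a0b5f239f587e8b006caf3757de95d00)
  (.node .nil (nat_lit 19) (nat_lit 17968) (nat_lit
  0x43a534e0fd60c44bc514a5715cbd28eaf1c7a48959948f9261b485c064d4f71f0dba9bd51b6e286e6d6b97396d51d921e19c0efdba11b08b2872fa41852a4f001d4670df3a6dba055bd0b9f6acfd47e2ea9e1533412cc51ebbf3d426205933960d8cd6d39ae2c631b274f58b6f00)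
  .nil))) (nat_lit 20) (nat_lit 50721) (nat_lit
  0x38e75cbda97436fa6572e1d16534d2deae3b62d1f3fae4658b370d0f535dc276a9e39adba055bd430e4895d1fa1fb77678c378b28f4bcf5ee5892304a930614cc5031858d7efb9d8a4c686e6d68d6d4f72f9ba87ca432509a3bf3f2402921044a804054c193706a311122cad3a380)
  (.node (.node (.node (.node .nil (nat_lit 21) (nat_lit 2128) (nat_lit
  0xcb4ba7e3e56ed8c3ca4a256c5ebab874b0435088a993fc6fa13a87a89ccb67a49253530ab4ee5268628326296eeca3219d9c6d7b6f11593be8e2fe42831433a81e023d7b367585aad9aab8bf469a690510dc2b3770dde2deb5d38017309cbc161ff0e7635de2c013c512db13fa00)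
  .nil) (nat_lit 26) (nat_lit 0x18c602) (nat_lit
  0x3ba7cff009ddbf4f11a2f541a0abbc6ed9e2d92c8c81a66736c0d7e30935ea029d614db5d98ad35af6290db02f0f5cca23e9970e65174f54734e11ca12cda3cecea62449ac93d0ca8826d16e7d8a9066d752be556849e088cb6bd312cc9387fc65112c2af0f186bced172b1cde80)
  .nil) (nat_lit 27) (nat_lit 558641) (nat_lit
  0x1946dfbbe914959a45f7eb8904b5e6359be59bfeafa0a31d6514ab03db1e59d8fb8e4b4549a48610b414d72f89e2a2610f7a4762c1d894f54c69038ce1ac592f072da82832452d29863545b19239cfbae67776f70261057f87c74f09eb2bb7006d85cee8379a04bce655aaa343280)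
  (.node .nil (nat_lit 28) (nat_lit 17442) (nat_lit
  0x3c970a0f808f7e877d1433a813a6d191b37a5eb77b482ccf3b146c8cf314717245643569b02b7ed26a334fdd8f96928d929e185eb8cb46cdf53a0f061434b5f1b20d11fbe55415cc41509e152c6da79291c9ed04b982e4120452de27d85a8b069e22770dde2c7fc7ad4d7739dba00)
  .nil)) (nat_lit 29) (nat_lit 50209) (nat_lit
  0x197c870a38eac91a70912620fae97bb5ed2d9f381cba59228ec784441c5ca336eb67d4067a4f6f70db4997aee3294d310ea0fd60c5e09a4a0be90380a93bf8728733a81853675054de2eaa115edfaa3edd5cc7278164098a2c67aecd6d39af186d860a6625a3af9ce5a74f58b6f00)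
  (.node (.node (.node .nil (nat_lit 30) (nat_lit 66) (nat_lit
  0x1dc6ddbcc06436c70845623bac37d3c1aad04fb1fe9aac813b307d065204daba164394fbcc546c1dd71cea267b1460ad98e532b28f8fc2a4e5b3cbaa7ad2453ef0791058db481cf20a7e81ded34d29878b5afac0a925515fa69200643192c0897f181bbe6cffcdeeb9e89e5770b00)
  .nil) (nat_lit 31) (nat_lit 1057) (nat_lit
  0x1d180a0e2b5932388f3d71e6ac9898c46195eeb81b63ab0d44dfc3a242616e33d2543d9fd9344ad739ca058d217a64dd907a9745631b472e00f90f2b7eeac90cb2ce469a95b3d65241c8e147c8edf7f75db0a057d368a999df0c1d282e54bcb691cce1dd847fec69620aa72757c00)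
  .nil) (nat_lit 32) (nat_lit 2) (nat_lit
  0x1d75284af719cb2309d7b437d60c6c0f4597a36d8dda76c1dc6c0166245ae4126273a331597c95c15a2861c2645ab24ce380cba89bc07a0aa210d4ec283f5ef8352ef6fe1b8795db724dfd7c88cd8a9b579829280e5234a34997916eee3fbc8b3838f353d0a4479f91e7ae5abe500)
  (.node .nil (nat_lit 33) (nat_lit 50210) (nat_lit
  0x3ac74d530413a6cb4ac989e10e7cafc0c3f4ca9f14dd921e51f637fd18cf084dba5862b31c474371e71595d1e0617aed42629759380b34563e5e6a1a44916344678d94fddf5edca4df72caad06a10c6d5c11560b42a0076877169a544da533607f2e93f7abd88c496f76a1d76d900)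
  .nil)))) (nat_lit 34) (nat_lit 82434) (nat_lit
  0xb063d70410ae97c3ac37fcbb7ef923dadd5ad4fa9b19bce74541192f90324e3d842ac725aa70e423559a72c2e1d3d51245970dbad9f19b332e98128e1a1a2de7469f2e9f5b3e86893654c2c4809b0f408a39e615b6f6fbb544bd1bbaeecbf645c11ec2845487011e650d1b6acc00)
  (.node (.node (.node (.node (.node .nil (nat_lit 35) (nat_lit 50705) (nat_lit
  0x23015744b3a4b5fc067cfef0eb6845991b172afe8b87cfd8b7b3cefa676b41242724d598149b54e8c86abdfa6a5f46623071b3a6a783d0a0c3fd65d6ca3c5904cbe39c99572e2150362a627624aa2405ced4859b5ba26d63e4a3180d1f397754411e6e5f3d85d9080d296e51be380)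
  .nil) (nat_lit 36) (nat_lit 0x284202) (nat_lit
  0x1d01ae94b46a2afc986cdf0084561309a9962f3cfc838c782a16c87d56382722b2e16118d9c89d54fee773686a47d7b2f0627c347256aba7c7b2fba4a129934cf197d105adbafb1ba0b7155608c68248bcac99ce5fdb7c859f00d7a9835215ee31de145fa58639080d0f6eb9bdd80)
  .nil) (nat_lit 37) (nat_lit 17457) (nat_lit
  0x31b4d7b47f1a6a5ec09b30cb20615c6c73062e46b883d69490e8937f1376f4a978c09a2c9fabccd1385398b0d4f16cfea5f2c493208e71636386f2055d1ddbc85e7462c223d721ac38553f247741665c2bdd0a9df0a1bf6d9f0d3d1b576e970167639f527ea25fd8c21014b44bc00)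
  (.node .nil (nat_lit 38) (nat_lit 1584) (nat_lit
  0x3af83f774de55420bb1a2da462a4f908e63c364338a5d77896e3d3d2b3497fbbd316f7d684075119a3b6a9a9cf82b24e9e63b52849d4018299c48aca928a2ac709301fbf6d7b4da0b2702a69e09b61f6c1f6fd121155b09f2fcfb8e721596f571e1b174d5f3081602461b884e4b80)
  .nil)) (nat_lit 39) (nat_lit 0x1180842) (nat_lit
  0x33e01a2e233ae97af824525bc514923aad0077713d8364338aebb3f0511acd09cdf075422c5fbbd4cb6755500e639738ed6334d7b4788a6a74de94f4a933d73a798ac850ca2ad09bf73576f05382a77187443b0724b790d8090cbc2ca6475367c2c45f307ec7eeae38e7a05b68b80)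
  (.node (.node (.node .nil (nat_lit 40) (nat_lit 50736) (nat_lit
  0x20ded19834a3869d455cbc4f99cb05961bc08d7ca973b788da4b39183156184eef7a278db88413da745b818532f6fe177a7a0e436d9409b30c358e1ea264767610f805550e7cac6ff5561823ae55dc3fd8515c89182d633e5f8eaf2d3e40fc7b48c236d3d6a78e32fa8a28254be80)
  .nil) (nat_lit 41) (nat_lit 0x108422) (nat_lit
  0x4f99cb1d455cbc34a386a0ded1985961bc08d7ca973b788da4b39182b622633bdd3d45c1b09093fbdc8a64d80cada11dd34bbc37de990a0e38730d51d9a89be01d8439f255437d8abe81437276e2bec7ca8a499182d633e5f8eaf2d3e40fda0f111a9ed53af1f12fa8a28254be80)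
  .nil) (nat_lit 42) (nat_lit 574978) (nat_lit
  0x3489c59384ab483c45ae97608bf8468616c9e131c540b168c0d1138eecdca53f9fbd1b64be447c284a157bf633d5354898ef4ba2afe98ddbe0168e5e72ca6a78e0f3961439b31527060ac5d90ff36be5e942d467893828e47bd0ecc62f14bb3eae9f2b5b48863417441b1b6e75a80)
  (.node .nil (nat_lit 43) (nat_lit 33) (nat_lit
  0x4e5e7c9e07870a2e74d53aec143337cd111a9c2268b9f8377d6af729c59909d556ee2f21362b021d5d3d2d702e9158c023c986cde3165744cf1d3f505a9b325f4643f6eb24517ad046d84ec457b0da0924d5728c2a9074c847e0cefa8c34877880d10beb6fef067b8cf6eb9bdd80)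
  .nil))) (nat_lit 44) (nat_lit 560) (nat_lit
  0x3cbb7efbc3ac37c410ae94b063d70de33b9e08a9631ea4eb5aa354df69c3c969566908c938e40cab1f6136eb65c26cc67c4b879cb04914f55a7c79d16cfba7e04acba468b386bd0226c398528e64d9a1a31205309b6f6fba26abd197775fdb6458f81458a48808e323d0d1b6acc00)
  (.node (.node (.node (.node .nil (nat_lit 45) (nat_lit 1058) (nat_lit
  0x3ec5514a5759eb445ed19b189d7b6b40485f3ccf937a42d50d096b71ec27a9babe20afaeaaa3dad5f0925b371ecc58d22d1d8126543bd3a6cc7889a4f5ce5cf64be067dfab28c14841855f73f401bf4b9136f45554aca739a90e3e5c0c72287328d04d3138c033ccb817145e49d00)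
  .nil) (nat_lit 46) (nat_lit 2114) (nat_lit
  0x350e62c0cc7e7cb1f9aa9f3bb1a2f278c4d4414824b85b0e85bfc6da452eb079376a4fa74226696c807aeca388069a91f80b3d9934375ba7d91769968abdfb9d7d212f46608082ed9f24a9c590d43fa9dd15c18bd29bae744f4672925fad848bce303d2af742f188db1c20736a280)
  .nil) (nat_lit 47) (nat_lit 17) (nat_lit
  0x38076cdc441c593e69436fc352453967e6ecc8b8e375271d5586363e4aaf5972a6d512514318727bf0bdd1d98804fdd0dd4b3d9b307e0534d91775f55d1cda1a65212f76f04101f65af851ab10a9484dae71e26bab9d4a6cc5e672a87b55e88bcd91b0d6be93a0981c5cda7082280)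
  (.node .nil (nat_lit 48) (nat_lit 2577) (nat_lit
  0x33f4ac93079a6a72f19cb357cb684d3d38cd91b78747b10ec1b0e6e19025b9656a8a353df3c987776d79ae9feba682af17b1f04f5767d456049910624c87cfe2cb95102020a0f6e8dfdf15ff5c95a69f48f23b55c5141849a3b6ae85951a4e0c6811e6439b08b962205cae70bc800)
  .nil)) (nat_lit 49) (nat_lit 0x118c611) (nat_lit
  0x3c5e5543ae93f77eec45638634f54e3d34cd91d786c3361cdd887603ed573c8e7d2569afe2e5eb46defbd4d3c1e5256cfd3e6ab6878e59cb0c083225f3f93222cb95101040617b6ecdaf9fbc3928d45aa2e594094a8b2635d3576d0a0a24323c08d066c2990cb962205c2f72b8800)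
  (.node (.node (.node .nil (nat_lit 54) (nat_lit 0x108630) (nat_lit
  0x228772e1aca3676369436fa08bf86a064d0319f21740f7e3dac9946e8d22563396d9bed7eeb84e8530a9d8b023a858dcef304b514be967cfd918f23d64e0809a5e8ef61c2d1981d554a4f155dbe67ae7ae88a3961264ad88be513067c95b22275d9f0a25255fc337639b5a6e83800)
  .nil) (nat_lit 55) (nat_lit 0x280842) (nat_lit
  0x7876ed993c386870660c5eb33a6d4eaa7f3021f36f3ace939265adc7157f48e7e857dcf72b57f7a6db48fddeba6c22d9f71f0aa9fc5e55404998b2e44904104189511fbe06175a8dd51061b9ce8f65b9bdd9c8946121450b176aea14d87320c6024498d2a2ddb48f01c2f72b8800)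
  .nil) (nat_lit 56) (nat_lit 0x108842) (nat_lit
  0x2234dbac8604d520bcc9888e9436cf87bb2c3288d4b6487b266e598d5f94ac8cac259467b7c34d7d8b9a155030ed8b081a9999ae971c570e47f0e85c2021433e89f004e1addbcf665c8afa95ada72b270d2597c4bb03ee16f6764e86fb17e8771ea5b91be67654711f2d55409fc80)
  (.node .nil (nat_lit 57) (nat_lit 1) (nat_lit
  0x25443a6fae9436de320a0fce0aa9e9ea53f03b01ec4c3f10f956ca1f689385bb0cd1a9455cccbdc7b5052b243225b37e18f8e5932030e3f765c5f178104b089eb3e99cd1c593a91273eb42e18785d7bf321ef56579ebe5b40978ed11cfb2b603b225bbe2ed91d416b1935aa880800)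
  .nil))))) (nat_lit 62) (nat_lit 0x214221) (nat_lit
  0x3a7d534da3d416b4cb0a0e063284bb17ee248af0ebb5558a9e74459b18e6c5cfdc884e531b393d20c1776ca36af282aebf32c12a4e567080a360bd1ee1eae944160c437ee6cdc69fac28d2da8761b8f52727261a10d2b6a19f0e2ca8a25761d79f0edf617f7cc8f02636ccd734700)
  (.node (.node (.node (.node (.node (.node .nil (nat_lit 63) (nat_lit 33825) (nat_lit
  0x2f174d538bd6cdfc912a4e2fc7ef8d6538625a91d4f8398ce3944e6ead2ab188d8b876cfe1dab770528bbb7777f5256d419e47993443304108756a26aa74b5c0e71f03368a4a092fde0f5cfbb7e1213a351644140f30b8c7c60d8cbdcef4b1a072dd24d190ae563330518cb22b480)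
  .nil) (nat_lit 66) (nat_lit 50690) (nat_lit
  0x1941436e534b483c90e7c88f5eddd8f0612ddab11444d07aa97405ff126e16e14cf45352fa14d944e46f8a120f8efe133b0be7080af013471af11f161c2ba7e30efaccf5c9322cbfa4b0637afeec4ca6b46b9adbead44e98365891f313d05751874f3103c814b69f1d0eed37af000)
  .nil) (nat_lit 67) (nat_lit 574498) (nat_lit
  0x43372e1a896cde370495be45ae95311a9e627375c9e768fdeaf54e406fba2beec99c8866fa0c6e429e8c9950da8e1ace04bde0410c65d199dfd803e64da4a074be2f54d37cfd6d93d0d53015b96583f215ae17e90a0b76b01695042ed07af199f1d0a61257f60764d0de23b93480)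
  (.node .nil (nat_lit 72) (nat_lit 0x18c050) (nat_lit
  0x3e4b9cb088fc59257daa9cb9972e1340a9c1a0c662b385d80d4f5a714e7a41b745d9853b1b636522f27227ad6ac820289d38c11a2f4eaa0aa379305a928c37fc471c428ab6cdcac9acb9823ee76692cc7ed6b35ed0dcb678389caf37bedcfdd601005157b0971bd777b9c2e50c300)
  .nil)) (nat_lit 73) (nat_lit 33841) (nat_lit
  0x354b495a363a2acc3d6cdda995ebae403c1ddc2d90f2be66fd486a71682da586cb12932ba2bba27392b27dfa2fe010411c7a01163477c38688e094e905adbad947d243164aa9c9c858e0fe64b6094d46c145f553d0a6b753809cf7b985e40cb798904df63bdc7fd68f378cdc2ba80)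
  (.node (.node (.node .nil (nat_lit 76) (nat_lit 0x18c042) (nat_lit
  0x22f92657e117cff61660c7a32b87a7ba5a2481fe174720816b101c9970b8e5b4957aa0d52939621665034202671e6cc10f3007f5eda789cb3398963ce9bb687ac688d57aeddbe90b87a0d22a14d38528979ebbee6a364cddd86e25d277addb57dbcf688a56334ca82651c8b327180)
  .nil) (nat_lit 77) (nat_lit 0x18c231) (nat_lit
  0x740c9888705b3c0e5b481d09ba7dff47ccbe1e23722b1f2c0aec2658d39a1aca0b4fa39d3be8a185a494104671d64e69e3007f7e843c9937398eb18d9d5cbe58f88d50dbdfb9457840f0d8e4a6ae6243556d38e1337a8da569e25c62b154757d3307b56ee9033b7b7acc94723180)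
  .nil) (nat_lit 78) (nat_lit 67664) (nat_lit
  0x34b591273b4f5ecc904b5cb0fb878efc37e2395964ded0c0a933ba994fc2e482b6f7f646b9c814536be0bb7765aa64d67b0b8e4560c11b685d63797a7ad534e34afbe4914347308418df10316e1f2349bb9dabb0d8e661a2270e9017eb5db78c583d692c5138087101aaab4f44480)
  (.node .nil (nat_lit 79) (nat_lit 1585) (nat_lit
  0x1e8e60c5d111431a81284833336761708778bd08cabc4dc732a964f07da0b6b2483daad4d64bcd36804f8f5c97c6ca3f3104e7bf87508c988cf49582928efd8c7c8b967addfb823fa99abf2a6935d190150cef56970d5e2fef57640fa2bb620471ef0e3634dc3b2d9a5c937055a00)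
  .nil))) (nat_lit 80) (nat_lit 68098) (nat_lit
  0x3c98e7cb54a416b3c54b5f899f7e890f28c9e0c0e280b674dce1134d519e50b715fddd9f499d4c18248875ed1182a2689f3a4b5747289d19a316825d1583f77675d3f61c29936b5b0a116297f237f7c98694fb3706b916e033d1ccc9ae2abfc70bd8d527a156047684189d606dd80)
  (.node (.node (.node (.node .nil (nat_lit 81) (nat_lit 50737) (nat_lit
  0x19eceddd96a9934717436c898b088946292be9af272f5378a56e39ee8fef7e82b42e5642df6c34164722a449ced3d7bd2d48193d70796ae972bbc0f6a265543e788f2ce9b2a4dc0c0989b8b07879a3490df5abbbb6aed6bfac18bc7430ccc6074e112aab4f44087101a92c5138480)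
  .nil) (nat_lit 82) (nat_lit 545) (nat_lit
  0xbdae97e199cb0bcb72e0463456063b141e06fd9baf29134df677fc27aa9851823c34922f1a0a8b635ee4c831d34666a3bc6a3f778c6265621683e505adbad910d31cd9deddce7a56dc584acbafa863666925b410f3b7ca2b30d95305a80f03a232b155c89fe8f69d615c8679e00)
  .nil) (nat_lit 83) (nat_lit 0x4284422) (nat_lit
  0x23e94563640ba7fe19efd8c74ddbe47893aa5a52f5cb5a8881f677fc157307311d443853fb050cf514990a9320c9cb80eec7353675e81182a0f9137b6eba6a7188e31964ecda2b62b8ac242abeaddfb2982cda1ca94f50b48b3c1958926051d06951571c5e687b4fbd45b71ad9e00)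
  (.node .nil (nat_lit 84) (nat_lit 17953) (nat_lit
  0x22b25148398efd99c4574448ed7b6b3a4903012ce53c8ae8329c752d42beb3ef7a66072402c2827e836d8fddbda458d691a0bb2657c755541eca1e20f5ce5ce5bc32192d7c988eb75b9afda921189add511fa06fe721596cb10e3aa13986e31fd2206aa24f6386ccbf262f9ab8b80)
  .nil)) (nat_lit 85) (nat_lit 2576) (nat_lit
  0x1d8f16340b33a6c335284883c5ebaffdc3035221363ae28f90fe7ba23badd00ed24849c16d51bd54d435fd7be0639f233e23659cb3041534fe5e945a4c84d53a638a5df3f5746da5a13296e09ae1d5415b305ed3cab626de24b681d19eb3736697a4453118c1d0ee3e4e3834e5900)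
  (.node (.node (.node .nil (nat_lit 86) (nat_lit 558625) (nat_lit
  0x1e44c37dec5f7e83184168789b28eac14ed2322776380bfa34aec278cd379014eb17c09476c47a8ebe55f466672f7ee6528c875b3c40ea89b565e3f0914182a3ba80d6da1593b9a557b725ca5ddf8436c248338da6b998e3c69eb797425f0f3f9c1d29a45358091205eeaa3f40b00)
  .nil) (nat_lit 87) (nat_lit 0x188422) (nat_lit
  0x3034dbac8444d51d75eddcb320a0db6c6fd38616b7c3a4f158a09251a9cd933d70a05991dd50fc99adcad831d4ee82a8062f71f5ec7671a2fe86960672c850c7e57a5d158b87b7d12a7293eb27c2685e3242d533325bc4859c5d305c25735f1997847927e757cc7f822d1d406e500)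
  .nil) (nat_lit 88) (nat_lit 0x3184621) (nat_lit
  0x23874d500fc5540c35b28c86ce7cafb2c301edb32874cc77341f40a3a18af47ca82ed55239b9bcee4b0af46694197ae13e5d45593af4138699e0e05a44916373c4ca45b37ae951513788f6eace3ba72613ddd8432d3e40ff1f1683c95228a1e75d45d6b09ec630897e14eba7b7e80)
  (.node .nil (nat_lit 89) (nat_lit 574513) (nat_lit
  0x765e7cb67818299604764c4b70e68e7563cb2769560490322bf44a1e1646ef8156b42ea134484daa99df76f765c185f8cf53d3f748c7bf8437111156cf2849e79fb7b6eb5cbe6f63b42c5b4c5500d0891b3f878984e62b083533a7428cd4b1ca751a99c526a270ea24f7bb9ea080)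
  .nil)))) (nat_lit 90) (nat_lit 17969) (nat_lit
  0x1a601637a6c4562018efd87e56ed96069df6f31e2c1d6debac9462825fa0c80a6db364f9a3935dc8a57561436459550f01c0cb4d5338e495a210e0d4185c37f53b2ef7dfa3d728a77032425e564e9598871047d68d28394bc8879154e8a7988b38ff379fdd74ce9c7056af9eba500)
  (.node (.node (.node (.node (.node .nil (nat_lit 91) (nat_lit 17937) (nat_lit
  0x3193f74709ac91dc1c591d40eddd2cbaef225266a3394c0485f51be171c050dc1b0b3744eb1bfda7438682a0e614d31e22334dbae3b5e7cb4dee9e4995182a53d8acae1e5746ddff55516eccb01cc72742425e6a43692df57dcbc18bf60fb67cc7c6a234d6480122596da9e80b80)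
  .nil) (nat_lit 92) (nat_lit 561) (nat_lit
  0x1ac0d19848faa9c3999cb20b4f5eedc742e8c5f0d85dd88c8b78edc22802ecbe1f2347f5cdac742a973893547b14995e3f2532476766314325b3fbc16cf1a2f2ea7910a124169c64074d21bdb30e5d85cfbae5411457a496f792005fb67cdc897cfd584963234f4c1e15dca278b00)
  .nil) (nat_lit 93) (nat_lit 68113) (nat_lit
  0x3609182a05e7cfda06436f2f5e5cd444a45de9a20720dff987de3f51c11bb5315d77164a6bec358ac44de4498dd0a93e26307dc9887baaa9c469f266b2455400b22d2d72f9eb6c36613bb8b25b5ca3a29504d08754eea7bdaeae0ef45dcc7fc0e0f9e1548699e45232829e0771980)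
  (.node .nil (nat_lit 95) (nat_lit 0x18c230) (nat_lit
  0x34c5182af32b878b716edb1919126c3c4465d4ccf359e1837c20e05d4194afb8e6249eeda8170a7773ee39730f1a9a930d3e81b48086a9eb44f888ecd9dcda2060961972faa9eeb959d86c3434ab7a35912ef0a49595a24da8f95e76aad740447e8f5331a8c0beccbc1f237f67e00)
  .nil)) (nat_lit 97) (nat_lit 82481) (nat_lit
  0x3e117ef8b6c60c7a323d73cc5265563c9c21a4df1319fa8fec1070980585d09799abf4292786535a2734e7ade042d200395d09ba7e00ec592235319f7ee3a6e58f8dd50db5eb9c29db6211251570aae4733571a0e88a5631d8695a7b56ee920997b79b546e9b897fbaa4d9908f180)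
  (.node (.node (.node .nil (nat_lit 98) (nat_lit 82449) (nat_lit
  0x1e71a898760c9887eacda19f4b878909292a20c322a0042209fc77c051ab4ab76dfddceb4e62d90a9387505acacbb77f2183fcf5edee7a4a0bb42cee82ab08b1f5d3c172f72e0d1bb74d83748b37f2d786bcfb346115864e5888a6268b983765efbe0fa7bb55aba82424839016300)
  .nil) (nat_lit 100) (nat_lit 573506) (nat_lit
  0x1e71b87b50fc59300ed1999f4a898a0925280bf8efa00222106191512cd13669624dfcb0eb60dedd39f5dc39685ec22c7d78695540b3b5cbd9657b9fdfaeddfc86f81e928b4816a542a58b6bfb77739d58e9c46ac1c90b208418a6260d9a2f65e74d6ed53e9fc7d112cac2270e300)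
  .nil) (nat_lit 102) (nat_lit 0x5010842) (nat_lit
  0x258e9b338bda4a3ebba6a600f7cff401cd9c304d408c1aca709de2a5d12362beedc183674fa1464c2dfeeaa788ebbf6f244875e5cde474d53846f915c396cdd9886a26b24ae9777a910d52b58b450b3e7982eb16495f2987016338f11bc8760caf1d2dda4281a320fb3685d60f480)
  (.node .nil (nat_lit 104) (nat_lit 82465) (nat_lit
  0x34f014332b23d70cc472e300ef7eb233c5d08828011da22d63bbded9f70daa85b5d98ae1253a16456be56a26685dfbef81f50fa0a80c7b483ae3f2197ae51484cae2f0914d19b0939290d83875e6d16e7d3dbde2e71c5868835f12e7eb5bb7e8882ea9b052c4c6c8b7b959e68e300)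
  .nil))) (nat_lit 107) (nat_lit 50225) (nat_lit
  0x433534c8f9cda258eac900e7a89826a041b8bf7af9aa5135f9bae510f5b37e9662b4c30ab14176d99050d1cf916928791cc656cde00feddf846ea41cb84f55dfdbc5e6cc2a4e492d68c603bf450319d90efbb885543a10ba600ec910db02f634f05aeaf3eb8ccac7077cfdcb7480)
  (.node (.node (.node (.node .nil (nat_lit 109) (nat_lit 0x1184631) (nat_lit
  0x2535a4a0863d1988eac37e3bdba7c10f09e7e8d2c2fa1b1077b71ee053a048af6e46ebebd09b216a2264964ed3198317464c3272e25e0b28c3c50d02da1a89b3bcbcd1fbe850ca949f626494aa9b2ed78ab51ab6b705de0fc0ef85f98ae43366566ecf29b94e241ea27d1cf66b800)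
  .nil) (nat_lit 110) (nat_lit 575024) (nat_lit
  0x4fd14307f0dfbba1734700f8080a946501b6487b265dd0e7e6e598d6b23b0be9e12b09bcf5945f94d172da188d13547904860c593491dbaf5406665c39a0ab1c57661831ae9731e7c4a72b6cb49c3537d12e49645fa1bed93a11f2d55409e3cae238df23bccb75bd9fb85ec0fc80)
  .nil) (nat_lit 111) (nat_lit 80) (nat_lit
  0xc652a4c36acda2f1738680e70411440a43f8bf7afa5a91d4e67d9aed55958b8ffa150d82db0ae40bdc793d588eaa26791c875e7cbc91eddf8466621cb8495be456a25bb64b5f7dc9235151633c642bbee72fa08ca61257d934338d021b56e0cad81cee43788b60e9e3583da17480)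
  (.node .nil (nat_lit 114) (nat_lit 574001) (nat_lit
  0x201114300c72450cc408084ca7cff233c5d35261f51e66e3a0f60b8398abbe72725dca4eed46d90f35b59cb8685d7ae2cef869a0ab1f54561965f21bd7b5149ee7f81fbf6416a7a4b7cacb737af7d3595f09a61442c80727ef88a6139fab7765e96205cd1b320906ae89c32b0a300)
  .nil)) (nat_lit 115) (nat_lit 1569) (nat_lit
  0x84b1a2e201284a39904120889937178c8d4755d49fee8759ae8f3f8147a493ce5f54bebacee81c22da75b372ec98317a5b4fc5747ce3b28f2b40dd77eea6a73bb0fc3973b68759b7363b5a4b3a82e3586b2da5ee185840f8f48c60f26b95365e8025f0a7e3251166f24139256280)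
  (.node (.node (.node .nil (nat_lit 118) (nat_lit 17922) (nat_lit
  0x3a08efdbe96080b8813a6c7f91637347d0f481fc77655f6b85411a5aa65a4b475946d62b2aab267ae2b8a72cd3191d99780c3270e5d1962c03c5cef10db7cfc340bcd135487089e45abd3c84941ba2da4abab9a83783dc160c4f85e9dc527b66513d467215cc77876cfd9af473800)
  .nil) (nat_lit 119) (nat_lit 0x188441) (nat_lit
  0xc170a0cb190412f65dbaf063cda11fdb31e5ddf27f8a28962e403dd77529dc9f2b4f0bb4fa7ea4a6553450c1c4468b203de3b5eb9eba60c784583d2da14b5fe4695e2d20495a84c91514fbeeb6ac37f45673dea3261c57d934d59db386ee59b5d9a4e9436483011024d133854380)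
  .nil) (nat_lit 122) (nat_lit 81986) (nat_lit
  0x19c70809a789cb03e0f7e9e0899358f96114b15d84fe5c2279f747eca103515f929c3633551a4b6aa70716cfe0432628039d093f740e5416a235963f76fb684c678dd4d9d5cbdc9ad740594d09efa2e74e925861558ca228bf195a5337a8da099d5f5277add833bbcf64239367180)
  (.node .nil (nat_lit 123) (nat_lit 0x188421) (nat_lit
  0x257d0411a3357474ea9cb23f818293cbabf3385d80e352f2a05b51acb71c6296c2f28ff45ce46c9c343b682a8bd70df1e46274534cb1872e38c11c416cf6cdcb99e103164a89adeb2b0b99dcc7893e44b9857de6a47693def3d101cfdaba80481c6eeb23496703ccaebdcdf530300)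
  .nil))))))
def cA_l1 : Lvl := ⟨nat_lit 2, [nat_lit
  0x2f6aa0ab8bb1a2fcb33a6e2c74168d6039b3c29654e20a8c32cf046e9f54ec109b74937783dab6edf28bac227bf61c22e19e7c436c411c989af520255d1912439669d3368a4a092f3f875cfdc16b4c2adbb827e9bdb0f4c65e53038f4eb8b0781cf02ba74b56563d3079b8e4e4c80,
  nat_lit
  0x38076cdc441c593e69436fc352453967e6ecc8b8e375271d5586363e4aaf5972a6d512514318727bf0bdd1d98804fdd0dd4b3d9b307e0534d91775f55d1cda1a65212f76f04101f65af851ab10a9484dae71e26bab9d4a6cc5e672a87b55e88bcd91b0d6be93a0981c5cda7082280],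
  [nat_lit 0x1010631886318c421088220844108a10, nat_lit 0x46118422114210884210884114221108318404114221], cA_t1⟩
def cA_t2 : T := (.node (.node (.node (.node (.node .nil (nat_lit 1) (nat_lit 0) (nat_lit
  0x3efcf7ebcf8efdbaf4e7cb8f0dfbb6ecd7ab4e8cf9b2e4c78b0e0bf7aedcb76acd8af5aad4a74a8d09f3a6cc972a4c88f1a2c4870a0c07ef9ebc76e9cb86ed9ab466c98b05eb96ac56a94a84e992a446890a03e78e9c3668c982e58a9426488901e3868c16284880e182840608080)
  .nil) (nat_lit 8) (nat_lit 0x882208422) (nat_lit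
  0xc0624503992a4f565bf87663d19acbd47165ad673ddd88c896409cd57a83ce66d1af0db9f52c6456a0f860a1c2058d123fe71ddbfef0f7e9d4782d10dbaa9de4494c905aa89953f92929b06d752c298aee385d4b16bc9b7c74bd9fbf3edcbcf5c1a4d833a14b812240e043408b00)
  (.node .nil (nat_lit 9) (nat_lit 1104) (nat_lit
  0x3ef9f7ebe78efd87963470b8e3a6e7ba5b8f02a7b41958d4892e9aed53b96ca2764bf44fae6282b66db66449971e64d95188192a4cc1124533b467b2e1e436ef3c77969a94d535a349a185ababf0ab5989bd2aae37f2ddce241e3d21be84fe045ebc018c0a280880c1c5841a08480)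
  .nil)) (nat_lit 22) (nat_lit 0x114050) (nat_lit
  0x33e3d7b4316347039736772e9c37c6ca17008cc133608c9629f907c214a16ec39eea36573940a2c50f5de7adeaf564e77e7e34ac919704b5feb5f0eaa26b87b8b3e8f2aa7ba7fdf644aad525ee15a3e5bdb31a76c9852a0e24732061c8852478ed583364d18b65e8b189042808c00)
  (.node (.node .nil (nat_lit 23) (nat_lit 0x44110421) (nat_lit
  0xb06386b1e7dbaf4e5bf84b873a6e689984600b943443e20fc54b190583742a6cd1ddcd42072bbbfaa16272cf2ed6cf7bd7832ae95a7c4959d786bf4f5c4d51e7467c4fdd4f55522ededc2fa56b7f246aedd362d829306563c40266443930870fc1ab364d18b65e8b189042808c00)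
  .nil) (nat_lit 24) (nat_lit 0x110450) (nat_lit
  0x1ec55b3e33b9cb25b3b28dac04563d09f63f80bfa3788cf82b78edc217b73ca6b517d0d8b93ea2bd09b23368c7b091430183992a4f2eac37e5328eeaa26b685e44690505a4f566494aaaed260e1fc248aee535cdb976e7dcb81e9e0d833a174e022436e4d78b3deebe4e043408b00)
  .nil)) (nat_lit 25) (nat_lit 0x2280821) (nat_lit
  0x1d635543532ae9703d9eb5ae94560a4a25188cc3134cc821249cb2b1d39f6cc7364b3450285ce6fed9d58d9d1c5fdfafbe7e78efd8b0f3869de5699d3543d72f3cd8ce9a9b685624c3ad7b8b5491abd189bb0ab75fc27d0c088831018c0a2b8750c1f9eee5bfa718b005841a08480)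
  (.node (.node (.node .nil (nat_lit 50) (nat_lit 0x2208a10) (nat_lit
  0x257599347b3b28fe67dbaccf026567895b8c38b7a36273d3ca16a87d1c554d4e76406310315c7e41435deb2422d3dfafb16017367764bd198b47f062da13d72f0876054526cdce7692497ddb4c028a598aa29729dfa27d6197182d6bee4bbc846f23afd1c2af2bc0d81504a009d00)
  .nil) (nat_lit 51) (nat_lit 2562) (nat_lit
  0x20ea7efb0091a2f4f1ddbdd075540d3338422a32d673f78ddb5c0dbe10545d4819ba335b9f52c4adff430a12ea624c88fc0734ac93679d19be9911950dbaa9cbca02f2e1e70e7d8a27869b06d755cc0a757a8b499172b1cef3b6bd324ec4b07fcc61abc34b09944232d6849e09e80)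
  (.node .nil (nat_lit 52) (nat_lit 0x110441) (nat_lit
  0xc752453ceccda0734ac923f09322809558038b74360eed5bdfe97dc6937a8a6fd1180d71f40c4acdf46f6eb8d9ce1a2d16078efd99904767e992f290dbb879e01ca21cb84f57d9d2732d305f74505c2ad35350da125875daf488cac7345ca5911ff27645989dde0d8d6849e09e80)
  .nil)) (nat_lit 53) (nat_lit 0x11044108441) (nat_lit
  0x198f4767aca9b338192a4f3fcd7b46bd161f1ad133fa43d50b969e7129a6aae0603c938fae6283b9a2923d7b8bf525668465eccda0bc03a6cc788e5ae1e436c0bb1179bb6a4a0949ec7185ababf12c14153b9535113fb0fb8b26b07757de963101de6fd1c2af2bc0d81504a009d00)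
  (.node (.node .nil (nat_lit 58) (nat_lit 1) (nat_lit
  0x33c6d7b4833b28e078efd8b45386a46c93e78688f98c56ea9090e28d14ae6e8268c377ea1fa4c4a83f545f3fd505550741f4f1ddbc4e01637e9978050db72e0465945eaa73d73dab26154304d74ee19829b5aa6bf12cc93a232bcee1d7849718696479d8e48ba35f83d6849e09e80)
  .nil) (nat_lit 59) (nat_lit 0x2280a10) (nat_lit
  0x3ec5f7ea01736765eccda1a11495b6cad7d7e4ccf359951e4d1f0b265c1f4cc4d649032aaea683bce280f9f2d5d058d138f4c48709e875b3cc7802eee1e6edaf082d1d452b684905ecb14da4ebe48a398aa3073755e1a37dac17996c3e44ff0068c42bee4bbd971f239504a009d00)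
  .nil))) (nat_lit 60) (nat_lit 0x45010421) (nat_lit
  0xc792453aeccda07b2ae9627c850fd4af7ab4ccfb34451c0ac50718f17a13cc0dee7c55455734c18da17cd1c8c5b5edcf148b5b08ba4be5cdd01ca25bb64d538992f0505aba7d5610a2dc29a49df933bbee315d6e4a4915bc338ed3bd9ec8c8401dc27e45b89edec6196049c09d80)
  (.node (.node (.node (.node .nil (nat_lit 61) (nat_lit 16) (nat_lit
  0x1e875b3f574e7cb1891a2e269850fd6cf72e2e8fb99a1b2275240ac5d32e7083b8c29918d53f4e748066aca31ecf5edcff38192a4e57599340bb2d1dbb6b68445ef0629283d7029c5926ea9609c962ec29cdaa8bd2efafb9e6565c68df57847790d81f587e8a0b58c41504a009d00)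
  .nil) (nat_lit 65) (nat_lit 34) (nat_lit
  0x1ec65b3e2bb9cb08f8efdba10e5ce6ba99f072a95420d11eadff07cf1854434a40cdd5d755414e18df558a12c663466d81b01736740e90a0fec46825bb6b8784328fc4fdd70e7da4842ed295e9f7a5922ada86299123b164ce56accadf27875079700d643988b5ef3d7584da0b380)
  (.node .nil (nat_lit 68) (nat_lit 0x114041) (nat_lit
  0x1dc5593a33d9eb4874e7cbc11edde84a543be4c7535e3ee0fd58fa306921a8c2bee19229a0aabab7a1b0f3680db0914318f4810614be03a6c4b489f4f5c6cdf8c76421cb8ba7c5c249ed3af53685494bbd331516d1a2b36329966d6f95c24c3ea812cd643988b5ef3d7584da0b380)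
  .nil)) (nat_lit 71) (nat_lit 33) (nat_lit
  0x2387932034a9b33033b28dde9593a86c54422e8759995f8185291af9545c7369f58c850fd363561cfda5468bf22428303f38163473a0ee5cf3c432f5b37436da98837aa265ebb59384b5827baa71127e89c20a47922bad4789768f371bde77a8fd58fb8cec2bc088d2fd84f40be80)
  (.node (.node .nil (nat_lit 74) (nat_lit 1089) (nat_lit
  0x250699343c791274bb9cb19e0476733ad11482ad9432d722970c0becad39b8a0a64b0faab1a67caed9f0c185f80458d13e4774e7c8b703869e99899eda16edaf4130d572f4d516c227ad4dd4ec113f2588f5240e15a4a358bf178d0dee3bbc7f5c7abb8cec2bc088d2fd84f40be80)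
  .nil) (nat_lit 94) (nat_lit 0x2208821) (nat_lit
  0x1d4555408e5bf8486ccda19404b5cd0939e780b2c37a031c1797ce606d55b94f6e486f8fa862e6c4f2856ca3c0ce64d94183c79125de95938c3532f5354436ef41cf1172f6cdc91344b5838bb4a13fd788f29409f79ddc6fc08e25fb8cec2b5638d2eb5148ada3cea3fd84f40be80)
  .nil)) (nat_lit 101) (nat_lit 34850) (nat_lit
  0x3e86f7eb034ac9353b9cb3c07eddca09251a00b30340c397082900712ed5b74f364e7b9cae5080d9a9f5efe11f9555075d7835b08b38ed7b5e97645ae1ea89af71d9d18b06cdd6a53a7295a70bf96fd1890a93e9c5491920cc1111cabe26ffe79c7a6cd146ad9bc8a466049a0a500)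
  (.node (.node (.node .nil (nat_lit 103) (nat_lit 80) (nat_lit
  0x1eea5b3c3f4e7c8371ddbd9604b5c1c70a460490320c0c9628945282183742a4d1bad3aa5ca56b266f5df6eb1f9d1d967f3cbca2af28ec37fedef1b172f72e0bbb2cd0fdd4f57df6c5a14204c7922c3876dd362da10b8634cca8824acd2733af0c7a68585489d352119f847c0a080)
  .nil) (nat_lit 108) (nat_lit 1058) (nat_lit
  0x3e87f7eb4bca2af1b3b28fc06edddf017f18885820c495964c5c51a6539f6cc6858346ee54b54b773db7eba5eacb466d83c75ec989ef05b3f3f1cbd1cb85cbda97745a9a9b6875e1dfc90283c98e1d5489bb0ab7454c1936218112a194844bcfcd5827565891db42102484900a380)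
  (.node .nil (nat_lit 113) (nat_lit 35330) (nat_lit
  0x4f91634774e7cb81634700fc0a0e74a581b4cc77363d90e8e4e090ced1fb8c67e42af9cd35156194db62ba580c955075148e5bf87610d19b3c46a61b37a89af417a6572fb6875a2844a92770a49bf5b88f30417457619dda3c11e2b5148ae5c6ea3cdee3bbcbf1c7abd84f40be80)
  .nil)) (nat_lit 116) (nat_lit 35344) (nat_lit
  0x3386d7b719634735010614ce02657d3af72c82afb41e6e81bd591a3c57d43d4bb8c7d6299faac6ccd1bce72ceaed6cf7be4744870a38f93204b3e9290db6cdc435f10505a70e45f247313b05375fa2ec2ae285c9b09dbe6da32ca5eb57489787c0fa4a642588c5e8d17404cc0b600)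
  (.node (.node .nil (nat_lit 120) (nat_lit 81985) (nat_lit
  0xb70386be010617c891a2fa0ee5ce43393803a38f65dcdd3316069d2a9b9aaa0a43b1b4fda637324f7c5736821b30dfca462baa0a99404b5e0de32f57ae436e26730d5bb64d51f93c4b581eba8116b25093d252e3b0aee31a3cf022b5148ae34bea3f71bde77897d58fd84f40be80)
  .nil) (nat_lit 125) (nat_lit 2) (nat_lit
  0xfc0a0f8163470774e7c84f91636cc7461f049672254e0cb26699aed455734f6d88652e31b47cabe9f92fe12397466d842032ae95d455541e99bd06da15cbda98cf12a266cdd6e226fd05d3cc2112d689c29a49c57619dde3411e28d656925c61fd771bde77897d58fd84f40be80)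
  .nil))))
def cA_l2 : Lvl := ⟨nat_lit 1, [nat_lit
  0x1e875b3f574e7cb1891a2e269850fd6cf72e2e8fb99a1b2275240ac5d32e7083b8c29918d53f4e748066aca31ecf5edcff38192a4e57599340bb2d1dbb6b68445ef0629283d7029c5926ea9609c962ec29cdaa8bd2efafb9e6565c68df57847790d81f587e8a0b58c41504a009d00,
  nat_lit
  0xfc0a0f8163470774e7c84f91636cc7461f049672254e0cb26699aed455734f6d88652e31b47cabe9f92fe12397466d842032ae95d455541e99bd06da15cbda98cf12a266cdd6e226fd05d3cc2112d689c29a49c57619dde3411e28d656925c61fd771bde77897d58fd84f40be80],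
  [nat_lit 0x188422104420884110822, nat_lit 0x3180822088310842188631], cA_t2⟩
def cA_t3 : T := (.node (.node (.node (.node .nil (nat_lit 62) (nat_lit 0) (nat_lit
  0x3efcf7ebcf8efdbaf4e7cb8f0dfbb6ecd7ab4e8cf9b2e4c78b0e0bf7aedcb76acd8af5aad4a74a8d09f3a6cc972a4c88f1a2c4870a0c07ef9ebc76e9cb86ed9ab466c98b05eb96ac56a94a84e992a446890a03e78e9c3668c982e58a9426488901e3868c16284880e182840608080)
  .nil) (nat_lit 67) (nat_lit 17442) (nat_lit
  0x3efcf7ebcf8efdbaf4e7cb8f0dfbb265c58f061bd7f66dd5af469cd9e953a95674fa146d5bb976b57b1664498d1e64d952e0417cfe245850dab466c98b05eb9ebc76e9cb86ed91234894f1f408552b58b532750a4e9c3668c192e58a15244c8111e3868c16284880c1c2840608080)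
  (.node .nil (nat_lit 72) (nat_lit 2114) (nat_lit
  0x3a75e5cf871ddbfe7df5efc79eddf367d1a756bd9b6f5fc187163c996ddabb72bd6b3629d2ab527cea3421c28b11fbe83025ca9b323c69321e3d74edc396cdda3564cd8315cbd5aa5ab13a652a11a24a90f9e4280e1d346cc192c5ca15244c8901e3860d142c4090e182840608080)
  .nil)) (nat_lit 77) (nat_lit 2097) (nat_lit
  0x38f0dfbbaf4e7cbcf8efdbefcf7eb6ecd7ab4e8cf9b2e4c78b0e0bf7ae5db56ec59ad5ea55a54e8519d3df3f81061438916347912654b9935dba7af1bb672e19b26ad17ae62c162d54ad4294c9d225448d0213c7ce9c3668c982e58a9426488111c3c60d142c4090e182840608080)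
  (.node (.node .nil (nat_lit 95) (nat_lit 545) (nat_lit
  0x33e9d7b705ec98b56ccda32e3c37e1ca852e2cc89360c88125fc67d1ed52b9527d7a366adda76ec50ad3b9f2ebd3b77f1e7e7df5ef8f0dfb9a3576e98316ed99337af172f72e122c44a94a14e7d5a35a94f2640a09922a50488326068c162878e0e18d9a3a70b9622402840608080)
  .nil) (nat_lit 100) (nat_lit 2113) (nat_lit
  0x366ad19b1e5bf874e7dbaef60c5926c499165c2950e3be8cfe4c09106e54b54a8d99f5e9dbab76b4eb143d7bf9f77eee3c3af4e7cbc79edddab474ed8b06cdd9b278f57ae70e512a48b139f52856a5568d0283c989132854409306460d142c78e0e18d1b3874b1722402840608080)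
  .nil)) (nat_lit 102) (nat_lit 66) (nat_lit
  0x32e3c37f56ccda305ec98b3e9d7b6441930233f8efa543970a6459b129dbab76b4eb142e54b54a8d99f5fd7bf9f77eee3c3af4e7cbc79edddebc64cdcb85cbddba68d5bb660c56a5568d0283c9912a48b139f52849922a50409326060d142c78e0c1cd1b3874b1720442840608080)
  (.node (.node (.node .nil (nat_lit 109) (nat_lit 17) (nat_lit
  0x2f60c5934e7dbaf1e5bf8766ad199f477f1a049832224d8b3214b872aadda76ec50ad3ad52b9527d7a3679f2ebd3b77f1e7e7df5ef8f0dfb9e3d66c9c395eb9d3b6ad1b3762c15a35a94f2640a122c44a94a14e7c9132854488306468c162878e0c1cd9a3a70b9620442840608080)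
  .nil) (nat_lit 110) (nat_lit 2) (nat_lit
  0x2245850e34791265ca9b320c07efbbf1edc3ceff1bba7aebef97ce7f6e53b556759a15eed2b7527d8a35b262c17b466d9ab1e5bf873e9d7b5e3d68d5c3960c59b276e97ae6ed95a45a890a63ea1525588d0273ca458a1a30b171220d1b38743072240a942648c981c3c2840608080)
  .nil) (nat_lit 115) (nat_lit 65) (nat_lit
  0x23c693222c4870a0417cfe54b99379fde5f3afbe9ebc6ef3bfb70efc6ed2b7527d8a35ae53b556759a15f262c17b466d9ab1e5bf873e9d7b5d3b64cdb375cbdab47af18b072e1525588d0273ca55a45a890a63ea050b1834b171024d1b38743072044a942648c981e382840608080)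
  (.node (.node .nil (nat_lit 119) (nat_lit 561) (nat_lit
  0x254b99360417cfe2c4870a3c69323778dfe7876e3dfef3f9cbdf5f5d2d55b94e8579d66dd4bb4a8d69f62fe1c7975edcfa705ec98b66ad199ebc6ad1cb862c193374ed72f6cdd6a25690fa842996235494f29409c50b1834b961024d9a3a703072240a15244cc191c3c2840608080)
  .nil) (nat_lit 122) (nat_lit 17953) (nat_lit
  0x20c07efa5ca9b323479126245850fd74f7d7e72fbcf8f7e1db7f9dde2dd4bb4a8d69f62d55b94e8579d66fe1c7975edcfa705ec98b66ad199dba66c9bb65eb9a3578f583170e56235494f29409d6a25690fa8429858a1a30b961220d9a3a703072044a15244cc191e382840608080)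
  .nil)))
def cA_l3 : Lvl := ⟨nat_lit 62, [nat_lit
  0x3c79eddfe7df5ef871ddbfa75e5cefdec3831e2cb933e6d3a35eadbb2ad4a74a8d09f3aedcb76acd8af5a6cc972a4c88f1a2c4870a0c07ef993368d572f60c5d3b78f5b3770e52a446890a03e796ac56a94a84e98e1d346cc982c5ca9426488901c3c68c16284880c1c2840608080,
  nat_lit
  0x2f60c5934e7dbaf1e5bf8766ad199f477f1a049832224d8b3214b872aadda76ec50ad3ad52b9527d7a3679f2ebd3b77f1e7e7df5ef8f0dfb9e3d66c9c395eb9d3b6ad1b3762c15a35a94f2640a122c44a94a14e7c9132854488306468c162878e0c1cd9a3a70b9620442840608080],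
  [nat_lit 0x10883180a0208422842218c0501044188630, nat_lit 0x1104410844114230842101422108821088218c2108c230],
  cA_t3⟩
def cA_t4 : T := (.node (.node .nil (nat_lit 6) (nat_lit 0) (nat_lit
  0x3efcf7ebcf8efdbaf4e7cb8f0dfbb6ecd7ab4e8cf9b2e4c78b0e0bf7aedcb76acd8af5aad4a74a8d09f3a6cc972a4c88f1a2c4870a0c07ef9ebc76e9cb86ed9ab466c98b05eb96ac56a94a84e992a446890a03e78e9c3668c982e58a9426488901e3868c16284880e182840608080)
  .nil) (nat_lit 7) (nat_lit 1) (nat_lit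
  0x3c79eddfe7df5ef871ddbfa75e5cefdec3831e2cb933e6d3a35eadbb2ad4a74a8d09f3aedcb76acd8af5a6cc972a4c88f1a2c4870a0c07ef993368d572f60c5d3b78f5b3770e52a446890a03e796ac56a94a84e98e1d346cc982c5ca9426488901c3c68c16284880c1c2840608080)
  .nil)
def cA_l4 : Lvl := ⟨nat_lit 6, [nat_lit
  0x3c79eddfe7df5ef871ddbfa75e5cefdec3831e2cb933e6d3a35eadbb2ad4a74a8d09f3aedcb76acd8af5a6cc972a4c88f1a2c4870a0c07ef993368d572f60c5d3b78f5b3770e52a446890a03e796ac56a94a84e98e1d346cc982c5ca9426488901c3c68c16284880c1c2840608080],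
  [nat_lit 0x83108a110c4220c602], cA_t4⟩
def cA : List Lvl := [cA_l0, cA_l1, cA_l2, cA_l3, cA_l4]

theorem chk_A : chkG 7 127 126 cA = true := by decide +kernel

theorem C126 : GC ((finEnc 126).code 7) (mulG 7 127 126) (invG 7 127 126) (oneG 7 126) :=
  (finEnc 126).gc rfl (by norm_num)

theorem valid_ps : Valid ((finEnc 126).code 7) (ps.map Prod.snd) :=
  (finEnc 126).valid_of_isPerm (mk := 127) (by decide +kernel)

theorem X_eq : gen ((finEnc 126).code 7) (ps.map Prod.snd) = gen ((finEnc 126).code 7) (gensOf cA) :=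
  le_antisymm (gen_le_of_all (fun g => ((chkG_sound _ rfl (by norm_num) chk_A).2.2 g).2)
    (by decide +kernel)) (C126.words_sound valid_ps (ws := [nat_lit 6281, nat_lit 3305]) (by decide +kernel)).2

theorem X_le : gen ((finEnc 126).code 7) (gensOf U43.cB) ≤ gen ((finEnc 126).code 7) (gensOf cA) :=
  gen_le_of_all (fun g => ((chkG_sound _ rfl (by norm_num) chk_A).2.2 g).2) (by decide +kernel)

theorem card_A : Nat.card (gen ((finEnc 126).code 7) (gensOf cA)) = 6531840 := by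
  rw [(chkG_sound _ rfl (by norm_num) chk_A).2.1]; decide +kernel

theorem card_B : Nat.card (gen ((finEnc 126).code 7) (gensOf U43.cB)) = 3265920 := by
  rw [(chkG_sound _ rfl (by norm_num) U43.chk_B).2.1]; decide +kernel

theorem exists_alpha : ∃ α : C1[prm wA] →* Equiv.Perm (Fin 126),
    α.range = gen ((finEnc 126).code 7) (gensOf cA) ∧
    (toPermHom C1[prm wA] (orbit C1[prm wA] x8)).ker < α.ker := by
  obtain ⟨θ, h1, h2, h3⟩ := exists_lab_hom acL ((finEnc 126).ac (w := 7) (mk := 127) rfl (by norm_num))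
    C126.inj (ps := ps) (l := l) rfl rfl valid_l valid_ps (t := tl) (hi' := 2 ^ 24) (by decide +kernel)
    keys_ok (by decide +kernel) (sep_pt (finEnc 126) (by decide +kernel))
  have key : ∀ p ∈ ps, ∃ g : gen mat l, mat g = p.1 ∧ (finEnc 126).code 7 (θ g) = p.2 := fun p hp => by
    have h4 : p.1 ∈ l := List.mem_map_of_mem (f := Prod.fst) hp
    obtain ⟨g, hg⟩ := valid_l _ h4
    obtain ⟨σ, hσ⟩ := valid_ps _ (List.mem_map_of_mem hp)
    exact ⟨⟨g, mem_gen_of_mem (hg ▸ h4)⟩, hg, by rw [h3 _ σ (by rwa [hg, hσ]), hσ]⟩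
  have h4 : ∃ g : gen mat l, θ g = 1 ∧ g.1 • x8 ≠ x8 := by
    obtain ⟨g0, a0, b0⟩ := key (ps[2]'(by decide)) (List.getElem_mem _)
    obtain ⟨g1, a1, b1⟩ := key (ps[8]'(by decide)) (List.getElem_mem _)
    obtain ⟨g2, a2, b2⟩ := key (ps[0]'(by decide)) (List.getElem_mem _)
    obtain ⟨g3, a3, b3⟩ := key (ps[7]'(by decide)) (List.getElem_mem _)
    refine ⟨(g0 * g1 * g2 * g3) ^ 7, C126.eq_one_iff.1 ?_, fun h => ?_⟩
    · simp only [map_pow, map_mul, ← C126.cpow_code, C126.code_mul, b0, b1, b2, b3]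
      decide +kernel
    · have := congrArg cdx h
      simp only [pow_succ, pow_zero, one_mul, Subgroup.coe_mul, mul_smul, ← apm_mat, cdx_x8,
        a0, a1, a2, a3] at this
      revert this; decide +kernel
  have h5 : ∀ g : gen mat l, (∀ x ∈ orbit C1[prm wA] x8, g.1 • x = x) → θ g = 1 := fun g hg =>
    h2 g fun x hx => fix_of_cols (fun i hi x e => hg x ((ce.2.1 x).2 (e ▸
      (show ∀ i < 12, t4.has (col Fm i) = true by decide +kernel) i hi))) ((fx.1 x).1 (cdx_inj (by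
        obtain ⟨_, _, e⟩ := T.mem_keys.1 (T.has_sound hx)
        rw [← apm_mat, hY]
        exact Nat.eq_of_beq_eq_true ((T.all_iff _ _).1 (show (tl.all fun k _ _ =>
          Nat.beq (apm Ym k) k) = true by decide +kernel) _ _ _ e))))
  refine ⟨θ.comp (MulEquiv.subgroupCongr ce.1).toMonoidHom, ?_, fun g hg => h5 _ fun x hx =>
    congrArg Subtype.val (Equiv.congr_fun hg ⟨x, hx⟩), fun h => ?_⟩
  · rw [MonoidHom.range_comp, MonoidHom.range_eq_top.2 (MulEquiv.surjective _),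
      ← MonoidHom.range_eq_map, h1, X_eq]
  · obtain ⟨g, h6, h7⟩ := h4
    exact h7 (congrArg Subtype.val (Equiv.congr_fun (h (show (⟨g.1, ce.1.ge g.2⟩ : C1[prm wA]) ∈ _
      from h6)) ⟨x8, mem_orbit_self _⟩))

theorem lift_alpha {C P P' : Type*} [Group C] [Finite C] [Group P] [Group P'] (θ : C →* P) (α : C →* P')
    (h2 : θ.ker < α.ker) (c1 : Nat.card C = 18 * 6531840) (h1 : Nat.card α.range = 6531840) {a b : C}
    (ha : θ a = 1) (hb : θ b = 1) (oa : orderOf a = 3) (ob : orderOf b = 2) :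
    Nat.card θ.range = 3 * 6531840 ∧ ∃ β : θ.range →* P', β.range = α.range := by
  have c2 := α.ker.card_mul_index
  have c3 := θ.ker.card_mul_index
  rw [index_ker, h1, c1] at c2
  rw [index_ker, c1] at c3
  have c4 := card_dvd_of_le h2.le
  have c5 := card_lt_of_lt h2
  rw [show Nat.card α.ker = 18 by omega] at c4 c5
  have c6 := oa ▸ orderOf_dvd_card_of_mem (show a ∈ θ.ker from ha)
  have c7 := ob ▸ orderOf_dvd_card_of_mem (show b ∈ θ.ker from hb)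
  have c8 : Nat.card θ.ker = 6 := by
    generalize Nat.card θ.ker = k at c4 c5 c6 c7
    interval_cases k <;> omega
  refine ⟨by rw [c8] at c3; omega, θ.rangeRestrict.liftOfSurjective θ.rangeRestrict_surjective
    ⟨α, θ.ker_rangeRestrict ▸ h2.le⟩, ?_⟩
  conv_rhs => rw [← θ.rangeRestrict.liftOfRightInverse_comp _ (Function.rightInverse_surjInv
    θ.rangeRestrict_surjective) ⟨α, θ.ker_rangeRestrict ▸ h2.le⟩ |> fun h => (h : _ = α),
    MonoidHom.range_comp, MonoidHom.range_eq_top.2 θ.rangeRestrict_surjective,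
    ← MonoidHom.range_eq_map]

theorem good : ∃ (L : Type) (_ : Group L) (α : L →* Equiv.Perm (Fin 126)) (n : ℕ), Good wA L 6 n ∧
    α.range = gen ((finEnc 126).code 7) (gensOf cA) ∧ Nat.card L = 3 * 6531840 := by
  obtain ⟨α, h1, h2⟩ := exists_alpha
  have hf : ∀ g : C1[prm wA], (∀ x ∈ orbit C1[prm wA] x8, g.1 • x = x) →
      toPermHom C1[prm wA] (orbit C1[prm wA] x8) g = 1 := fun g hg =>
    Equiv.ext fun x => Subtype.ext (hg x x.2)
  have c1 : Nat.card C1[prm wA] = 18 * 6531840 := by rw [ce.2.2.2, card_NA, sz]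
  obtain ⟨c9, β, hβ⟩ := lift_alpha _ α h2 c1 (h1 ▸ card_A)
    (hf ⟨prm wA, self_mem_cent1 _⟩ fun x hx => (orbit_fix hx).1)
    (hf ⟨ng, mem_cent1.2 (ng_comm _).symm⟩ fun x _ =>
      (act_of_pj (pj_ng.trans (map_one pj).symm) x).trans (one_smul _ _))
    (by rw [Subgroup.orderOf_mk, orderOf_injective prm prm_injective, orderOf_wA])
    (by rw [Subgroup.orderOf_mk, orderOf_eq_prime (p := 2) (by rw [sq, ng_mul_self]) ng_ne_one])
  exact ⟨_, inferInstance, β, _, good_of rfl _ rfl (MulEquiv.refl _) hf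
    (by rw [c1, c9, orderOf_wA]) (by rw [ce.2.2.1, sz]; decide) fx.2 rfl, hβ.trans h1, c9⟩

theorem fischer {H L : Type*} [Group H] [Finite H] [Group L] {z : H} {Q : Subgroup C1[z]} [Q.Normal]
    (h : IsExtraspecialCentralizerSetting z Q 6) (e : C1[z] ⧸ Q ≃* L) (α : L →* Equiv.Perm (Fin 126))
    (h1 : α.range = gen ((finEnc 126).code 7) (gensOf cA)) (h2 : Nat.card L = 3 * 6531840) :
    IsOfLargeFischerTypeAt z Q := by
  let κ := α.comp (e.toMonoidHom.comp (QuotientGroup.mk' Q))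
  have hr : κ.range = gen ((finEnc 126).code 7) (gensOf cA) := by
    rw [MonoidHom.range_comp, MonoidHom.range_eq_top.2 (e.surjective.comp
      (QuotientGroup.mk'_surjective Q)), ← MonoidHom.range_eq_map, h1]
  have h3 := X_le
  have h4 := card_B
  obtain ⟨e'⟩ := U43.iso_PSU
  generalize gen ((finEnc 126).code 7) (gensOf U43.cB) = X at h3 h4 e'
  have hi : (X.comap κ).index = 2 := by
    have := card_mul_relIndex h3
    rw [card_A, h4] at this
    rw [index_comap, hr]; omega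
  let φ : X.comap κ →* X := (κ.comp (X.comap κ).subtype).codRestrict _ fun g => g.2
  refine ⟨h, κ.ker, X.comap κ, inferInstance, normal_of_index_eq_two hi, fun q hq => ?_,
    ker_le_comap _ _, ?_, ⟨U43.K9, inferInstance, inferInstance, U43.card_K9,
      ⟨(QuotientGroup.quotientMulEquivOfEq (Subgroup.ext fun g => ?_)).trans
        ((QuotientGroup.quotientKerEquivOfSurjective φ fun x => ?_).trans e')⟩⟩, hi⟩
  · change α (e (q : C1[z] ⧸ Q)) = 1
    rw [(QuotientGroup.eq_one_iff q).2 hq, map_one, map_one]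
  · have c1 := κ.ker.card_mul_index
    rw [index_ker, hr, card_A, card_eq_card_quotient_mul_card_subgroup Q, Nat.card_congr e.toEquiv,
      h2] at c1
    omega
  · rw [mem_subgroupOf, MonoidHom.mem_ker, MonoidHom.mem_ker, Subtype.ext_iff]; rfl
  · obtain ⟨g, hg⟩ := hr.ge (h3 x.2)
    exact ⟨⟨g, show κ g ∈ X from hg ▸ x.2⟩, Subtype.ext hg⟩


/-- Let G be a finite group of Monster type at the involution z with Q the extraspecial normal subgroup of order 2^25 of C = C_G(z) (so C/Q is identified with the first Conway group with Q modulo its centre the Leech lattice modulo 2, and z is not weakly closed in Q). Let s be a conjugate of z in Q other than z and let Y be a subgroup of order 3 of the joint centralizer L of z and s that is 3-central in L (Y lies in the centre of some Sylow 3-subgroup of L). Then the centralizer of Y modulo Y is a group of large Fischer type (an involution whose centralizer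 D has generalized Fitting subgroup R extraspecial of order 2^13 and normal subgroups R ≤ N ≤ M with N/R of order 3, M/N the projective special unitary group of dimension 4 over the field with nine elements and M of index 2 in D; the involution not weakly closed in R). -/
theorem result {G : Type*} [Group G] [Finite G] (z : G) (Q : Subgroup (Subgroup.centralizer ({z} : Set G))) [Q.Normal] (hM : Cfsg.IsOfMonsterType z Q) (s : G) (hsQ : ∃ hsc : s ∈ Subgroup.centralizer ({z} : Set G), (⟨s, hsc⟩ : Subgroup.centralizer ({z} : Set G)) ∈ Q) (hs : IsConj z s) (hs1 : s ≠ z) (Y : Subgroup G) (hY : Y ≤ Subgroup.centralizer ({z, s} : Set G)) (hY3 : Nat.card Y = 3) (hc : ∃ P : Sylow 3 ↥(Subgroup.centralizer ({z, s} : Set G)), Y.subgroupOf (Subgroup.centralizer ({z, s} : Set G)) ≤ (Subgroup.center ↥(P : Subgroup ↥(Subgroup.centralizer ({z, s} : Set G)))).map (P : Subgroup ↥(Subgroup.centralizer ({z, s} :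 Set G))).subtype) [hn : (Y.subgroupOf (Subgroup.centralizer (Y : Set G))).Normal] : Cfsg.IsOfLargeFischerType (↥(Subgroup.centralizer (Y : Set G)) ⧸ Y.subgroupOf (Subgroup.centralizer (Y : Set G))) := by
  obtain ⟨Q', Ψ, π, M, a⟩ := start hM hsQ hs hs1
  obtain ⟨b, hb, ho, e, σ, hσ, h⟩ := M.reduce' a hY Nat.prime_three (by decide) hY3
  obtain ⟨k, hk | hk⟩ := cls3 hσ <;> obtain ⟨Ψ, π, M, a, l⟩ := h _ _ hk
  · obtain ⟨L, _, α, n, h1, h2, h3⟩ := good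
    obtain ⟨z', Q', hn, h4, ⟨e⟩, -⟩ := h1.setting M a Nat.prime_three (by decide) orderOf_wA hY3 hb
      (hY.trans (cent_pair z s ▸ inf_le_right)) l
    exact ⟨z', Q', hn, fischer h4 e α h2 h3⟩
  · have := (M.dvd_iff a (hY hb) l ho orderOf_wB).1 ((central_iff e (hY hb) (ho ▸ pow_orderOf_eq_one b)
      (M.fact_cent2 a (n := 3) (m := 2 ^ 35 * 9067520) (by norm_num) (by norm_num))).1 hc)
    rw [card_NB] at this
    norm_num at this

end Cfsg.Agent.S5415
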