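import Cfsg.Statements.S5472
import Cfsg.Agent.FA.L72
import Cfsg.Agent.FA.A72
import Cfsg.Agent.FA.B75
import Cfsg.Agent.FM.O8S
import Cfsg.Agent.Cl.OLow2
import Cfsg.Agent.Fi.Rec22

set_option autoImplicit false
open Cfsg

namespace Cfsg.Agent.S5472

open Cfsg.Agent.Fi Cfsg.Agent.FA Cfsg.Agent.FA.A72 Cfsg.Agent.GT Cfsg.Agent.TT Cfsg.Agent.Cl Subgroup
open Cfsg.Agent.FM hiding Pts Mdl testBit_fixOf
open Cfsg.Agent.Cl.Orth

set_option maxRecDepth 100000

theorem ck1 : eqS cdA (F22.cd.im (.ps [16, 1443]) F22.Z360) (cdA.fix (.w [32])) = true := by decide +kernel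
theorem ck2 : cdA.comm 13 30 = true ∧ cdA.ap (.w [32]) 13 = 13 ∧ cdA.ap (.w [32]) 30 = 30 ∧
    cnt cdA.n cdA.B (cdA.fix (.w [32])) = 360 ∧ cnt cdA.n cdA.B (cdA.fix (.mul (.w [32]) (.ps [13]))) = 64 ∧
    cnt cdA.n cdA.B (cdA.fix (.mul (.w [32]) (.ps [13, 30]))) = 72 ∧
    beqB (tb z2 47) (tb z2 (cdA.ap (.ps [13]) 47)) = false ∧ F22.cd.ltL F22.L360 = true ∧
    (∀ q ∈ kL, q < cdA.n ∧ sgl q ∈ lmap (fun y => sgl (pf y)) yk) ∧
    lall (fun l => ghChk [.w [32]] [] [13] (.ps l)) eW = true ∧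
    (M24.lall yk fun y => M24.band (Nat.blt y (2 ^ 7)) (tb zm y)) = true ∧
    abChk F22.cd 2 [.one] (lmap .ps cW) = true ∧
    lall2 (repChk F22.cd 2 6 ql6 [.one] (lmap .ps cW)) (lmap .ps fW) fR = true := by decide +kernel

theorem iso7 : Nonempty (OG (qL (ZMod 2) 7 ql7) ≃* Matrix.symplecticGroup (Fin 3) (ZMod 2)) := by
  let σ : Fin 7 ≃ Unit ⊕ (Fin 3 ⊕ Fin 3) := Equiv.ofBijective ![.inr (.inl 0), .inr (.inr 0), .inr (.inl 1),
    .inr (.inr 1), .inr (.inl 2), .inr (.inr 2), .inl ()] (by decide)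
  exact ⟨(matEquiv' (Q := qL (ZMod 2) 7 ql7) (quadFormOdd 3 (ZMod 2)) (LinearEquiv.funCongrLeft _ _ σ)
    fun v => by simp [qL_apply, ql7, cf6, quadFormOdd, Fin.sum_univ_three, σ, sq]; ring).symm.trans
      ((oOdd 3 _).trans (oddEquivSp rfl (by decide) 3))⟩

variable {G : Type*} [Group G] [Finite G] {D : Set G} {β : ℕ → G}
  {A : FA.Mdl (MulAut G) (MulAut.conj '' D) cdA} (hA : AM D β A)
include hA

omit [Finite G] in
theorem e1 : A.ev (.mul (.w [32]) (.ps [13])) = A.ev (.w [32]) * MulAut.conj (β 13) := by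
  rw [FA.Mdl.ev_mul, hA.ev_ps (by decide)]; simp [pe]

omit [Finite G] in
theorem e2 : A.ev (.mul (.w [32]) (.ps [13, 30])) = A.ev (.w [32]) * MulAut.conj (β 13 * β 30) := by
  rw [FA.Mdl.ev_mul, hA.ev_ps (by decide)]; simp [pe]

theorem cs : ∃ C : Subgroup G, (∀ x, x ∈ C ↔ A.ev (.w [32]) x = x) ∧
    Nonempty (C ≃* MulAut (Omega (ZMod 2) (quadFormPlus 4 (ZMod 2)))) := by
  have h := hA.m
  obtain ⟨M0, hM0⟩ := F22.exists_mdl h.toModel
  have hZ : ∀ i < F22.cd.n, (F22.cd.im (.ps [16, 1443]) F22.Z360).testBit i = true ↔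
      A.ev (.w [32]) (M0.pt i) = M0.pt i := fun i hi => by rw [eqS_iff.1 ck1 i hi, hA.fix_iff _ hi, hM0]
  have mp := FM.Mdl.mapS_of_im (M := M0) (a := .ps [16, 1443]) (Z := F22.Z360) rfl
  obtain ⟨u0⟩ := F22.equiv_L360 M0 h.card
  generalize M0.ev (.ps [16, 1443]) = g at mp
  generalize F22.cd.im (.ps [16, 1443]) F22.Z360 = Z at mp hZ
  refine ⟨cj[g] (closure (M0.pts F22.L360)), fun x => ⟨fun hx => ?_, fun hx => ?_⟩,
    ⟨(MulEquiv.subgroupMap (MulAut.conj _) _).symm.trans u0⟩⟩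
  · refine (show _ ≤ (A.ev (.w [32])).toMonoidHom.eqLocus (MonoidHom.id G) from ?_) hx
    rw [MonoidHom.map_closure, closure_le]
    rintro _ ⟨_, ⟨p, hp, rfl⟩, rfl⟩
    have l := FM.Mdl.ltL_spec ck2.2.2.2.2.2.2.2.1 p hp
    have := (hZ _ (M0.ac_lt g l)).1 (by rw [mp p l, ← F22.ofL_L360, testBit_ofL]; exact decide_eq_true hp)
    rwa [M0.pt_ac g l] at this
  · rw [F22.closure_L360 M0 h.card, FM.Mdl.CS_conj mp]
    exact ⟨by simp, List.forall_mem_singleton.2 (M0.mapS_of_iff (Q := fun y => A.ev (.w [32]) y = y) hZ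
      fun y _ => by simp [hx])⟩

theorem mE (x : G) : x ∈ pcl β eW ↔ (A.ev (.w [32]) * MulAut.conj (β 13)) x = x := by
  rw [← (e_G hA).1, hA.mem_GH, ← e1 hA]; simp [eX, eZ]

theorem eE {C : Subgroup G} (mC : ∀ x, x ∈ C ↔ A.ev (.w [32]) x = x) : C ⊓ centralizer {β 13} = pcl β eW := by
  refine le_antisymm (fun x hx => (mE hA x).2 ?_) fun x hx => ?_
  · rw [MulAut.mul_apply, MulAut.conj_apply, ← mem_cent1.1 hx.2, mul_inv_cancel_right, (mC x).1 hx.1]
  · have := hA.mem_GH.1 (hA.pcl_le_GH e_lt ck2.2.2.2.2.2.2.2.2.2.1 hx)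
    exact ⟨(mC x).2 (this.1 _ List.mem_cons_self), mem_cent1.2 (this.2.2 _ List.mem_cons_self)⟩

theorem isoP1 : ∃ ψ : pcl β pW →* OG (qL (ZMod 2) 7 ql7), ∀ x ∈ ψ.ker, (x : G) ∈ pcl β kW := by
  obtain ⟨-, -, -, -, -, -, -, -, k9, -, k11, -⟩ := ck2
  obtain ⟨φ, hφ⟩ := FA.Mdl.lab_hom (M := A) (zf := fun y => sgl (pf y)) (by decide)
    (lall2_mono A.labP_spec lab) z_dis z_span k11
  obtain ⟨ψ, hψ⟩ := res_hom φ (H := pcl β pW) fun g hg => hA.clo_eq p_lt ▸ mem_map_of_mem _ hg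
  refine ⟨ψ, fun x hx => ?_⟩
  have m := hA.mem_GH.1 ((p_G hA).1.ge x.2)
  have k : ∀ q ∈ kL, Commute (x : G) (β q) := fun q hq => by
    rw [← hA.comm_conj, ← hA.pt, ← A.ac_fix_iff (k9 q hq).1]
    have := hφ _ ((hψ x).symm.trans hx) _ (k9 q hq).2
    exact A.fix_of_sgl (k9 q hq).1 this
  exact (k_G hA).1.le (hA.mem_GH.2 ⟨m.1, m.2.1, k⟩)

omit hA in
theorem c7 : Nat.card (OG (qL (ZMod 2) 7 ql7)) = 1451520 := by
  obtain ⟨u2⟩ := iso7
  rw [Nat.card_congr u2.toEquiv, card_sp]; simp [Finset.prod_range_succ]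

omit hA in
theorem c8 : Nonempty (PSp 3 (ZMod 2) ≃* Matrix.symplecticGroup (Fin 3) (ZMod 2)) :=
  xr_quot_bot (card_eq_one.1 ((card_center_sp (l := Fin 3) (F := ZMod 2)).trans (by simp)))

theorem isoP : Nonempty (pcl β pW ≃* PSp 3 (ZMod 2)) := by
  obtain ⟨ψ, hψ⟩ := isoP1 hA
  obtain ⟨u2⟩ := iso7
  obtain ⟨u3⟩ := c8
  have : Finite (OG (qL (ZMod 2) 7 ql7)) := Nat.finite_of_card_ne_zero (by rw [c7]; decide)
  obtain ⟨f1, f2⟩ := fa_surj ψ (R := pcl β kW) (pcl_mono (List.nil_subset _)) hψ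
    (by rw [(k_G hA).2, c7, (p_G hA).2])
  rw [card_eq_one.1 (k_G hA).2] at f2
  have f3 := (injective_iff_map_eq_one ψ).2 fun x hx => Subtype.ext ((f2 x).1 hx)
  exact ⟨(MulEquiv.ofBijective ψ ⟨f3, f1⟩).trans (u2.trans u3.symm)⟩

theorem isoE : Nonempty (pcl β eW ≃* Multiplicative (ZMod 2) × PSp 3 (ZMod 2)) := by
  obtain ⟨C, mC, -⟩ := cs hA
  have pE : pcl β pW ≤ pcl β eW := fun x hx =>
    (mE hA x).2 (e1 hA ▸ (hA.mem_GH.1 ((p_G hA).1.ge hx)).1 _ List.mem_cons_self)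
  obtain ⟨u1⟩ := sx_prod Nat.prime_two (hA.m.t3.ts.1 _ (hA.m.mem 13 (by decide)))
    (by simpa [pe] using mem_pcl (β := β) (W := eW) (l := [13]) (by decide))
    (fun e => A.not_mapS (by decide) ck2.2.2.2.2.2.2.1 (by
      rw [A.ev_ps1 (by decide), hA.pt]; exact (hA.mem_GH.1 ((p_G hA).1.ge e)).2.1 _ List.mem_cons_self)) pE
    (pE.trans ((eE hA mC).ge.trans inf_le_right)) (by rw [(e_G hA).2, (p_G hA).2])
  obtain ⟨u2⟩ := isoP hA
  exact ⟨u1.trans ((MulEquiv.refl _).prodCongr u2)⟩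

theorem locF : pcl β cW = Op 2 (pcl β fW) ∧ IsElementaryAbelian 2 (pcl β cW) ∧
    ∃ _ : ((pcl β cW).subgroupOf (pcl β fW)).Normal, Nonempty (pcl β fW ⧸ (pcl β cW).subgroupOf (pcl β fW) ≃*
      isometryGroup (ZMod 2) (quadFormMinus 2 (ZMod 2) 1 1)) := by
  obtain ⟨M, hM⟩ := exists_gm hA.m
  obtain ⟨-, -, -, -, -, -, -, -, -, -, -, k12, k13⟩ := ck2
  obtain ⟨π, t, he⟩ := Mdl.sec0 hM (V := cW) (by decide) (n := 6) rfl k12 (c_G hA).2.ge
  obtain ⟨n1, ρ, -, -, r⟩ := Mdl.rep0 hM (n := 6) (W := fW) (by decide) (by decide) (by decide) rfl t he k13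
  have oF : pcl β cW ≤ pcl β fW := fun x hx => (f_G hA).1.le (hA.mem_GH.2 ⟨List.forall_mem_singleton.2
    ((hA.mem_GH.1 ((c_G hA).1.ge hx)).1 _ List.mem_cons_self), by simp [fZ], by simp⟩)
  have : Finite (OG QM6) := Nat.finite_of_card_ne_zero (by rw [o6_card]; decide)
  obtain ⟨g1, g2⟩ := fa_surj ρ oF (fun x hx => (c_G hA).1.le (hA.mem_GH.2 ⟨List.forall_mem_cons.2
    ⟨(hA.mem_GH.1 ((f_G hA).1.ge x.2)).1 _ List.mem_cons_self,
      (hA.mem_GH.1 (hA.cent_le c_lt ((r x).1 hx))).1⟩, by simp [cZ], by simp⟩))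
    (by rw [(c_G hA).2, o6_card, (f_G hA).2])
  obtain ⟨n2, ⟨u4⟩⟩ := fa_quot ρ g1 g2
  obtain ⟨u5⟩ := o6_iso
  exact ⟨le_antisymm (le_Op oF n1 (isPGroup_of_elementary (sec_ea t))) (fa_Op_le ρ g1 g2 o6_core), sec_ea t,
    n2, ⟨u4.trans u5⟩⟩

omit hA

/-- Let G be a finite group with trivial centre generated by a conjugation-invariant set D of 3-transpositions on which it acts primitively, such that for some d in D the subgroup generated by the members of D other than d commuting with d has central largest normal 2- and 3-subgroups, and suppose G with D is of type M(22). Then G has a non-inner automorphism s of order 2 whose fixed-point subgroup is isomorphic to the full automorphism group of Ω⁺(8, 2) (the commutator subgroup of the isometry group of the hyperbolic quadratic form in dimension 8 over the field with two elements), together with distinct commuting members a, b of D fixed by s such that: s, s composed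 with conjugation by a, and s composed with conjugation by a b represent the three classes (under the automorphism group) of non-inner automorphisms of order 2; the elements fixed by the automorphism s composed with conjugation by a are exactly those fixed by s and commuting with a, and they form a group isomorphic to the direct product of a group of order 2 and the symplectic group of dimension 6 over the field with two elements; and the elements fixed by the automorphism s composed with conjugation by a b form a group whose largest normal 2-subgroup is elementary abelian of order 64 with quotient isomorphic to the full isometry group of the elliptic quadratic form in dimension 6 over the field with two elements. -/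
theorem result {G : Type*} [Group G] [Finite G] {D : Set G} (hD : Cfsg.IsThreeTranspositionGroup D) (hprim : Cfsg.IsPrimitiveUnderConj D) (d₀ : G) (hd₀ : d₀ ∈ D) (h3 : Cfsg.pCore 3 ↥(Subgroup.closure {y : G | y ∈ D ∧ y ≠ d₀ ∧ Commute d₀ y}) ≤ Subgroup.center ↥(Subgroup.closure {y : G | y ∈ D ∧ y ≠ d₀ ∧ Commute d₀ y})) (h2 : Cfsg.pCore 2 ↥(Subgroup.closure {y : G | y ∈ D ∧ y ≠ d₀ ∧ Commute d₀ y}) ≤ Subgroup.center ↥(Subgroup.closure {y : G | y ∈ D ∧ y ≠ d₀ ∧ Commute d₀ y})) (h22 : Cfsg.IsOfTypeM22 G D) : ∃ (s : MulAut G) (a b : G) (Cs : Subgroup G), orderOf s = 2 ∧ s ∉ (MulAut.conj : G →* MulAut G).range ∧ (∀ g : G, g ∈ Cs ↔ s g = g) ∧ Nonempty (↥Cs ≃* MulAut (Cfsg.Omega (ZMod 2) (Cfsg.quadFormPlus 4 (ZMod 2)))) ∧ a ∈ D ∧ b ∈ D ∧ a ≠ b ∧ Commute a b ∧ s a = a ∧ s b = b ∧ (∀ t : MulAut G, orderOf t = 2 → t ∉ (MulAut.conj : G →* MulAut G).range → (IsConj t s ∨ IsConj t (s * MulAut.conj a) ∨ IsConj t (s * MulAut.conj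 (a * b)))) ∧ ¬ IsConj s (s * MulAut.conj a) ∧ ¬ IsConj s (s * MulAut.conj (a * b)) ∧ ¬ IsConj (s * MulAut.conj a) (s * MulAut.conj (a * b)) ∧ (∀ g : G, (s * MulAut.conj a) g = g ↔ g ∈ Cs ⊓ Subgroup.centralizer ({a} : Set G)) ∧ Nonempty (↥(Cs ⊓ Subgroup.centralizer ({a} : Set G)) ≃* Multiplicative (ZMod 2) × Cfsg.PSp 3 (ZMod 2)) ∧ ∃ Csab O : Subgroup G, (∀ g : G, g ∈ Csab ↔ (s * MulAut.conj (a * b)) g = g) ∧ O = (Cfsg.pCore 2 ↥Csab).map Csab.subtype ∧ Cfsg.IsElementaryAbelian 2 O ∧ Nat.card O = 64 ∧ ∃ _ : (O.subgroupOf Csab).Normal, Nonempty (↥Csab ⧸ O.subgroupOf Csab ≃* Cfsg.isometryGroup (ZMod 2) (Cfsg.quadFormMinus 2 (ZMod 2) 1 1)) := by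
  obtain ⟨β, h⟩ := rec22 hD hprim h22
  obtain ⟨A, hA⟩ := exists_am h
  obtain ⟨k1, k2, k3, k4, k5, k6, -⟩ := ck2
  obtain ⟨C, mC, u⟩ := cs hA
  obtain ⟨f1, f2, f3⟩ := locF hA
  refine ⟨A.ev (.w [32]), β 13, β 30, C, AM.order_s, hA.s_not_mem, mC, u, h.mem _ (by decide),
    h.mem _ (by decide), fun e => absurd (h.inj _ (by decide) _ (by decide) e) (by decide),
    (hA.comm_iff (by decide) (by decide)).1 k1, by rw [hA.ap _ (by decide), k2], by rw [hA.ap _ (by decide), k3],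
    fun t h1 h2 => ?_, fun e => ?_, fun e => ?_, fun e => ?_, fun x => by rw [eE hA mC, mE hA],
    eE hA mC ▸ isoE hA, pcl β fW, pcl β cW,
    fun x => by rw [← (f_G hA).1, hA.mem_GH, ← e2 hA]; simp [fX, fZ], f1, f2, (c_G hA).2, f3⟩
  · simpa only [L72.reps, ← e1 hA, ← e2 hA, List.exists_mem_cons_iff, List.not_mem_nil, false_and, exists_false,
      or_false] using L72.outer hA h1 h2
  · rw [← e1 hA] at e
    exact absurd (A.cnt_fix_conj e) (by rw [k4, k5]; decide)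
  · rw [← e2 hA] at e
    exact absurd (A.cnt_fix_conj e) (by rw [k4, k6]; decide)
  · rw [← e1 hA, ← e2 hA] at e
    exact absurd (A.cnt_fix_conj e) (by rw [k5, k6]; decide)

end Cfsg.Agent.S5472
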