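import Cfsg.Statements.S5522
import Cfsg.Agent.M24.Dod

set_option autoImplicit false
open Cfsg

namespace Cfsg.Agent.S5522

open Cfsg.Agent.M24 Finset MulAction
open scoped symmDiff Pointwise

theorem chk : enum mul (fun p => bor (nany 24 fun i => band (!Nat.testBit 340831 i) (Nat.beq (ap p i) i))
    (force (mul p p) fun q => band (!Nat.beq q one) (force (mul q q) fun r => Nat.beq (mul r r) one)))
    (cD.drop 1) one = true := by decide +kernel


/-- The Mathieu group M₁₁, realised as the stabiliser of one point of the dodecad of squares inside the stabiliser M₁₂ of that dodecad in M₂₄, acts on the twelve coordinate positions outside the dodecad of squares (its 3-transitive action of degree 12); in this action every element of prime order fixes a point, i.e. the action is elusive. -/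
theorem result (g : Equiv.Perm Cfsg.GolayPt) (hg : g ∈ Cfsg.Spor.M11) (hord : (orderOf g).Prime) :
    ∃ x : Cfsg.GolayPt, x ∉ Cfsg.Spor.squareDodecad ∧ g x = x := by
  have h1 : (⟨g, hg.1.1⟩ : M24) ∈ gen mcode (gensOf (cD.drop 1)) := by
    rw [mem_cD_drop (by norm_num)]
    refine ⟨hg.1.2, fun i hi => ?_⟩
    obtain rfl : i = 0 := by omega
    exact hg.2
  have h2 := ((chkM_sound cD_chk).2.1.drop 1).enum_one gcM acM chk _ h1
  change bor (nany 24 fun i => band (!Nat.testBit 340831 i) (Nat.beq (ap (pcode g) i) i))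
    (force (mul (pcode g) (pcode g)) fun q => band (!Nat.beq q one)
      (force (mul q q) fun r => Nat.beq (mul r r) one)) = true at h2
  simp only [bor_eq, band_eq, force_eq, Bool.or_eq_true, nany_iff, Bool.and_eq_true,
    Bool.not_eq_true', ← gcP.code_mul, gcP.eq_one_iff] at h2
  rcases h2 with ⟨i, hi, h3, h4⟩ | ⟨h3, h4⟩
  · refine ⟨pt i, ?_, idx_inj ?_⟩
    · rw [← testBit_mask, mask_D0, idx_pt hi, h3]; simp
    · rw [← ap_pcode, idx_pt hi]; exact Nat.eq_of_beq_eq_true h4
  · exfalso
    have h5 : orderOf g ∣ 2 ^ 3 := orderOf_dvd_of_pow_eq_one (by rw [← h4]; simp only [← sq, ← pow_mul]; rfl)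
    have h6 := (Nat.prime_dvd_prime_iff_eq hord Nat.prime_two).1 (hord.dvd_of_dvd_pow h5)
    rw [← Bool.not_eq_true, gcP.eq_one_iff, ← sq, ← h6] at h3
    exact h3 (pow_orderOf_eq_one g)

end Cfsg.Agent.S5522
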