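import Cfsg.Statements.S5604
import Cfsg.Agent.M24.LinAct
import Cfsg.Agent.GT.Basic

set_option autoImplicit false
open scoped Pointwise
open Cfsg

namespace Cfsg.Agent.S5604

open Cfsg.Agent.M24 Finset MulAction
open scoped symmDiff Pointwise

def cH_t0 : T := (.node (.node (.node (.node (.node .nil (nat_lit 1) (nat_lit 0) (nat_lit
  0xbdab49ca307b9ac5a928398a418820) .nil) (nat_lit 2) (nat_lit 34) (nat_lit 0x12e8753632a959684cc44bc68706e0)
  .nil) (nat_lit 3) (nat_lit 66) (nat_lit 0x19acc3d1cd4966b53e48ac2e40c440) (.node (.node .nil (nat_lit 5)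
  (nat_lit 67618) (nat_lit 0x8a9957cdd4b5d6669e049242828860) .nil) (nat_lit 6) (nat_lit 1569) (nat_lit
  0x3b86cbbec554c495ca88884c0836a4) .nil)) (nat_lit 7) (nat_lit 2) (nat_lit 0x9c44f1a8c5642e9951680b9a03daa4)
  (.node (.node (.node .nil (nat_lit 9) (nat_lit 16) (nat_lit 0xaa582a14d271d5788c207ae086cec4) .nil) (nat_lit
  10) (nat_lit 2128) (nat_lit 0xb497165e142d5e3704404a9a899cc4) .nil) (nat_lit 11) (nat_lit 529) (nat_lit
  0x54ec3ac52712e0e096e069a44a31e8) (.node .nil (nat_lit 12) (nat_lit 514) (nat_lit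
  0xa1a6e68d70bcaa128a20b1d447a588) .nil))) (nat_lit 13) (nat_lit 2113) (nat_lit
  0x588678b557aa43684cc42ba807b248) (.node (.node (.node (.node .nil (nat_lit 14) (nat_lit 80) (nat_lit
  0x12d367b5ca8069331ea4648a8b8e20) .nil) (nat_lit 15) (nat_lit 65) (nat_lit 0x4d663b164d0b0e275e2081944a3d68)
  .nil) (nat_lit 16) (nat_lit 2577) (nat_lit 0xa0e2711961b48b0ab664bb9407a588) (.node (.node .nil (nat_lit 17)
  (nat_lit 49) (nat_lit 0x1d12d6182f9c647b42a452ca815dc0) .nil) (nat_lit 18) (nat_lit 16945) (nat_lit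
  0x831e55066b19a42bc5c0a24e8ad9a4) .nil)) (nat_lit 19) (nat_lit 1089) (nat_lit
  0xb5c4a0ca034d5d47b1682c5a099cc4) (.node (.node (.node .nil (nat_lit 20) (nat_lit 1104) (nat_lit
  0xa1ac138ded2a6628bae0ac24462968) .nil) (nat_lit 21) (nat_lit 17) (nat_lit 0x6882abaecea18af4c9881c6009d4e4)
  .nil) (nat_lit 22) (nat_lit 1) (nat_lit 0x606f3141653bc75336c47464055128) (.node .nil (nat_lit 23) (nat_lit
  560) (nat_lit 0xb1f55422b30e4db4ce4a25c82dc40) .nil))))
def cH_l0 : Lvl := ⟨nat_lit 1, [nat_lit 0xaa582a14d271d5788c207ae086cec4, nat_lit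
  0x6882abaecea18af4c9881c6009d4e4], [nat_lit 0, nat_lit 0], cH_t0⟩
def cH_t1 : T := (.node (.node (.node .nil (nat_lit 6) (nat_lit 0) (nat_lit 0xbdab49ca307b9ac5a928398a418820)
  .nil) (nat_lit 7) (nat_lit 528) (nat_lit 0x71db2abcb0a0e6c5256835844bc420) (.node .nil (nat_lit 15) (nat_lit
  1) (nat_lit 0x73d7649cac30d509d5a4a4848bc420) .nil)) (nat_lit 18) (nat_lit 16) (nat_lit
  0x1d1475984cb5d30ab66493e2871420) (.node (.node .nil (nat_lit 20) (nat_lit 1057) (nat_lit
  0xbc92655a2c3b9706cea47d0a818820) .nil) (nat_lit 22) (nat_lit 33) (nat_lit 0x19a6f6d05095eac4ad48b1e2471420)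
  .nil))
def cH_l1 : Lvl := ⟨nat_lit 6, [nat_lit 0x1d1475984cb5d30ab66493e2871420], [nat_lit 0x4110630], cH_t1⟩
def cH : List Lvl := [cH_l0, cH_l1]
theorem cH_chk : chkM cH = true := by decide +kernel
def cC_t0 : T := (.node (.node (.node (.node (.node .nil (nat_lit 1) (nat_lit 0) (nat_lit
  0xbdab49ca307b9ac5a928398a418820) .nil) (nat_lit 2) (nat_lit 2577) (nat_lit
  0x2a5f65d4549c586834e4549c8b8460) .nil) (nat_lit 3) (nat_lit 2097) (nat_lit
  0x1d250799cba954d99ec44b2e80c440) (.node (.node .nil (nat_lit 5) (nat_lit 66) (nat_lit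
  0x1360ab2ee7a0eaf4c98834c24895c0) .nil) (nat_lit 6) (nat_lit 1) (nat_lit 0x30eec750e24d62b53e48286c084da4)
  .nil)) (nat_lit 7) (nat_lit 514) (nat_lit 0x544471ce85832f5b19a40b9607c928) (.node (.node (.node .nil
  (nat_lit 9) (nat_lit 545) (nat_lit 0x6ad9190acf1992e2dc20a2a089d4e4) .nil) (nat_lit 10) (nat_lit 2) (nat_lit
  0x79e658399612cd7186206d5444d248) .nil) (nat_lit 11) (nat_lit 65) (nat_lit 0xaa5f7595b48cd83089c0548e8b40c4)
  (.node .nil (nat_lit 12) (nat_lit 1058) (nat_lit 0x95aa39dd5073da1144a039924a2d88) .nil))) (nat_lit 13)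
  (nat_lit 16) (nat_lit 0xa95d2125a354c3462de88dce0b40c4) (.node (.node (.node (.node .nil (nat_lit 14)
  (nat_lit 561) (nat_lit 0x8cdaf32875606c99516881c4475ca0) .nil) (nat_lit 15) (nat_lit 80) (nat_lit
  0x9a96ea44c90c245b8c4063da83daa4) .nil) (nat_lit 16) (nat_lit 50737) (nat_lit
  0x95ca68d9413bc506cea470d20a2d88) (.node (.node .nil (nat_lit 17) (nat_lit 528) (nat_lit
  0x71e6983c36588d2a31486d62428ee0) .nil) (nat_lit 18) (nat_lit 17) (nat_lit 0x640c2a8533bc8f171460b36845bd48)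
  .nil)) (nat_lit 19) (nat_lit 1585) (nat_lit 0x3ba290be175b472a314811660a9ac4) (.node (.node (.node .nil
  (nat_lit 20) (nat_lit 560) (nat_lit 0x3524178ceb2d5428bae04b2c884da4) .nil) (nat_lit 21) (nat_lit 49)
  (nat_lit 0x58833bb64e350a7ada041c580525e8) .nil) (nat_lit 22) (nat_lit 2128) (nat_lit
  0x8046b2b2b1959ca7a688b88c069e64) (.node .nil (nat_lit 23) (nat_lit 33) (nat_lit
  0xc0cbab0b395cea7a688b346413a20) .nil))))
def cC_l0 : Lvl := ⟨nat_lit 1, [nat_lit 0xa95d2125a354c3462de88dce0b40c4, nat_lit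
  0x640c2a8533bc8f171460b36845bd48], [nat_lit 0, nat_lit 0], cC_t0⟩
def cC_t1 : T := (.node (.node .nil (nat_lit 4) (nat_lit 0) (nat_lit 0xbdab49ca307b9ac5a928398a418820) .nil)
  (nat_lit 8) (nat_lit 1) (nat_lit 0xbc92655a2c3b9706cea47d0a818820) .nil)
def cC_l1 : Lvl := ⟨nat_lit 4, [nat_lit 0xbc92655a2c3b9706cea47d0a818820], [nat_lit 0x1010421], cC_t1⟩
def cC : List Lvl := [cC_l0, cC_l1]
theorem cC_chk : chkM cC = true := by decide +kernel
def tY_0 : T := (.node (.node (.node (.node (.node (.node (.node (.node .nil (nat_lit 273) (nat_lit 0)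
  (nat_lit 273) .nil) (nat_lit 274) (nat_lit 6273) (nat_lit 8452) .nil) (nat_lit 276) (nat_lit 5377) (nat_lit
  12292) (.node .nil (nat_lit 280) (nat_lit 2705) (nat_lit 8708) .nil)) (nat_lit 304) (nat_lit 3488) (nat_lit
  0x500001) (.node (.node .nil (nat_lit 321) (nat_lit 513) (nat_lit 9218) .nil) (nat_lit 322) (nat_lit 1200)
  (nat_lit 0x420800) (.node .nil (nat_lit 324) (nat_lit 3904) (nat_lit 0x400802) .nil))) (nat_lit 328)
  (nat_lit 5361) (nat_lit 8706) (.node (.node (.node .nil (nat_lit 352) (nat_lit 3696) (nat_lit 0x400801)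
  .nil) (nat_lit 385) (nat_lit 5953) (nat_lit 9217) (.node .nil (nat_lit 386) (nat_lit 945) (nat_lit 8449)
  .nil)) (nat_lit 388) (nat_lit 2992) (nat_lit 0x400202) (.node (.node .nil (nat_lit 392) (nat_lit 2657)
  (nat_lit 8705) .nil) (nat_lit 416) (nat_lit 6448) (nat_lit 0x400201) (.node .nil (nat_lit 529) (nat_lit
  5040) (nat_lit 0x100088) .nil)))) (nat_lit 530) (nat_lit 4785) (nat_lit 388) (.node (.node (.node (.node
  .nil (nat_lit 532) (nat_lit 4848) (nat_lit 0x100082) .nil) (nat_lit 536) (nat_lit 1280) (nat_lit 0x100084)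
  (.node .nil (nat_lit 560) (nat_lit 1568) (nat_lit 0x100081) .nil)) (nat_lit 577) (nat_lit 368) (nat_lit
  2184) (.node (.node .nil (nat_lit 578) (nat_lit 1793) (nat_lit 386) .nil) (nat_lit 580) (nat_lit 1489)
  (nat_lit 4226) (.node .nil (nat_lit 584) (nat_lit 1344) (nat_lit 2180) .nil))) (nat_lit 608) (nat_lit 4817)
  (nat_lit 262274) (.node (.node (.node .nil (nat_lit 641) (nat_lit 4081) (nat_lit 1153) .nil) (nat_lit 642)
  (nat_lit 4624) (nat_lit 131712) (.node .nil (nat_lit 644) (nat_lit 6576) (nat_lit 642) .nil)) (nat_lit 648)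
  (nat_lit 6081) (nat_lit 641) (.node (.node .nil (nat_lit 672) (nat_lit 4225) (nat_lit 262273) .nil) (nat_lit
  1041) (nat_lit 4368) (nat_lit 0x100018) (.node .nil (nat_lit 1042) (nat_lit 560) (nat_lit 0x120010)
  .nil))))) (nat_lit 1044) (nat_lit 7361) (nat_lit 528388) (.node (.node (.node (.node (.node .nil (nat_lit
  1048) (nat_lit 193) (nat_lit 524804) .nil) (nat_lit 1072) (nat_lit 3552) (nat_lit 0x100011) (.node .nil
  (nat_lit 1089) (nat_lit 5072) (nat_lit 2072) .nil)) (nat_lit 1090) (nat_lit 4944) (nat_lit 133136) (.node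
  (.node .nil (nat_lit 1092) (nat_lit 6544) (nat_lit 2066) .nil) (nat_lit 1096) (nat_lit 721) (nat_lit 524802)
  (.node .nil (nat_lit 1120) (nat_lit 2752) (nat_lit 2065) .nil))) (nat_lit 1153) (nat_lit 2368) (nat_lit 536)
  (.node (.node (.node .nil (nat_lit 1154) (nat_lit 2512) (nat_lit 131600) .nil) (nat_lit 1156) (nat_lit 6097)
  (nat_lit 528385) (.node .nil (nat_lit 1160) (nat_lit 6161) (nat_lit 524801) .nil)) (nat_lit 1184) (nat_lit
  6960) (nat_lit 529) (.node (.node .nil (nat_lit 2065) (nat_lit 1504) (nat_lit 0x180008) .nil) (nat_lit 2066)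
  (nat_lit 4545) (nat_lit 0x200104) (.node .nil (nat_lit 2068) (nat_lit 5873) (nat_lit 0x201004) .nil))))
  (nat_lit 2072) (nat_lit 3217) (nat_lit 0x200204) (.node (.node (.node (.node .nil (nat_lit 2096) (nat_lit
  3456) (nat_lit 0x180001) .nil) (nat_lit 2113) (nat_lit 1024) (nat_lit 526344) (.node .nil (nat_lit 2114)
  (nat_lit 2064) (nat_lit 657408) .nil)) (nat_lit 2116) (nat_lit 6672) (nat_lit 526338) (.node (.node .nil
  (nat_lit 2120) (nat_lit 689) (nat_lit 0x200202) .nil) (nat_lit 2144) (nat_lit 6240) (nat_lit 526337) (.node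
  .nil (nat_lit 2177) (nat_lit 6417) (nat_lit 0x200401) .nil))) (nat_lit 2178) (nat_lit 6288) (nat_lit 655872)
  (.node (.node (.node .nil (nat_lit 2180) (nat_lit 704) (nat_lit 524802) .nil) (nat_lit 2184) (nat_lit 176)
  (nat_lit 524804) (.node .nil (nat_lit 2208) (nat_lit 6144) (nat_lit 524801) .nil)) (nat_lit 4113) (nat_lit
  5792) (nat_lit 0x110008) (.node (.node .nil (nat_lit 4114) (nat_lit 5905) (nat_lit 324) .nil) (nat_lit 4116)
  (nat_lit 5889) (nat_lit 4164) (.node .nil (nat_lit 4120) (nat_lit 2737) (nat_lit 580) .nil)))))) (nat_lit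
  4144) (nat_lit 5617) (nat_lit 262212) (.node (.node (.node (.node (.node (.node .nil (nat_lit 4161) (nat_lit
  6608) (nat_lit 67592) .nil) (nat_lit 4162) (nat_lit 2225) (nat_lit 322) (.node .nil (nat_lit 4164) (nat_lit
  3889) (nat_lit 4162) .nil)) (nat_lit 4168) (nat_lit 3249) (nat_lit 578) (.node (.node .nil (nat_lit 4192)
  (nat_lit 8128) (nat_lit 67585) .nil) (nat_lit 4225) (nat_lit 6977) (nat_lit 1089) (.node .nil (nat_lit 4226)
  (nat_lit 768) (nat_lit 197120) .nil))) (nat_lit 4228) (nat_lit 6112) (nat_lit 66050) (.node (.node (.node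
  .nil (nat_lit 4232) (nat_lit 753) (nat_lit 577) .nil) (nat_lit 4256) (nat_lit 2449) (nat_lit 262209) (.node
  .nil (nat_lit 8449) (nat_lit 464) (nat_lit 0x401008) .nil)) (nat_lit 8450) (nat_lit 7600) (nat_lit 0x421000)
  (.node (.node .nil (nat_lit 8452) (nat_lit 4273) (nat_lit 12320) .nil) (nat_lit 8456) (nat_lit 2625)
  (nat_lit 8736) (.node .nil (nat_lit 8480) (nat_lit 6193) (nat_lit 270368) .nil)))) (nat_lit 8705) (nat_lit
  1440) (nat_lit 4232) (.node (.node (.node (.node .nil (nat_lit 8706) (nat_lit 3408) (nat_lit 135296) .nil)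
  (nat_lit 8708) (nat_lit 1472) (nat_lit 4226) (.node .nil (nat_lit 8712) (nat_lit 6225) (nat_lit 672) .nil))
  (nat_lit 8736) (nat_lit 1425) (nat_lit 262304) (.node (.node .nil (nat_lit 9217) (nat_lit 3953) (nat_lit
  525344) .nil) (nat_lit 9218) (nat_lit 240) (nat_lit 135184) (.node .nil (nat_lit 9220) (nat_lit 1617)
  (nat_lit 528416) .nil))) (nat_lit 9224) (nat_lit 7409) (nat_lit 524832) (.node (.node (.node .nil (nat_lit
  9248) (nat_lit 3585) (nat_lit 786464) .nil) (nat_lit 10241) (nat_lit 65) (nat_lit 0x200420) (.node .nil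
  (nat_lit 10242) (nat_lit 4801) (nat_lit 0x200120) .nil)) (nat_lit 10244) (nat_lit 8000) (nat_lit 528386)
  (.node (.node .nil (nat_lit 10248) (nat_lit 7265) (nat_lit 0x200220) .nil) (nat_lit 10272) (nat_lit 1873)
  (nat_lit 0x240020) (.node .nil (nat_lit 12289) (nat_lit 3520) (nat_lit 69640) .nil))))) (nat_lit 12290)
  (nat_lit 2464) (nat_lit 200704) (.node (.node (.node (.node (.node .nil (nat_lit 12292) (nat_lit 3424)
  (nat_lit 69634) .nil) (nat_lit 12296) (nat_lit 6769) (nat_lit 608) (.node .nil (nat_lit 12320) (nat_lit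
  2576) (nat_lit 69633) .nil)) (nat_lit 16656) (nat_lit 2833) (nat_lit 0x102004) (.node (.node .nil (nat_lit
  16704) (nat_lit 4929) (nat_lit 0x102002) .nil) (nat_lit 16768) (nat_lit 896) (nat_lit 0x400220) (.node .nil
  (nat_lit 16912) (nat_lit 1297) (nat_lit 0x100084) .nil))) (nat_lit 16960) (nat_lit 4865) (nat_lit 0x100082)
  (.node (.node (.node .nil (nat_lit 17024) (nat_lit 1585) (nat_lit 0x100081) .nil) (nat_lit 17424) (nat_lit
  1808) (nat_lit 0x100030) (.node .nil (nat_lit 17472) (nat_lit 5424) (nat_lit 2096) .nil)) (nat_lit 17536)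
  (nat_lit 2848) (nat_lit 560) (.node (.node .nil (nat_lit 18448) (nat_lit 7056) (nat_lit 0x180020) .nil)
  (nat_lit 18496) (nat_lit 6657) (nat_lit 0x300002) (.node .nil (nat_lit 18560) (nat_lit 4049) (nat_lit
  0x300001) .nil)))) (nat_lit 20496) (nat_lit 5409) (nat_lit 0x100044) (.node (.node (.node (.node .nil
  (nat_lit 20544) (nat_lit 2193) (nat_lit 0x100042) .nil) (nat_lit 20608) (nat_lit 6064) (nat_lit 66080)
  (.node .nil (nat_lit 24832) (nat_lit 4256) (nat_lit 0x401020) .nil)) (nat_lit 25088) (nat_lit 4192) (nat_lit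
  4256) (.node (.node .nil (nat_lit 25600) (nat_lit 7073) (nat_lit 0x180020) .nil) (nat_lit 26624) (nat_lit
  1600) (nat_lit 528416) (.node .nil (nat_lit 28672) (nat_lit 1536) (nat_lit 69664) .nil))) (nat_lit 32785)
  (nat_lit 7520) (nat_lit 0x102008) (.node (.node (.node .nil (nat_lit 32786) (nat_lit 6816) (nat_lit
  0x122000) .nil) (nat_lit 32788) (nat_lit 4912) (nat_lit 0x102002) (.node .nil (nat_lit 32792) (nat_lit 2816)
  (nat_lit 0x102004) .nil)) (nat_lit 32816) (nat_lit 3809) (nat_lit 262164) (.node (.node .nil (nat_lit 32833)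
  (nat_lit 1105) (nat_lit 1042) .nil) (nat_lit 32834) (nat_lit 3760) (nat_lit 141312) (.node .nil (nat_lit
  32836) (nat_lit 6752) (nat_lit 10242) .nil)))))))
def tY_1 : T := (.node (.node (.node (.node (.node (.node (.node .nil (nat_lit 32864) (nat_lit 144) (nat_lit
  10241) .nil) (nat_lit 32897) (nat_lit 6369) (nat_lit 1041) (.node .nil (nat_lit 32898) (nat_lit 33) (nat_lit
  273) .nil)) (nat_lit 32900) (nat_lit 5344) (nat_lit 8706) (.node (.node .nil (nat_lit 32904) (nat_lit 2688)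
  (nat_lit 8708) .nil) (nat_lit 32928) (nat_lit 2640) (nat_lit 8705) (.node .nil (nat_lit 40961) (nat_lit
  5537) (nat_lit 1072) .nil))) (nat_lit 40962) (nat_lit 5457) (nat_lit 304) (.node (.node (.node .nil (nat_lit
  40964) (nat_lit 4208) (nat_lit 12290) .nil) (nat_lit 40968) (nat_lit 2865) (nat_lit 560) (.node .nil
  (nat_lit 40992) (nat_lit 5504) (nat_lit 12289) .nil)) (nat_lit 49168) (nat_lit 4832) (nat_lit 0x102020)
  (.node (.node .nil (nat_lit 49216) (nat_lit 3360) (nat_lit 10272) .nil) (nat_lit 49280) (nat_lit 2608)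
  (nat_lit 8736) (.node .nil (nat_lit 57344) (nat_lit 1825) (nat_lit 0x100030) .nil)))) (nat_lit 65793)
  (nat_lit 5808) (nat_lit 0x400408) (.node (.node (.node (.node .nil (nat_lit 65794) (nat_lit 4321) (nat_lit
  8456) .nil) (nat_lit 65796) (nat_lit 7872) (nat_lit 0x400402) (.node .nil (nat_lit 65800) (nat_lit 3728)
  (nat_lit 0x400404) .nil)) (nat_lit 65824) (nat_lit 1729) (nat_lit 270344) (.node (.node .nil (nat_lit 66049)
  (nat_lit 7696) (nat_lit 1160) .nil) (nat_lit 66050) (nat_lit 4112) (nat_lit 132224) (.node .nil (nat_lit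
  66052) (nat_lit 1457) (nat_lit 4232) .nil))) (nat_lit 66056) (nat_lit 7665) (nat_lit 648) (.node (.node
  (.node .nil (nat_lit 66080) (nat_lit 4064) (nat_lit 1153) .nil) (nat_lit 66561) (nat_lit 400) (nat_lit 1048)
  (.node .nil (nat_lit 66562) (nat_lit 8080) (nat_lit 132112) .nil)) (nat_lit 66564) (nat_lit 1088) (nat_lit
  1042) (.node (.node .nil (nat_lit 66568) (nat_lit 6593) (nat_lit 524808) .nil) (nat_lit 66592) (nat_lit
  6352) (nat_lit 1041) (.node .nil (nat_lit 67585) (nat_lit 7744) (nat_lit 525320) .nil))))) (nat_lit 67586)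
  (nat_lit 2353) (nat_lit 0x200108) (.node (.node (.node (.node (.node .nil (nat_lit 67588) (nat_lit 7120)
  (nat_lit 525314) .nil) (nat_lit 67592) (nat_lit 4657) (nat_lit 0x200208) (.node .nil (nat_lit 67616)
  (nat_lit 4289) (nat_lit 0x240008) .nil)) (nat_lit 69633) (nat_lit 1393) (nat_lit 1096) (.node (.node .nil
  (nat_lit 69634) (nat_lit 1920) (nat_lit 197632) .nil) (nat_lit 69636) (nat_lit 5137) (nat_lit 4168) (.node
  .nil (nat_lit 69640) (nat_lit 2000) (nat_lit 66564) .nil))) (nat_lit 69664) (nat_lit 800) (nat_lit 66561)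
  (.node (.node (.node .nil (nat_lit 82176) (nat_lit 7424) (nat_lit 0x400420) .nil) (nat_lit 82432) (nat_lit
  5057) (nat_lit 0x100088) (.node .nil (nat_lit 82944) (nat_lit 1521) (nat_lit 0x180008) .nil)) (nat_lit
  83968) (nat_lit 3936) (nat_lit 525344) (.node (.node .nil (nat_lit 86016) (nat_lit 7681) (nat_lit 0x100048)
  .nil) (nat_lit 98305) (nat_lit 417) (nat_lit 1048) (.node .nil (nat_lit 98306) (nat_lit 4433) (nat_lit 280)
  .nil)))) (nat_lit 98308) (nat_lit 496) (nat_lit 9218) (.node (.node (.node (.node .nil (nat_lit 98312)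
  (nat_lit 2385) (nat_lit 536) .nil) (nat_lit 98336) (nat_lit 5936) (nat_lit 9217) (.node .nil (nat_lit
  114688) (nat_lit 4385) (nat_lit 0x100018) .nil)) (nat_lit 131344) (nat_lit 3328) (nat_lit 0x504000) (.node
  (.node .nil (nat_lit 131392) (nat_lit 5552) (nat_lit 0x404800) .nil) (nat_lit 131456) (nat_lit 161) (nat_lit
  10241) (.node .nil (nat_lit 131600) (nat_lit 1361) (nat_lit 2180) .nil))) (nat_lit 131648) (nat_lit 6048)
  (nat_lit 18560) (.node (.node (.node .nil (nat_lit 131712) (nat_lit 2880) (nat_lit 17024) .nil) (nat_lit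
  132112) (nat_lit 7280) (nat_lit 0x104010) (.node .nil (nat_lit 132160) (nat_lit 6689) (nat_lit 526338)
  .nil)) (nat_lit 132224) (nat_lit 2400) (nat_lit 16912) (.node (.node .nil (nat_lit 133136) (nat_lit 3136)
  (nat_lit 0x184000) .nil) (nat_lit 133184) (nat_lit 7105) (nat_lit 0x200802) (.node .nil (nat_lit 133248)
  (nat_lit 6320) (nat_lit 541184) .nil)))))) (nat_lit 135184) (nat_lit 112) (nat_lit 0x114000) (.node (.node
  (.node (.node (.node (.node .nil (nat_lit 135232) (nat_lit 3649) (nat_lit 2114) .nil) (nat_lit 135296)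
  (nat_lit 1905) (nat_lit 2113) (.node .nil (nat_lit 139520) (nat_lit 3377) (nat_lit 10272) .nil)) (nat_lit
  139776) (nat_lit 7648) (nat_lit 20608) (.node (.node .nil (nat_lit 140288) (nat_lit 7184) (nat_lit 20496)
  .nil) (nat_lit 141312) (nat_lit 2144) (nat_lit 544768) (.node .nil (nat_lit 143360) (nat_lit 7713) (nat_lit
  2144) .nil))) (nat_lit 163856) (nat_lit 7537) (nat_lit 2068) (.node (.node (.node .nil (nat_lit 163904)
  (nat_lit 2912) (nat_lit 26624) .nil) (nat_lit 163968) (nat_lit 2769) (nat_lit 2065) (.node .nil (nat_lit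
  172032) (nat_lit 2784) (nat_lit 28672) .nil)) (nat_lit 196864) (nat_lit 8065) (nat_lit 10248) (.node (.node
  .nil (nat_lit 197120) (nat_lit 385) (nat_lit 2184) .nil) (nat_lit 197632) (nat_lit 1041) (nat_lit 526344)
  (.node .nil (nat_lit 198656) (nat_lit 7488) (nat_lit 541696) .nil)))) (nat_lit 200704) (nat_lit 1329)
  (nat_lit 2120) (.node (.node (.node (.node .nil (nat_lit 229376) (nat_lit 5089) (nat_lit 2072) .nil)
  (nat_lit 262161) (nat_lit 3745) (nat_lit 0x400404) (.node .nil (nat_lit 262162) (nat_lit 1152) (nat_lit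
  0x120040) .nil)) (nat_lit 262164) (nat_lit 2176) (nat_lit 0x100042) (.node (.node .nil (nat_lit 262168)
  (nat_lit 5392) (nat_lit 0x100044) .nil) (nat_lit 262192) (nat_lit 7985) (nat_lit 0x440004) (.node .nil
  (nat_lit 262209) (nat_lit 1312) (nat_lit 2120) .nil))) (nat_lit 262210) (nat_lit 8048) (nat_lit 133184)
  (.node (.node (.node .nil (nat_lit 262212) (nat_lit 3632) (nat_lit 2114) .nil) (nat_lit 262216) (nat_lit
  3009) (nat_lit 0x400202) (.node .nil (nat_lit 262240) (nat_lit 1888) (nat_lit 2113) .nil)) (nat_lit 262273)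
  (nat_lit 2496) (nat_lit 584) (.node (.node .nil (nat_lit 262274) (nat_lit 3041) (nat_lit 0x400101) .nil)
  (nat_lit 262276) (nat_lit 3232) (nat_lit 578) (.node .nil (nat_lit 262280) (nat_lit 2720) (nat_lit 580)
  .nil))))) (nat_lit 262304) (nat_lit 736) (nat_lit 577) (.node (.node (.node (.node (.node .nil (nat_lit
  270337) (nat_lit 5120) (nat_lit 4168) .nil) (nat_lit 270338) (nat_lit 5632) (nat_lit 135232) (.node .nil
  (nat_lit 270340) (nat_lit 3872) (nat_lit 4162) .nil)) (nat_lit 270344) (nat_lit 913) (nat_lit 0x400220)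
  (.node (.node .nil (nat_lit 270368) (nat_lit 4177) (nat_lit 0x440020) .nil) (nat_lit 278544) (nat_lit 5441)
  (nat_lit 0x500004) (.node .nil (nat_lit 278592) (nat_lit 7617) (nat_lit 0x500002) .nil))) (nat_lit 278656)
  (nat_lit 3505) (nat_lit 0x500001) (.node (.node (.node .nil (nat_lit 286720) (nat_lit 7921) (nat_lit
  0x500020) .nil) (nat_lit 327681) (nat_lit 1376) (nat_lit 1096) (.node .nil (nat_lit 327682) (nat_lit 7345)
  (nat_lit 0x400108) .nil)) (nat_lit 327684) (nat_lit 481) (nat_lit 0x401008) (.node (.node .nil (nat_lit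
  327688) (nat_lit 7025) (nat_lit 0x400208) .nil) (nat_lit 327712) (nat_lit 1697) (nat_lit 0x440008) (.node
  .nil (nat_lit 344064) (nat_lit 4464) (nat_lit 1120) .nil)))) (nat_lit 393232) (nat_lit 7889) (nat_lit
  0x400804) (.node (.node (.node (.node .nil (nat_lit 393280) (nat_lit 3921) (nat_lit 0x400802) .nil) (nat_lit
  393344) (nat_lit 3713) (nat_lit 0x400801) (.node .nil (nat_lit 401408) (nat_lit 3824) (nat_lit 20544) .nil))
  (nat_lit 458752) (nat_lit 4769) (nat_lit 0x400808) (.node (.node .nil (nat_lit 524545) (nat_lit 4736)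
  (nat_lit 0x408008) .nil) (nat_lit 524546) (nat_lit 5329) (nat_lit 139520) (.node .nil (nat_lit 524548)
  (nat_lit 7504) (nat_lit 0x408002) .nil))) (nat_lit 524552) (nat_lit 7376) (nat_lit 0x408004) (.node (.node
  (.node .nil (nat_lit 524576) (nat_lit 1984) (nat_lit 0x408001) .nil) (nat_lit 524801) (nat_lit 4129)
  (nat_lit 132224) (.node .nil (nat_lit 524802) (nat_lit 353) (nat_lit 131456) .nil)) (nat_lit 524804)
  (nat_lit 80) (nat_lit 32898) (.node (.node .nil (nat_lit 524808) (nat_lit 4641) (nat_lit 131712) .nil)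
  (nat_lit 524832) (nat_lit 5697) (nat_lit 393344) (.node .nil (nat_lit 525313) (nat_lit 3665) (nat_lit
  656384) .nil)))))))
def tY_2 : T := (.node (.node (.node (.node (.node (.node (.node .nil (nat_lit 525316) (nat_lit 7809) (nat_lit
  659456) .nil) (nat_lit 525320) (nat_lit 6305) (nat_lit 655872) (.node .nil (nat_lit 525344) (nat_lit 2257)
  (nat_lit 917504) .nil)) (nat_lit 526337) (nat_lit 4240) (nat_lit 557064) (.node (.node .nil (nat_lit 526338)
  (nat_lit 4721) (nat_lit 0x220100) .nil) (nat_lit 526340) (nat_lit 6480) (nat_lit 557058) (.node .nil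
  (nat_lit 526344) (nat_lit 528) (nat_lit 557060) .nil))) (nat_lit 526368) (nat_lit 6560) (nat_lit 557057)
  (.node (.node (.node .nil (nat_lit 528385) (nat_lit 4096) (nat_lit 98312) .nil) (nat_lit 528386) (nat_lit
  6992) (nat_lit 229376) (.node .nil (nat_lit 528388) (nat_lit 5649) (nat_lit 135232) .nil)) (nat_lit 528392)
  (nat_lit 976) (nat_lit 98308) (.node (.node .nil (nat_lit 528416) (nat_lit 832) (nat_lit 98305) .nil)
  (nat_lit 540928) (nat_lit 6833) (nat_lit 0x122000) (.node .nil (nat_lit 541184) (nat_lit 4336) (nat_lit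
  32928) .nil)))) (nat_lit 541696) (nat_lit 5824) (nat_lit 32816) (.node (.node (.node (.node .nil (nat_lit
  542720) (nat_lit 7569) (nat_lit 0x320000) .nil) (nat_lit 544768) (nat_lit 1169) (nat_lit 0x120040) (.node
  .nil (nat_lit 557057) (nat_lit 4608) (nat_lit 40968) .nil)) (nat_lit 557058) (nat_lit 4496) (nat_lit 172032)
  (.node (.node .nil (nat_lit 557060) (nat_lit 257) (nat_lit 135184) .nil) (nat_lit 557064) (nat_lit 2529)
  (nat_lit 131600) (.node .nil (nat_lit 557088) (nat_lit 7312) (nat_lit 40961) .nil))) (nat_lit 573440)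
  (nat_lit 577) (nat_lit 0x120010) (.node (.node (.node .nil (nat_lit 655616) (nat_lit 3296) (nat_lit
  0x40c000) .nil) (nat_lit 655872) (nat_lit 4304) (nat_lit 49280) (.node .nil (nat_lit 656384) (nat_lit 2081)
  (nat_lit 657408) .nil)) (nat_lit 657408) (nat_lit 1120) (nat_lit 573440) (.node (.node .nil (nat_lit 659456)
  (nat_lit 6384) (nat_lit 114688) .nil) (nat_lit 688128) (nat_lit 3280) (nat_lit 57344) (.node .nil (nat_lit
  786433) (nat_lit 6001) (nat_lit 0x420400) .nil))))) (nat_lit 786434) (nat_lit 4672) (nat_lit 163904) (.node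
  (.node (.node (.node (.node .nil (nat_lit 786436) (nat_lit 5760) (nat_lit 32834) .nil) (nat_lit 786440)
  (nat_lit 7233) (nat_lit 0x420200) (.node .nil (nat_lit 786464) (nat_lit 2032) (nat_lit 32833) .nil))
  (nat_lit 802816) (nat_lit 304) (nat_lit 32864) (.node (.node .nil (nat_lit 917504) (nat_lit 1217) (nat_lit
  0x420800) .nil) (nat_lit 0x100011) (nat_lit 2017) (nat_lit 66564) (.node .nil (nat_lit 0x100012) (nat_lit
  7552) (nat_lit 0x320000) .nil))) (nat_lit 0x100014) (nat_lit 6640) (nat_lit 0x300002) (.node (.node (.node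
  .nil (nat_lit 0x100018) (nat_lit 2673) (nat_lit 66052) .nil) (nat_lit 0x100030) (nat_lit 961) (nat_lit
  327684) (.node .nil (nat_lit 0x100041) (nat_lit 8177) (nat_lit 66562) .nil)) (nat_lit 0x100042) (nat_lit
  1184) (nat_lit 0x220800) (.node (.node .nil (nat_lit 0x100044) (nat_lit 3441) (nat_lit 69634) .nil) (nat_lit
  0x100048) (nat_lit 6129) (nat_lit 66050) (.node .nil (nat_lit 0x100060) (nat_lit 6880) (nat_lit 0x200801)
  .nil)))) (nat_lit 0x100081) (nat_lit 817) (nat_lit 66561) (.node (.node (.node (.node .nil (nat_lit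
  0x100082) (nat_lit 3088) (nat_lit 0x220200) .nil) (nat_lit 0x100084) (nat_lit 672) (nat_lit 0x200202) (.node
  .nil (nat_lit 0x100088) (nat_lit 3200) (nat_lit 0x200204) .nil)) (nat_lit 0x1000a0) (nat_lit 2561) (nat_lit
  327681) (.node (.node .nil (nat_lit 0x102001) (nat_lit 7777) (nat_lit 66592) .nil) (nat_lit 0x102002)
  (nat_lit 3121) (nat_lit 65824) (.node .nil (nat_lit 0x102004) (nat_lit 1553) (nat_lit 69664) .nil)))
  (nat_lit 0x102008) (nat_lit 5856) (nat_lit 0x201004) (.node (.node (.node .nil (nat_lit 0x102020) (nat_lit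
  3073) (nat_lit 327712) .nil) (nat_lit 0x104010) (nat_lit 5521) (nat_lit 0x110004) (.node .nil (nat_lit
  0x104040) (nat_lit 7136) (nat_lit 0x200820) .nil)) (nat_lit 0x104080) (nat_lit 7248) (nat_lit 0x200220)
  (.node (.node .nil (nat_lit 0x106000) (nat_lit 7825) (nat_lit 0x110020) .nil) (nat_lit 0x110001) (nat_lit
  7760) (nat_lit 0x200408) (.node .nil (nat_lit 0x110002) (nat_lit 5729) (nat_lit 65800) .nil)))))) (nat_lit
  0x110004) (nat_lit 3537) (nat_lit 69640) (.node (.node (.node (.node (.node (.node .nil (nat_lit 0x110008)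
  (nat_lit 3776) (nat_lit 0x200404) .nil) (nat_lit 0x110020) (nat_lit 6400) (nat_lit 0x200401) (.node .nil
  (nat_lit 0x114000) (nat_lit 48) (nat_lit 0x200420) .nil)) (nat_lit 0x120010) (nat_lit 272) (nat_lit
  0x304000) (.node (.node .nil (nat_lit 0x120040) (nat_lit 592) (nat_lit 0x204800) .nil) (nat_lit 0x120080)
  (nat_lit 8145) (nat_lit 67585) (.node .nil (nat_lit 0x122000) (nat_lit 4880) (nat_lit 0x205000) .nil)))
  (nat_lit 0x130000) (nat_lit 4960) (nat_lit 0x204400) (.node (.node (.node .nil (nat_lit 0x180001) (nat_lit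
  1937) (nat_lit 197632) .nil) (nat_lit 0x180002) (nat_lit 7728) (nat_lit 0x228000) (.node .nil (nat_lit
  0x180004) (nat_lit 2481) (nat_lit 200704) .nil)) (nat_lit 0x180008) (nat_lit 785) (nat_lit 197120) (.node
  (.node .nil (nat_lit 0x180020) (nat_lit 5152) (nat_lit 0x208001) .nil) (nat_lit 0x184000) (nat_lit 1744)
  (nat_lit 0x208020) (.node .nil (nat_lit 0x1a0000) (nat_lit 8096) (nat_lit 0x20c000) .nil)))) (nat_lit
  0x200101) (nat_lit 7328) (nat_lit 0x400108) (.node (.node (.node (.node .nil (nat_lit 0x200102) (nat_lit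
  5024) (nat_lit 0x420100) .nil) (nat_lit 0x200104) (nat_lit 2801) (nat_lit 28672) (.node .nil (nat_lit
  0x200108) (nat_lit 1264) (nat_lit 0x400104) .nil)) (nat_lit 0x200120) (nat_lit 3024) (nat_lit 0x400101)
  (.node (.node .nil (nat_lit 0x200201) (nat_lit 4352) (nat_lit 392) .nil) (nat_lit 0x200202) (nat_lit 336)
  (nat_lit 131456) (.node .nil (nat_lit 0x200204) (nat_lit 1776) (nat_lit 386) .nil))) (nat_lit 0x200208)
  (nat_lit 2897) (nat_lit 17024) (.node (.node (.node .nil (nat_lit 0x200220) (nat_lit 5489) (nat_lit 278656)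
  .nil) (nat_lit 0x200401) (nat_lit 4416) (nat_lit 280) (.node .nil (nat_lit 0x200402) (nat_lit 5264) (nat_lit
  131344) .nil)) (nat_lit 0x200404) (nat_lit 2161) (nat_lit 544768) (.node (.node .nil (nat_lit 0x200408)
  (nat_lit 6337) (nat_lit 541184) .nil) (nat_lit 0x200420) (nat_lit 16) (nat_lit 273) (.node .nil (nat_lit
  0x200801) (nat_lit 4977) (nat_lit 0x204400) .nil))))) (nat_lit 0x200802) (nat_lit 5200) (nat_lit 655616)
  (.node (.node (.node (.node (.node .nil (nat_lit 0x200804) (nat_lit 4897) (nat_lit 0x205000) .nil) (nat_lit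
  0x200808) (nat_lit 8112) (nat_lit 524548) (.node .nil (nat_lit 0x200820) (nat_lit 5297) (nat_lit 0x244000)
  .nil)) (nat_lit 0x201001) (nat_lit 5712) (nat_lit 65800) (.node (.node .nil (nat_lit 0x201002) (nat_lit
  6865) (nat_lit 16704) .nil) (nat_lit 0x201004) (nat_lit 3841) (nat_lit 20544) (.node .nil (nat_lit 0x201008)
  (nat_lit 6801) (nat_lit 16960) .nil))) (nat_lit 0x201020) (nat_lit 7472) (nat_lit 65793) (.node (.node
  (.node .nil (nat_lit 0x204100) (nat_lit 7632) (nat_lit 0x400120) .nil) (nat_lit 0x204200) (nat_lit 7840)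
  (nat_lit 416) (.node .nil (nat_lit 0x204400) (nat_lit 3153) (nat_lit 0x184000) .nil)) (nat_lit 0x204800)
  (nat_lit 289) (nat_lit 0x304000) (.node (.node .nil (nat_lit 0x205000) (nat_lit 3104) (nat_lit 65824) .nil)
  (nat_lit 0x208001) (nat_lit 3265) (nat_lit 17424) (.node .nil (nat_lit 0x208002) (nat_lit 4593) (nat_lit
  16656) .nil)))) (nat_lit 0x208004) (nat_lit 7201) (nat_lit 20496) (.node (.node (.node (.node .nil (nat_lit
  0x208008) (nat_lit 2417) (nat_lit 16912) .nil) (nat_lit 0x208020) (nat_lit 928) (nat_lit 8449) (.node .nil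
  (nat_lit 0x20c000) (nat_lit 7297) (nat_lit 0x104010) .nil)) (nat_lit 0x220100) (nat_lit 2929) (nat_lit
  26624) (.node (.node .nil (nat_lit 0x220200) (nat_lit 1712) (nat_lit 16768) .nil) (nat_lit 0x220400)
  (nat_lit 4576) (nat_lit 16656) (.node .nil (nat_lit 0x220800) (nat_lit 609) (nat_lit 0x204800) .nil)))
  (nat_lit 0x221000) (nat_lit 7905) (nat_lit 18496) (.node (.node (.node .nil (nat_lit 0x228000) (nat_lit
  6256) (nat_lit 24832) .nil) (nat_lit 0x240001) (nat_lit 7168) (nat_lit 328) (.node .nil (nat_lit 0x240002)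
  (nat_lit 6177) (nat_lit 0x404100) .nil)) (nat_lit 0x240004) (nat_lit 2208) (nat_lit 322) (.node (.node .nil
  (nat_lit 0x240008) (nat_lit 2593) (nat_lit 0x404200) .nil) (nat_lit 0x240020) (nat_lit 1008) (nat_lit 321)
  (.node .nil (nat_lit 0x244000) (nat_lit 3345) (nat_lit 0x504000) .nil)))))))
def tY_3 : T := (.node (.node (.node (.node (.node (.node (.node .nil (nat_lit 0x300001) (nat_lit 2336)
  (nat_lit 0x200108) .nil) (nat_lit 0x300002) (nat_lit 4704) (nat_lit 0x220100) (.node .nil (nat_lit 0x300004)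
  (nat_lit 6944) (nat_lit 0x200102) .nil)) (nat_lit 0x300008) (nat_lit 4528) (nat_lit 0x200104) (.node (.node
  .nil (nat_lit 0x300020) (nat_lit 6465) (nat_lit 344064) .nil) (nat_lit 0x304000) (nat_lit 129) (nat_lit
  0x114000) (.node .nil (nat_lit 0x320000) (nat_lit 5921) (nat_lit 83968) .nil))) (nat_lit 0x400101) (nat_lit
  1680) (nat_lit 0x440008) (.node (.node (.node .nil (nat_lit 0x400102) (nat_lit 7969) (nat_lit 0x802100)
  .nil) (nat_lit 0x400104) (nat_lit 657) (nat_lit 0x803000) (.node .nil (nat_lit 0x400108) (nat_lit 5601)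
  (nat_lit 0x802200) .nil)) (nat_lit 0x400120) (nat_lit 6032) (nat_lit 0x440001) (.node (.node .nil (nat_lit
  0x400201) (nat_lit 4448) (nat_lit 262280) .nil) (nat_lit 0x400202) (nat_lit 1665) (nat_lit 0x800180) (.node
  .nil (nat_lit 0x400204) (nat_lit 3617) (nat_lit 0x801080) .nil)))) (nat_lit 0x400208) (nat_lit 5104)
  (nat_lit 262276) (.node (.node (.node (.node .nil (nat_lit 0x400220) (nat_lit 449) (nat_lit 0x840080) .nil)
  (nat_lit 0x400401) (nat_lit 7089) (nat_lit 0x880400) (.node .nil (nat_lit 0x400402) (nat_lit 6529) (nat_lit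
  0x880100) .nil)) (nat_lit 0x400404) (nat_lit 2128) (nat_lit 262162) (.node (.node .nil (nat_lit 0x400408)
  (nat_lit 3792) (nat_lit 262164) .nil) (nat_lit 0x400420) (nat_lit 5744) (nat_lit 262161) (.node .nil
  (nat_lit 0x400801) (nat_lit 2113) (nat_lit 0xa00400) .nil))) (nat_lit 0x400802) (nat_lit 2240) (nat_lit
  917504) (.node (.node (.node .nil (nat_lit 0x400804) (nat_lit 6624) (nat_lit 786434) .nil) (nat_lit
  0x400808) (nat_lit 2977) (nat_lit 0xa00200) (.node .nil (nat_lit 0x400820) (nat_lit 5249) (nat_lit 0xa40000)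
  .nil)) (nat_lit 0x401001) (nat_lit 7857) (nat_lit 0x800440) (.node (.node .nil (nat_lit 0x401002) (nat_lit
  6720) (nat_lit 458752) .nil) (nat_lit 0x401004) (nat_lit 7457) (nat_lit 0x801040) (.node .nil (nat_lit
  0x401008) (nat_lit 225) (nat_lit 0x800240) .nil))))) (nat_lit 0x401020) (nat_lit 2544) (nat_lit 327681)
  (.node (.node (.node (.node (.node .nil (nat_lit 0x404100) (nat_lit 4160) (nat_lit 0x440020) .nil) (nat_lit
  0x404200) (nat_lit 1408) (nat_lit 262304) (.node .nil (nat_lit 0x404400) (nat_lit 8033) (nat_lit 0x980000)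
  .nil)) (nat_lit 0x404800) (nat_lit 3568) (nat_lit 786464) (.node (.node .nil (nat_lit 0x405000) (nat_lit
  3056) (nat_lit 327712) .nil) (nat_lit 0x408001) (nat_lit 1073) (nat_lit 0x800410) (.node .nil (nat_lit
  0x408002) (nat_lit 5840) (nat_lit 401408) .nil))) (nat_lit 0x408004) (nat_lit 5681) (nat_lit 0x801010)
  (.node (.node (.node .nil (nat_lit 0x408008) (nat_lit 2961) (nat_lit 0x800210) .nil) (nat_lit 0x408020)
  (nat_lit 7040) (nat_lit 270337) (.node .nil (nat_lit 0x40c000) (nat_lit 1841) (nat_lit 0x900010) .nil))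
  (nat_lit 0x420100) (nat_lit 3185) (nat_lit 0x802800) (.node (.node .nil (nat_lit 0x420200) (nat_lit 5472)
  (nat_lit 278656) .nil) (nat_lit 0x420400) (nat_lit 3985) (nat_lit 0x880800) (.node .nil (nat_lit 0x420800)
  (nat_lit 624) (nat_lit 802816) .nil)))) (nat_lit 0x421000) (nat_lit 5985) (nat_lit 0x800840) (.node (.node
  (.node (.node .nil (nat_lit 0x428000) (nat_lit 8160) (nat_lit 286720) .nil) (nat_lit 0x440001) (nat_lit
  4017) (nat_lit 0xc00400) (.node .nil (nat_lit 0x440002) (nat_lit 2321) (nat_lit 0xc00100) .nil)) (nat_lit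
  0x440004) (nat_lit 6929) (nat_lit 0xc01000) (.node (.node .nil (nat_lit 0x440008) (nat_lit 881) (nat_lit
  0xc00200) .nil) (nat_lit 0x440020) (nat_lit 2432) (nat_lit 262209) (.node .nil (nat_lit 0x444000) (nat_lit
  3392) (nat_lit 262240) .nil))) (nat_lit 0x460000) (nat_lit 7953) (nat_lit 0xc00800) (.node (.node (.node
  .nil (nat_lit 0x500001) (nat_lit 1969) (nat_lit 0x810400) .nil) (nat_lit 0x500002) (nat_lit 6017) (nat_lit
  0x810100) (.node .nil (nat_lit 0x500004) (nat_lit 3473) (nat_lit 0x811000) .nil)) (nat_lit 0x500008)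
  (nat_lit 3856) (nat_lit 0x240004) (.node (.node .nil (nat_lit 0x500020) (nat_lit 6705) (nat_lit 0x850000)
  .nil) (nat_lit 0x504000) (nat_lit 1856) (nat_lit 0x240020) (.node .nil (nat_lit 0x520000) (nat_lit 5280)
  (nat_lit 0x244000) .nil)))))) (nat_lit 0x800110) (nat_lit 6209) (nat_lit 40964) (.node (.node (.node (.node
  (.node (.node .nil (nat_lit 0x800140) (nat_lit 7217) (nat_lit 40962) .nil) (nat_lit 0x800180) (nat_lit 864)
  (nat_lit 0xc00200) (.node .nil (nat_lit 0x800210) (nat_lit 1632) (nat_lit 0x900080) .nil)) (nat_lit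
  0x800240) (nat_lit 97) (nat_lit 32898) (.node (.node .nil (nat_lit 0x800280) (nat_lit 7793) (nat_lit 32897)
  .nil) (nat_lit 0x800410) (nat_lit 545) (nat_lit 557060) (.node .nil (nat_lit 0x800440) (nat_lit 6497)
  (nat_lit 557058) .nil))) (nat_lit 0x800480) (nat_lit 2944) (nat_lit 0x800210) (.node (.node (.node .nil
  (nat_lit 0x800810) (nat_lit 8016) (nat_lit 0x980000) .nil) (nat_lit 0x800840) (nat_lit 3968) (nat_lit
  0x880800) (.node .nil (nat_lit 0x800880) (nat_lit 5169) (nat_lit 0x208001) .nil)) (nat_lit 0x801010)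
  (nat_lit 3680) (nat_lit 0x910000) (.node (.node .nil (nat_lit 0x801040) (nat_lit 5777) (nat_lit 32834) .nil)
  (nat_lit 0x801080) (nat_lit 2049) (nat_lit 32833) (.node .nil (nat_lit 0x802100) (nat_lit 6912) (nat_lit
  0xc01000) .nil)))) (nat_lit 0x802200) (nat_lit 3600) (nat_lit 0x801080) (.node (.node (.node (.node .nil
  (nat_lit 0x802400) (nat_lit 5664) (nat_lit 0x801010) .nil) (nat_lit 0x802800) (nat_lit 1761) (nat_lit
  0x208020) (.node .nil (nat_lit 0x803000) (nat_lit 321) (nat_lit 32864) .nil)) (nat_lit 0x808010) (nat_lit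
  6849) (nat_lit 32788) (.node (.node .nil (nat_lit 0x808040) (nat_lit 3168) (nat_lit 0x802800) .nil) (nat_lit
  0x808080) (nat_lit 5584) (nat_lit 0x802200) (.node .nil (nat_lit 0x80a000) (nat_lit 640) (nat_lit 0x803000)
  .nil))) (nat_lit 0x810100) (nat_lit 4000) (nat_lit 0xc00400) (.node (.node (.node .nil (nat_lit 0x810200)
  (nat_lit 4401) (nat_lit 32904) .nil) (nat_lit 0x810400) (nat_lit 1056) (nat_lit 0x800410) (.node .nil
  (nat_lit 0x810800) (nat_lit 4145) (nat_lit 0x208008) .nil)) (nat_lit 0x811000) (nat_lit 1952) (nat_lit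
  0x810400) (.node (.node .nil (nat_lit 0x818000) (nat_lit 4561) (nat_lit 32792) .nil) (nat_lit 0x840010)
  (nat_lit 7393) (nat_lit 0x408004) (.node .nil (nat_lit 0x840040) (nat_lit 5968) (nat_lit 0x800840) .nil)))))
  (nat_lit 0x840080) (nat_lit 208) (nat_lit 0x800240) (.node (.node (.node (.node (.node .nil (nat_lit
  0x842000) (nat_lit 7440) (nat_lit 0x801040) .nil) (nat_lit 0x850000) (nat_lit 4753) (nat_lit 0x408008)
  (.node .nil (nat_lit 0x880100) (nat_lit 4513) (nat_lit 172032) .nil)) (nat_lit 0x880200) (nat_lit 4481)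
  (nat_lit 163968) (.node (.node .nil (nat_lit 0x880400) (nat_lit 5185) (nat_lit 688128) .nil) (nat_lit
  0x880800) (nat_lit 2272) (nat_lit 0x888000) (.node .nil (nat_lit 0x881000) (nat_lit 4689) (nat_lit 163904)
  .nil))) (nat_lit 0x888000) (nat_lit 1232) (nat_lit 0x80a000) (.node (.node (.node .nil (nat_lit 0x8c0000)
  (nat_lit 4992) (nat_lit 0x808040) .nil) (nat_lit 0x900010) (nat_lit 993) (nat_lit 98308) (.node .nil
  (nat_lit 0x900040) (nat_lit 6433) (nat_lit 98306) .nil)) (nat_lit 0x900080) (nat_lit 849) (nat_lit 98305)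
  (.node (.node .nil (nat_lit 0x902000) (nat_lit 7152) (nat_lit 0xa01000) .nil) (nat_lit 0x910000) (nat_lit
  2096) (nat_lit 0xa00400) (.node .nil (nat_lit 0x980000) (nat_lit 7009) (nat_lit 229376) .nil)))) (nat_lit
  0xa00100) (nat_lit 2304) (nat_lit 0xc00100) (.node (.node (.node (.node .nil (nat_lit 0xa00200) (nat_lit
  1648) (nat_lit 0x800180) .nil) (nat_lit 0xa00400) (nat_lit 1137) (nat_lit 573440) (.node .nil (nat_lit
  0xa00800) (nat_lit 6512) (nat_lit 0x880100) .nil)) (nat_lit 0xa01000) (nat_lit 5313) (nat_lit 49216) (.node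
  (.node .nil (nat_lit 0xa08000) (nat_lit 6785) (nat_lit 49168) .nil) (nat_lit 0xa40000) (nat_lit 3313)
  (nat_lit 0x40c000) (.node .nil (nat_lit 0xb00000) (nat_lit 4032) (nat_lit 0xa00100) .nil))) (nat_lit
  0xc00100) (nat_lit 1249) (nat_lit 0x80a000) (.node (.node (.node .nil (nat_lit 0xc00200) (nat_lit 432)
  (nat_lit 0x840080) .nil) (nat_lit 0xc00400) (nat_lit 2289) (nat_lit 0x888000) (.node .nil (nat_lit 0xc00800)
  (nat_lit 6896) (nat_lit 0x8c0000) .nil)) (nat_lit 0xc01000) (nat_lit 5009) (nat_lit 0x808040) (.node (.node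
  .nil (nat_lit 0xc08000) (nat_lit 7937) (nat_lit 0x808010) .nil) (nat_lit 0xc40000) (nat_lit 7584) (nat_lit
  0x840040) (.node .nil (nat_lit 0xd00000) (nat_lit 5232) (nat_lit 0xa40000) .nil)))))))
def tY : T := (.node (.node tY_0 (nat_lit 32840) (nat_lit 6737) (nat_lit 530) tY_1) (nat_lit 525314) (nat_lit
  5217) (nat_lit 655616) (.node tY_2 (nat_lit 0x260000) (nat_lit 5569) (nat_lit 0x404800) tY_3))
def ty : T := (.node (.node .nil (nat_lit 0x1360ab2ee7a0eaf4c98834c24895c0) (nat_lit 32) (nat_lit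
  0x2d4f26a4465461462de89d9c4b8460) .nil) (nat_lit 0x2d4f26a4465461462de89d9c4b8460) (nat_lit 16) (nat_lit
  0x71e6983c36588d2a31486d62428ee0) (.node .nil (nat_lit 0x71e6983c36588d2a31486d62428ee0) (nat_lit 0)
  (nat_lit 0x71e6983c36588d2a31486d62428ee0) .nil))

theorem fix_T0 {T : Finset (Finset GolayPt)} (hT : T ∈ trios) (h : y7 • T = T) : T = T0 := by
  have := forall_trios (f := fun k => bor (!Nat.beq (apT 591406560538778330222360050513645280 k) k) (Nat.beq k 143212179398400))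
    (by decide +kernel) T hT
  rw [← mcode_y7, (acT.smul_eq_iff y7 hT hT).1 h, ← tkey_T0] at this
  exact acT.inj hT T0_mem (by simpa using this)

theorem norm_eq : Subgroup.normalizer (Subgroup.zpowers y7 : Set M24) = gen mcode (gensOf cH) := by
  have hz : gen mcode (gensOf cP7) = Subgroup.zpowers y7 := by
    rw [← gen_singleton gcM.inj, mcode_y7]; rfl
  refine le_antisymm (fun n hn => ?_) ?_
  · rw [← inf_stab_of_chk acSM (x := fixs y7) trivial cT_chk cH_chk (t := tY) (hi := 2 ^ 24)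
      (k := 273) (by rw [fixs_y7, mask_unmask (by norm_num)]) (by decide +kernel) (by decide +kernel),
      ← stab_T0]
    have h1 : n⁻¹ * y7 * n ∈ Subgroup.zpowers y7 := GT.conj_mem_of_le_norm' le_rfl hn
      (Subgroup.mem_zpowers y7)
    have h2 : ∀ {X : Type} [MulAction M24 X] (x : X), y7 • x = x → y7 • n • x = n • x := by
      intro X _ x hx
      have : Subgroup.zpowers y7 ≤ stabilizer M24 x := Subgroup.zpowers_le.2 hx
      have := this h1
      rwa [mem_stabilizer_iff, mul_smul, mul_smul, inv_smul_eq_iff] at this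
    refine ⟨fix_T0 (trio_smul T0_mem n.2) (h2 T0 ?_), ?_⟩
    · rw [acT.smul_eq_iff y7 T0_mem T0_mem, mcode_y7, tkey_T0]; decide +kernel
    · refine eq_of_subset_of_card_le (fun a ha => ?_) (by rw [card_smul_finset])
      obtain ⟨b, hb, rfl⟩ := mem_smul_finset.1 ha
      exact mem_fixs.2 (h2 b (mem_fixs.1 hb))
  · rw [← hz]
    exact gcM.gen_le_normalizer (fun g hg => (mem_iff_sift cP7_chk).2 hg) (by decide +kernel)

theorem cent_eq : Subgroup.centralizer (Subgroup.zpowers y7 : Set M24) = gen mcode (gensOf cC) := by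
  rw [← inf_stab_of_chk gcM.acCj (x := toCj y7) trivial cH_chk cC_chk (t := ty) (hi := 2 ^ 120)
    mcode_y7 (by decide +kernel) (by decide +kernel), ← norm_eq, stabilizer_toCj,
    ← Subgroup.centralizer_closure {y7}, ← Subgroup.zpowers_eq_closure, eq_comm, inf_eq_right]
  exact Subgroup.centralizer_le_normalizer _

theorem exists_conj {S : Subgroup M24} (h : Nat.card S = 7) :
    ∃ k : M24, S = (Subgroup.zpowers y7).map (MulAut.conj k).toMonoidHom := by
  have : Fact (Nat.Prime 7) := ⟨by norm_num⟩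
  obtain ⟨x, hx⟩ := (Subgroup.isCyclic_iff_exists_zpowers_eq_top S).1 (isCyclic_of_prime_card h)
  obtain ⟨k, e | e⟩ := class7 (g := x) (by rw [← Nat.card_zpowers, hx, h])
  · exact ⟨k, by rw [GT.conj_zpowers, ← e, hx]⟩
  · refine ⟨k, ?_⟩
    have : Subgroup.zpowers y7b = Subgroup.zpowers y7 := by
      refine Subgroup.eq_of_le_of_card_ge (Subgroup.zpowers_le.2 ⟨3, ?_⟩)
        (by rw [Nat.card_zpowers, Nat.card_zpowers, orderOf_y7, orderOf_y7b])
      apply gcM.inj
      simp only [zpow_ofNat]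
      rw [← gcM.cpow_code, mcode_y7, mcode_y7b]; decide +kernel
    rw [← this, GT.conj_zpowers, ← e, hx]


/-- For a subgroup S of order 7 of the group of the length-24 code (a Sylow 7-subgroup): the normaliser of S has order 126, the centraliser of S has order 42 and is non-abelian, and the whole normaliser leaves some trio invariant. (These are the orders of a Frobenius group of order 21 times a symmetric group of degree 3; the isomorphism type itself is not asserted here.) -/
theorem result (S : Subgroup ↥Cfsg.M24) (hS : Nat.card S = 7) : Nat.card ↥(Subgroup.normalizer (S : Set ↥Cfsg.M24)) = 126 ∧ Nat.card ↥(Subgroup.centralizer (S : Set ↥Cfsg.M24)) = 42 ∧ (∃ x ∈ Subgroup.centralizer (S : Set ↥Cfsg.M24), ∃ y ∈ Subgroup.centralizer (S : Set ↥Cfsg.M24), x * y ≠ y * x) ∧ ∃ T ∈ Cfsg.trios, ∀ n ∈ Subgroup.normalizer (S : Set ↥Cfsg.M24), ((n : ↥Cfsg.M24) : Equiv.Perm Cfsg.GolayPt) • T = T := by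
  obtain ⟨k, rfl⟩ := exists_conj hS
  rw [← GT.conj_normalizer, ← GT.conj_centralizer, GT.card_conj, GT.card_conj, norm_eq, cent_eq]
  refine ⟨card_of_chk cH_chk (by decide +kernel), card_of_chk cC_chk (by decide +kernel), ?_,
    k • T0, trio_smul T0_mem k.2, fun n hn => ?_⟩
  · have ha : mcode (elt 879387059363288998237782735164489924) = 879387059363288998237782735164489924 := mcode_elt (by decide +kernel)
    have hb : mcode (elt 519476443575604149485798676926676296) = 519476443575604149485798676926676296 := mcode_elt (by decide +kernel)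
    refine ⟨_, GT.conj_mem_conj.2 (mem_gen_of_mem (g := elt 879387059363288998237782735164489924) (by rw [ha]; decide +kernel)), _,
      GT.conj_mem_conj.2 (mem_gen_of_mem (g := elt 519476443575604149485798676926676296) (by rw [hb]; decide +kernel)), fun e => ?_⟩
    have : elt 879387059363288998237782735164489924 * elt 519476443575604149485798676926676296 = elt 519476443575604149485798676926676296 * elt 879387059363288998237782735164489924 := by
      apply (MulAut.conj k).injective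
      rw [map_mul, map_mul]; exact e
    have := congrArg mcode this
    rw [gcM.code_mul, gcM.code_mul, ha, hb] at this
    exact absurd this (by decide +kernel)
  · have h1 : gen mcode (gensOf cH) ≤ stabilizer M24 T0 :=
      acT.gen_le_stab T0_mem (by rw [tkey_T0]; decide +kernel)
    have := h1 (GT.mem_conj.1 hn)
    rwa [mem_stabilizer_iff, mul_smul, mul_smul, inv_smul_eq_iff] at this

end Cfsg.Agent.S5604
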