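import Cfsg.Statements.S5610
import Cfsg.Agent.M24.Reps

set_option autoImplicit false
open scoped Pointwise
open Cfsg

namespace Cfsg.Agent.S5610

open Cfsg.Agent.M24 Finset MulAction
open scoped symmDiff Pointwise

def tt15 : T := (.node (.node (.node (.node .nil (nat_lit 0x82402f0527c0) (nat_lit 145) (nat_lit
  0x82402f258c50) .nil) (nat_lit 0x82402f099590) (nat_lit 16) (nat_lit 0x82402f149f00) (.node .nil (nat_lit
  0x82402f0cb250) (nat_lit 97) (nat_lit 0x82402f1d0a90) .nil)) (nat_lit 0x82402f11b8c0) (nat_lit 112) (nat_lit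
  0x82402f20ab90) (.node (.node .nil (nat_lit 0x82402f149f00) (nat_lit 0) (nat_lit 0x82402f149f00) .nil)
  (nat_lit 0x82402f182d50) (nat_lit 177) (nat_lit 0x82402f0cb250) (.node .nil (nat_lit 0x82402f1d0a90)
  (nat_lit 48) (nat_lit 0x82402f099590) .nil))) (nat_lit 0x82402f20ab90) (nat_lit 65) (nat_lit 0x82402f099590)
  (.node (.node (.node .nil (nat_lit 0x82402f258c50) (nat_lit 81) (nat_lit 0x82402f2c19c0) .nil) (nat_lit
  0x82402f293e00) (nat_lit 225) (nat_lit 0x82402f311350) (.node .nil (nat_lit 0x82402f2c19c0) (nat_lit 33)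
  (nat_lit 0x82402f149f00) .nil)) (nat_lit 0x82402f311350) (nat_lit 160) (nat_lit 0x82402f0cb250) (.node
  (.node .nil (nat_lit 0x82402f343490) (nat_lit 208) (nat_lit 0x82402f311350) .nil) (nat_lit 0x82402f3886c0)
  (nat_lit 193) (nat_lit 0x82402f0527c0) (.node .nil (nat_lit 0x82402f3da100) (nat_lit 129) (nat_lit
  0x82402f20ab90) .nil))))
theorem tt15_chk : band (orbChk apT (gensOf cO) 143212179398400 (2 ^ 48) tt15) (Nat.beq tt15.size 15) = true := by
  decide +kernel
theorem tt15_card : (orbit (stabilizer M24 O0) (trio (unmask 1351424) (unmask 8536111))).ncard = 15 :=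
  orbit_ncard_of_chk acT (trio_rep (a := 1351424) (b := 8536111) (k := 143212179398400) (by decide +kernel)).1 cO_chk stab_O0 (trio_rep (a := 1351424) (b := 8536111) (k := 143212179398400) (by decide +kernel)).2 tt15_chk

def tt420_0 : T := (.node (.node (.node (.node (.node (.node (.node .nil (nat_lit 0x800c751a610a) (nat_lit
  1169) (nat_lit 0x8e106400e21b) .nil) (nat_lit 0x800c7527c00a) (nat_lit 528) (nat_lit 0xc8430311b8c0) (.node
  .nil (nat_lit 0x800c753da100) (nat_lit 3152) (nat_lit 0x81c84326043c) .nil)) (nat_lit 0x8018ea13e005)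
  (nat_lit 5696) (nat_lit 0xa0c838022387) (.node (.node .nil (nat_lit 0x8018ea2e4105) (nat_lit 4880) (nat_lit
  0xa0c8380527c0) .nil) (nat_lit 0x8018ea3da100) (nat_lit 5153) (nat_lit 0xcb004a145425) .nil)) (nat_lit
  0x80254b0742a4) (nat_lit 5185) (nat_lit 0xa10c0e06c071) (.node (.node (.node .nil (nat_lit 0x80254b1a4834)
  (nat_lit 577) (nat_lit 0x88320e06c071) .nil) (nat_lit 0x80254b1d0a90) (nat_lit 4640) (nat_lit
  0xb66020099590) (.node .nil (nat_lit 0x804a961f0029) (nat_lit 3969) (nat_lit 0x891423226a0c) .nil)) (nat_lit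
  0x804a9622a129) (nat_lit 2337) (nat_lit 0x89142302c19c) (.node (.node .nil (nat_lit 0x804a963da100) (nat_lit
  6401) (nat_lit 0x89142320ab90) .nil) (nat_lit 0x805e09168126) (nat_lit 1232) (nat_lit 0x87083218428d)
  .nil))) (nat_lit 0x805e092b2026) (nat_lit 4704) (nat_lit 0x8708323886c0) (.node (.node (.node (.node .nil
  (nat_lit 0x805e093da100) (nat_lit 2816) (nat_lit 0x87083220c44d) .nil) (nat_lit 0x8063a8070447) (nat_lit
  6417) (nat_lit 0xa6084901c436) (.node .nil (nat_lit 0x8063a8228817) (nat_lit 5952) (nat_lit 0x91a02a2c19c0)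
  .nil)) (nat_lit 0x8063a8258c50) (nat_lit 4065) (nat_lit 0xd2220901c436) (.node (.node .nil (nat_lit
  0x8081b30b540c) (nat_lit 2640) (nat_lit 0x84190712c628) .nil) (nat_lit 0x8081b3226a0c) (nat_lit 5745)
  (nat_lit 0x81511a0a84a5) .nil)) (nat_lit 0x8081b3293e00) (nat_lit 6081) (nat_lit 0xc4680a0a84a5) (.node
  (.node (.node .nil (nat_lit 0x80952c0b4093) (nat_lit 3297) (nat_lit 0x90c0e42a060b) .nil) (nat_lit
  0x80952c164a03) (nat_lit 592) (nat_lit 0x940a2c0b4093) .nil) (nat_lit 0x80952c1d0a90) (nat_lit 5648)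
  (nat_lit 0x940a2c099590) (.node (.node .nil (nat_lit 0x80a88d135062) (nat_lit 3088) (nat_lit 0x82a23420498b)
  .nil) (nat_lit 0x80a88d224332) (nat_lit 3872) (nat_lit 0x82a2342c19c0) .nil)))) (nat_lit 0x80a88d311350)
  (nat_lit 2369) (nat_lit 0x8254b03da100) (.node (.node (.node (.node (.node .nil (nat_lit 0x810366066489)
  (nat_lit 1536) (nat_lit 0x8ea00331412c) .nil) (nat_lit 0x810366325019) (nat_lit 5393) (nat_lit
  0xa580251a610a) (.node .nil (nat_lit 0x810366343490) (nat_lit 5680) (nat_lit 0x82125331412c) .nil)) (nat_lit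
  0x81458506226a) (nat_lit 5248) (nat_lit 0xa96009168126) (.node (.node .nil (nat_lit 0x8145850a903a) (nat_lit
  945) (nat_lit 0xa2846218428d) .nil) (nat_lit 0x8145850cb250) (nat_lit 1728) (nat_lit 0xc040d9168126) .nil))
  (nat_lit 0x81511a0a84a5) (nat_lit 4225) (nat_lit 0x8206cc38c023) (.node (.node (.node .nil (nat_lit
  0x81511a320265) (nat_lit 1408) (nat_lit 0x904d220cb250) .nil) (nat_lit 0x81511a3886c0) (nat_lit 1601)
  (nat_lit 0xc2181c0527c0) .nil) (nat_lit 0x8178241280cb) (nat_lit 4736) (nat_lit 0xa2c28100293e) (.node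
  (.node .nil (nat_lit 0x8178242a060b) (nat_lit 129) (nat_lit 0xb01036034349) .nil) (nat_lit 0x8178243886c0)
  (nat_lit 2577) (nat_lit 0xb010360527c0) .nil))) (nat_lit 0x81c8431230ac) (nat_lit 5360) (nat_lit
  0x80a88d224332) (.node (.node (.node (.node .nil (nat_lit 0x81c84326043c) (nat_lit 1872) (nat_lit
  0xcc040d11b8c0) .nil) (nat_lit 0x81c843343490) (nat_lit 6385) (nat_lit 0xc1c20c182d50) (.node .nil (nat_lit
  0x8206cc056123) (nat_lit 3041) (nat_lit 0x854468228817) .nil)) (nat_lit 0x8206cc38c023) (nat_lit 2689)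
  (nat_lit 0x854468022387) (.node (.node .nil (nat_lit 0x8206cc3da100) (nat_lit 3329) (nat_lit 0x85446820ab90)
  .nil) (nat_lit 0x8212530ce02c) (nat_lit 5473) (nat_lit 0x804a961f0029) .nil)) (nat_lit 0x82125331412c)
  (nat_lit 4161) (nat_lit 0xa0e1061f0029) (.node (.node (.node .nil (nat_lit 0x8212533da100) (nat_lit 785)
  (nat_lit 0xc054461f0029) .nil) (nat_lit 0x8254b009810f) (nat_lit 2912) (nat_lit 0x925304048c2b) .nil)
  (nat_lit 0x8254b034200f) (nat_lit 3745) (nat_lit 0x82691118046e) (.node (.node .nil (nat_lit 0x8254b03da100)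
  (nat_lit 1312) (nat_lit 0xa34054048c2b) .nil) (nat_lit 0x82691118046e) (nat_lit 2273) (nat_lit
  0x8462450a903a) .nil))))) (nat_lit 0x8269112082ae) (nat_lit 1777) (nat_lit 0x8145850a903a) (.node (.node
  (.node (.node (.node (.node .nil (nat_lit 0x8269113886c0) (nat_lit 2896) (nat_lit 0x88494c122433) .nil)
  (nat_lit 0x828b0a145425) (nat_lit 3521) (nat_lit 0x92284601d0a9) (.node .nil (nat_lit 0x828b0a2060b5)
  (nat_lit 4321) (nat_lit 0x8a051601d0a9) .nil)) (nat_lit 0x828b0a343490) (nat_lit 2209) (nat_lit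
  0xe6020601d0a9) (.node (.node .nil (nat_lit 0x82a2340c504b) (nat_lit 4272) (nat_lit 0xaa580201262d) .nil)
  (nat_lit 0x82a23420498b) (nat_lit 1825) (nat_lit 0x8900bc02d503) .nil)) (nat_lit 0x82a2342c19c0) (nat_lit
  2384) (nat_lit 0x8641c201262d) (.node (.node (.node .nil (nat_lit 0x82f0480c0237) (nat_lit 3440) (nat_lit
  0xa02a230b540c) .nil) (nat_lit 0x82f0481108a7) (nat_lit 3344) (nat_lit 0xa02a2302c19c) (.node .nil (nat_lit
  0x82f0481d0a90) (nat_lit 2321) (nat_lit 0xc281451440ba) .nil)) (nat_lit 0x8320e104470e) (nat_lit 3169)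
  (nat_lit 0x81c84326043c) (.node (.node .nil (nat_lit 0x8320e110d80e) (nat_lit 3569) (nat_lit 0x90708326043c)
  .nil) (nat_lit 0x8320e1149f00) (nat_lit 545) (nat_lit 0xc8430311b8c0) .nil))) (nat_lit 0x8366020401ed)
  (nat_lit 5841) (nat_lit 0x86cc0421007b) (.node (.node (.node (.node .nil (nat_lit 0x83660228182d) (nat_lit
  3616) (nat_lit 0xc2181c056123) .nil) (nat_lit 0x8366022c19c0) (nat_lit 1393) (nat_lit 0xca6084149f00) (.node
  .nil (nat_lit 0x8384190851a6) (nat_lit 3121) (nat_lit 0x9086072a40e8) .nil)) (nat_lit 0x838419244866)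
  (nat_lit 1440) (nat_lit 0x86072111b8c0) (.node (.node .nil (nat_lit 0x8384192c19c0) (nat_lit 193) (nat_lit
  0xc12017149f00) .nil) (nat_lit 0x839086084539) (nat_lit 321) (nat_lit 0xb004a90ac246) .nil)) (nat_lit
  0x839086106869) (nat_lit 1264) (nat_lit 0xa2209a00cb25) (.node (.node (.node .nil (nat_lit 0x839086182d50)
  (nat_lit 225) (nat_lit 0xb004a90cb250) .nil) (nat_lit 0x84190712c628) (nat_lit 1521) (nat_lit
  0x9298210160ce) .nil) (nat_lit 0x8419072a40e8) (nat_lit 6193) (nat_lit 0x92982104470e) (.node (.node .nil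
  (nat_lit 0x8419073886c0) (nat_lit 1104) (nat_lit 0x80254b1a4834) .nil) (nat_lit 0x8424a6034349) (nat_lit
  1041) (nat_lit 0x800c7527c00a) .nil)))) (nat_lit 0x8424a6311350) (nat_lit 4689) (nat_lit 0x800c753da100)
  (.node (.node (.node (.node (.node .nil (nat_lit 0x8424a6325019) (nat_lit 1088) (nat_lit 0xc20c830ce02c)
  .nil) (nat_lit 0x8430390ac246) (nat_lit 6224) (nat_lit 0x8a2c28215207) (.node .nil (nat_lit 0x843039324486)
  (nat_lit 1121) (nat_lit 0x80254b1a4834) .nil)) (nat_lit 0x8430393886c0) (nat_lit 3472) (nat_lit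
  0x8a2c28104157) (.node (.node .nil (nat_lit 0x8462450305aa) (nat_lit 2833) (nat_lit 0x87083220c44d) .nil)
  (nat_lit 0x846245099590) (nat_lit 4721) (nat_lit 0x8708323886c0) .nil)) (nat_lit 0x8462450a903a) (nat_lit
  1249) (nat_lit 0x87083218428d) (.node (.node (.node .nil (nat_lit 0x84805e0a7221) (nat_lit 2993) (nat_lit
  0x8c48a113021e) .nil) (nat_lit 0x84805e234c21) (nat_lit 6369) (nat_lit 0x8c48a122114e) .nil) (nat_lit
  0x84805e293e00) (nat_lit 0) (nat_lit 0x84805e293e00) (.node (.node .nil (nat_lit 0x84d2220a205d) (nat_lit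
  896) (nat_lit 0xa23405094a2a) .nil) (nat_lit 0x84d222120d0d) (nat_lit 4865) (nat_lit 0x82f0481108a7) .nil)))
  (nat_lit 0x84d222182d50) (nat_lit 336) (nat_lit 0xc28145094a2a) (.node (.node (.node (.node .nil (nat_lit
  0x85028b026564) (nat_lit 4592) (nat_lit 0x8bc12034200f) .nil) (nat_lit 0x85028b182d50) (nat_lit 4240)
  (nat_lit 0x8bc120343490) (.node .nil (nat_lit 0x85028b1a4834) (nat_lit 5633) (nat_lit 0x88320e234c21) .nil))
  (nat_lit 0x854468022387) (nat_lit 1552) (nat_lit 0xac012a13e005) (.node (.node .nil (nat_lit 0x85446820ab90)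
  (nat_lit 1969) (nat_lit 0xd22209099590) .nil) (nat_lit 0x854468228817) (nat_lit 1792) (nat_lit
  0xac012a11b8c0) .nil)) (nat_lit 0x8607210160ce) (nat_lit 4144) (nat_lit 0xa0e1061f0029) (.node (.node (.node
  .nil (nat_lit 0x86072110d80e) (nat_lit 5456) (nat_lit 0x804a961f0029) .nil) (nat_lit 0x86072111b8c0)
  (nat_lit 768) (nat_lit 0xc054461f0029) .nil) (nat_lit 0x8641c201262d) (nat_lit 1329) (nat_lit
  0xa34054048c2b) (.node (.node .nil (nat_lit 0x8641c228182d) (nat_lit 1584) (nat_lit 0xc2181c0527c0) .nil)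
  (nat_lit 0x8641c2293e00) (nat_lit 4208) (nat_lit 0x8206cc38c023) .nil))))))
def tt420_1 : T := (.node (.node (.node (.node (.node (.node (.node .nil (nat_lit 0x86cc0421007b) (nat_lit
  4368) (nat_lit 0xe245080c0237) .nil) (nat_lit 0x86cc04311350) (nat_lit 4928) (nat_lit 0x82f0480c0237) (.node
  .nil (nat_lit 0x87083218428d) (nat_lit 656) (nat_lit 0x839086084539) .nil)) (nat_lit 0x87083220c44d)
  (nat_lit 1648) (nat_lit 0xe60206084539) (.node (.node .nil (nat_lit 0x8708323886c0) (nat_lit 3233) (nat_lit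
  0xd2c0120527c0) .nil) (nat_lit 0x87210c0046e3) (nat_lit 4656) (nat_lit 0x98212527c00a) .nil)) (nat_lit
  0x87210c3886c0) (nat_lit 4897) (nat_lit 0xa0c8380527c0) (.node (.node (.node .nil (nat_lit 0x87210c38c023)
  (nat_lit 5376) (nat_lit 0x982125258c50) .nil) (nat_lit 0x88320e06c071) (nat_lit 272) (nat_lit
  0x8178242a060b) (.node .nil (nat_lit 0x88320e234c21) (nat_lit 4096) (nat_lit 0x8178243886c0) .nil)) (nat_lit
  0x88320e258c50) (nat_lit 5889) (nat_lit 0x9142312c19c0) (.node (.node .nil (nat_lit 0x88494c122433) (nat_lit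
  1697) (nat_lit 0x84d2220a205d) .nil) (nat_lit 0x88494c2610a3) (nat_lit 2560) (nat_lit 0xb010360527c0)
  .nil))) (nat_lit 0x88494c343490) (nat_lit 112) (nat_lit 0xb01036034349) (.node (.node (.node (.node .nil
  (nat_lit 0x88607206920d) (nat_lit 3632) (nat_lit 0x8b0a0520742a) .nil) (nat_lit 0x886072120d0d) (nat_lit
  4945) (nat_lit 0x82f0480c0237) (.node .nil (nat_lit 0x886072149f00) (nat_lit 4385) (nat_lit 0xe245080c0237)
  .nil)) (nat_lit 0x888269067016) (nat_lit 5921) (nat_lit 0x98081b0742a4) (.node (.node .nil (nat_lit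
  0x888269324486) (nat_lit 1616) (nat_lit 0xa31228182d50) .nil) (nat_lit 0x888269343490) (nat_lit 1857)
  (nat_lit 0xe0900b0742a4) .nil)) (nat_lit 0x88c48a031135) (nat_lit 6096) (nat_lit 0x84d222120d0d) (.node
  (.node (.node .nil (nat_lit 0x88c48a311350) (nat_lit 1680) (nat_lit 0x84d2220a205d) .nil) (nat_lit
  0x88c48a320265) (nat_lit 688) (nat_lit 0x84d222182d50) .nil) (nat_lit 0x88d0150305aa) (nat_lit 3665)
  (nat_lit 0x9a02a220c44d) (.node (.node .nil (nat_lit 0x88d0150527c0) (nat_lit 5041) (nat_lit 0x9a02a2258c50)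
  .nil) (nat_lit 0x88d01506226a) (nat_lit 5793) (nat_lit 0x9a02a205481d) .nil)))) (nat_lit 0x8900bc02d503)
  (nat_lit 977) (nat_lit 0xa846241280cb) (.node (.node (.node (.node (.node .nil (nat_lit 0x8900bc149f00)
  (nat_lit 6497) (nat_lit 0xa8462411b8c0) .nil) (nat_lit 0x8900bc164a03) (nat_lit 4784) (nat_lit
  0x80952c0b4093) (.node .nil (nat_lit 0x89142302c19c) (nat_lit 1297) (nat_lit 0x88c48a320265) .nil)) (nat_lit
  0x89142320ab90) (nat_lit 5312) (nat_lit 0xa800c7065928) (.node (.node .nil (nat_lit 0x891423226a0c) (nat_lit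
  2465) (nat_lit 0x81511a320265) .nil) (nat_lit 0x8a051601d0a9) (nat_lit 2769) (nat_lit 0x888269324486) .nil))
  (nat_lit 0x8a0516106869) (nat_lit 6592) (nat_lit 0xa2209a145425) (.node (.node (.node .nil (nat_lit
  0x8a051611b8c0) (nat_lit 3137) (nat_lit 0x888269343490) .nil) (nat_lit 0x8a118901c436) (nat_lit 6176)
  (nat_lit 0x92982104470e) .nil) (nat_lit 0x8a1189244866) (nat_lit 2657) (nat_lit 0x84190712c628) (.node
  (.node .nil (nat_lit 0x8a1189258c50) (nat_lit 1504) (nat_lit 0x9298210160ce) .nil) (nat_lit 0x8a2c28104157)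
  (nat_lit 2064) (nat_lit 0x843039324486) .nil))) (nat_lit 0x8a2c28215207) (nat_lit 4992) (nat_lit
  0x8430393886c0) (.node (.node (.node (.node .nil (nat_lit 0x8a2c28311350) (nat_lit 6321) (nat_lit
  0xc20c8300527c) .nil) (nat_lit 0x8b0a051440ba) (nat_lit 6433) (nat_lit 0xa31228086c07) (.node .nil (nat_lit
  0x8b0a0520742a) (nat_lit 2177) (nat_lit 0xa31228104157) .nil)) (nat_lit 0x8b0a05343490) (nat_lit 1633)
  (nat_lit 0xa31228182d50) (.node (.node .nil (nat_lit 0x8bc12000149f) (nat_lit 6272) (nat_lit 0x86cc0410132b)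
  .nil) (nat_lit 0x8bc12034200f) (nat_lit 3009) (nat_lit 0x8269112082ae) .nil)) (nat_lit 0x8bc120343490)
  (nat_lit 2704) (nat_lit 0xa3405410132b) (.node (.node (.node .nil (nat_lit 0x8c48a113021e) (nat_lit 1760)
  (nat_lit 0x8145850a903a) .nil) (nat_lit 0x8c48a122114e) (nat_lit 5264) (nat_lit 0xf048050527c0) .nil)
  (nat_lit 0x8c48a1311350) (nat_lit 2256) (nat_lit 0x8462450a903a) (.node (.node .nil (nat_lit 0x8e106400e21b)
  (nat_lit 609) (nat_lit 0x940a2c0b4093) .nil) (nat_lit 0x8e106420498b) (nat_lit 3216) (nat_lit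
  0xd2c0120527c0) .nil))))) (nat_lit 0x8e106420ab90) (nat_lit 2736) (nat_lit 0x8641c228182d) (.node (.node
  (.node (.node (.node (.node .nil (nat_lit 0x8e421800b067) (nat_lit 3952) (nat_lit 0x891423226a0c) .nil)
  (nat_lit 0x8e42181108a7) (nat_lit 913) (nat_lit 0xa23405094a2a) (.node .nil (nat_lit 0x8e421811b8c0)
  (nat_lit 353) (nat_lit 0xc28145094a2a) .nil)) (nat_lit 0x8ea00300527c) (nat_lit 4977) (nat_lit
  0x9d4006020ab9) (.node (.node .nil (nat_lit 0x8ea003311350) (nat_lit 4033) (nat_lit 0xc05446020ab9) .nil)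
  (nat_lit 0x8ea00331412c) (nat_lit 817) (nat_lit 0xa0e106020ab9) .nil)) (nat_lit 0x904d2206920d) (nat_lit
  6241) (nat_lit 0x93488800b067) (.node (.node (.node .nil (nat_lit 0x904d220a205d) (nat_lit 4464) (nat_lit
  0xa234051440ba) .nil) (nat_lit 0x904d220cb250) (nat_lit 753) (nat_lit 0xe2450800b067) .nil) (nat_lit
  0x90641c0a0963) (nat_lit 2016) (nat_lit 0x8424a6325019) (.node (.node .nil (nat_lit 0x90641c2610a3) (nat_lit
  5984) (nat_lit 0x8424a6311350) .nil) (nat_lit 0x90641c2c19c0) (nat_lit 1920) (nat_lit 0x8424a6034349)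
  .nil))) (nat_lit 0x90708303886c) (nat_lit 6609) (nat_lit 0xa4508c122433) (.node (.node (.node (.node .nil
  (nat_lit 0x907083258c50) (nat_lit 2417) (nat_lit 0xc1c20c122433) .nil) (nat_lit 0x90708326043c) (nat_lit
  2128) (nat_lit 0xcc040d02e8a2) (.node .nil (nat_lit 0x908607065928) (nat_lit 5073) (nat_lit 0x8320e110d80e)
  .nil)) (nat_lit 0x9086072a40e8) (nat_lit 1840) (nat_lit 0xe0900b0742a4) (.node (.node .nil (nat_lit
  0x9086072c19c0) (nat_lit 1073) (nat_lit 0x8320e1149f00) .nil) (nat_lit 0x90c0e403380b) (nat_lit 2033)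
  (nat_lit 0x8424a6325019) .nil)) (nat_lit 0x90c0e4293e00) (nat_lit 6001) (nat_lit 0x8424a6311350) (.node
  (.node (.node .nil (nat_lit 0x90c0e42a060b) (nat_lit 1937) (nat_lit 0x8424a6034349) .nil) (nat_lit
  0x91104d02e8a2) (nat_lit 3936) (nat_lit 0xa209a400e21b) .nil) (nat_lit 0x91104d20ab90) (nat_lit 2096)
  (nat_lit 0xa209a40c504b) (.node (.node .nil (nat_lit 0x91104d224332) (nat_lit 6049) (nat_lit 0xb6602009810f)
  .nil) (nat_lit 0x9142310e088e) (nat_lit 5136) (nat_lit 0x88d0150305aa) .nil)))) (nat_lit 0x91423122114e)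
  (nat_lit 5088) (nat_lit 0xf048050305aa) (.node (.node (.node (.node (.node .nil (nat_lit 0x9142312c19c0)
  (nat_lit 4416) (nat_lit 0x8462450305aa) .nil) (nat_lit 0x91a02a0258c5) (nat_lit 5217) (nat_lit
  0x96140a2060b5) (.node .nil (nat_lit 0x91a02a2c19c0) (nat_lit 4545) (nat_lit 0xcb004a149f00) .nil)) (nat_lit
  0x91a02a2e4105) (nat_lit 5568) (nat_lit 0x8063a8258c50) (.node (.node .nil (nat_lit 0x920178086c07) (nat_lit
  4128) (nat_lit 0xb004a9067016) .nil) (nat_lit 0x920178215207) (nat_lit 208) (nat_lit 0xb004a90cb250) .nil))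
  (nat_lit 0x920178293e00) (nat_lit 304) (nat_lit 0xb004a90ac246) (.node (.node (.node .nil (nat_lit
  0x92284601d0a9) (nat_lit 2081) (nat_lit 0x843039324486) .nil) (nat_lit 0x922846084539) (nat_lit 5200)
  (nat_lit 0x96140a2060b5) .nil) (nat_lit 0x922846099590) (nat_lit 4528) (nat_lit 0xcb004a149f00) (.node
  (.node .nil (nat_lit 0x925304048c2b) (nat_lit 1712) (nat_lit 0x8e42181108a7) .nil) (nat_lit 0x92530421007b)
  (nat_lit 2224) (nat_lit 0xe245080cb250) .nil))) (nat_lit 0x925304258c50) (nat_lit 4848) (nat_lit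
  0x82f0481108a7) (.node (.node (.node (.node .nil (nat_lit 0x9298210160ce) (nat_lit 800) (nat_lit
  0xa0e106020ab9) .nil) (nat_lit 0x92982104470e) (nat_lit 4960) (nat_lit 0x9d4006020ab9) (.node .nil (nat_lit
  0x9298210527c0) (nat_lit 4016) (nat_lit 0xc05446020ab9) .nil)) (nat_lit 0x93488800b067) (nat_lit 5009)
  (nat_lit 0x96009520742a) (.node (.node .nil (nat_lit 0x9348880c0237) (nat_lit 3649) (nat_lit 0x8b0a0520742a)
  .nil) (nat_lit 0x9348880cb250) (nat_lit 5809) (nat_lit 0xc281451d0a90) .nil)) (nat_lit 0x940a2c02d503)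
  (nat_lit 6033) (nat_lit 0x8178241280cb) (.node (.node (.node .nil (nat_lit 0x940a2c099590) (nat_lit 4113)
  (nat_lit 0x8178243886c0) .nil) (nat_lit 0x940a2c0b4093) (nat_lit 289) (nat_lit 0x8178242a060b) .nil)
  (nat_lit 0x94c109021e26) (nat_lit 5441) (nat_lit 0x91104d02e8a2) (.node (.node .nil (nat_lit 0x94c109293e00)
  (nat_lit 2145) (nat_lit 0xcc040d02e8a2) .nil) (nat_lit 0x94c1092b2026) (nat_lit 5024) (nat_lit
  0x9a02a2258c50) .nil))))))
def tt420_2 : T := (.node (.node (.node (.node (.node (.node (.node .nil (nat_lit 0x96009520742a) (nat_lit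
  3489) (nat_lit 0x8a2c28104157) .nil) (nat_lit 0x960095293e00) (nat_lit 5824) (nat_lit 0xb0424a0a84a5) (.node
  .nil (nat_lit 0x96140a00cb25) (nat_lit 2305) (nat_lit 0x839086106869) .nil)) (nat_lit 0x96140a2060b5)
  (nat_lit 3712) (nat_lit 0x8c48a1311350) (.node (.node .nil (nat_lit 0x96140a20ab90) (nat_lit 4449) (nat_lit
  0xe60206099590) .nil) (nat_lit 0x98081b026564) (nat_lit 4577) (nat_lit 0x84805e0a7221) .nil)) (nat_lit
  0x98081b0527c0) (nat_lit 2352) (nat_lit 0x8254b03da100) (.node (.node (.node .nil (nat_lit 0x98081b0742a4)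
  (nat_lit 4496) (nat_lit 0x8254b009810f) .nil) (nat_lit 0x982125024c5a) (nat_lit 4912) (nat_lit
  0xa444131230ac) (.node .nil (nat_lit 0x982125258c50) (nat_lit 3889) (nat_lit 0x82a2342c19c0) .nil)) (nat_lit
  0x98212527c00a) (nat_lit 3105) (nat_lit 0x82a23420498b) (.node (.node .nil (nat_lit 0x9a02a205481d) (nat_lit
  4289) (nat_lit 0xaa580201262d) .nil) (nat_lit 0x9a02a220c44d) (nat_lit 2192) (nat_lit 0xe6020601d0a9)
  .nil))) (nat_lit 0x9a02a2258c50) (nat_lit 3504) (nat_lit 0x92284601d0a9) (.node (.node (.node (.node .nil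
  (nat_lit 0x9a444100293e) (nat_lit 6561) (nat_lit 0x88d01506226a) .nil) (nat_lit 0x9a44412082ae) (nat_lit
  6353) (nat_lit 0x81458506226a) (.node .nil (nat_lit 0x9a444120ab90) (nat_lit 4080) (nat_lit 0x88494c2610a3)
  .nil)) (nat_lit 0x9d4006020ab9) (nat_lit 3457) (nat_lit 0xa02a230b540c) (.node (.node .nil (nat_lit
  0x9d400620ab90) (nat_lit 4049) (nat_lit 0xa02a23099590) .nil) (nat_lit 0x9d400622a129) (nat_lit 3361)
  (nat_lit 0xa02a2302c19c) .nil)) (nat_lit 0xa0031d02e8a2) (nat_lit 6689) (nat_lit 0x8bc12000149f) (.node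
  (.node (.node .nil (nat_lit 0xa0031d11b8c0) (nat_lit 4257) (nat_lit 0x8bc120343490) .nil) (nat_lit
  0xa0031d135062) (nat_lit 4609) (nat_lit 0x8bc12034200f) .nil) (nat_lit 0xa02a2302c19c) (nat_lit 1984)
  (nat_lit 0x9086072c19c0) (.node (.node .nil (nat_lit 0xa02a23099590) (nat_lit 2528) (nat_lit 0xa800c7149f00)
  .nil) (nat_lit 0xa02a230b540c) (nat_lit 2048) (nat_lit 0x8419073886c0) .nil)))) (nat_lit 0xa051610e088e)
  (nat_lit 2241) (nat_lit 0x805e09168126) (.node (.node (.node (.node (.node .nil (nat_lit 0xa0516113021e)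
  (nat_lit 2928) (nat_lit 0x8145850cb250) .nil) (nat_lit 0xa051611d0a90) (nat_lit 1745) (nat_lit
  0xc040d9168126) (.node .nil (nat_lit 0xa0c838022387) (nat_lit 4176) (nat_lit 0xc0063a13e005) .nil)) (nat_lit
  0xa0c8380527c0) (nat_lit 3377) (nat_lit 0xd222090851a6) (.node (.node .nil (nat_lit 0xa0c838070447) (nat_lit
  4800) (nat_lit 0xc0063a11b8c0) .nil) (nat_lit 0xa0e106020ab9) (nat_lit 400) (nat_lit 0x8384192c19c0) .nil))
  (nat_lit 0xa0e1061d0a90) (nat_lit 6657) (nat_lit 0x8081b3293e00) (.node (.node (.node .nil (nat_lit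
  0xa0e1061f0029) (nat_lit 2608) (nat_lit 0x8a1189258c50) .nil) (nat_lit 0xa10c0e06c071) (nat_lit 3697)
  (nat_lit 0xa051610e088e) .nil) (nat_lit 0xa10c0e0a7221) (nat_lit 4513) (nat_lit 0xa0516113021e) (.node
  (.node .nil (nat_lit 0xa10c0e0cb250) (nat_lit 2977) (nat_lit 0xa051611d0a90) .nil) (nat_lit 0xa209a400e21b)
  (nat_lit 2448) (nat_lit 0x8366022c19c0) .nil))) (nat_lit 0xa209a40c504b) (nat_lit 1137) (nat_lit
  0x80952c164a03) (.node (.node (.node (.node .nil (nat_lit 0xa209a40cb250) (nat_lit 5712) (nat_lit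
  0x8641c2293e00) .nil) (nat_lit 0xa2209a00cb25) (nat_lit 673) (nat_lit 0x839086084539) (.node .nil (nat_lit
  0xa2209a145425) (nat_lit 5872) (nat_lit 0xc0e4210e088e) .nil)) (nat_lit 0xa2209a149f00) (nat_lit 1665)
  (nat_lit 0xe60206084539) (.node (.node .nil (nat_lit 0xa23405094a2a) (nat_lit 449) (nat_lit 0x920178215207)
  .nil) (nat_lit 0xa234051440ba) (nat_lit 2864) (nat_lit 0x88c48a311350) .nil)) (nat_lit 0xa234051d0a90)
  (nat_lit 641) (nat_lit 0x920178293e00) (.node (.node (.node .nil (nat_lit 0xa2846205481d) (nat_lit 4672)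
  (nat_lit 0x8a051611b8c0) .nil) (nat_lit 0xa2846218428d) (nat_lit 464) (nat_lit 0x839086182d50) .nil)
  (nat_lit 0xa284621d0a90) (nat_lit 5936) (nat_lit 0x922846099590) (.node (.node .nil (nat_lit 0xa2c28100293e)
  (nat_lit 3248) (nat_lit 0x90641c2c19c0) .nil) (nat_lit 0xa2c28118046e) (nat_lit 2480) (nat_lit
  0xa4508c182d50) .nil))))) (nat_lit 0xa2c281182d50) (nat_lit 240) (nat_lit 0x88494c343490) (.node (.node
  (.node (.node (.node (.node .nil (nat_lit 0xa31228086c07) (nat_lit 5344) (nat_lit 0xc10929067016) .nil)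
  (nat_lit 0xa31228104157) (nat_lit 1184) (nat_lit 0xc109290cb250) (.node .nil (nat_lit 0xa31228182d50)
  (nat_lit 864) (nat_lit 0xc109290ac246) .nil)) (nat_lit 0xa34054048c2b) (nat_lit 704) (nat_lit
  0x8e421811b8c0) (.node (.node .nil (nat_lit 0xa3405410132b) (nat_lit 1569) (nat_lit 0xac012a13e005) .nil)
  (nat_lit 0xa34054149f00) (nat_lit 1809) (nat_lit 0xac012a11b8c0) .nil)) (nat_lit 0xa4441303886c) (nat_lit
  5760) (nat_lit 0xa0031d11b8c0) (.node (.node (.node .nil (nat_lit 0xa4441311b8c0) (nat_lit 3536) (nat_lit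
  0x91104d20ab90) .nil) (nat_lit 0xa444131230ac) (nat_lit 3409) (nat_lit 0x90641c0a0963) .nil) (nat_lit
  0xa4508c0a0963) (nat_lit 6673) (nat_lit 0x904d2206920d) (.node (.node .nil (nat_lit 0xa4508c122433) (nat_lit
  5905) (nat_lit 0x904d220a205d) .nil) (nat_lit 0xa4508c182d50) (nat_lit 1425) (nat_lit 0x904d220cb250)
  .nil))) (nat_lit 0xa58025024c5a) (nat_lit 2113) (nat_lit 0xa209a40c504b) (.node (.node (.node (.node .nil
  (nat_lit 0xa58025182d50) (nat_lit 6529) (nat_lit 0xa209a40cb250) .nil) (nat_lit 0xa580251a610a) (nat_lit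
  3904) (nat_lit 0x907083258c50) (.node .nil (nat_lit 0xa6084901c436) (nat_lit 5329) (nat_lit 0xa800c7065928)
  .nil)) (nat_lit 0xa608490851a6) (nat_lit 5408) (nat_lit 0xea00310527c0) (.node (.node .nil (nat_lit
  0xa60849099590) (nat_lit 6256) (nat_lit 0xea00310160ce) .nil) (nat_lit 0xa800c7065928) (nat_lit 3840)
  (nat_lit 0x98081b0527c0) .nil)) (nat_lit 0xa800c712c628) (nat_lit 5665) (nat_lit 0x8607210160ce) (.node
  (.node (.node .nil (nat_lit 0xa800c7149f00) (nat_lit 1457) (nat_lit 0x86072111b8c0) .nil) (nat_lit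
  0xa8462403380b) (nat_lit 4480) (nat_lit 0x8269113886c0) .nil) (nat_lit 0xa8462411b8c0) (nat_lit 5600)
  (nat_lit 0x9a444120ab90) (.node (.node .nil (nat_lit 0xa846241280cb) (nat_lit 496) (nat_lit 0xa2c281182d50)
  .nil) (nat_lit 0xa96009021e26) (nat_lit 6641) (nat_lit 0x91104d224332) .nil)))) (nat_lit 0xa96009149f00)
  (nat_lit 1889) (nat_lit 0xcc040d11b8c0) (.node (.node (.node (.node (.node .nil (nat_lit 0xa96009168126)
  (nat_lit 3760) (nat_lit 0xc2312218428d) .nil) (nat_lit 0xaa580201262d) (nat_lit 2721) (nat_lit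
  0xa3405410132b) (.node .nil (nat_lit 0xaa58020401ed) (nat_lit 6289) (nat_lit 0x86cc0410132b) .nil)) (nat_lit
  0xaa58020527c0) (nat_lit 4816) (nat_lit 0x8206cc3da100) (.node (.node .nil (nat_lit 0xac012a0258c5) (nat_lit
  3793) (nat_lit 0x96140a00cb25) .nil) (nat_lit 0xac012a11b8c0) (nat_lit 961) (nat_lit 0xcb004a00cb25) .nil))
  (nat_lit 0xac012a13e005) (nat_lit 832) (nat_lit 0xd85028022387) (.node (.node (.node .nil (nat_lit
  0xb004a9067016) (nat_lit 2592) (nat_lit 0xc680a8086c07) .nil) (nat_lit 0xb004a90ac246) (nat_lit 144)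
  (nat_lit 0xc680a8182d50) .nil) (nat_lit 0xb004a90cb250) (nat_lit 97) (nat_lit 0xe0900b026564) (.node (.node
  .nil (nat_lit 0xb01036034349) (nat_lit 48) (nat_lit 0xb301030cb250) .nil) (nat_lit 0xb010360527c0) (nat_lit
  1472) (nat_lit 0x8212533da100) .nil))) (nat_lit 0xb01036066489) (nat_lit 5536) (nat_lit 0x8ea003311350)
  (.node (.node (.node (.node .nil (nat_lit 0xb0424a031135) (nat_lit 5280) (nat_lit 0xe140a20cb250) .nil)
  (nat_lit 0xb0424a099590) (nat_lit 1344) (nat_lit 0xe140a20a205d) (.node .nil (nat_lit 0xb0424a0a84a5)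
  (nat_lit 4336) (nat_lit 0xe140a206920d) .nil)) (nat_lit 0xb3010300527c) (nat_lit 4560) (nat_lit
  0xa10c0e0cb250) (.node (.node .nil (nat_lit 0xb301030cb250) (nat_lit 16) (nat_lit 0x84805e293e00) .nil)
  (nat_lit 0xb301030ce02c) (nat_lit 3825) (nat_lit 0x804a9622a129) .nil)) (nat_lit 0xb6602000149f) (nat_lit
  6128) (nat_lit 0x86cc04311350) (.node (.node (.node .nil (nat_lit 0xb6602009810f) (nat_lit 4753) (nat_lit
  0xa2c28100293e) .nil) (nat_lit 0xb66020099590) (nat_lit 3056) (nat_lit 0xa34054149f00) .nil) (nat_lit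
  0xba800c0046e3) (nat_lit 5504) (nat_lit 0xc012a5182d50) (.node (.node .nil (nat_lit 0xba800c0527c0) (nat_lit
  5585) (nat_lit 0x8063a8258c50) .nil) (nat_lit 0xba800c056123) (nat_lit 6625) (nat_lit 0x8063a8228817)
  .nil))))))
def tt420_3 : T := (.node (.node (.node (.node (.node (.node (.node .nil (nat_lit 0xc0063a11b8c0) (nat_lit
  3312) (nat_lit 0x85446820ab90) .nil) (nat_lit 0xc0063a13e005) (nat_lit 2672) (nat_lit 0x854468022387) (.node
  .nil (nat_lit 0xc012a5024c5a) (nat_lit 6544) (nat_lit 0xa4441303886c) .nil)) (nat_lit 0xc012a5182d50)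
  (nat_lit 4000) (nat_lit 0xc8430303886c) (.node (.node .nil (nat_lit 0xc012a51a610a) (nat_lit 6705) (nat_lit
  0xd3042400e21b) .nil) (nat_lit 0xc040d9021e26) (nat_lit 3553) (nat_lit 0x91104d20ab90) .nil)) (nat_lit
  0xc040d9149f00) (nat_lit 5777) (nat_lit 0xa0031d11b8c0) (.node (.node (.node .nil (nat_lit 0xc040d9168126)
  (nat_lit 928) (nat_lit 0xa2846218428d) .nil) (nat_lit 0xc05446020ab9) (nat_lit 2512) (nat_lit
  0x838419244866) (.node .nil (nat_lit 0xc054461d0a90) (nat_lit 1952) (nat_lit 0xd22209099590) .nil)) (nat_lit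
  0xc054461f0029) (nat_lit 385) (nat_lit 0xd40063099590) (.node (.node .nil (nat_lit 0xc0e4210e088e) (nat_lit
  4401) (nat_lit 0x805e093da100) .nil) (nat_lit 0xc0e42113021e) (nat_lit 3201) (nat_lit 0xa96009149f00)
  .nil))) (nat_lit 0xc0e4211d0a90) (nat_lit 3601) (nat_lit 0x94c109293e00) (.node (.node (.node (.node .nil
  (nat_lit 0xc10929067016) (nat_lit 3857) (nat_lit 0x98081b0527c0) .nil) (nat_lit 0xc109290ac246) (nat_lit
  432) (nat_lit 0x920178215207) (.node .nil (nat_lit 0xc109290cb250) (nat_lit 624) (nat_lit 0x920178293e00)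
  .nil)) (nat_lit 0xc12017065928) (nat_lit 5425) (nat_lit 0xea00310527c0) (.node (.node .nil (nat_lit
  0xc1201712c628) (nat_lit 5968) (nat_lit 0x85028b026564) .nil) (nat_lit 0xc12017149f00) (nat_lit 80) (nat_lit
  0xe0900b026564) .nil)) (nat_lit 0xc1c20c0a0963) (nat_lit 4353) (nat_lit 0xe140a206920d) (.node (.node (.node
  .nil (nat_lit 0xc1c20c122433) (nat_lit 1361) (nat_lit 0xe140a20a205d) .nil) (nat_lit 0xc1c20c182d50)
  (nat_lit 5297) (nat_lit 0xe140a20cb250) .nil) (nat_lit 0xc20c8300527c) (nat_lit 5168) (nat_lit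
  0xa10c0e06c071) (.node (.node .nil (nat_lit 0xc20c830cb250) (nat_lit 4768) (nat_lit 0xd0018e06c071) .nil)
  (nat_lit 0xc20c830ce02c) (nat_lit 560) (nat_lit 0x88320e06c071) .nil)))) (nat_lit 0xc2181c0046e3) (nat_lit
  1024) (nat_lit 0x800c7527c00a) (.node (.node (.node (.node (.node .nil (nat_lit 0xc2181c0527c0) (nat_lit
  849) (nat_lit 0xd85028022387) .nil) (nat_lit 0xc2181c056123) (nat_lit 2160) (nat_lit 0x800c751a610a) (.node
  .nil (nat_lit 0xc2312205481d) (nat_lit 6065) (nat_lit 0xaa58020527c0) .nil)) (nat_lit 0xc2312218428d)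
  (nat_lit 2288) (nat_lit 0x839086106869) (.node (.node .nil (nat_lit 0xc231221d0a90) (nat_lit 4432) (nat_lit
  0xe60206099590) .nil) (nat_lit 0xc24a6000149f) (nat_lit 5617) (nat_lit 0x9a444120ab90) .nil)) (nat_lit
  0xc24a6009810f) (nat_lit 513) (nat_lit 0xa2c281182d50) (.node (.node (.node .nil (nat_lit 0xc24a60099590)
  (nat_lit 1376) (nat_lit 0xca6084149f00) .nil) (nat_lit 0xc28145094a2a) (nat_lit 161) (nat_lit
  0xc680a8182d50) .nil) (nat_lit 0xc281451440ba) (nat_lit 1280) (nat_lit 0x88c48a320265) (.node (.node .nil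
  (nat_lit 0xc281451d0a90) (nat_lit 4305) (nat_lit 0xc680a8104157) .nil) (nat_lit 0xc4413403380b) (nat_lit
  3728) (nat_lit 0x82691118046e) .nil))) (nat_lit 0xc4413411b8c0) (nat_lit 6481) (nat_lit 0xc88826034349)
  (.node (.node (.node (.node .nil (nat_lit 0xc441341280cb) (nat_lit 3984) (nat_lit 0xa2c28118046e) .nil)
  (nat_lit 0xc4680a031135) (nat_lit 6160) (nat_lit 0x886072120d0d) (.node .nil (nat_lit 0xc4680a099590)
  (nat_lit 5856) (nat_lit 0x886072149f00) .nil)) (nat_lit 0xc4680a0a84a5) (nat_lit 4833) (nat_lit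
  0x8206cc3da100) (.node (.node .nil (nat_lit 0xc680a8086c07) (nat_lit 1489) (nat_lit 0x8212533da100) .nil)
  (nat_lit 0xc680a8104157) (nat_lit 2752) (nat_lit 0x888269324486) .nil)) (nat_lit 0xc680a8182d50) (nat_lit
  65) (nat_lit 0xb301030cb250) (.node (.node (.node .nil (nat_lit 0xc7500100293e) (nat_lit 3392) (nat_lit
  0x90641c0a0963) .nil) (nat_lit 0xc7500118046e) (nat_lit 6017) (nat_lit 0x846245099590) .nil) (nat_lit
  0xc75001182d50) (nat_lit 2945) (nat_lit 0x8145850cb250) (.node (.node .nil (nat_lit 0xc8430303886c) (nat_lit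
  2497) (nat_lit 0xa4508c182d50) .nil) (nat_lit 0xc8430311b8c0) (nat_lit 257) (nat_lit 0x88494c343490)
  .nil))))) (nat_lit 0xc843031230ac) (nat_lit 3265) (nat_lit 0x90641c2c19c0) (.node (.node (.node (.node
  (.node (.node .nil (nat_lit 0xc88826034349) (nat_lit 5521) (nat_lit 0xc012a5182d50) .nil) (nat_lit
  0xc888260527c0) (nat_lit 6304) (nat_lit 0xc20c8300527c) (.node .nil (nat_lit 0xc88826066489) (nat_lit 6208)
  (nat_lit 0x8ea00300527c) .nil)) (nat_lit 0xca6084048c2b) (nat_lit 4625) (nat_lit 0xc0063a0258c5) (.node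
  (.node .nil (nat_lit 0xca608410132b) (nat_lit 4193) (nat_lit 0xc0063a13e005) .nil) (nat_lit 0xca6084149f00)
  (nat_lit 736) (nat_lit 0xe2450800b067) .nil)) (nat_lit 0xcb004a00cb25) (nat_lit 481) (nat_lit
  0x839086182d50) (.node (.node (.node .nil (nat_lit 0xcb004a145425) (nat_lit 3680) (nat_lit 0xa051610e088e)
  .nil) (nat_lit 0xcb004a149f00) (nat_lit 2960) (nat_lit 0xa051611d0a90) .nil) (nat_lit 0xcc040d02e8a2)
  (nat_lit 1152) (nat_lit 0x8e106400e21b) (.node (.node .nil (nat_lit 0xcc040d11b8c0) (nat_lit 1009) (nat_lit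
  0xc24a6009810f) .nil) (nat_lit 0xcc040d135062) (nat_lit 2433) (nat_lit 0xc24a60099590) .nil))) (nat_lit
  0xd0018e06c071) (nat_lit 3280) (nat_lit 0x90c0e42a060b) (.node (.node (.node (.node .nil (nat_lit
  0xd0018e0a7221) (nat_lit 3424) (nat_lit 0x90c0e403380b) .nil) (nat_lit 0xd0018e0cb250) (nat_lit 5105)
  (nat_lit 0xc0e4211d0a90) (.node .nil (nat_lit 0xd2220901c436) (nat_lit 2545) (nat_lit 0xa800c7149f00) .nil))
  (nat_lit 0xd222090851a6) (nat_lit 2001) (nat_lit 0x9086072c19c0) (.node (.node .nil (nat_lit 0xd22209099590)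
  (nat_lit 1056) (nat_lit 0x8320e1149f00) .nil) (nat_lit 0xd2c01201262d) (nat_lit 3073) (nat_lit
  0xa34054149f00) .nil)) (nat_lit 0xd2c0120401ed) (nat_lit 6145) (nat_lit 0x86cc04311350) (.node (.node (.node
  .nil (nat_lit 0xd2c0120527c0) (nat_lit 1904) (nat_lit 0xc2181c0046e3) .nil) (nat_lit 0xd3042400e21b)
  (nat_lit 6576) (nat_lit 0x8366020401ed) .nil) (nat_lit 0xd304240c504b) (nat_lit 6337) (nat_lit
  0xe0206c099590) (.node (.node .nil (nat_lit 0xd304240cb250) (nat_lit 6465) (nat_lit 0xe0206c02d503) .nil)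
  (nat_lit 0xd4006302c19c) (nat_lit 2881) (nat_lit 0x88c48a311350) .nil)))) (nat_lit 0xd40063099590) (nat_lit
  176) (nat_lit 0xc12017149f00) (.node (.node (.node (.node (.node .nil (nat_lit 0xd400630b540c) (nat_lit
  2401) (nat_lit 0xb0424a099590) .nil) (nat_lit 0xd85028022387) (nat_lit 417) (nat_lit 0x8384192c19c0) (.node
  .nil (nat_lit 0xd850280527c0) (nat_lit 2625) (nat_lit 0x8a1189258c50) .nil)) (nat_lit 0xd85028070447)
  (nat_lit 6112) (nat_lit 0x8018ea2e4105) (.node (.node .nil (nat_lit 0xe0206c02d503) (nat_lit 5489) (nat_lit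
  0xc441341280cb) .nil) (nat_lit 0xe0206c099590) (nat_lit 5233) (nat_lit 0xc4413403380b) .nil)) (nat_lit
  0xe0206c0b4093) (nat_lit 6448) (nat_lit 0xe0206c02d503) (.node (.node (.node .nil (nat_lit 0xe0900b026564)
  (nat_lit 33) (nat_lit 0x84805e293e00) .nil) (nat_lit 0xe0900b0527c0) (nat_lit 6512) (nat_lit 0xc24a6000149f)
  .nil) (nat_lit 0xe0900b0742a4) (nat_lit 992) (nat_lit 0xc24a6009810f) (.node (.node .nil (nat_lit
  0xe140a206920d) (nat_lit 2784) (nat_lit 0x8b0a05343490) .nil) (nat_lit 0xe140a20a205d) (nat_lit 721)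
  (nat_lit 0x8e421811b8c0) .nil))) (nat_lit 0xe140a20cb250) (nat_lit 3809) (nat_lit 0x82f0481d0a90) (.node
  (.node (.node (.node .nil (nat_lit 0xe2450800b067) (nat_lit 368) (nat_lit 0xd40063099590) .nil) (nat_lit
  0xe245080c0237) (nat_lit 2801) (nat_lit 0x8b0a05343490) (.node .nil (nat_lit 0xe245080cb250) (nat_lit 1217)
  (nat_lit 0xa234051d0a90) .nil)) (nat_lit 0xe6020601d0a9) (nat_lit 1201) (nat_lit 0xc109290cb250) (.node
  (.node .nil (nat_lit 0xe60206084539) (nat_lit 881) (nat_lit 0xc109290ac246) .nil) (nat_lit 0xe60206099590)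
  (nat_lit 2848) (nat_lit 0xa2209a149f00) .nil)) (nat_lit 0xea00310160ce) (nat_lit 5057) (nat_lit
  0xa4441311b8c0) (.node (.node (.node .nil (nat_lit 0xea003104470e) (nat_lit 5552) (nat_lit 0x9d400620ab90)
  .nil) (nat_lit 0xea00310527c0) (nat_lit 3921) (nat_lit 0x907083258c50) .nil) (nat_lit 0xf048050305aa)
  (nat_lit 3584) (nat_lit 0x94c109293e00) (.node (.node .nil (nat_lit 0xf048050527c0) (nat_lit 3777) (nat_lit
  0xc2312218428d) .nil) (nat_lit 0xf0480506226a) (nat_lit 3184) (nat_lit 0xa96009149f00) .nil))))))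
def tt420 : T := (.node (.node tt420_0 (nat_lit 0x86cc0410132b) (nat_lit 5120) (nat_lit 0x9348880c0237)
  tt420_1) (nat_lit 0x960095094a2a) (nat_lit 5728) (nat_lit 0x81511a0a84a5) (.node tt420_2 (nat_lit
  0xc0063a0258c5) (nat_lit 3024) (nat_lit 0x854468228817) tt420_3))
theorem tt420_chk : band (orbChk apT (gensOf cO) 145686870441472 (2 ^ 48) tt420) (Nat.beq tt420.size 420) = true := by
  decide +kernel
theorem tt420_card : (orbit (stabilizer M24 O0) (trio (unmask 2702848) (unmask 8683614))).ncard = 420 :=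
  orbit_ncard_of_chk acT (trio_rep (a := 2702848) (b := 8683614) (k := 145686870441472) (by decide +kernel)).1 cO_chk stab_O0 (trio_rep (a := 2702848) (b := 8683614) (k := 145686870441472) (by decide +kernel)).2 tt420_chk

def tt3360_0 : T := (.node (.node (.node (.node (.node (.node (.node .nil (nat_lit 0x800c7504b18a) (nat_lit
  46273) (nat_lit 0x8e106410cc91) .nil) (nat_lit 0x800c750ba288) (nat_lit 20272) (nat_lit 0x81b30126043c)
  (.node .nil (nat_lit 0x800c750f1302) (nat_lit 23553) (nat_lit 0x8e1064318a09) .nil)) (nat_lit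
  0x800c7511c382) (nat_lit 31105) (nat_lit 0x8e106421a483) (.node (.node .nil (nat_lit 0x800c75157208)
  (nat_lit 865) (nat_lit 0x8e1064316812) .nil) (nat_lit 0x800c751ed080) (nat_lit 12049) (nat_lit
  0x8e1064102e8a) .nil)) (nat_lit 0x800c75237180) (nat_lit 31505) (nat_lit 0x8e106430851a) (.node (.node
  (.node .nil (nat_lit 0x800c7528d308) (nat_lit 32816) (nat_lit 0xd11a0208e1c1) .nil) (nat_lit 0x800c752c6282)
  (nat_lit 3328) (nat_lit 0x900bc126043c) (.node .nil (nat_lit 0x800c7532b202) (nat_lit 6241) (nat_lit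
  0x8e1064112199) .nil)) (nat_lit 0x800c75360388) (nat_lit 35761) (nat_lit 0x8e106401ed08) (.node (.node .nil
  (nat_lit 0x800c7539108a) (nat_lit 36928) (nat_lit 0xc0d980192243) .nil) (nat_lit 0x8018ea04a515) (nat_lit
  29408) (nat_lit 0xa0c8381e2604) .nil))) (nat_lit 0x8018ea096314) (nat_lit 34576) (nat_lit 0xa0c838113506)
  (.node (.node (.node (.node .nil (nat_lit 0x8018ea0dc601) (nat_lit 39601) (nat_lit 0xc8a118145425) .nil)
  (nat_lit 0x8018ea174510) (nat_lit 2161) (nat_lit 0xc30390145425) (.node .nil (nat_lit 0x8018ea1a8311)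
  (nat_lit 6177) (nat_lit 0xe009520ba288) .nil)) (nat_lit 0x8018ea1e2604) (nat_lit 15761) (nat_lit
  0x812a58145425) (.node (.node .nil (nat_lit 0x8018ea238704) (nat_lit 46097) (nat_lit 0xa181c8145425) .nil)
  (nat_lit 0x8018ea272211) (nat_lit 38593) (nat_lit 0xc0a2c2145425) .nil)) (nat_lit 0x8018ea2ae410) (nat_lit
  129) (nat_lit 0xe3a8000803da) (.node (.node (.node .nil (nat_lit 0x8018ea306701) (nat_lit 50769) (nat_lit
  0xe80a8803a152) .nil) (nat_lit 0x8018ea34c214) (nat_lit 19921) (nat_lit 0x892982145425) .nil) (nat_lit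
  0x8018ea390415) (nat_lit 37873) (nat_lit 0xaa2340145425) (.node (.node .nil (nat_lit 0x80254b03da10)
  (nat_lit 7424) (nat_lit 0xb66020010f13) .nil) (nat_lit 0x80254b0498b4) (nat_lit 47008) (nat_lit
  0xb66020088e1c) .nil)))) (nat_lit 0x80254b199224) (nat_lit 18673) (nat_lit 0xb1228406c071) (.node (.node
  (.node (.node (.node .nil (nat_lit 0x80254b1ed080) (nat_lit 208) (nat_lit 0xb66020089a83) .nil) (nat_lit
  0x80254b29c884) (nat_lit 7377) (nat_lit 0xa0178206c071) (.node .nil (nat_lit 0x80254b2a1294) (nat_lit 18720)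
  (nat_lit 0xb660200803da) .nil)) (nat_lit 0x80254b2d5030) (nat_lit 21328) (nat_lit 0xb660200182d5) (.node
  (.node .nil (nat_lit 0x80254b2e8a20) (nat_lit 161) (nat_lit 0xf82402011b8c) .nil) (nat_lit 0x80254b305aa0)
  (nat_lit 41408) (nat_lit 0xb66020081745) .nil)) (nat_lit 0x80254b3380b0) (nat_lit 39120) (nat_lit
  0xb66020091856) (.node (.node (.node .nil (nat_lit 0x80254b34c214) (nat_lit 22496) (nat_lit 0xb66020009959)
  .nil) (nat_lit 0x80254b371804) (nat_lit 22481) (nat_lit 0xb0390806c071) .nil) (nat_lit 0x8031d4048c2b)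
  (nat_lit 34672) (nat_lit 0x8e421830ac24) (.node (.node .nil (nat_lit 0x8031d4094a2a) (nat_lit 12593)
  (nat_lit 0x9c8430215207) .nil) (nat_lit 0x8031d40dc601) (nat_lit 4768) (nat_lit 0xc040d90f1302) .nil)))
  (nat_lit 0x8031d412c628) (nat_lit 23313) (nat_lit 0x9c84300160ce) (.node (.node (.node (.node .nil (nat_lit
  0x8031d4164a03) (nat_lit 35889) (nat_lit 0x9c843003380b) .nil) (nat_lit 0x8031d41b8c02) (nat_lit 5041)
  (nat_lit 0x9c84302032c9) (.node .nil (nat_lit 0x8031d41f0029) (nat_lit 18976) (nat_lit 0x8a118930ac24)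
  .nil)) (nat_lit 0x8031d4234c21) (nat_lit 26113) (nat_lit 0x9c843022114e) (.node (.node .nil (nat_lit
  0x8031d427c00a) (nat_lit 40897) (nat_lit 0x9c843020498b) .nil) (nat_lit 0x8031d42a060b) (nat_lit 16176)
  (nat_lit 0xc750010803da) .nil)) (nat_lit 0x8031d42e8a20) (nat_lit 46625) (nat_lit 0x9c8430011b8c) (.node
  (.node (.node .nil (nat_lit 0x8031d4318a09) (nat_lit 22176) (nat_lit 0xc303900c504b) .nil) (nat_lit
  0x8031d4350622) (nat_lit 29105) (nat_lit 0x9c8430212945) .nil) (nat_lit 0x8031d438c023) (nat_lit 53376)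
  (nat_lit 0x8d015130ac24) (.node (.node .nil (nat_lit 0x8031d43c4c08) (nat_lit 33697) (nat_lit
  0x9c8430007b42) .nil) (nat_lit 0x804a9607b420) (nat_lit 16689) (nat_lit 0x8914233008dc) .nil))))) (nat_lit
  0x804a96093168) (nat_lit 25840) (nat_lit 0xb0390801c436) (.node (.node (.node (.node (.node (.node .nil
  (nat_lit 0x804a960e8548) (nat_lit 17425) (nat_lit 0x89142304cac8) .nil) (nat_lit 0x804a96118561) (nat_lit
  43729) (nat_lit 0x89142326a0c4) (.node .nil (nat_lit 0x804a96163141) (nat_lit 39329) (nat_lit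
  0x89142316a818) .nil)) (nat_lit 0x804a9618b409) (nat_lit 24416) (nat_lit 0x863a8001c436) (.node (.node .nil
  (nat_lit 0x804a96251509) (nat_lit 38416) (nat_lit 0xde090001c436) .nil) (nat_lit 0x804a962b9041) (nat_lit
  47792) (nat_lit 0x9c20c801c436) .nil)) (nat_lit 0x804a962c2461) (nat_lit 49409) (nat_lit 0x891423060b54)
  (.node (.node (.node .nil (nat_lit 0x804a96332448) (nat_lit 12352) (nat_lit 0xe4218101c436) .nil) (nat_lit
  0x804a96349068) (nat_lit 9872) (nat_lit 0xe80a8801c436) (.node .nil (nat_lit 0x804a963a1520) (nat_lit 32785)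
  (nat_lit 0x89142310a34c) .nil)) (nat_lit 0x805e0903a152) (nat_lit 31520) (nat_lit 0x870832306701) (.node
  (.node .nil (nat_lit 0x805e090d80e2) (nat_lit 44625) (nat_lit 0xc8a118135062) .nil) (nat_lit 0x805e090e21b0)
  (nat_lit 13808) (nat_lit 0x87083218b409) .nil))) (nat_lit 0x805e09152074) (nat_lit 42448) (nat_lit
  0x87083228258c) (.node (.node (.node (.node .nil (nat_lit 0x805e0918a096) (nat_lit 34017) (nat_lit
  0x882691135062) .nil) (nat_lit 0x805e091b01c4) (nat_lit 28913) (nat_lit 0xa4a608135062) (.node .nil (nat_lit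
  0x805e09250196) (nat_lit 8224) (nat_lit 0x8708322032c9) .nil)) (nat_lit 0x805e0926a0c4) (nat_lit 38112)
  (nat_lit 0x8708321055c8) (.node (.node .nil (nat_lit 0x805e09288174) (nat_lit 50401) (nat_lit
  0x8c8384135062) .nil) (nat_lit 0x805e093021e2) (nat_lit 4480) (nat_lit 0x870832081745) .nil)) (nat_lit
  0x805e093380b0) (nat_lit 47729) (nat_lit 0xc48a11135062) (.node (.node (.node .nil (nat_lit 0x805e093e0052)
  (nat_lit 12064) (nat_lit 0x87083210a34c) .nil) (nat_lit 0x8063a8091856) (nat_lit 32352) (nat_lit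
  0x91a02a205d14) .nil) (nat_lit 0x8063a80e1c11) (nat_lit 12369) (nat_lit 0xe4218101c436) (.node (.node .nil
  (nat_lit 0x8063a8129454) (nat_lit 29184) (nat_lit 0x91a02a240e85) .nil) (nat_lit 0x8063a8159013) (nat_lit
  49104) (nat_lit 0x91a02a0a4f80) .nil)))) (nat_lit 0x8063a81b8c02) (nat_lit 1088) (nat_lit 0x91a02a045391)
  (.node (.node (.node (.node (.node .nil (nat_lit 0x8063a81c8845) (nat_lit 24433) (nat_lit 0x863a8001c436)
  .nil) (nat_lit 0x8063a82b9041) (nat_lit 53601) (nat_lit 0xc8384101c436) (.node .nil (nat_lit 0x8063a82c9406)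
  (nat_lit 52176) (nat_lit 0x91a02a2205d1) .nil)) (nat_lit 0x8063a8301c43) (nat_lit 9889) (nat_lit
  0xe80a8801c436) (.node (.node .nil (nat_lit 0x8063a8371804) (nat_lit 25857) (nat_lit 0xb0390801c436) .nil)
  (nat_lit 0x8063a8390415) (nat_lit 14608) (nat_lit 0x91a02a284a51) .nil)) (nat_lit 0x8063a83e0052) (nat_lit
  27553) (nat_lit 0xf210c001c436) (.node (.node (.node .nil (nat_lit 0x8081b3043c4c) (nat_lit 19809) (nat_lit
  0x9458500a84a5) .nil) (nat_lit 0x8081b30f6840) (nat_lit 28273) (nat_lit 0xd161400a84a5) .nil) (nat_lit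
  0x8081b3114e44) (nat_lit 9216) (nat_lit 0xc8384112c628) (.node (.node .nil (nat_lit 0x8081b3157208) (nat_lit
  18513) (nat_lit 0xc413480a84a5) .nil) (nat_lit 0x8081b31a1a48) (nat_lit 8321) (nat_lit 0xe009520a84a5)
  .nil))) (nat_lit 0x8081b31e2604) (nat_lit 24560) (nat_lit 0xe009520d3085) (.node (.node (.node (.node .nil
  (nat_lit 0x8081b3265640) (nat_lit 36144) (nat_lit 0x8031d412c628) .nil) (nat_lit 0x8081b32d024c) (nat_lit
  11761) (nat_lit 0xa54b000a84a5) (.node .nil (nat_lit 0x8081b3332448) (nat_lit 7153) (nat_lit 0xd11a020a84a5)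
  .nil)) (nat_lit 0x8081b3371804) (nat_lit 39968) (nat_lit 0xa5304212c628) (.node (.node .nil (nat_lit
  0x8081b3387044) (nat_lit 40768) (nat_lit 0x8d015112c628) .nil) (nat_lit 0x8081b33c4c08) (nat_lit 40912)
  (nat_lit 0xcc109212c628) .nil)) (nat_lit 0x80952c0428d3) (nat_lit 3216) (nat_lit 0x940a2c2ae410) (.node
  (.node (.node .nil (nat_lit 0x80952c0f6840) (nat_lit 400) (nat_lit 0x940a2c283113) .nil) (nat_lit
  0x80952c1262d0) (nat_lit 22849) (nat_lit 0x90c0e40d241a) .nil) (nat_lit 0x80952c192243) (nat_lit 13568)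
  (nat_lit 0x940a2c237180) (.node (.node .nil (nat_lit 0x80952c230ac2) (nat_lit 33760) (nat_lit
  0x940a2c0a34c2) .nil) (nat_lit 0x80952c272211) (nat_lit 16321) (nat_lit 0x90c0e42b0918) .nil))))))
def tt3360_1 : T := (.node (.node (.node (.node (.node (.node (.node .nil (nat_lit 0x80952c2c6282) (nat_lit
  19136) (nat_lit 0x940a2c2205d1) .nil) (nat_lit 0x80952c316812) (nat_lit 3009) (nat_lit 0x90c0e4283113)
  (.node .nil (nat_lit 0x80952c3540c1) (nat_lit 46033) (nat_lit 0x90c0e4262d02) .nil)) (nat_lit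
  0x80952c3a2881) (nat_lit 20817) (nat_lit 0x90c0e4023718) (.node (.node .nil (nat_lit 0x80952c3e0052)
  (nat_lit 48833) (nat_lit 0x90c0e40c2b09) .nil) (nat_lit 0x80a88d041572) (nat_lit 19168) (nat_lit
  0x82a2343c4c08) .nil)) (nat_lit 0x80a88d0b0670) (nat_lit 3248) (nat_lit 0x82a234251509) (.node (.node (.node
  .nil (nat_lit 0x80a88d0f1302) (nat_lit 23985) (nat_lit 0x8254b0318a09) .nil) (nat_lit 0x80a88d174510)
  (nat_lit 24945) (nat_lit 0x8254b028a84a) (.node .nil (nat_lit 0x80a88d185612) (nat_lit 47952) (nat_lit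
  0x82a234055c82) .nil)) (nat_lit 0x80a88d1c4360) (nat_lit 40193) (nat_lit 0x8254b005aa06) (.node (.node .nil
  (nat_lit 0x80a88d265640) (nat_lit 48081) (nat_lit 0x8254b015094a) .nil) (nat_lit 0x80a88d294542) (nat_lit
  52753) (nat_lit 0x8254b0248343) .nil))) (nat_lit 0x80a88d2d5030) (nat_lit 23681) (nat_lit 0x8254b0380b06)
  (.node (.node (.node (.node .nil (nat_lit 0x80a88d350622) (nat_lit 22976) (nat_lit 0x82a234301c43) .nil)
  (nat_lit 0x80a88d3a1520) (nat_lit 20192) (nat_lit 0x82a234294542) (.node .nil (nat_lit 0x80a88d3e0052)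
  (nat_lit 8384) (nat_lit 0x82a23415094a) .nil)) (nat_lit 0x80bc12034349) (nat_lit 16897) (nat_lit
  0xc02f041810f1) (.node (.node .nil (nat_lit 0x80bc120401ed) (nat_lit 39713) (nat_lit 0x86cc041810f1) .nil)
  (nat_lit 0x80bc120742a4) (nat_lit 38064) (nat_lit 0xf210c0046e30) .nil)) (nat_lit 0x80bc1218428d) (nat_lit
  49200) (nat_lit 0x839086046e30) (.node (.node (.node .nil (nat_lit 0x80bc121b01c4) (nat_lit 12800) (nat_lit
  0xcb004a046e30) .nil) (nat_lit 0x80bc121c4360) (nat_lit 8529) (nat_lit 0xe2450805aa06) .nil) (nat_lit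
  0x80bc121f0029) (nat_lit 32945) (nat_lit 0xc585021810f1) (.node (.node .nil (nat_lit 0x80bc122903a1)
  (nat_lit 10145) (nat_lit 0xc4680a1810f1) .nil) (nat_lit 0x80bc122a40e8) (nat_lit 25457) (nat_lit
  0xe3a80004470e) .nil)))) (nat_lit 0x80bc122d024c) (nat_lit 49424) (nat_lit 0xe91104046e30) (.node (.node
  (.node (.node (.node .nil (nat_lit 0x80bc122e4105) (nat_lit 30385) (nat_lit 0x828b0a1810f1) .nil) (nat_lit
  0x80bc1231412c) (nat_lit 35632) (nat_lit 0xd0018e046e30) (.node .nil (nat_lit 0x80bc12320265) (nat_lit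
  32609) (nat_lit 0x87210c1810f1) .nil)) (nat_lit 0x80bc123540c1) (nat_lit 44640) (nat_lit 0x91104d046e30)
  (.node (.node .nil (nat_lit 0x80bc12360388) (nat_lit 8768) (nat_lit 0xd98081046e30) .nil) (nat_lit
  0x80c75003380b) (nat_lit 51232) (nat_lit 0x826911350622) .nil)) (nat_lit 0x80c7500d3085) (nat_lit 17553)
  (nat_lit 0xb20e100d80e2) (.node (.node (.node .nil (nat_lit 0x80c7500e088e) (nat_lit 50784) (nat_lit
  0x88d015350622) .nil) (nat_lit 0x80c7501108a7) (nat_lit 37121) (nat_lit 0xa234050d80e2) .nil) (nat_lit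
  0x80c7501230ac) (nat_lit 35776) (nat_lit 0x80a88d350622) (.node (.node .nil (nat_lit 0x80c7501c3822)
  (nat_lit 52288) (nat_lit 0xc28145087898) .nil) (nat_lit 0x80c7501f0029) (nat_lit 39424) (nat_lit
  0x8a1189350622) .nil))) (nat_lit 0x80c7502528a8) (nat_lit 45952) (nat_lit 0xc8a1180258c5) (.node (.node
  (.node (.node .nil (nat_lit 0x80c7502610a3) (nat_lit 22753) (nat_lit 0xe072100d80e2) .nil) (nat_lit
  0x80c75028182d) (nat_lit 20288) (nat_lit 0xc2181c08e1c1) (.node .nil (nat_lit 0x80c7502b2026) (nat_lit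
  19872) (nat_lit 0x8a88d0350622) .nil)) (nat_lit 0x80c75034200f) (nat_lit 23184) (nat_lit 0xca6084009959)
  (.node (.node .nil (nat_lit 0x80c750371804) (nat_lit 48624) (nat_lit 0x82f048350622) .nil) (nat_lit
  0x80c75039108a) (nat_lit 42000) (nat_lit 0xc0d9800a205d) .nil)) (nat_lit 0x80c7503a2881) (nat_lit 51744)
  (nat_lit 0x88494c350622) (.node (.node (.node .nil (nat_lit 0x810366087898) (nat_lit 1905) (nat_lit
  0xa58025185612) .nil) (nat_lit 0x8103660e1c11) (nat_lit 11665) (nat_lit 0xa580251a1a48) .nil) (nat_lit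
  0x81036610cc91) (nat_lit 3313) (nat_lit 0xa580250a34c2) (.node (.node .nil (nat_lit 0x81036616a818) (nat_lit
  22689) (nat_lit 0xa58025087898) .nil) (nat_lit 0x81036618b409) (nat_lit 22913) (nat_lit 0xa580251262d0)
  .nil))))) (nat_lit 0x8103661ed080) (nat_lit 32977) (nat_lit 0xa58025102e8a) (.node (.node (.node (.node
  (.node (.node .nil (nat_lit 0x810366229c88) (nat_lit 20257) (nat_lit 0xa580251055c8) .nil) (nat_lit
  0x81036624f801) (nat_lit 48304) (nat_lit 0x8494c131412c) (.node .nil (nat_lit 0x8103662ae410) (nat_lit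
  10688) (nat_lit 0x8a88d031412c) .nil)) (nat_lit 0x8103662c8099) (nat_lit 38657) (nat_lit 0xa580250a4f80)
  (.node (.node .nil (nat_lit 0x8103663a2881) (nat_lit 21040) (nat_lit 0x8c0e4231412c) .nil) (nat_lit
  0x8103663c4c08) (nat_lit 7728) (nat_lit 0xcc109202ae41) .nil)) (nat_lit 0x812a5802d503) (nat_lit 2560)
  (nat_lit 0xa12530164a03) (.node (.node (.node .nil (nat_lit 0x812a580851a6) (nat_lit 9969) (nat_lit
  0x9086072d5030) .nil) (nat_lit 0x812a580a84a5) (nat_lit 19264) (nat_lit 0xa1253006920d) .nil) (nat_lit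
  0x812a58145425) (nat_lit 8657) (nat_lit 0x9228462d5030) (.node (.node .nil (nat_lit 0x812a58168126) (nat_lit
  36545) (nat_lit 0x80a88d2d5030) .nil) (nat_lit 0x812a581c0583) (nat_lit 12017) (nat_lit 0xd0018e02ae41)
  .nil))) (nat_lit 0x812a581ed080) (nat_lit 27536) (nat_lit 0xa12530089a83) (.node (.node (.node (.node .nil
  (nat_lit 0x812a5824c5a0) (nat_lit 1425) (nat_lit 0xd22209008dc6) .nil) (nat_lit 0x812a582610a3) (nat_lit
  39904) (nat_lit 0xa125301412c6) (.node .nil (nat_lit 0x812a582c9406) (nat_lit 16656) (nat_lit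
  0xa125301280cb) .nil)) (nat_lit 0x812a582e4105) (nat_lit 17217) (nat_lit 0x828b0a2d5030) (.node (.node .nil
  (nat_lit 0x812a58309185) (nat_lit 49777) (nat_lit 0x92a5802d5030) .nil) (nat_lit 0x812a58324486) (nat_lit
  33809) (nat_lit 0x80254b2d5030) .nil)) (nat_lit 0x812a5838c023) (nat_lit 24672) (nat_lit 0xa125301c8845)
  (.node (.node (.node .nil (nat_lit 0x812a583a1520) (nat_lit 10160) (nat_lit 0xa125300ac246) .nil) (nat_lit
  0x814585108a72) (nat_lit 47056) (nat_lit 0xc83841168126) .nil) (nat_lit 0x81458516a818) (nat_lit 11568)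
  (nat_lit 0x882691168126) (.node (.node .nil (nat_lit 0x8145851a1a48) (nat_lit 10241) (nat_lit
  0xa28462157208) .nil) (nat_lit 0x8145851c3822) (nat_lit 31601) (nat_lit 0xa28462103a15) .nil)))) (nat_lit
  0x814585223870) (nat_lit 47600) (nat_lit 0x8952c0168126) (.node (.node (.node (.node (.node .nil (nat_lit
  0x814585241a1a) (nat_lit 2449) (nat_lit 0xa28462195901) .nil) (nat_lit 0x81458528a84a) (nat_lit 14769)
  (nat_lit 0xa28462045391) (.node .nil (nat_lit 0x8145852e8a20) (nat_lit 44000) (nat_lit 0xa06cc0168126)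
  .nil)) (nat_lit 0x81458532b202) (nat_lit 12785) (nat_lit 0xa28462112199) (.node (.node .nil (nat_lit
  0x814585349068) (nat_lit 26000) (nat_lit 0xe80a88017451) .nil) (nat_lit 0x814585382238) (nat_lit 48176)
  (nat_lit 0xc13488168126) .nil)) (nat_lit 0x8145853e0052) (nat_lit 30081) (nat_lit 0xa284620c2b09) (.node
  (.node (.node .nil (nat_lit 0x81511a02ae41) (nat_lit 35616) (nat_lit 0x904d22272211) .nil) (nat_lit
  0x81511a082ae4) (nat_lit 24337) (nat_lit 0x85161438c023) .nil) (nat_lit 0x81511a14a2a1) (nat_lit 38401)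
  (nat_lit 0xc41348032c94) (.node (.node .nil (nat_lit 0x81511a160ce0) (nat_lit 45680) (nat_lit
  0x904d222c8099) .nil) (nat_lit 0x81511a1c8845) (nat_lit 46641) (nat_lit 0x863a8038c023) .nil))) (nat_lit
  0x81511a1e2604) (nat_lit 23200) (nat_lit 0x904d220d3085) (.node (.node (.node (.node .nil (nat_lit
  0x81511a240e85) (nat_lit 44400) (nat_lit 0x904d222032c9) .nil) (nat_lit 0x81511a26a0c4) (nat_lit 41136)
  (nat_lit 0x904d220710d8) (.node .nil (nat_lit 0x81511a2c2461) (nat_lit 39616) (nat_lit 0x904d220182d5)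
  .nil)) (nat_lit 0x81511a2e8a20) (nat_lit 52977) (nat_lit 0xc62450011b8c) (.node (.node .nil (nat_lit
  0x81511a30ac24) (nat_lit 44768) (nat_lit 0x904d222b9041) .nil) (nat_lit 0x81511a3a2881) (nat_lit 20000)
  (nat_lit 0x904d222d024c) .nil)) (nat_lit 0x817824068692) (nat_lit 10496) (nat_lit 0xf210c000293e) (.node
  (.node (.node .nil (nat_lit 0x8178240803da) (nat_lit 11649) (nat_lit 0xb010360dc601) .nil) (nat_lit
  0x8178240e8548) (nat_lit 13921) (nat_lit 0xb0103604cac8) .nil) (nat_lit 0x817824140659) (nat_lit 12160)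
  (nat_lit 0xaf048000293e) (.node (.node .nil (nat_lit 0x8178241a8311) (nat_lit 80) (nat_lit 0xecc04000293e)
  .nil) (nat_lit 0x8178241c0583) (nat_lit 12896) (nat_lit 0xe1064100293e) .nil))))))
def tt3360_2 : T := (.node (.node (.node (.node (.node (.node (.node .nil (nat_lit 0x817824248343) (nat_lit
  13697) (nat_lit 0xb01036078981) .nil) (nat_lit 0x8178242c8099) (nat_lit 50832) (nat_lit 0xca960000293e)
  (.node .nil (nat_lit 0x81782430851a) (nat_lit 3856) (nat_lit 0xd4468000293e) .nil)) (nat_lit 0x817824360388)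
  (nat_lit 43137) (nat_lit 0xb0103601ed08) (.node (.node .nil (nat_lit 0x8178243e0052) (nat_lit 26401)
  (nat_lit 0xb010360c2b09) .nil) (nat_lit 0x818ea0067016) (nat_lit 39936) (nat_lit 0xf210c0058338) .nil))
  (nat_lit 0x818ea00a205d) (nat_lit 39793) (nat_lit 0x8e42182114e4) (.node (.node (.node .nil (nat_lit
  0x818ea00c504b) (nat_lit 50352) (nat_lit 0xaa5802058338) .nil) (nat_lit 0x818ea0104157) (nat_lit 11057)
  (nat_lit 0x8ea0032114e4) (.node .nil (nat_lit 0x818ea0163141) (nat_lit 46497) (nat_lit 0xc8430316a818)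
  .nil)) (nat_lit 0x818ea01a610a) (nat_lit 16849) (nat_lit 0xde090000e21b) (.node (.node .nil (nat_lit
  0x818ea01c111c) (nat_lit 42144) (nat_lit 0x981c84058338) .nil) (nat_lit 0x818ea022114e) (nat_lit 6993)
  (nat_lit 0x94c1092114e4) .nil))) (nat_lit 0x818ea0246158) (nat_lit 7456) (nat_lit 0xf824020258c5) (.node
  (.node (.node (.node .nil (nat_lit 0x818ea0283113) (nat_lit 33952) (nat_lit 0xa800c7058338) .nil) (nat_lit
  0x818ea02e4105) (nat_lit 32257) (nat_lit 0x828b0a2114e4) (.node .nil (nat_lit 0x818ea0325019) (nat_lit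
  28705) (nat_lit 0xc48a111a610a) .nil)) (nat_lit 0x818ea034200f) (nat_lit 43376) (nat_lit 0xca6084058338)
  (.node (.node .nil (nat_lit 0x818ea0387044) (nat_lit 2080) (nat_lit 0x9a4441058338) .nil) (nat_lit
  0x818ea03e0052) (nat_lit 12273) (nat_lit 0xd2c0120c2b09) .nil)) (nat_lit 0x81b301024c5a) (nat_lit 50128)
  (nat_lit 0xa44413132b20) (.node (.node (.node .nil (nat_lit 0x81b3010c44d4) (nat_lit 15745) (nat_lit
  0x8c0e423380b0) .nil) (nat_lit 0x81b3010e088e) (nat_lit 15376) (nat_lit 0x88d015132b20) .nil) (nat_lit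
  0x81b3011440ba) (nat_lit 41328) (nat_lit 0x88c48a132b20) (.node (.node .nil (nat_lit 0x81b301160ce0)
  (nat_lit 21264) (nat_lit 0xc05446132b20) .nil) (nat_lit 0x81b30118046e) (nat_lit 49312) (nat_lit
  0xa4508c132b20) .nil)))) (nat_lit 0x81b3011a4834) (nat_lit 1184) (nat_lit 0xecc04000149f) (.node (.node
  (.node (.node (.node .nil (nat_lit 0x81b301244866) (nat_lit 41761) (nat_lit 0x8419073380b0) .nil) (nat_lit
  0x81b30126043c) (nat_lit 11488) (nat_lit 0xcc040d132b20) (.node .nil (nat_lit 0x81b301280cb2) (nat_lit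
  41697) (nat_lit 0xc4680a081745) .nil)) (nat_lit 0x81b3012a40e8) (nat_lit 51376) (nat_lit 0xe0900b0c44d4)
  (.node (.node .nil (nat_lit 0x81b3013008dc) (nat_lit 51009) (nat_lit 0x8c75003380b0) .nil) (nat_lit
  0x81b301324486) (nat_lit 23088) (nat_lit 0xa81458132b20) .nil)) (nat_lit 0x81b3013c4c08) (nat_lit 1713)
  (nat_lit 0xcc040d007b42) (.node (.node (.node .nil (nat_lit 0x81b3013e0052) (nat_lit 6017) (nat_lit
  0xc054460c2b09) .nil) (nat_lit 0x81c843023718) (nat_lit 12337) (nat_lit 0xc02f0419c058) .nil) (nat_lit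
  0x81c8430c16a8) (nat_lit 9857) (nat_lit 0xc8a118114e44) (.node (.node .nil (nat_lit 0x81c8430e21b0) (nat_lit
  19985) (nat_lit 0xd16140088e1c) .nil) (nat_lit 0x81c8431007b4) (nat_lit 50656) (nat_lit 0xc8384115848c)
  .nil))) (nat_lit 0x81c8431c111c) (nat_lit 44737) (nat_lit 0x98ea002610a3) (.node (.node (.node (.node .nil
  (nat_lit 0x81c8431e2604) (nat_lit 8176) (nat_lit 0xd08c480d3085) .nil) (nat_lit 0x81c843243324) (nat_lit
  31456) (nat_lit 0x8494c1224332) (.node .nil (nat_lit 0x81c84328258c) (nat_lit 35569) (nat_lit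
  0x80c7502610a3) .nil)) (nat_lit 0x81c8432a1294) (nat_lit 37505) (nat_lit 0x9907082610a3) (.node (.node .nil
  (nat_lit 0x81c843360388) (nat_lit 37680) (nat_lit 0xd98081043c4c) .nil) (nat_lit 0x81c843382238) (nat_lit
  43360) (nat_lit 0xc134881c8845) .nil)) (nat_lit 0x81c8433a1520) (nat_lit 38753) (nat_lit 0xc94c1010a34c)
  (.node (.node (.node .nil (nat_lit 0x8206cc09a831) (nat_lit 36161) (nat_lit 0x8544682a1294) .nil) (nat_lit
  0x8206cc0cc912) (nat_lit 1888) (nat_lit 0xa58025185612) .nil) (nat_lit 0x8206cc10f130) (nat_lit 31729)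
  (nat_lit 0x85446818a096) (.node (.node .nil (nat_lit 0x8206cc159013) (nat_lit 37793) (nat_lit
  0x8544683a2881) .nil) (nat_lit 0x8206cc195901) (nat_lit 52561) (nat_lit 0x85446832b202) .nil))))) (nat_lit
  0x8206cc1c3822) (nat_lit 6049) (nat_lit 0x854468103a15) (.node (.node (.node (.node (.node (.node .nil
  (nat_lit 0x8206cc219922) (nat_lit 3296) (nat_lit 0xa580250a34c2) .nil) (nat_lit 0x8206cc24f801) (nat_lit
  20240) (nat_lit 0xa580251055c8) (.node .nil (nat_lit 0x8206cc283113) (nat_lit 40449) (nat_lit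
  0x8544681a8311) .nil)) (nat_lit 0x8206cc2d5030) (nat_lit 22896) (nat_lit 0xa580251262d0) (.node (.node .nil
  (nat_lit 0x8206cc316812) (nat_lit 2241) (nat_lit 0x854468283113) .nil) (nat_lit 0x8206cc340931) (nat_lit
  17296) (nat_lit 0xa58025007b42) .nil)) (nat_lit 0x82125301ed08) (nat_lit 28352) (nat_lit 0x942312234c21)
  (.node (.node (.node .nil (nat_lit 0x8212530d0d24) (nat_lit 31649) (nat_lit 0xa09a441f0029) .nil) (nat_lit
  0x821253146984) (nat_lit 18624) (nat_lit 0xc4134818a096) .nil) (nat_lit 0x82125315848c) (nat_lit 22432)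
  (nat_lit 0x8c8384234c21) (.node (.node .nil (nat_lit 0x8212531889a8) (nat_lit 7776) (nat_lit 0x909298234c21)
  .nil) (nat_lit 0x8212531964a0) (nat_lit 45297) (nat_lit 0xc0d9801f0029) .nil))) (nat_lit 0x82125324c5a0)
  (nat_lit 39088) (nat_lit 0x8031d4234c21) (.node (.node (.node (.node .nil (nat_lit 0x8212532528a8) (nat_lit
  13409) (nat_lit 0xc0a2c21f0029) .nil) (nat_lit 0x82125328258c) (nat_lit 46592) (nat_lit 0xd4b0040803da)
  (.node .nil (nat_lit 0x82125329c884) (nat_lit 15920) (nat_lit 0x9c20c8234c21) .nil)) (nat_lit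
  0x82125330ac24) (nat_lit 20928) (nat_lit 0x989142234c21) (.node (.node .nil (nat_lit 0x8212533c4c08)
  (nat_lit 37057) (nat_lit 0xe08494007b42) .nil) (nat_lit 0x8254b005aa06) (nat_lit 27089) (nat_lit
  0xa1189118046e) .nil)) (nat_lit 0x8254b00c2b09) (nat_lit 32241) (nat_lit 0xe4218103da10) (.node (.node
  (.node .nil (nat_lit 0x8254b010a34c) (nat_lit 15489) (nat_lit 0x85e09018046e) .nil) (nat_lit 0x8254b015094a)
  (nat_lit 36753) (nat_lit 0xc3039018046e) .nil) (nat_lit 0x8254b0192243) (nat_lit 47745) (nat_lit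
  0xc0d98018046e) (.node (.node .nil (nat_lit 0x8254b01c8845) (nat_lit 26977) (nat_lit 0x863a8018046e) .nil)
  (nat_lit 0x8254b0212945) (nat_lit 49953) (nat_lit 0xa6911018046e) .nil)))) (nat_lit 0x8254b0248343) (nat_lit
  46976) (nat_lit 0x8031d4048c2b) (.node (.node (.node (.node (.node .nil (nat_lit 0x8254b028a84a) (nat_lit
  14513) (nat_lit 0xe3a800045391) .nil) (nat_lit 0x8254b02d024c) (nat_lit 34944) (nat_lit 0xe91104048c2b)
  (.node .nil (nat_lit 0x8254b0318a09) (nat_lit 13872) (nat_lit 0xc30390048c2b) .nil)) (nat_lit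
  0x8254b0380b06) (nat_lit 13664) (nat_lit 0xaa2340048c2b) (.node (.node .nil (nat_lit 0x82691101964a)
  (nat_lit 28737) (nat_lit 0xc02f040a903a) .nil) (nat_lit 0x8269110c16a8) (nat_lit 25585) (nat_lit
  0xe421810a903a) .nil)) (nat_lit 0x8269110d80e2) (nat_lit 15425) (nat_lit 0xd161400a903a) (.node (.node
  (.node .nil (nat_lit 0x8269111412c6) (nat_lit 16496) (nat_lit 0xc41348122433) .nil) (nat_lit 0x82691115848c)
  (nat_lit 48321) (nat_lit 0xa06cc00a903a) .nil) (nat_lit 0x826911199224) (nat_lit 33617) (nat_lit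
  0xb122840a903a) (.node (.node .nil (nat_lit 0x8269112114e4) (nat_lit 31664) (nat_lit 0x8952c0122433) .nil)
  (nat_lit 0x8269112c9406) (nat_lit 49664) (nat_lit 0xa181c8122433) .nil))) (nat_lit 0x8269112d024c) (nat_lit
  10896) (nat_lit 0xe9110404cac8) (.node (.node (.node (.node .nil (nat_lit 0x826911349068) (nat_lit 33648)
  (nat_lit 0xe80a8805d144) .nil) (nat_lit 0x826911350622) (nat_lit 42673) (nat_lit 0xd446800a903a) (.node .nil
  (nat_lit 0x82691139108a) (nat_lit 15504) (nat_lit 0xc0d980122433) .nil)) (nat_lit 0x828b0a017451) (nat_lit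
  22561) (nat_lit 0xc02f0401d0a9) (.node (.node .nil (nat_lit 0x828b0a0c44d4) (nat_lit 15856) (nat_lit
  0x9142312c9406) .nil) (nat_lit 0x828b0a0d3085) (nat_lit 18769) (nat_lit 0xb20e1001d0a9) .nil)) (nat_lit
  0x828b0a152074) (nat_lit 7057) (nat_lit 0xac281401d0a9) (.node (.node (.node .nil (nat_lit 0x828b0a1810f1)
  (nat_lit 18560) (nat_lit 0x914231229c88) .nil) (nat_lit 0x828b0a1964a0) (nat_lit 1489) (nat_lit
  0xde090001d0a9) .nil) (nat_lit 0x828b0a2114e4) (nat_lit 20048) (nat_lit 0x9142310a34c2) (.node (.node .nil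
  (nat_lit 0x828b0a2c2461) (nat_lit 2641) (nat_lit 0xf8240201d0a9) .nil) (nat_lit 0x828b0a2d5030) (nat_lit
  9585) (nat_lit 0xc6245001d0a9) .nil))))))
def tt3360_3 : T := (.node (.node (.node (.node (.node (.node (.node .nil (nat_lit 0x828b0a387044) (nat_lit
  5665) (nat_lit 0x94231201d0a9) .nil) (nat_lit 0x828b0a390415) (nat_lit 7936) (nat_lit 0x91423128a84a) (.node
  .nil (nat_lit 0x82a234055c82) (nat_lit 36369) (nat_lit 0x8900bc301c43) .nil)) (nat_lit 0x82a234090cc9)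
  (nat_lit 47505) (nat_lit 0x8900bc265640) (.node (.node .nil (nat_lit 0x82a2341055c8) (nat_lit 43953)
  (nat_lit 0x8900bc14e442) .nil) (nat_lit 0x82a23415094a) (nat_lit 4448) (nat_lit 0xb8419001262d) .nil))
  (nat_lit 0x82a234195901) (nat_lit 43889) (nat_lit 0x8900bc32b202) (.node (.node (.node .nil (nat_lit
  0x82a2341c0583) (nat_lit 37425) (nat_lit 0x8900bc02ae41) .nil) (nat_lit 0x82a234251509) (nat_lit 1649)
  (nat_lit 0x8900bc32c940) (.node .nil (nat_lit 0x82a234294542) (nat_lit 11441) (nat_lit 0x8900bc248343)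
  .nil)) (nat_lit 0x82a234301c43) (nat_lit 13249) (nat_lit 0x8900bc163141) (.node (.node .nil (nat_lit
  0x82a2343540c1) (nat_lit 20448) (nat_lit 0x94585001262d) .nil) (nat_lit 0x82a23439108a) (nat_lit 38096)
  (nat_lit 0xc0d98001262d) .nil))) (nat_lit 0x82a2343c4c08) (nat_lit 10769) (nat_lit 0x8900bc007b42) (.node
  (.node (.node (.node .nil (nat_lit 0x82f048010f13) (nat_lit 1760) (nat_lit 0xa02a23174510) .nil) (nat_lit
  0x82f0480d0d24) (nat_lit 52000) (nat_lit 0xa02a231c111c) (.node .nil (nat_lit 0x82f0481007b4) (nat_lit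
  32096) (nat_lit 0xa02a2315848c) .nil)) (nat_lit 0x82f0481c0583) (nat_lit 36416) (nat_lit 0xa02a231ed080)
  (.node (.node .nil (nat_lit 0x82f048240e85) (nat_lit 21552) (nat_lit 0xa02a231055c8) .nil) (nat_lit
  0x82f048250196) (nat_lit 27953) (nat_lit 0xa88d011440ba) .nil)) (nat_lit 0x82f048280cb2) (nat_lit 27056)
  (nat_lit 0xa02a231b01c4) (.node (.node (.node .nil (nat_lit 0x82f0482903a1) (nat_lit 31744) (nat_lit
  0xa02a230c44d4) .nil) (nat_lit 0x82f048340931) (nat_lit 1376) (nat_lit 0xa02a2305d144) .nil) (nat_lit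
  0x82f048350622) (nat_lit 37569) (nat_lit 0xca96001440ba) (.node (.node .nil (nat_lit 0x82f048380b06)
  (nat_lit 50593) (nat_lit 0x81b3011440ba) .nil) (nat_lit 0x82f048390415) (nat_lit 49921) (nat_lit
  0xaa23401440ba) .nil)))) (nat_lit 0x831d4000e21b) (nat_lit 18896) (nat_lit 0x836602340931) (.node (.node
  (.node (.node (.node .nil (nat_lit 0x831d400c0237) (nat_lit 21537) (nat_lit 0x8b0a05349068) .nil) (nat_lit
  0x831d400ce02c) (nat_lit 17681) (nat_lit 0x804a96349068) (.node .nil (nat_lit 0x831d401440ba) (nat_lit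
  43409) (nat_lit 0xc30390086c07) .nil)) (nat_lit 0x831d4014a2a1) (nat_lit 28065) (nat_lit 0xc84303032c94)
  (.node (.node .nil (nat_lit 0x831d4018428d) (nat_lit 49616) (nat_lit 0x839086340931) .nil) (nat_lit
  0x831d4018a096) (nat_lit 42641) (nat_lit 0x882691349068) .nil)) (nat_lit 0x831d402060b5) (nat_lit 51904)
  (nat_lit 0x8952c0340931) (.node (.node (.node .nil (nat_lit 0x831d402082ae) (nat_lit 38945) (nat_lit
  0x814585349068) .nil) (nat_lit 0x831d402c6282) (nat_lit 28592) (nat_lit 0x8206cc340931) .nil) (nat_lit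
  0x831d402c8099) (nat_lit 13985) (nat_lit 0xc120170a4f80) (.node (.node .nil (nat_lit 0x831d4034200f)
  (nat_lit 19744) (nat_lit 0xca608401964a) .nil) (nat_lit 0x831d4034c214) (nat_lit 2720) (nat_lit
  0x82f048340931) .nil))) (nat_lit 0x831d40382238) (nat_lit 24576) (nat_lit 0xc134880ac246) (.node (.node
  (.node (.node .nil (nat_lit 0x831d4038c023) (nat_lit 36801) (nat_lit 0xc94c10022387) .nil) (nat_lit
  0x8320e1088e1c) (nat_lit 3520) (nat_lit 0x85161422a129) (.node .nil (nat_lit 0x8320e10cc912) (nat_lit 25537)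
  (nat_lit 0xd16140089a83) .nil)) (nat_lit 0x8320e1185612) (nat_lit 36945) (nat_lit 0xc0d980192243) (.node
  (.node .nil (nat_lit 0x8320e11c111c) (nat_lit 21808) (nat_lit 0x981c8422a129) .nil) (nat_lit 0x8320e1205d14)
  (nat_lit 20832) (nat_lit 0x8952c022a129) .nil)) (nat_lit 0x8320e1241a1a) (nat_lit 34544) (nat_lit
  0xc94c101412c6) (.node (.node (.node .nil (nat_lit 0x8320e128d308) (nat_lit 29344) (nat_lit 0xd11a020c44d4)
  .nil) (nat_lit 0x8320e12c9406) (nat_lit 3345) (nat_lit 0x900bc126043c) .nil) (nat_lit 0x8320e130851a)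
  (nat_lit 32833) (nat_lit 0xd11a0208e1c1) (.node (.node .nil (nat_lit 0x8320e134c214) (nat_lit 17744)
  (nat_lit 0x94585022a129) .nil) (nat_lit 0x8320e1380b06) (nat_lit 2784) (nat_lit 0x8c0e4222a129) .nil)))))
  (nat_lit 0x8320e13c4c08) (nat_lit 45905) (nat_lit 0xd98081007b42) (.node (.node (.node (.node (.node (.node
  .nil (nat_lit 0x836602009959) (nat_lit 5169) (nat_lit 0xc02f041ed080) .nil) (nat_lit 0x8366020498b4)
  (nat_lit 35377) (nat_lit 0x981c8421007b) (.node .nil (nat_lit 0x8366021810f1) (nat_lit 41665) (nat_lit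
  0xc0d9801e2604) .nil)) (nat_lit 0x8366021889a8) (nat_lit 10081) (nat_lit 0xde090000f684) (.node (.node .nil
  (nat_lit 0x8366021c111c) (nat_lit 12657) (nat_lit 0x98ea0021007b) .nil) (nat_lit 0x8366021c8845) (nat_lit
  30753) (nat_lit 0x863a8021007b) .nil)) (nat_lit 0x836602288174) (nat_lit 52113) (nat_lit 0x8c838421007b)
  (.node (.node (.node .nil (nat_lit 0x8366022c8099) (nat_lit 13025) (nat_lit 0xd4b0040a4f80) .nil) (nat_lit
  0x8366023008dc) (nat_lit 44273) (nat_lit 0x8c750021007b) .nil) (nat_lit 0x836602309185) (nat_lit 35952)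
  (nat_lit 0xa81458056123) (.node (.node .nil (nat_lit 0x836602340931) (nat_lit 10609) (nat_lit
  0xd446800ab904) .nil) (nat_lit 0x836602349068) (nat_lit 46737) (nat_lit 0xca9600146984) .nil))) (nat_lit
  0x838419007b42) (nat_lit 9905) (nat_lit 0xc02f04159013) (.node (.node (.node (.node .nil (nat_lit
  0x838419082ae4) (nat_lit 40417) (nat_lit 0x8516142a40e8) .nil) (nat_lit 0x8384191412c6) (nat_lit 50240)
  (nat_lit 0x86072129c884) (.node .nil (nat_lit 0x838419146984) (nat_lit 38433) (nat_lit 0x80bc122a40e8)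
  .nil)) (nat_lit 0x8384191c3822) (nat_lit 40224) (nat_lit 0x860721087898) (.node (.node .nil (nat_lit
  0x8384191c4360) (nat_lit 12401) (nat_lit 0xd0151105aa06) .nil) (nat_lit 0x838419243324) (nat_lit 43760)
  (nat_lit 0x86072120d0d2) .nil)) (nat_lit 0x8384192c6282) (nat_lit 28673) (nat_lit 0xd4b004010f13) (.node
  (.node (.node .nil (nat_lit 0x8384193021e2) (nat_lit 23232) (nat_lit 0x860721091856) .nil) (nat_lit
  0x838419305aa0) (nat_lit 42609) (nat_lit 0xc48a11113506) .nil) (nat_lit 0x838419380b06) (nat_lit 46768)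
  (nat_lit 0x86072128a84a) (.node (.node .nil (nat_lit 0x838419387044) (nat_lit 47041) (nat_lit
  0x9423122a40e8) .nil) (nat_lit 0x839086046e30) (nat_lit 38496) (nat_lit 0xf210c000cb25) .nil)))) (nat_lit
  0x8390860c2b09) (nat_lit 31185) (nat_lit 0xb004a903da10) (.node (.node (.node (.node (.node .nil (nat_lit
  0x839086140659) (nat_lit 23777) (nat_lit 0xb004a90f6840) .nil) (nat_lit 0x8390861c4360) (nat_lit 24097)
  (nat_lit 0xb004a905aa06) (.node .nil (nat_lit 0x839086200f68) (nat_lit 31793) (nat_lit 0xb004a905d144)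
  .nil)) (nat_lit 0x839086246158) (nat_lit 13793) (nat_lit 0xb004a90cc912) (.node (.node .nil (nat_lit
  0x839086284a51) (nat_lit 53201) (nat_lit 0xb004a90f1302) .nil) (nat_lit 0x8390862c2461) (nat_lit 53632)
  (nat_lit 0x9104d200cb25) .nil)) (nat_lit 0x839086306701) (nat_lit 47168) (nat_lit 0xa8145800cb25) (.node
  (.node (.node .nil (nat_lit 0x839086340931) (nat_lit 39377) (nat_lit 0xb004a90ab904) .nil) (nat_lit
  0x839086382238) (nat_lit 51776) (nat_lit 0xc1348800cb25) .nil) (nat_lit 0x8390863c4c08) (nat_lit 14017)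
  (nat_lit 0xb004a9007b42) (.node (.node .nil (nat_lit 0x840d9800b067) (nat_lit 37841) (nat_lit
  0x96009508dc60) .nil) (nat_lit 0x840d980a7221) (nat_lit 9009) (nat_lit 0xe4218108dc60) .nil))) (nat_lit
  0x840d980ac246) (nat_lit 12576) (nat_lit 0x9c8430215207) (.node (.node (.node (.node .nil (nat_lit
  0x840d98135062) (nat_lit 40785) (nat_lit 0xc3039008dc60) .nil) (nat_lit 0x840d9813e005) (nat_lit 13649)
  (nat_lit 0xa2209a08dc60) (.node .nil (nat_lit 0x840d98192243) (nat_lit 4065) (nat_lit 0xd0018e08dc60) .nil))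
  (nat_lit 0x840d98199224) (nat_lit 46608) (nat_lit 0x9c8430011b8c) (.node (.node .nil (nat_lit
  0x840d98215207) (nat_lit 5024) (nat_lit 0x9c84302032c9) .nil) (nat_lit 0x840d9821e260) (nat_lit 36257)
  (nat_lit 0xd2220908dc60) .nil)) (nat_lit 0x840d982b2026) (nat_lit 4721) (nat_lit 0xa0031d08dc60) (.node
  (.node (.node .nil (nat_lit 0x840d982b9041) (nat_lit 23296) (nat_lit 0x9c84300160ce) .nil) (nat_lit
  0x840d98320265) (nat_lit 18945) (nat_lit 0x87210c08dc60) .nil) (nat_lit 0x840d9832b202) (nat_lit 26096)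
  (nat_lit 0x9c843022114e) (.node (.node .nil (nat_lit 0x840d98387044) (nat_lit 53265) (nat_lit
  0x94231208dc60) .nil) (nat_lit 0x840d9838c023) (nat_lit 29088) (nat_lit 0x9c8430212945) .nil))))))
def tt3360_4 : T := (.node (.node (.node (.node (.node (.node (.node .nil (nat_lit 0x8419070b0670) (nat_lit
  48256) (nat_lit 0xc0a2c21a4834) .nil) (nat_lit 0x8419070ba288) (nat_lit 2336) (nat_lit 0x81b3011a4834)
  (.node .nil (nat_lit 0x8419071262d0) (nat_lit 45472) (nat_lit 0xc413481a4834) .nil)) (nat_lit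
  0x8419071964a0) (nat_lit 26481) (nat_lit 0x929821202656) (.node (.node .nil (nat_lit 0x84190719c058)
  (nat_lit 7840) (nat_lit 0xa017821a4834) .nil) (nat_lit 0x841907214698) (nat_lit 10673) (nat_lit
  0x929821294542) .nil)) (nat_lit 0x84190721e260) (nat_lit 53568) (nat_lit 0x8494c11a4834) (.node (.node
  (.node .nil (nat_lit 0x8419072ae410) (nat_lit 21393) (nat_lit 0x9298210803da) .nil) (nat_lit 0x841907332448)
  (nat_lit 25216) (nat_lit 0xe4218101964a) (.node .nil (nat_lit 0x8419073380b0) (nat_lit 28545) (nat_lit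
  0x92982128258c) .nil)) (nat_lit 0x841907382238) (nat_lit 784) (nat_lit 0xc134881a4834) (.node (.node .nil
  (nat_lit 0x8424a6009959) (nat_lit 21137) (nat_lit 0x800c751ed080) .nil) (nat_lit 0x8424a603da10) (nat_lit
  24960) (nat_lit 0xf210c0010f13) .nil))) (nat_lit 0x8424a6195901) (nat_lit 11521) (nat_lit 0x800c7532b202)
  (.node (.node (.node (.node .nil (nat_lit 0x8424a619c058) (nat_lit 6417) (nat_lit 0x800c752c6282) .nil)
  (nat_lit 0x8424a61a1a48) (nat_lit 1745) (nat_lit 0x800c75157208) (.node .nil (nat_lit 0x8424a61a8311)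
  (nat_lit 752) (nat_lit 0xe009520ce02c) .nil)) (nat_lit 0x8424a6284a51) (nat_lit 36401) (nat_lit
  0x800c750f1302) (.node (.node .nil (nat_lit 0x8424a628d308) (nat_lit 23488) (nat_lit 0xd11a020ce02c) .nil)
  (nat_lit 0x8424a62b0918) (nat_lit 45441) (nat_lit 0x800c7528d308) .nil)) (nat_lit 0x8424a62b9041) (nat_lit
  47585) (nat_lit 0x800c75360388) (.node (.node (.node .nil (nat_lit 0x8424a6318a09) (nat_lit 40080) (nat_lit
  0xc303900ce02c) .nil) (nat_lit 0x8424a632c940) (nat_lit 29168) (nat_lit 0x831d400ce02c) .nil) (nat_lit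
  0x843039008dc6) (nat_lit 26528) (nat_lit 0x8a2c2834c214) (.node (.node .nil (nat_lit 0x8430390a4f80)
  (nat_lit 25233) (nat_lit 0xe4218101964a) .nil) (nat_lit 0x843039114e44) (nat_lit 42161) (nat_lit
  0xa530421a4834) .nil)))) (nat_lit 0x84303911c382) (nat_lit 45489) (nat_lit 0xc413481a4834) (.node (.node
  (.node (.node (.node .nil (nat_lit 0x8430391b01c4) (nat_lit 3152) (nat_lit 0x8a2c28309185) .nil) (nat_lit
  0x8430391b8c02) (nat_lit 12448) (nat_lit 0x8a2c28045391) (.node .nil (nat_lit 0x843039230ac2) (nat_lit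
  24768) (nat_lit 0x8a2c281412c6) .nil)) (nat_lit 0x843039238704) (nat_lit 11200) (nat_lit 0x8a2c2820d0d2)
  (.node (.node .nil (nat_lit 0x843039294542) (nat_lit 801) (nat_lit 0xc134881a4834) .nil) (nat_lit
  0x84303929c884) (nat_lit 7857) (nat_lit 0xa017821a4834) .nil)) (nat_lit 0x84303932c940) (nat_lit 8608)
  (nat_lit 0x8a2c2805d144) (.node (.node (.node .nil (nat_lit 0x843039380b06) (nat_lit 2353) (nat_lit
  0x81b3011a4834) .nil) (nat_lit 0x846245111c38) (nat_lit 8832) (nat_lit 0x840d982b2026) .nil) (nat_lit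
  0x846245121992) (nat_lit 13825) (nat_lit 0x87083218b409) (.node (.node .nil (nat_lit 0x8462451889a8)
  (nat_lit 34048) (nat_lit 0x9092982b2026) .nil) (nat_lit 0x8462451b8c02) (nat_lit 4144) (nat_lit
  0xd08c48045391) .nil))) (nat_lit 0x846245219922) (nat_lit 48689) (nat_lit 0x870832309185) (.node (.node
  (.node (.node .nil (nat_lit 0x846245229c88) (nat_lit 38129) (nat_lit 0x8708321055c8) .nil) (nat_lit
  0x846245280cb2) (nat_lit 4497) (nat_lit 0x870832081745) (.node .nil (nat_lit 0x8462452b0918) (nat_lit 43184)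
  (nat_lit 0xd0151104cac8) .nil)) (nat_lit 0x84624530851a) (nat_lit 28944) (nat_lit 0xd44680009959) (.node
  (.node .nil (nat_lit 0x8462453380b0) (nat_lit 42465) (nat_lit 0x87083228258c) .nil) (nat_lit 0x84624539108a)
  (nat_lit 11312) (nat_lit 0xc0d980140659) .nil)) (nat_lit 0x8462453a1520) (nat_lit 12081) (nat_lit
  0x87083210a34c) (.node (.node (.node .nil (nat_lit 0x84805e003da1) (nat_lit 7200) (nat_lit 0xa8462416a818)
  .nil) (nat_lit 0x84805e0a4f80) (nat_lit 46000) (nat_lit 0xa84624159013) .nil) (nat_lit 0x84805e131681)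
  (nat_lit 2001) (nat_lit 0x8c48a1332448) (.node (.node .nil (nat_lit 0x84805e132b20) (nat_lit 30992) (nat_lit
  0xa84624112199) .nil) (nat_lit 0x84805e195901) (nat_lit 45025) (nat_lit 0x8c48a132b202) .nil))))) (nat_lit
  0x84805e1964a0) (nat_lit 11808) (nat_lit 0xa8462404b18a) (.node (.node (.node (.node (.node (.node .nil
  (nat_lit 0x84805e237180) (nat_lit 24384) (nat_lit 0xa846240710d8) .nil) (nat_lit 0x84805e2903a1) (nat_lit
  32880) (nat_lit 0xa846240428d3) (.node .nil (nat_lit 0x84805e305aa0) (nat_lit 47424) (nat_lit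
  0xa84624163141) .nil)) (nat_lit 0x84805e306701) (nat_lit 42769) (nat_lit 0x8c48a103a152) (.node (.node .nil
  (nat_lit 0x84805e3a1520) (nat_lit 46049) (nat_lit 0x8c48a110a34c) .nil) (nat_lit 0x84805e3a2881) (nat_lit
  2033) (nat_lit 0x8c48a1023718) .nil)) (nat_lit 0x8494c100293e) (nat_lit 10320) (nat_lit 0x90641c2e8a20)
  (.node (.node (.node .nil (nat_lit 0x8494c1094a2a) (nat_lit 42289) (nat_lit 0xc8a118160ce0) .nil) (nat_lit
  0x8494c1096314) (nat_lit 50512) (nat_lit 0xc040d9113506) .nil) (nat_lit 0x8494c113021e) (nat_lit 24241)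
  (nat_lit 0xa96009160ce0) (.node (.node .nil (nat_lit 0x8494c1132b20) (nat_lit 53040) (nat_lit
  0xc05446112199) .nil) (nat_lit 0x8494c11a4834) (nat_lit 51280) (nat_lit 0xd1614000149f) .nil))) (nat_lit
  0x8494c11a610a) (nat_lit 35425) (nat_lit 0xe9110400e21b) (.node (.node (.node (.node .nil (nat_lit
  0x8494c1224332) (nat_lit 19441) (nat_lit 0xe0721009810f) .nil) (nat_lit 0x8494c1226a0c) (nat_lit 35728)
  (nat_lit 0xc120171055c8) (.node .nil (nat_lit 0x8494c12b0918) (nat_lit 27616) (nat_lit 0xd015110160ce)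
  .nil)) (nat_lit 0x8494c12b2026) (nat_lit 42592) (nat_lit 0x9104d22e8a20) (.node (.node .nil (nat_lit
  0x8494c131412c) (nat_lit 37073) (nat_lit 0xa0e106160ce0) .nil) (nat_lit 0x8494c1316812) (nat_lit 5137)
  (nat_lit 0xc1c20c160ce0) .nil)) (nat_lit 0x8494c1380b06) (nat_lit 336) (nat_lit 0x80254b2e8a20) (.node
  (.node (.node .nil (nat_lit 0x8494c1382238) (nat_lit 39153) (nat_lit 0xe0900b096314) .nil) (nat_lit
  0x84a96000149f) (nat_lit 10976) (nat_lit 0x86cc04382238) .nil) (nat_lit 0x84a9600b4093) (nat_lit 39856)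
  (nat_lit 0xc508c402d503) (.node (.node .nil (nat_lit 0x84a9600b540c) (nat_lit 1568) (nat_lit 0x841907382238)
  .nil) (nat_lit 0x84a96013021e) (nat_lit 33009) (nat_lit 0xa960090498b4) .nil)))) (nat_lit 0x84a960131681)
  (nat_lit 8544) (nat_lit 0xc05446078981) (.node (.node (.node (.node (.node .nil (nat_lit 0x84a96018428d)
  (nat_lit 47377) (nat_lit 0x8366020498b4) .nil) (nat_lit 0x84a960185612) (nat_lit 24112) (nat_lit
  0xc28145055c82) (.node .nil (nat_lit 0x84a960214698) (nat_lit 12497) (nat_lit 0xd222090498b4) .nil))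
  (nat_lit 0x84a960215207) (nat_lit 34497) (nat_lit 0xb301030498b4) (.node (.node .nil (nat_lit
  0x84a9602a060b) (nat_lit 35072) (nat_lit 0xc75001008dc6) .nil) (nat_lit 0x84a9602a1294) (nat_lit 52049)
  (nat_lit 0x9907080498b4) .nil)) (nat_lit 0x84a960324486) (nat_lit 37600) (nat_lit 0x831d40382238) (.node
  (.node (.node .nil (nat_lit 0x84a960325019) (nat_lit 49472) (nat_lit 0xc20c8305d144) .nil) (nat_lit
  0x84a960390415) (nat_lit 48465) (nat_lit 0xaa23400498b4) .nil) (nat_lit 0x84a96039108a) (nat_lit 7264)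
  (nat_lit 0xc0d980070447) (.node (.node .nil (nat_lit 0x84d222032c94) (nat_lit 10192) (nat_lit
  0xf210c004a515) .nil) (nat_lit 0x84d222090cc9) (nat_lit 21233) (nat_lit 0xc8a1181108a7) .nil))) (nat_lit
  0x84d222112199) (nat_lit 17936) (nat_lit 0x92a580094a2a) (.node (.node (.node (.node .nil (nat_lit
  0x84d2221b01c4) (nat_lit 52257) (nat_lit 0xa4a6081108a7) .nil) (nat_lit 0x84d222212945) (nat_lit 51168)
  (nat_lit 0x8494c1094a2a) (.node .nil (nat_lit 0x84d2222205d1) (nat_lit 8513) (nat_lit 0xe072100e8548) .nil))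
  (nat_lit 0x84d22228258c) (nat_lit 12736) (nat_lit 0xd4b004094a2a) (.node (.node .nil (nat_lit
  0x84d2222b0918) (nat_lit 16976) (nat_lit 0xd01511094a2a) .nil) (nat_lit 0x84d2223008dc) (nat_lit 44896)
  (nat_lit 0xe08494094a2a) .nil)) (nat_lit 0x84d222332448) (nat_lit 5921) (nat_lit 0xca96001108a7) (.node
  (.node (.node .nil (nat_lit 0x84d222390415) (nat_lit 29329) (nat_lit 0xaa23401108a7) .nil) (nat_lit
  0x84d2223a2881) (nat_lit 34529) (nat_lit 0xecc040023718) .nil) (nat_lit 0x85028b08dc60) (nat_lit 33136)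
  (nat_lit 0x8bc120241a1a) (.node (.node .nil (nat_lit 0x85028b0ab904) (nat_lit 7793) (nat_lit 0x909298234c21)
  .nil) (nat_lit 0x85028b10f130) (nat_lit 18641) (nat_lit 0xc4134818a096) .nil))))))
def tt3360_5 : T := (.node (.node (.node (.node (.node (.node (.node .nil (nat_lit 0x85028b205d14) (nat_lit
  20945) (nat_lit 0x989142234c21) .nil) (nat_lit 0x85028b223870) (nat_lit 37937) (nat_lit 0xc0a2c21c111c)
  (.node .nil (nat_lit 0x85028b288174) (nat_lit 22449) (nat_lit 0x8c8384234c21) .nil)) (nat_lit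
  0x85028b2ae410) (nat_lit 22864) (nat_lit 0x8bc1203008dc) (.node (.node .nil (nat_lit 0x85028b30ac24)
  (nat_lit 18448) (nat_lit 0x8bc120301c43) .nil) (nat_lit 0x85028b32c940) (nat_lit 53329) (nat_lit
  0xd8025404b18a) .nil)) (nat_lit 0x85028b387044) (nat_lit 16336) (nat_lit 0x8bc120140659) (.node (.node
  (.node .nil (nat_lit 0x85028b3a1520) (nat_lit 22352) (nat_lit 0x8bc120202656) .nil) (nat_lit 0x85161402e8a2)
  (nat_lit 34784) (nat_lit 0xf210c000e21b) (.node .nil (nat_lit 0x85161408e1c1) (nat_lit 25057) (nat_lit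
  0xb90860068692) .nil)) (nat_lit 0x8516140a0963) (nat_lit 10401) (nat_lit 0xb9086006920d) (.node (.node .nil
  (nat_lit 0x851614106869) (nat_lit 47825) (nat_lit 0xb90860067016) .nil) (nat_lit 0x8516141280cb) (nat_lit
  9169) (nat_lit 0xb90860066489) .nil))) (nat_lit 0x8516141889a8) (nat_lit 48592) (nat_lit 0x9092980d0d24)
  (.node (.node (.node (.node .nil (nat_lit 0x8516141a610a) (nat_lit 16401) (nat_lit 0xb9086000e21b) .nil)
  (nat_lit 0x85161420498b) (nat_lit 27489) (nat_lit 0xb9086002d503) (.node .nil (nat_lit 0x85161422a129)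
  (nat_lit 1792) (nat_lit 0xd222090d0d24) .nil)) (nat_lit 0x85161428a84a) (nat_lit 14481) (nat_lit
  0xb90860045391) (.node (.node .nil (nat_lit 0x8516142a40e8) (nat_lit 27312) (nat_lit 0xe0900b0d0d24) .nil)
  (nat_lit 0x8516143021e2) (nat_lit 25425) (nat_lit 0xb9086004a515) .nil)) (nat_lit 0x85161432c940) (nat_lit
  22065) (nat_lit 0xb9086004b18a) (.node (.node (.node .nil (nat_lit 0x85161438c023) (nat_lit 14097) (nat_lit
  0xb90860022387) .nil) (nat_lit 0x8516143a2881) (nat_lit 23425) (nat_lit 0xb90860023718) .nil) (nat_lit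
  0x854468089a83) (nat_lit 14640) (nat_lit 0xac012a03da10) (.node (.node .nil (nat_lit 0x8544680ab904)
  (nat_lit 49649) (nat_lit 0x909298244866) .nil) (nat_lit 0x854468103a15) (nat_lit 3137) (nat_lit
  0x9b3010244866) .nil)))) (nat_lit 0x854468121992) (nat_lit 52896) (nat_lit 0xac012a10cc91) (.node (.node
  (.node (.node (.node .nil (nat_lit 0x85446818a096) (nat_lit 19649) (nat_lit 0x882691244866) .nil) (nat_lit
  0x8544681a8311) (nat_lit 27344) (nat_lit 0xac012a131681) (.node .nil (nat_lit 0x854468283113) (nat_lit 1120)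
  (nat_lit 0xac012a0182d5) .nil)) (nat_lit 0x8544682a1294) (nat_lit 23328) (nat_lit 0xac012a1262d0) (.node
  (.node .nil (nat_lit 0x854468309185) (nat_lit 47937) (nat_lit 0x92a580244866) .nil) (nat_lit 0x85446832b202)
  (nat_lit 46369) (nat_lit 0xca9600112199) .nil)) (nat_lit 0x854468380b06) (nat_lit 48336) (nat_lit
  0xac012a02ae41) (.node (.node (.node .nil (nat_lit 0x8544683a2881) (nat_lit 24753) (nat_lit 0xd98081023718)
  .nil) (nat_lit 0x85e090021e26) (nat_lit 44800) (nat_lit 0xf210c005481d) .nil) (nat_lit 0x85e090081745)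
  (nat_lit 18240) (nat_lit 0xc040d908a722) (.node (.node .nil (nat_lit 0x85e0900a0963) (nat_lit 43905)
  (nat_lit 0xd1614006920d) .nil) (nat_lit 0x85e09010132b) (nat_lit 24305) (nat_lit 0xc4134813e005) .nil)))
  (nat_lit 0x85e090120d0d) (nat_lit 15120) (nat_lit 0x96009508a722) (.node (.node (.node (.node .nil (nat_lit
  0x85e09018046e) (nat_lit 8481) (nat_lit 0x846245280cb2) .nil) (nat_lit 0x85e0901a1a48) (nat_lit 28192)
  (nat_lit 0xa1189108a722) (.node .nil (nat_lit 0x85e090200f68) (nat_lit 9937) (nat_lit 0xd2220905d144) .nil))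
  (nat_lit 0x85e09022114e) (nat_lit 25712) (nat_lit 0xf048050710d8) (.node (.node .nil (nat_lit
  0x85e09028182d) (nat_lit 3392) (nat_lit 0xc2181c08a722) .nil) (nat_lit 0x85e0902a060b) (nat_lit 12561)
  (nat_lit 0xd4b004034349) .nil)) (nat_lit 0x85e090301c43) (nat_lit 19200) (nat_lit 0x91104d08a722) (.node
  (.node (.node .nil (nat_lit 0x85e090320265) (nat_lit 11617) (nat_lit 0x87210c280cb2) .nil) (nat_lit
  0x85e090380b06) (nat_lit 28624) (nat_lit 0xa6084908a722) .nil) (nat_lit 0x85e0903a1520) (nat_lit 2256)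
  (nat_lit 0xa3405408a722) (.node (.node .nil (nat_lit 0x860721087898) (nat_lit 27121) (nat_lit
  0xe4218103886c) .nil) (nat_lit 0x860721091856) (nat_lit 13392) (nat_lit 0xc0a2c21f0029) .nil))))) (nat_lit
  0x86072118a096) (nat_lit 44945) (nat_lit 0x88269103886c) (.node (.node (.node (.node (.node (.node .nil
  (nat_lit 0x86072119c058) (nat_lit 46352) (nat_lit 0xa017821f0029) .nil) (nat_lit 0x86072120d0d2) (nat_lit
  30896) (nat_lit 0x8031d41f0029) (.node .nil (nat_lit 0x86072121b01c) (nat_lit 36656) (nat_lit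
  0xc02f041f0029) .nil)) (nat_lit 0x86072128a84a) (nat_lit 34401) (nat_lit 0xf8240203886c) (.node (.node .nil
  (nat_lit 0x86072129c884) (nat_lit 40593) (nat_lit 0xa0178203886c) .nil) (nat_lit 0x8607213008dc) (nat_lit
  37040) (nat_lit 0xe08494007b42) .nil)) (nat_lit 0x860721316812) (nat_lit 31632) (nat_lit 0xa09a441f0029)
  (.node (.node (.node .nil (nat_lit 0x860721387044) (nat_lit 47201) (nat_lit 0x94231203886c) .nil) (nat_lit
  0x86072139108a) (nat_lit 8817) (nat_lit 0xcc109203886c) .nil) (nat_lit 0x863a8001c436) (nat_lit 14177)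
  (nat_lit 0xa800c7111c38) (.node (.node .nil (nat_lit 0x863a80084539) (nat_lit 3952) (nat_lit 0x96140a09a831)
  .nil) (nat_lit 0x863a8009810f) (nat_lit 18593) (nat_lit 0xa2c281111c38) .nil))) (nat_lit 0x863a80104157)
  (nat_lit 27377) (nat_lit 0x8ea003111c38) (.node (.node (.node (.node .nil (nat_lit 0x863a80118561) (nat_lit
  37776) (nat_lit 0xc0544609a831) .nil) (nat_lit 0x863a8018046e) (nat_lit 16001) (nat_lit 0x846245111c38)
  (.node .nil (nat_lit 0x863a8019c058) (nat_lit 31217) (nat_lit 0xc28145111c38) .nil)) (nat_lit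
  0x863a8020c44d) (nat_lit 24017) (nat_lit 0x8641c2111c38) (.node (.node .nil (nat_lit 0x863a8021007b)
  (nat_lit 18801) (nat_lit 0xc0a2c2111c38) .nil) (nat_lit 0x863a80288174) (nat_lit 7825) (nat_lit
  0x8c8384111c38) .nil)) (nat_lit 0x863a80294542) (nat_lit 47840) (nat_lit 0x8206cc09a831) (.node (.node
  (.node .nil (nat_lit 0x863a8030851a) (nat_lit 17136) (nat_lit 0xd4468009a831) .nil) (nat_lit 0x863a8031412c)
  (nat_lit 33200) (nat_lit 0xd0018e09a831) .nil) (nat_lit 0x863a8038c023) (nat_lit 34224) (nat_lit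
  0xb4054409a831) (.node (.node .nil (nat_lit 0x863a80390415) (nat_lit 34641) (nat_lit 0xaa2340111c38) .nil)
  (nat_lit 0x8641c2088e1c) (nat_lit 24320) (nat_lit 0x85161438c023) .nil)))) (nat_lit 0x8641c209a831) (nat_lit
  29921) (nat_lit 0xd16140048c2b) (.node (.node (.node (.node (.node .nil (nat_lit 0x8641c2103a15) (nat_lit
  38384) (nat_lit 0xc41348032c94) .nil) (nat_lit 0x8641c2111c38) (nat_lit 13889) (nat_lit 0xc30390048c2b)
  (.node .nil (nat_lit 0x8641c218b409) (nat_lit 34961) (nat_lit 0xe91104048c2b) .nil)) (nat_lit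
  0x8641c2199224) (nat_lit 51201) (nat_lit 0xb12284048c2b) (.node (.node .nil (nat_lit 0x8641c2209631)
  (nat_lit 42529) (nat_lit 0xe07210048c2b) .nil) (nat_lit 0x8641c221b01c) (nat_lit 41985) (nat_lit
  0xb84190048c2b) .nil)) (nat_lit 0x8641c230ac24) (nat_lit 46993) (nat_lit 0x8031d4048c2b) (.node (.node
  (.node .nil (nat_lit 0x8641c2318a09) (nat_lit 48400) (nat_lit 0xc30390043c4c) .nil) (nat_lit 0x8641c2382238)
  (nat_lit 53089) (nat_lit 0xf210c0048c2b) .nil) (nat_lit 0x8641c2390415) (nat_lit 13681) (nat_lit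
  0xaa2340048c2b) (.node (.node .nil (nat_lit 0x86cc040132b2) (nat_lit 19296) (nat_lit 0xf210c001ed08) .nil)
  (nat_lit 0x86cc040803da) (nat_lit 37744) (nat_lit 0xb1d4000c0237) .nil))) (nat_lit 0x86cc04093168) (nat_lit
  17232) (nat_lit 0xb039080c0237) (.node (.node (.node (.node .nil (nat_lit 0x86cc04112199) (nat_lit 289)
  (nat_lit 0x8018ea2ae410) .nil) (nat_lit 0x86cc041810f1) (nat_lit 26657) (nat_lit 0x8018ea1e2604) (.node .nil
  (nat_lit 0x86cc04192243) (nat_lit 25328) (nat_lit 0xd08c480c0237) .nil)) (nat_lit 0x86cc042032c9) (nat_lit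
  4241) (nat_lit 0x8018ea174510) (.node (.node .nil (nat_lit 0x86cc04283113) (nat_lit 11425) (nat_lit
  0x8018ea1a8311) .nil) (nat_lit 0x86cc042903a1) (nat_lit 52513) (nat_lit 0x8018ea238704) .nil)) (nat_lit
  0x86cc043021e2) (nat_lit 34144) (nat_lit 0x831d400c0237) (.node (.node (.node .nil (nat_lit 0x86cc04382238)
  (nat_lit 5936) (nat_lit 0xc134880c0237) .nil) (nat_lit 0x86cc0439108a) (nat_lit 43808) (nat_lit
  0xc0d9800c0237) .nil) (nat_lit 0x87083200f684) (nat_lit 48096) (nat_lit 0xf210c005aa06) (.node (.node .nil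
  (nat_lit 0x870832081745) (nat_lit 2289) (nat_lit 0x97824028182d) .nil) (nat_lit 0x87083208e1c1) (nat_lit
  52864) (nat_lit 0xc508c4084539) .nil))))))
def tt3360_6 : T := (.node (.node (.node (.node (.node (.node (.node .nil (nat_lit 0x87083210a34c) (nat_lit
  6545) (nat_lit 0x85e09028182d) .nil) (nat_lit 0x87083218b409) (nat_lit 7552) (nat_lit 0x863a80084539) (.node
  .nil (nat_lit 0x8708322032c9) (nat_lit 4337) (nat_lit 0xc0a2c2174510) .nil)) (nat_lit 0x87083228258c)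
  (nat_lit 29488) (nat_lit 0xd4b004084539) (.node (.node .nil (nat_lit 0x87083228d308) (nat_lit 34656)
  (nat_lit 0xd11a02084539) .nil) (nat_lit 0x870832306701) (nat_lit 19473) (nat_lit 0xd4468003a152) .nil))
  (nat_lit 0x870832309185) (nat_lit 37632) (nat_lit 0xa53042084539) (.node (.node (.node .nil (nat_lit
  0x870832387044) (nat_lit 45073) (nat_lit 0x94231228182d) .nil) (nat_lit 0x87210c089a83) (nat_lit 38353)
  (nat_lit 0xa0c838131681) (.node .nil (nat_lit 0x87210c08dc60) (nat_lit 10624) (nat_lit 0x982125241a1a)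
  .nil)) (nat_lit 0x87210c108a72) (nat_lit 19729) (nat_lit 0xa0c8380d3085) (.node (.node .nil (nat_lit
  0x87210c10cc91) (nat_lit 21344) (nat_lit 0x982125068692) .nil) (nat_lit 0x87210c1810f1) (nat_lit 20352)
  (nat_lit 0x982125229c88) .nil))) (nat_lit 0x87210c185612) (nat_lit 35808) (nat_lit 0x982125055c82) (.node
  (.node (.node (.node .nil (nat_lit 0x87210c209631) (nat_lit 8241) (nat_lit 0xa0c8381b01c4) .nil) (nat_lit
  0x87210c20d0d2) (nat_lit 31136) (nat_lit 0x9821250710d8) (.node .nil (nat_lit 0x87210c280cb2) (nat_lit 6288)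
  (nat_lit 0x982125230ac2) .nil)) (nat_lit 0x87210c284a51) (nat_lit 38912) (nat_lit 0x98212504cac8) (.node
  (.node .nil (nat_lit 0x87210c301c43) (nat_lit 45392) (nat_lit 0x98212501964a) .nil) (nat_lit 0x87210c305aa0)
  (nat_lit 15312) (nat_lit 0x982125265640) .nil)) (nat_lit 0x881b300160ce) (nat_lit 44145) (nat_lit
  0xa44413199224) (.node (.node (.node .nil (nat_lit 0x881b30066489) (nat_lit 9425) (nat_lit 0xe42181024c5a)
  .nil) (nat_lit 0x881b30070447) (nat_lit 18784) (nat_lit 0xc0a2c2111c38) .nil) (nat_lit 0x881b301280cb)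
  (nat_lit 18576) (nat_lit 0xa2c281111c38) (.node (.node .nil (nat_lit 0x881b3013e005) (nat_lit 29873)
  (nat_lit 0xa2209a199224) .nil) (nat_lit 0x881b3014e442) (nat_lit 31200) (nat_lit 0xc28145111c38) .nil))))
  (nat_lit 0x881b3015848c) (nat_lit 7808) (nat_lit 0x8c8384111c38) (.node (.node (.node (.node (.node .nil
  (nat_lit 0x881b3020c44d) (nat_lit 49456) (nat_lit 0xe6020608e1c1) .nil) (nat_lit 0x881b3021a483) (nat_lit
  10305) (nat_lit 0xc4680a199224) (.node .nil (nat_lit 0x881b3026a0c4) (nat_lit 24000) (nat_lit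
  0x8641c2111c38) .nil)) (nat_lit 0x881b3027c00a) (nat_lit 41041) (nat_lit 0xc62450199224) (.node (.node .nil
  (nat_lit 0x881b30324486) (nat_lit 30577) (nat_lit 0x80254b199224) .nil) (nat_lit 0x881b30332448) (nat_lit
  321) (nat_lit 0xc20c83199224) .nil)) (nat_lit 0x881b3034200f) (nat_lit 46065) (nat_lit 0x826911199224)
  (.node (.node (.node .nil (nat_lit 0x881b303540c1) (nat_lit 15984) (nat_lit 0x846245111c38) .nil) (nat_lit
  0x88269103886c) (nat_lit 32209) (nat_lit 0xa4508c0b0670) .nil) (nat_lit 0x88269105d144) (nat_lit 39569)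
  (nat_lit 0xb488820b0670) (.node (.node .nil (nat_lit 0x882691065928) (nat_lit 49232) (nat_lit
  0x98081b07b420) .nil) (nat_lit 0x88269110d80e) (nat_lit 26273) (nat_lit 0x9070830b0670) .nil))) (nat_lit
  0x882691135062) (nat_lit 21456) (nat_lit 0xd8025407b420) (.node (.node (.node (.node .nil (nat_lit
  0x88269115094a) (nat_lit 32272) (nat_lit 0xb8419007b420) .nil) (nat_lit 0x882691168126) (nat_lit 6273)
  (nat_lit 0x80a88d0b0670) (.node .nil (nat_lit 0x882691219922) (nat_lit 19569) (nat_lit 0xc4680a0b0670)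
  .nil)) (nat_lit 0x88269122114e) (nat_lit 5601) (nat_lit 0x94c1090b0670) (.node (.node .nil (nat_lit
  0x882691244866) (nat_lit 11072) (nat_lit 0x900bc107b420) .nil) (nat_lit 0x88269127c00a) (nat_lit 50577)
  (nat_lit 0xd4b0040b0670) .nil)) (nat_lit 0x88269131412c) (nat_lit 33105) (nat_lit 0xa0e1060b0670) (.node
  (.node (.node .nil (nat_lit 0x88269132c940) (nat_lit 38689) (nat_lit 0xf0480504b18a) .nil) (nat_lit
  0x882691349068) (nat_lit 29649) (nat_lit 0xe0900b0b0670) .nil) (nat_lit 0x882691371804) (nat_lit 29473)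
  (nat_lit 0xb039080b0670) (.node (.node .nil (nat_lit 0x88320e0149f0) (nat_lit 7392) (nat_lit 0x81782430851a)
  .nil) (nat_lit 0x88320e078981) (nat_lit 176) (nat_lit 0x8178241a8311) .nil))))) (nat_lit 0x88320e10cc91)
  (nat_lit 18688) (nat_lit 0x817824068692) (.node (.node (.node (.node (.node (.node .nil (nat_lit
  0x88320e118561) (nat_lit 16017) (nat_lit 0x91423126a0c4) .nil) (nat_lit 0x88320e160ce0) (nat_lit 47297)
  (nat_lit 0x914231043c4c) (.node .nil (nat_lit 0x88320e174510) (nat_lit 7953) (nat_lit 0x91423128a84a) .nil))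
  (nat_lit 0x88320e2205d1) (nat_lit 20512) (nat_lit 0x8178240803da) (.node (.node .nil (nat_lit
  0x88320e24c5a0) (nat_lit 50737) (nat_lit 0x914231008dc6) .nil) (nat_lit 0x88320e32c940) (nat_lit 24064)
  (nat_lit 0x8178240e8548) .nil)) (nat_lit 0x88320e3380b0) (nat_lit 39009) (nat_lit 0x91423128258c) (.node
  (.node (.node .nil (nat_lit 0x88320e340931) (nat_lit 23728) (nat_lit 0x817824248343) .nil) (nat_lit
  0x88320e3540c1) (nat_lit 21296) (nat_lit 0x817824140659) .nil) (nat_lit 0x88494c0132b2) (nat_lit 42353)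
  (nat_lit 0x84d222390415) (.node (.node .nil (nat_lit 0x88494c068692) (nat_lit 11632) (nat_lit
  0xb010360dc601) .nil) (nat_lit 0x88494c07b420) (nat_lit 26384) (nat_lit 0xb010360c2b09) .nil))) (nat_lit
  0x88494c131681) (nat_lit 10961) (nat_lit 0x84d222332448) (.node (.node (.node (.node .nil (nat_lit
  0x88494c14a2a1) (nat_lit 18193) (nat_lit 0x84d222032c94) .nil) (nat_lit 0x88494c159013) (nat_lit 46881)
  (nat_lit 0x84d2223a2881) (.node .nil (nat_lit 0x88494c209631) (nat_lit 33856) (nat_lit 0xb0103608e1c1)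
  .nil)) (nat_lit 0x88494c21a483) (nat_lit 15553) (nat_lit 0x84d2222205d1) (.node (.node .nil (nat_lit
  0x88494c272211) (nat_lit 13904) (nat_lit 0xb0103604cac8) .nil) (nat_lit 0x88494c32b202) (nat_lit 29521)
  (nat_lit 0x84d222112199) .nil)) (nat_lit 0x88494c3380b0) (nat_lit 18960) (nat_lit 0xb010360f6840) (.node
  (.node (.node .nil (nat_lit 0x88494c350622) (nat_lit 44048) (nat_lit 0xb0103602ae41) .nil) (nat_lit
  0x886072011b8c) (nat_lit 2880) (nat_lit 0x91891420742a) .nil) (nat_lit 0x886072078981) (nat_lit 29009)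
  (nat_lit 0xd161400c0237) (.node (.node .nil (nat_lit 0x886072131681) (nat_lit 43825) (nat_lit
  0xc0d9800c0237) .nil) (nat_lit 0x88607215848c) (nat_lit 18368) (nat_lit 0x8c838420742a) .nil)))) (nat_lit
  0x886072229c88) (nat_lit 3616) (nat_lit 0xc48a111b01c4) (.node (.node (.node (.node (.node .nil (nat_lit
  0x886072238704) (nat_lit 5056) (nat_lit 0x8a88d020742a) .nil) (nat_lit 0x886072240e85) (nat_lit 34161)
  (nat_lit 0x831d400c0237) (.node .nil (nat_lit 0x886072251509) (nat_lit 5953) (nat_lit 0xc134880c0237) .nil))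
  (nat_lit 0x886072309185) (nat_lit 15633) (nat_lit 0x92a5800c0237) (.node (.node .nil (nat_lit
  0x886072318a09) (nat_lit 25345) (nat_lit 0xd08c480c0237) .nil) (nat_lit 0x886072360388) (nat_lit 19313)
  (nat_lit 0xf210c001ed08) .nil)) (nat_lit 0x886072371804) (nat_lit 17249) (nat_lit 0xb039080c0237) (.node
  (.node (.node .nil (nat_lit 0x888269032c94) (nat_lit 19072) (nat_lit 0xa3122804a515) .nil) (nat_lit
  0x888269055c82) (nat_lit 24448) (nat_lit 0xa312280cc912) .nil) (nat_lit 0x888269113506) (nat_lit 52848)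
  (nat_lit 0xa31228146984) (.node (.node .nil (nat_lit 0x888269121992) (nat_lit 43345) (nat_lit
  0xe009520742a4) .nil) (nat_lit 0x888269146984) (nat_lit 48881) (nat_lit 0x80bc120742a4) .nil))) (nat_lit
  0x888269174510) (nat_lit 5808) (nat_lit 0xa312281c0583) (.node (.node (.node (.node .nil (nat_lit
  0x888269205d14) (nat_lit 39889) (nat_lit 0x9891420742a4) .nil) (nat_lit 0x888269237180) (nat_lit 33536)
  (nat_lit 0xa312280c44d4) (.node .nil (nat_lit 0x888269250196) (nat_lit 33920) (nat_lit 0xa312280428d3)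
  .nil)) (nat_lit 0x888269262d02) (nat_lit 8161) (nat_lit 0xf82402009959) (.node (.node .nil (nat_lit
  0x888269316812) (nat_lit 46448) (nat_lit 0xa312281c8845) .nil) (nat_lit 0x888269371804) (nat_lit 27568)
  (nat_lit 0xa3122814e442) .nil)) (nat_lit 0x88c48a051a61) (nat_lit 22625) (nat_lit 0xc8a1180046e3) (.node
  (.node (.node .nil (nat_lit 0x88c48a060b54) (nat_lit 42336) (nat_lit 0x84d222390415) .nil) (nat_lit
  0x88c48a103a15) (nat_lit 13345) (nat_lit 0x9b30100046e3) .nil) (nat_lit 0x88c48a132b20) (nat_lit 28097)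
  (nat_lit 0xde09000046e3) (.node (.node .nil (nat_lit 0x88c48a152074) (nat_lit 22256) (nat_lit
  0x84d22228258c) .nil) (nat_lit 0x88c48a163141) (nat_lit 41089) (nat_lit 0xe911040046e3) .nil))))))
def tt3360_7 : T := (.node (.node (.node (.node (.node (.node (.node .nil (nat_lit 0x88c48a223870) (nat_lit
  22097) (nat_lit 0xe3a8000046e3) .nil) (nat_lit 0x88c48a243324) (nat_lit 15536) (nat_lit 0x84d2222205d1)
  (.node .nil (nat_lit 0x88c48a272211) (nat_lit 49873) (nat_lit 0xd4b0040046e3) .nil)) (nat_lit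
  0x88c48a340931) (nat_lit 50545) (nat_lit 0xf500180046e3) (.node (.node .nil (nat_lit 0x88c48a371804)
  (nat_lit 10944) (nat_lit 0x84d222332448) .nil) (nat_lit 0x88d015102e8a) (nat_lit 3665) (nat_lit
  0x9a02a2017451) .nil)) (nat_lit 0x88d015132b20) (nat_lit 8433) (nat_lit 0x9a02a221b01c) (.node (.node (.node
  .nil (nat_lit 0x88d01515094a) (nat_lit 31168) (nat_lit 0xb84190021e26) .nil) (nat_lit 0x88d015160ce0)
  (nat_lit 12945) (nat_lit 0x9a02a2043c4c) (.node .nil (nat_lit 0x88d015200f68) (nat_lit 17185) (nat_lit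
  0x9a02a205d144) .nil)) (nat_lit 0x88d015230ac2) (nat_lit 2929) (nat_lit 0x9a02a2251509) (.node (.node .nil
  (nat_lit 0x88d0152528a8) (nat_lit 47264) (nat_lit 0xc8a118021e26) .nil) (nat_lit 0x88d015262d02) (nat_lit
  28864) (nat_lit 0xa181c8021e26) .nil))) (nat_lit 0x88d0153021e2) (nat_lit 32448) (nat_lit 0x8d0151021e26)
  (.node (.node (.node (.node .nil (nat_lit 0x88d015332448) (nat_lit 0) (nat_lit 0x88d015332448) .nil)
  (nat_lit 0x88d015350622) (nat_lit 41633) (nat_lit 0x9a02a2212945) (.node .nil (nat_lit 0x88d015360388)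
  (nat_lit 976) (nat_lit 0xd98081021e26) .nil)) (nat_lit 0x8900bc007b42) (nat_lit 5776) (nat_lit
  0x80952c316812) (.node (.node .nil (nat_lit 0x8900bc02ae41) (nat_lit 24401) (nat_lit 0xa846240710d8) .nil)
  (nat_lit 0x8900bc14e442) (nat_lit 31056) (nat_lit 0x80952c2c6282) .nil)) (nat_lit 0x8900bc163141) (nat_lit
  7217) (nat_lit 0xa8462416a818) (.node (.node (.node .nil (nat_lit 0x8900bc248343) (nat_lit 6192) (nat_lit
  0x80952c0428d3) .nil) (nat_lit 0x8900bc24f801) (nat_lit 45425) (nat_lit 0xa84624121992) .nil) (nat_lit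
  0x8900bc262d02) (nat_lit 46240) (nat_lit 0x80952c230ac2) (.node (.node .nil (nat_lit 0x8900bc265640)
  (nat_lit 35648) (nat_lit 0x80952c1262d0) .nil) (nat_lit 0x8900bc301c43) (nat_lit 23536) (nat_lit
  0x80952c192243) .nil)))) (nat_lit 0x8900bc306701) (nat_lit 43472) (nat_lit 0x80952c284a51) (.node (.node
  (.node (.node (.node .nil (nat_lit 0x8900bc32b202) (nat_lit 31009) (nat_lit 0xa84624112199) .nil) (nat_lit
  0x8900bc32c940) (nat_lit 816) (nat_lit 0x80952c0f6840) (.node .nil (nat_lit 0x89142304cac8) (nat_lit 9729)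
  (nat_lit 0xc8a118055c82) .nil)) (nat_lit 0x891423060b54) (nat_lit 38993) (nat_lit 0x8d9808320265) (.node
  (.node .nil (nat_lit 0x89142310a34c) (nat_lit 20465) (nat_lit 0x85e090320265) .nil) (nat_lit 0x8914231262d0)
  (nat_lit 15824) (nat_lit 0xd80254065928) .nil)) (nat_lit 0x891423146984) (nat_lit 45281) (nat_lit
  0x80bc12320265) (.node (.node (.node .nil (nat_lit 0x89142316a818) (nat_lit 26369) (nat_lit 0xc58502087898)
  .nil) (nat_lit 0x891423246158) (nat_lit 46688) (nat_lit 0xf824020182d5) .nil) (nat_lit 0x89142326a0c4)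
  (nat_lit 30865) (nat_lit 0x840d98320265) (.node (.node .nil (nat_lit 0x8914233008dc) (nat_lit 9280) (nat_lit
  0xe08494065928) .nil) (nat_lit 0x89142332c940) (nat_lit 46337) (nat_lit 0xc94c1004b18a) .nil))) (nat_lit
  0x89142334c214) (nat_lit 25665) (nat_lit 0x892982320265) (.node (.node (.node (.node .nil (nat_lit
  0x891423360388) (nat_lit 48128) (nat_lit 0xd98081065928) .nil) (nat_lit 0x89298200527c) (nat_lit 32720)
  (nat_lit 0xa10c0e10f130) (.node .nil (nat_lit 0x89298206920d) (nat_lit 6961) (nat_lit 0x934888209631) .nil))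
  (nat_lit 0x89298206c071) (nat_lit 51073) (nat_lit 0xd161400e088e) (.node (.node .nil (nat_lit
  0x892982129454) (nat_lit 2865) (nat_lit 0x9c20c8209631) .nil) (nat_lit 0x89298212c628) (nat_lit 30528)
  (nat_lit 0x85028b10f130) .nil)) (nat_lit 0x892982140659) (nat_lit 5761) (nat_lit 0xd0018e0f6840) (.node
  (.node (.node .nil (nat_lit 0x892982145425) (nat_lit 11249) (nat_lit 0x922846209631) .nil) (nat_lit
  0x892982209631) (nat_lit 15184) (nat_lit 0xa800c710f130) .nil) (nat_lit 0x89298220c44d) (nat_lit 44256)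
  (nat_lit 0xe60206090cc9) (.node (.node .nil (nat_lit 0x89298226043c) (nat_lit 21104) (nat_lit
  0xcc040d10f130) .nil) (nat_lit 0x892982265640) (nat_lit 38769) (nat_lit 0xca608415094a) .nil))))) (nat_lit
  0x892982320265) (nat_lit 15009) (nat_lit 0x87210c209631) (.node (.node (.node (.node (.node (.node .nil
  (nat_lit 0x892982325019) (nat_lit 45552) (nat_lit 0xc20c8310f130) .nil) (nat_lit 0x892982349068) (nat_lit
  32705) (nat_lit 0xcb004a146984) (.node .nil (nat_lit 0x89298234c214) (nat_lit 25825) (nat_lit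
  0x892982209631) .nil)) (nat_lit 0x8952c000293e) (nat_lit 39392) (nat_lit 0x90641c219922) (.node (.node .nil
  (nat_lit 0x8952c0048c2b) (nat_lit 45969) (nat_lit 0xc8a1180258c5) .nil) (nat_lit 0x8952c004a515) (nat_lit
  19889) (nat_lit 0x8a88d0350622) .nil)) (nat_lit 0x8952c0120d0d) (nat_lit 6096) (nat_lit 0x960095219922)
  (.node (.node (.node .nil (nat_lit 0x8952c0122433) (nat_lit 19600) (nat_lit 0xd80254066489) .nil) (nat_lit
  0x8952c0168126) (nat_lit 35793) (nat_lit 0x80a88d350622) .nil) (nat_lit 0x8952c016a818) (nat_lit 31616)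
  (nat_lit 0x882691219922) (.node (.node .nil (nat_lit 0x8952c0228817) (nat_lit 17968) (nat_lit
  0x9c20c8219922) .nil) (nat_lit 0x8952c022a129) (nat_lit 11856) (nat_lit 0xd222090c44d4) .nil))) (nat_lit
  0x8952c026043c) (nat_lit 43984) (nat_lit 0xcc040d1262d0) (.node (.node (.node (.node .nil (nat_lit
  0x8952c0262d02) (nat_lit 6352) (nat_lit 0x8206cc219922) .nil) (nat_lit 0x8952c030851a) (nat_lit 20305)
  (nat_lit 0xc2181c08e1c1) (.node .nil (nat_lit 0x8952c030ac24) (nat_lit 42177) (nat_lit 0x8031d4350622)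
  .nil)) (nat_lit 0x8952c0340931) (nat_lit 44433) (nat_lit 0xc040d90ab904) (.node (.node .nil (nat_lit
  0x8952c034200f) (nat_lit 8256) (nat_lit 0xca6084140659) .nil) (nat_lit 0x89a444020ab9) (nat_lit 51632)
  (nat_lit 0x838419243324) .nil)) (nat_lit 0x89a444045391) (nat_lit 2129) (nat_lit 0xa402f01b8c02) (.node
  (.node (.node .nil (nat_lit 0x89a444065928) (nat_lit 53024) (nat_lit 0x98081b243324) .nil) (nat_lit
  0x89a44410132b) (nat_lit 5552) (nat_lit 0x934888243324) .nil) (nat_lit 0x89a444121992) (nat_lit 27200)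
  (nat_lit 0xcb004a10cc91) (.node (.node .nil (nat_lit 0x89a4441440ba) (nat_lit 26288) (nat_lit
  0x88c48a243324) .nil) (nat_lit 0x89a444164a03) (nat_lit 9056) (nat_lit 0xd08c480b4093) .nil)))) (nat_lit
  0x89a44420498b) (nat_lit 30768) (nat_lit 0xd2c012090cc9) (.node (.node (.node (.node (.node .nil (nat_lit
  0x89a444224332) (nat_lit 48720) (nat_lit 0x8a88d0243324) .nil) (nat_lit 0x89a444241a1a) (nat_lit 36737)
  (nat_lit 0xa402f0195901) (.node .nil (nat_lit 0x89a4442610a3) (nat_lit 43217) (nat_lit 0xa402f0120d0d)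
  .nil)) (nat_lit 0x89a444305aa0) (nat_lit 43393) (nat_lit 0xa402f0113506) (.node (.node .nil (nat_lit
  0x89a444325019) (nat_lit 13472) (nat_lit 0xc20c8319c058) .nil) (nat_lit 0x89a444340931) (nat_lit 44320)
  (nat_lit 0x81c843243324) .nil)) (nat_lit 0x89a444360388) (nat_lit 3569) (nat_lit 0xa402f001ed08) (.node
  (.node (.node .nil (nat_lit 0x8a051604cac8) (nat_lit 37473) (nat_lit 0x888269055c82) .nil) (nat_lit
  0x8a0516051a61) (nat_lit 38576) (nat_lit 0xc0a2c2145425) .nil) (nat_lit 0x8a051614a2a1) (nat_lit 6160)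
  (nat_lit 0xe009520ba288) (.node (.node .nil (nat_lit 0x8a0516157208) (nat_lit 19904) (nat_lit
  0x892982145425) .nil) (nat_lit 0x8a05162032c9) (nat_lit 112) (nat_lit 0xe3a8000803da) .nil))) (nat_lit
  0x8a051621e260) (nat_lit 46385) (nat_lit 0x888269250196) (.node (.node (.node (.node .nil (nat_lit
  0x8a051624f801) (nat_lit 46080) (nat_lit 0xa181c8145425) .nil) (nat_lit 0x8a05162528a8) (nat_lit 39584)
  (nat_lit 0xc8a118145425) (.node .nil (nat_lit 0x8a0516305aa0) (nat_lit 37856) (nat_lit 0xaa2340145425)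
  .nil)) (nat_lit 0x8a0516318a09) (nat_lit 2144) (nat_lit 0xc30390145425) (.node (.node .nil (nat_lit
  0x8a0516349068) (nat_lit 50752) (nat_lit 0xe80a8803a152) .nil) (nat_lit 0x8a05163540c1) (nat_lit 14849)
  (nat_lit 0x888269262d02) .nil)) (nat_lit 0x8a1189046e30) (nat_lit 45873) (nat_lit 0xe42181091856) (.node
  (.node (.node .nil (nat_lit 0x8a118905aa06) (nat_lit 38928) (nat_lit 0x929821096314) .nil) (nat_lit
  0x8a1189108a72) (nat_lit 20368) (nat_lit 0x929821214698) .nil) (nat_lit 0x8a1189114e44) (nat_lit 39985)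
  (nat_lit 0xa5304212c628) (.node (.node .nil (nat_lit 0x8a118914e442) (nat_lit 11024) (nat_lit
  0x9298212c6282) .nil) (nat_lit 0x8a1189152074) (nat_lit 28528) (nat_lit 0x92982128258c) .nil))))))
def tt3360_8 : T := (.node (.node (.node (.node (.node (.node (.node .nil (nat_lit 0x8a118921e260) (nat_lit
  9233) (nat_lit 0xc8384112c628) .nil) (nat_lit 0x8a118930ac24) (nat_lit 10656) (nat_lit 0x929821294542)
  (.node .nil (nat_lit 0x8a1189316812) (nat_lit 47249) (nat_lit 0xc508c412c628) .nil)) (nat_lit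
  0x8a118934c214) (nat_lit 43425) (nat_lit 0x89298212c628) (.node (.node .nil (nat_lit 0x8a1189350622)
  (nat_lit 26464) (nat_lit 0x929821202656) .nil) (nat_lit 0x8a2c280182d5) (nat_lit 5313) (nat_lit
  0xaf048000527c) .nil)) (nat_lit 0x8a2c28045391) (nat_lit 6737) (nat_lit 0xe4218100527c) (.node (.node (.node
  .nil (nat_lit 0x8a2c2805d144) (nat_lit 4608) (nat_lit 0x843039380b06) .nil) (nat_lit 0x8a2c2811c382)
  (nat_lit 42417) (nat_lit 0xde090000527c) (.node .nil (nat_lit 0x8a2c281412c6) (nat_lit 14384) (nat_lit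
  0x84303929c884) .nil)) (nat_lit 0x8a2c28159013) (nat_lit 38208) (nat_lit 0x8430390a4f80) (.node (.node .nil
  (nat_lit 0x8a2c2820d0d2) (nat_lit 6064) (nat_lit 0x8430391b01c4) .nil) (nat_lit 0x8a2c28248343) (nat_lit
  39504) (nat_lit 0x843039008dc6) .nil))) (nat_lit 0x8a2c28250196) (nat_lit 37808) (nat_lit 0x843039230ac2)
  (.node (.node (.node (.node .nil (nat_lit 0x8a2c28309185) (nat_lit 1600) (nat_lit 0x843039294542) .nil)
  (nat_lit 0x8a2c2834c214) (nat_lit 15680) (nat_lit 0x84303932c940) (.node .nil (nat_lit 0x8a2c283540c1)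
  (nat_lit 40273) (nat_lit 0xd9808100527c) .nil)) (nat_lit 0x8a88d001262d) (nat_lit 14992) (nat_lit
  0x87210c209631) (.node (.node .nil (nat_lit 0x8a88d004470e) (nat_lit 17649) (nat_lit 0x81c8430c16a8) .nil)
  (nat_lit 0x8a88d0056123) (nat_lit 51601) (nat_lit 0xd161400c16a8) .nil)) (nat_lit 0x8a88d010132b) (nat_lit
  6944) (nat_lit 0x934888209631) (.node (.node (.node .nil (nat_lit 0x8a88d0113506) (nat_lit 32688) (nat_lit
  0xcb004a146984) .nil) (nat_lit 0x8a88d0145425) (nat_lit 49985) (nat_lit 0x9228460c16a8) .nil) (nat_lit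
  0x8a88d0157208) (nat_lit 23793) (nat_lit 0xc281450c16a8) (.node (.node .nil (nat_lit 0x8a88d020742a)
  (nat_lit 2609) (nat_lit 0xe3a8000c16a8) .nil) (nat_lit 0x8a88d0215207) (nat_lit 2848) (nat_lit
  0x9c20c8209631) .nil)))) (nat_lit 0x8a88d0243324) (nat_lit 37665) (nat_lit 0x9189140c16a8) (.node (.node
  (.node (.node (.node .nil (nat_lit 0x8a88d0251509) (nat_lit 53216) (nat_lit 0xde09000160ce) .nil) (nat_lit
  0x8a88d0306701) (nat_lit 24257) (nat_lit 0xf0480503a152) (.node .nil (nat_lit 0x8a88d031412c) (nat_lit 5744)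
  (nat_lit 0xd0018e0f6840) .nil)) (nat_lit 0x8a88d034200f) (nat_lit 38561) (nat_lit 0x8269110c16a8) (.node
  (.node .nil (nat_lit 0x8a88d0350622) (nat_lit 11232) (nat_lit 0x922846209631) .nil) (nat_lit 0x8b0a0500a4f8)
  (nat_lit 16048) (nat_lit 0xa4a608031135) .nil)) (nat_lit 0x8b0a05041572) (nat_lit 46465) (nat_lit
  0xa312281c8845) (.node (.node (.node .nil (nat_lit 0x8b0a0504b18a) (nat_lit 44688) (nat_lit 0x98ea00031135)
  .nil) (nat_lit 0x8b0a051055c8) (nat_lit 9824) (nat_lit 0xb48882031135) .nil) (nat_lit 0x8b0a0510f130)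
  (nat_lit 38720) (nat_lit 0xecc040031135) (.node (.node .nil (nat_lit 0x8b0a0514e442) (nat_lit 33937)
  (nat_lit 0xa312280428d3) .nil) (nat_lit 0x8b0a0520d0d2) (nat_lit 5825) (nat_lit 0xa312281c0583) .nil)))
  (nat_lit 0x8b0a05246158) (nat_lit 24465) (nat_lit 0xa312280cc912) (.node (.node (.node (.node .nil (nat_lit
  0x8b0a0524c5a0) (nat_lit 19936) (nat_lit 0xa06cc0031135) .nil) (nat_lit 0x8b0a053021e2) (nat_lit 19089)
  (nat_lit 0xa3122804a515) (.node .nil (nat_lit 0x8b0a0530851a) (nat_lit 8128) (nat_lit 0xd44680031135) .nil))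
  (nat_lit 0x8b0a05349068) (nat_lit 12288) (nat_lit 0xe80a88031135) (.node (.node .nil (nat_lit
  0x8bc1200428d3) (nat_lit 30049) (nat_lit 0xd161400e1c11) .nil) (nat_lit 0x8bc120043c4c) (nat_lit 51328)
  (nat_lit 0xac281410132b) .nil)) (nat_lit 0x8bc120102e8a) (nat_lit 37296) (nat_lit 0x85e09010132b) (.node
  (.node (.node .nil (nat_lit 0x8bc120103a15) (nat_lit 17056) (nat_lit 0xecc040032c94) .nil) (nat_lit
  0x8bc120140659) (nat_lit 9041) (nat_lit 0xd015110f6840) .nil) (nat_lit 0x8bc1201412c6) (nat_lit 40960)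
  (nat_lit 0xc6245010132b) (.node (.node .nil (nat_lit 0x8bc120202656) (nat_lit 12816) (nat_lit
  0x8a88d010132b) .nil) (nat_lit 0x8bc1202032c9) (nat_lit 14112) (nat_lit 0xe3a8000c44d4) .nil))))) (nat_lit
  0x8bc120240e85) (nat_lit 36816) (nat_lit 0xa06cc010132b) (.node (.node (.node (.node (.node (.node .nil
  (nat_lit 0x8bc120241a1a) (nat_lit 20721) (nat_lit 0xc62450195901) .nil) (nat_lit 0x8bc1203008dc) (nat_lit
  13169) (nat_lit 0x8c75002082ae) (.node .nil (nat_lit 0x8bc120301c43) (nat_lit 10352) (nat_lit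
  0x89a44410132b) .nil)) (nat_lit 0x8c0e4201d0a9) (nat_lit 17200) (nat_lit 0x828b0a2d5030) (.node (.node .nil
  (nat_lit 0x8c0e4202c19c) (nat_lit 9952) (nat_lit 0x9086072d5030) .nil) (nat_lit 0x8c0e42031135) (nat_lit
  44656) (nat_lit 0xc0a2c2120d0d) .nil)) (nat_lit 0x8c0e4210f130) (nat_lit 31808) (nat_lit 0xc28145102e8a)
  (.node (.node (.node .nil (nat_lit 0x8c0e42112199) (nat_lit 27425) (nat_lit 0xd0018e051a61) .nil) (nat_lit
  0x8c0e421230ac) (nat_lit 36528) (nat_lit 0x80a88d2d5030) .nil) (nat_lit 0x8c0e4213e005) (nat_lit 4033)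
  (nat_lit 0xa2209a051a61) (.node (.node .nil (nat_lit 0x8c0e422060b5) (nat_lit 49281) (nat_lit
  0x8a0516051a61) .nil) (nat_lit 0x8c0e4221b01c) (nat_lit 30001) (nat_lit 0xb84190051a61) .nil))) (nat_lit
  0x8c0e4222a129) (nat_lit 1408) (nat_lit 0xd22209008dc6) (.node (.node (.node (.node .nil (nat_lit
  0x8c0e42237180) (nat_lit 35601) (nat_lit 0xca6084051a61) .nil) (nat_lit 0x8c0e42309185) (nat_lit 33792)
  (nat_lit 0x80254b2d5030) (.node .nil (nat_lit 0x8c0e4231412c) (nat_lit 12000) (nat_lit 0xd0018e02ae41)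
  .nil)) (nat_lit 0x8c0e42325019) (nat_lit 30544) (nat_lit 0xc20c8310a34c) (.node (.node .nil (nat_lit
  0x8c0e423380b0) (nat_lit 8640) (nat_lit 0x9228462d5030) .nil) (nat_lit 0x8c48a101964a) (nat_lit 47281)
  (nat_lit 0xc8a118021e26) .nil)) (nat_lit 0x8c48a1023718) (nat_lit 1009) (nat_lit 0xe42181021e26) (.node
  (.node (.node .nil (nat_lit 0x8c48a103a152) (nat_lit 29761) (nat_lit 0xd16140021e26) .nil) (nat_lit
  0x8c48a110a34c) (nat_lit 33600) (nat_lit 0xb122840a903a) .nil) (nat_lit 0x8c48a1113506) (nat_lit 50641)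
  (nat_lit 0xb0a051021e26) (.node (.node .nil (nat_lit 0x8c48a1129454) (nat_lit 15408) (nat_lit
  0xd161400a903a) .nil) (nat_lit 0x8c48a1202656) (nat_lit 32465) (nat_lit 0x8d0151021e26) .nil)))) (nat_lit
  0x8c48a121b01c) (nat_lit 28720) (nat_lit 0xc02f040a903a) (.node (.node (.node (.node (.node .nil (nat_lit
  0x8c48a1238704) (nat_lit 28881) (nat_lit 0xa181c8021e26) .nil) (nat_lit 0x8c48a130851a) (nat_lit 42656)
  (nat_lit 0xd446800a903a) (.node .nil (nat_lit 0x8c48a132b202) (nat_lit 32305) (nat_lit 0xecc040021e26)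
  .nil)) (nat_lit 0x8c48a1332448) (nat_lit 993) (nat_lit 0xd98081021e26) (.node (.node .nil (nat_lit
  0x8c75000182d5) (nat_lit 6145) (nat_lit 0xaf0480108a72) .nil) (nat_lit 0x8c7500020ab9) (nat_lit 30945)
  (nat_lit 0xe421810b540c) .nil)) (nat_lit 0x8c750003886c) (nat_lit 36049) (nat_lit 0xa4508c108a72) (.node
  (.node (.node .nil (nat_lit 0x8c7500108a72) (nat_lit 39280) (nat_lit 0xc281451c3822) .nil) (nat_lit
  0x8c75001108a7) (nat_lit 35984) (nat_lit 0xe1064102c19c) .nil) (nat_lit 0x8c75001280cb) (nat_lit 41777)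
  (nat_lit 0xe91104066489) (.node (.node .nil (nat_lit 0x8c750013021e) (nat_lit 14913) (nat_lit
  0xa96009108a72) .nil) (nat_lit 0x8c75002082ae) (nat_lit 7168) (nat_lit 0xc1c20c1c3822) .nil))) (nat_lit
  0x8c750021007b) (nat_lit 31376) (nat_lit 0xe245080182d5) (.node (.node (.node (.node .nil (nat_lit
  0x8c7500228817) (nat_lit 32641) (nat_lit 0x8a1189108a72) .nil) (nat_lit 0x8c7500230ac2) (nat_lit 11168)
  (nat_lit 0x8206cc1c3822) (.node .nil (nat_lit 0x8c75003008dc) (nat_lit 49553) (nat_lit 0x8c7500108a72)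
  .nil)) (nat_lit 0x8c7500318a09) (nat_lit 30817) (nat_lit 0xcc040d108a72) (.node (.node .nil (nat_lit
  0x8c7500320265) (nat_lit 31825) (nat_lit 0x87210c108a72) .nil) (nat_lit 0x8c75003380b0) (nat_lit 41952)
  (nat_lit 0xa340541c3822) .nil)) (nat_lit 0x8c8384017451) (nat_lit 21505) (nat_lit 0x818ea03e0052) (.node
  (.node (.node .nil (nat_lit 0x8c8384024c5a) (nat_lit 44128) (nat_lit 0xa44413199224) .nil) (nat_lit
  0x8c838403380b) (nat_lit 41889) (nat_lit 0x818ea0325019) .nil) (nat_lit 0x8c8384106869) (nat_lit 29856)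
  (nat_lit 0xa2209a199224) (.node (.node .nil (nat_lit 0x8c8384111c38) (nat_lit 4097) (nat_lit 0x818ea0387044)
  .nil) (nat_lit 0x8c8384122433) (nat_lit 38848) (nat_lit 0xe00952066489) .nil))))))
def tt3360_9 : T := (.node (.node (.node (.node (.node (.node (.node .nil (nat_lit 0x8c838420742a) (nat_lit
  10288) (nat_lit 0xc4680a199224) .nil) (nat_lit 0x8c838421007b) (nat_lit 44993) (nat_lit 0x818ea02e4105)
  (.node .nil (nat_lit 0x8c8384223870) (nat_lit 51105) (nat_lit 0x818ea01c111c) .nil)) (nat_lit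
  0x8c8384234c21) (nat_lit 12865) (nat_lit 0x818ea022114e) (.node (.node .nil (nat_lit 0x8c8384301c43)
  (nat_lit 30560) (nat_lit 0x80254b199224) .nil) (nat_lit 0x8c8384316812) (nat_lit 46433) (nat_lit
  0x818ea0283113) .nil)) (nat_lit 0x8c8384325019) (nat_lit 304) (nat_lit 0xc20c83199224) (.node (.node (.node
  .nil (nat_lit 0x8c8384332448) (nat_lit 9408) (nat_lit 0xe42181024c5a) .nil) (nat_lit 0x8d015100f684)
  (nat_lit 15248) (nat_lit 0xc040d905aa06) (.node .nil (nat_lit 0x8d0151021e26) (nat_lit 20225) (nat_lit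
  0x91104d2e8a20) .nil)) (nat_lit 0x8d015102e8a2) (nat_lit 46928) (nat_lit 0xc508c400e21b) (.node (.node .nil
  (nat_lit 0x8d0151102e8a) (nat_lit 4416) (nat_lit 0x85e0903a1520) .nil) (nat_lit 0x8d015110d80e) (nat_lit
  44417) (nat_lit 0x9070832e8a20) .nil))) (nat_lit 0x8d01511230ac) (nat_lit 10337) (nat_lit 0x90641c2e8a20)
  (.node (.node (.node (.node .nil (nat_lit 0x8d015112c628) (nat_lit 27633) (nat_lit 0xd015110160ce) .nil)
  (nat_lit 0x8d015120742a) (nat_lit 17008) (nat_lit 0xc4680a0182d5) (.node .nil (nat_lit 0x8d01512082ae)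
  (nat_lit 30976) (nat_lit 0xc1c20c0428d3) .nil)) (nat_lit 0x8d0151226a0c) (nat_lit 50416) (nat_lit
  0xc1201704cac8) (.node (.node .nil (nat_lit 0x8d0151229c88) (nat_lit 35745) (nat_lit 0xc120171055c8) .nil)
  (nat_lit 0x8d0151305aa0) (nat_lit 21184) (nat_lit 0x8462453a1520) .nil)) (nat_lit 0x8d015130ac24) (nat_lit
  49296) (nat_lit 0x81c8433a1520) (.node (.node (.node .nil (nat_lit 0x8d0151324486) (nat_lit 353) (nat_lit
  0x80254b2e8a20) .nil) (nat_lit 0x8d015132b202) (nat_lit 52464) (nat_lit 0x84805e3a1520) .nil) (nat_lit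
  0x8d98080046e3) (nat_lit 35345) (nat_lit 0xc8a118070447) (.node (.node .nil (nat_lit 0x8d9808022387)
  (nat_lit 42864) (nat_lit 0x881b3013e005) .nil) (nat_lit 0x8d9808026564) (nat_lit 52480) (nat_lit
  0x881b3034200f) .nil)))) (nat_lit 0x8d98081007b4) (nat_lit 14288) (nat_lit 0x881b3015848c) (.node (.node
  (.node (.node (.node .nil (nat_lit 0x8d9808104157) (nat_lit 43456) (nat_lit 0x881b30324486) .nil) (nat_lit
  0x8d9808122433) (nat_lit 16944) (nat_lit 0x881b30066489) (.node .nil (nat_lit 0x8d98081262d0) (nat_lit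
  18400) (nat_lit 0x881b3021a483) .nil)) (nat_lit 0x8d9808202656) (nat_lit 30400) (nat_lit 0x881b301280cb)
  (.node (.node .nil (nat_lit 0x8d98082060b5) (nat_lit 26928) (nat_lit 0x881b303540c1) .nil) (nat_lit
  0x8d98082205d1) (nat_lit 3825) (nat_lit 0xc120170e8548) .nil)) (nat_lit 0x8d9808224332) (nat_lit 26801)
  (nat_lit 0xc6245009810f) (.node (.node (.node .nil (nat_lit 0x8d98083021e2) (nat_lit 30704) (nat_lit
  0x881b30070447) .nil) (nat_lit 0x8d9808306701) (nat_lit 52225) (nat_lit 0xcc040d03a152) .nil) (nat_lit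
  0x8d9808320265) (nat_lit 26049) (nat_lit 0x87210c305aa0) (.node (.node .nil (nat_lit 0x8d9808324486)
  (nat_lit 656) (nat_lit 0x881b30332448) .nil) (nat_lit 0x8e1064010f13) (nat_lit 4320) (nat_lit
  0xc0a2c2174510) .nil))) (nat_lit 0x8e106401ed08) (nat_lit 22961) (nat_lit 0x940a2c20d0d2) (.node (.node
  (.node (.node .nil (nat_lit 0x8e1064102e8a) (nat_lit 6528) (nat_lit 0x85e09028182d) .nil) (nat_lit
  0x8e106410cc91) (nat_lit 33777) (nat_lit 0x940a2c0a34c2) (.node .nil (nat_lit 0x8e1064112199) (nat_lit 3233)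
  (nat_lit 0x940a2c2ae410) .nil)) (nat_lit 0x8e106411c382) (nat_lit 36176) (nat_lit 0xc6245011c382) (.node
  (.node .nil (nat_lit 0x8e1064214698) (nat_lit 36593) (nat_lit 0x940a2c294542) .nil) (nat_lit 0x8e106421a483)
  (nat_lit 19153) (nat_lit 0x940a2c2205d1) .nil)) (nat_lit 0x8e1064306701) (nat_lit 32528) (nat_lit
  0x80c75028182d) (.node (.node (.node .nil (nat_lit 0x8e106430851a) (nat_lit 19456) (nat_lit 0xd4468003a152)
  .nil) (nat_lit 0x8e1064316812) (nat_lit 417) (nat_lit 0x940a2c283113) .nil) (nat_lit 0x8e1064318a09)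
  (nat_lit 13585) (nat_lit 0x940a2c237180) (.node (.node .nil (nat_lit 0x8e4218003da1) (nat_lit 39312)
  (nat_lit 0x89142316a818) .nil) (nat_lit 0x8e4218008dc6) (nat_lit 38640) (nat_lit 0x89142334c214) .nil)))))
  (nat_lit 0x8e4218113506) (nat_lit 52304) (nat_lit 0x891423146984) (.node (.node (.node (.node (.node (.node
  .nil (nat_lit 0x8e4218118561) (nat_lit 16993) (nat_lit 0xd01511094a2a) .nil) (nat_lit 0x8e42182114e4)
  (nat_lit 26720) (nat_lit 0x8914231262d0) (.node .nil (nat_lit 0x8e4218212945) (nat_lit 17408) (nat_lit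
  0x89142304cac8) .nil)) (nat_lit 0x8e4218219922) (nat_lit 43712) (nat_lit 0x89142326a0c4) (.node (.node .nil
  (nat_lit 0x8e421821a483) (nat_lit 12753) (nat_lit 0xd4b004094a2a) .nil) (nat_lit 0x8e4218301c43) (nat_lit
  32768) (nat_lit 0x89142310a34c) .nil)) (nat_lit 0x8e42183021e2) (nat_lit 10209) (nat_lit 0xf210c004a515)
  (.node (.node (.node .nil (nat_lit 0x8e4218309185) (nat_lit 17953) (nat_lit 0x92a580094a2a) .nil) (nat_lit
  0x8e421830ac24) (nat_lit 22033) (nat_lit 0x8031d4094a2a) .nil) (nat_lit 0x8ea003011b8c) (nat_lit 47856)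
  (nat_lit 0x9189140a7221) (.node (.node .nil (nat_lit 0x8ea0030149f0) (nat_lit 2528) (nat_lit 0xc508c40a7221)
  .nil) (nat_lit 0x8ea0031007b4) (nat_lit 42976) (nat_lit 0xe009520a7221) .nil))) (nat_lit 0x8ea0031055c8)
  (nat_lit 45328) (nat_lit 0xb488820a7221) (.node (.node (.node (.node .nil (nat_lit 0x8ea003111c38) (nat_lit
  16272) (nat_lit 0x840d980a7221) .nil) (nat_lit 0x8ea003114e44) (nat_lit 39728) (nat_lit 0xd08c480a7221)
  (.node .nil (nat_lit 0x8ea003200f68) (nat_lit 48352) (nat_lit 0xf50018008dc6) .nil)) (nat_lit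
  0x8ea003205d14) (nat_lit 15665) (nat_lit 0x989142020ab9) (.node (.node .nil (nat_lit 0x8ea0032114e4)
  (nat_lit 5985) (nat_lit 0xb40544020ab9) .nil) (nat_lit 0x8ea003214698) (nat_lit 17281) (nat_lit
  0xd4b004020ab9) .nil)) (nat_lit 0x8ea0033008dc) (nat_lit 43857) (nat_lit 0x8c7500020ab9) (.node (.node
  (.node .nil (nat_lit 0x8ea003305aa0) (nat_lit 37761) (nat_lit 0xecc040020ab9) .nil) (nat_lit 0x900bc101c436)
  (nat_lit 52832) (nat_lit 0xc8384104470e) .nil) (nat_lit 0x900bc1067016) (nat_lit 49249) (nat_lit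
  0x98081b07b420) (.node (.node .nil (nat_lit 0x900bc107b420) (nat_lit 6000) (nat_lit 0xc054460c2b09) .nil)
  (nat_lit 0x900bc10a903a) (nat_lit 51761) (nat_lit 0xe0095207b420) .nil)))) (nat_lit 0x900bc10b540c) (nat_lit
  41744) (nat_lit 0x8419073380b0) (.node (.node (.node (.node (.node .nil (nat_lit 0x900bc10ce02c) (nat_lit
  27841) (nat_lit 0x804a9607b420) .nil) (nat_lit 0x900bc10d241a) (nat_lit 50992) (nat_lit 0x8c75003380b0)
  (.node .nil (nat_lit 0x900bc120742a) (nat_lit 36465) (nat_lit 0xe80a8807b420) .nil)) (nat_lit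
  0x900bc121b01c) (nat_lit 32289) (nat_lit 0xb8419007b420) (.node (.node .nil (nat_lit 0x900bc126043c)
  (nat_lit 1696) (nat_lit 0xcc040d007b42) .nil) (nat_lit 0x900bc127c00a) (nat_lit 21473) (nat_lit
  0xd8025407b420) .nil)) (nat_lit 0x900bc12ae410) (nat_lit 30880) (nat_lit 0x88494c3380b0) (.node (.node
  (.node .nil (nat_lit 0x900bc12b2026) (nat_lit 15728) (nat_lit 0x8c0e423380b0) .nil) (nat_lit 0x900bc12c9406)
  (nat_lit 11089) (nat_lit 0x900bc107b420) .nil) (nat_lit 0x900bc12d5030) (nat_lit 43009) (nat_lit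
  0xc040d907b420) (.node (.node .nil (nat_lit 0x90366002c19c) (nat_lit 34929) (nat_lit 0x88c48a152074) .nil)
  (nat_lit 0x90366005481d) (nat_lit 49744) (nat_lit 0x8a05162528a8) .nil))) (nat_lit 0x903660078981) (nat_lit
  52961) (nat_lit 0xc84303152074) (.node (.node (.node (.node .nil (nat_lit 0x90366009810f) (nat_lit 33680)
  (nat_lit 0x9253042528a8) .nil) (nat_lit 0x9036600b4093) (nat_lit 51089) (nat_lit 0xc0d980152074) (.node .nil
  (nat_lit 0x9036600cc912) (nat_lit 2705) (nat_lit 0xe24508089a83) .nil)) (nat_lit 0x9036600e088e) (nat_lit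
  51185) (nat_lit 0x805e09152074) (.node (.node .nil (nat_lit 0x90366020498b) (nat_lit 35392) (nat_lit
  0xd2c012081745) .nil) (nat_lit 0x903660228817) (nat_lit 41729) (nat_lit 0x8a1189152074) .nil)) (nat_lit
  0x903660250196) (nat_lit 23264) (nat_lit 0x8212532528a8) (.node (.node (.node .nil (nat_lit 0x90366027c00a)
  (nat_lit 29424) (nat_lit 0xc84303129454) .nil) (nat_lit 0x90366029c884) (nat_lit 17600) (nat_lit
  0x9a44412528a8) .nil) (nat_lit 0x9036602b0918) (nat_lit 43121) (nat_lit 0xc20c83152074) (.node (.node .nil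
  (nat_lit 0x9036602c8099) (nat_lit 35409) (nat_lit 0xe0900b0a4f80) .nil) (nat_lit 0x9036602e4105) (nat_lit
  12977) (nat_lit 0x828b0a152074) .nil))))))
def tt3360_10 : T := (.node (.node (.node (.node (.node (.node (.node .nil (nat_lit 0x904d220710d8) (nat_lit
  27936) (nat_lit 0xa88d011440ba) .nil) (nat_lit 0x904d220ba288) (nat_lit 45585) (nat_lit 0xde090000b067)
  (.node .nil (nat_lit 0x904d220d3085) (nat_lit 13377) (nat_lit 0xb20e1000b067) .nil)) (nat_lit
  0x904d222032c9) (nat_lit 31536) (nat_lit 0xe3a800081745) (.node (.node .nil (nat_lit 0x904d2221b01c)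
  (nat_lit 25777) (nat_lit 0xb8419000b067) .nil) (nat_lit 0x904d2226a0c4) (nat_lit 48785) (nat_lit
  0x840d9800b067) .nil)) (nat_lit 0x904d22272211) (nat_lit 22785) (nat_lit 0xd4468000b067) (.node (.node
  (.node .nil (nat_lit 0x904d222a1294) (nat_lit 44673) (nat_lit 0x99070800b067) .nil) (nat_lit 0x904d222b9041)
  (nat_lit 32017) (nat_lit 0xc94c1000b067) (.node .nil (nat_lit 0x904d222c8099) (nat_lit 33057) (nat_lit
  0xf5001800b067) .nil)) (nat_lit 0x904d222d024c) (nat_lit 11297) (nat_lit 0xa54b0000b067) (.node (.node .nil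
  (nat_lit 0x90641c0293e0) (nat_lit 30145) (nat_lit 0x88607215848c) .nil) (nat_lit 0x90641c051a61) (nat_lit
  28513) (nat_lit 0x886072371804) .nil))) (nat_lit 0x90641c078981) (nat_lit 1504) (nat_lit 0x8424a61a8311)
  (.node (.node (.node (.node .nil (nat_lit 0x90641c089a83) (nat_lit 37968) (nat_lit 0x8424a603da10) .nil)
  (nat_lit 0x90641c0d80e2) (nat_lit 36288) (nat_lit 0x8424a628d308) (.node .nil (nat_lit 0x90641c0f1302)
  (nat_lit 20320) (nat_lit 0x8424a6195901) .nil)) (nat_lit 0x90641c219922) (nat_lit 26449) (nat_lit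
  0x886072309185) (.node (.node .nil (nat_lit 0x90641c230ac2) (nat_lit 3424) (nat_lit 0x8424a61a1a48) .nil)
  (nat_lit 0x90641c248343) (nat_lit 33568) (nat_lit 0x8424a6009959) .nil)) (nat_lit 0x90641c2903a1) (nat_lit
  9489) (nat_lit 0x886072238704) (.node (.node (.node .nil (nat_lit 0x90641c2b9041) (nat_lit 11824) (nat_lit
  0x8424a619c058) .nil) (nat_lit 0x90641c2e8a20) (nat_lit 5537) (nat_lit 0x886072011b8c) .nil) (nat_lit
  0x907083058338) (nat_lit 16513) (nat_lit 0xc41348122433) (.node (.node .nil (nat_lit 0x907083060b54)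
  (nat_lit 7872) (nat_lit 0xc4134802e8a2) .nil) (nat_lit 0x907083088e1c) (nat_lit 31681) (nat_lit
  0x8952c0122433) .nil)))) (nat_lit 0x9070830b0670) (nat_lit 15521) (nat_lit 0xc0d980122433) (.node (.node
  (.node (.node (.node .nil (nat_lit 0x9070830d0d24) (nat_lit 51249) (nat_lit 0xa09a44122433) .nil) (nat_lit
  0x9070830e8548) (nat_lit 2368) (nat_lit 0xbc120102e8a2) (.node .nil (nat_lit 0x907083200f68) (nat_lit 33665)
  (nat_lit 0xe80a8805d144) .nil)) (nat_lit 0x907083238704) (nat_lit 49681) (nat_lit 0xa181c8122433) (.node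
  (.node .nil (nat_lit 0x907083288174) (nat_lit 49345) (nat_lit 0x8c8384122433) .nil) (nat_lit 0x9070832b0918)
  (nat_lit 16641) (nat_lit 0xc508c4122433) .nil)) (nat_lit 0x9070832d024c) (nat_lit 45104) (nat_lit
  0xe9110402e8a2) (.node (.node (.node .nil (nat_lit 0x9070832e8a20) (nat_lit 31552) (nat_lit 0xb4054402e8a2)
  .nil) (nat_lit 0x9086070149f0) (nat_lit 6449) (nat_lit 0x8320e12c9406) .nil) (nat_lit 0x9086070710d8)
  (nat_lit 40288) (nat_lit 0xa88d010742a4) (.node (.node .nil (nat_lit 0x908607087898) (nat_lit 48241)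
  (nat_lit 0x8320e1185612) .nil) (nat_lit 0x908607093168) (nat_lit 29265) (nat_lit 0x8320e134c214) .nil)))
  (nat_lit 0x9086070e21b0) (nat_lit 6769) (nat_lit 0x8320e1088e1c) (.node (.node (.node (.node .nil (nat_lit
  0x9086070f6840) (nat_lit 46784) (nat_lit 0xd08c480742a4) .nil) (nat_lit 0x908607223870) (nat_lit 34465)
  (nat_lit 0x8320e11c111c) (.node .nil (nat_lit 0x908607237180) (nat_lit 45457) (nat_lit 0x8320e130851a)
  .nil)) (nat_lit 0x908607246158) (nat_lit 8144) (nat_lit 0xf82402009959) (.node (.node .nil (nat_lit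
  0x9086072528a8) (nat_lit 33249) (nat_lit 0x8320e1205d14) .nil) (nat_lit 0x9086072b0918) (nat_lit 24992)
  (nat_lit 0xd015110742a4) .nil)) (nat_lit 0x9086072d5030) (nat_lit 5345) (nat_lit 0x8320e1380b06) (.node
  (.node (.node .nil (nat_lit 0x909298026564) (nat_lit 20753) (nat_lit 0x84805e1964a0) .nil) (nat_lit
  0x909298056123) (nat_lit 28032) (nat_lit 0x818ea01a610a) .nil) (nat_lit 0x909298070447) (nat_lit 44976)
  (nat_lit 0x818ea02e4105) (.node (.node .nil (nat_lit 0x909298086c07) (nat_lit 49904) (nat_lit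
  0x818ea0067016) .nil) (nat_lit 0x9092980a0963) (nat_lit 38817) (nat_lit 0xe0095206920d) .nil))))) (nat_lit
  0x9092980d0d24) (nat_lit 37521) (nat_lit 0xa09a441964a0) (.node (.node (.node (.node (.node (.node .nil
  (nat_lit 0x9092980f6840) (nat_lit 46416) (nat_lit 0x818ea0283113) .nil) (nat_lit 0x909298212945) (nat_lit
  49361) (nat_lit 0xa691101964a0) (.node .nil (nat_lit 0x909298234c21) (nat_lit 4080) (nat_lit 0x818ea0387044)
  .nil)) (nat_lit 0x909298244866) (nat_lit 39457) (nat_lit 0x8419071964a0) (.node (.node .nil (nat_lit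
  0x909298262d02) (nat_lit 5857) (nat_lit 0xe60206009959) .nil) (nat_lit 0x909298294542) (nat_lit 32385)
  (nat_lit 0xc2181c1964a0) .nil)) (nat_lit 0x9092982b2026) (nat_lit 21488) (nat_lit 0x818ea03e0052) (.node
  (.node (.node .nil (nat_lit 0x9092982c2461) (nat_lit 19632) (nat_lit 0x818ea0104157) .nil) (nat_lit
  0x9092982e4105) (nat_lit 2961) (nat_lit 0x828b0a1964a0) .nil) (nat_lit 0x90c0e4010f13) (nat_lit 38288)
  (nat_lit 0xc83841174510) (.node (.node .nil (nat_lit 0x90c0e4023718) (nat_lit 11841) (nat_lit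
  0x8424a619c058) .nil) (nat_lit 0x90c0e40c2b09) (nat_lit 37985) (nat_lit 0x8424a603da10) .nil))) (nat_lit
  0x90c0e40d241a) (nat_lit 13152) (nat_lit 0x8c75002082ae) (.node (.node (.node (.node .nil (nat_lit
  0x90c0e40e1c11) (nat_lit 3441) (nat_lit 0x8424a61a1a48) .nil) (nat_lit 0x90c0e40f1302) (nat_lit 20704)
  (nat_lit 0xc62450195901) (.node .nil (nat_lit 0x90c0e4241a1a) (nat_lit 20337) (nat_lit 0x8424a6195901)
  .nil)) (nat_lit 0x90c0e4251509) (nat_lit 42209) (nat_lit 0x8424a632c940) (.node (.node .nil (nat_lit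
  0x90c0e4262d02) (nat_lit 33585) (nat_lit 0x8424a6009959) .nil) (nat_lit 0x90c0e4272211) (nat_lit 51920)
  (nat_lit 0x9458502082ae) .nil)) (nat_lit 0x90c0e4283113) (nat_lit 1521) (nat_lit 0x8424a61a8311) (.node
  (.node (.node .nil (nat_lit 0x90c0e42b0918) (nat_lit 9024) (nat_lit 0xd015110f6840) .nil) (nat_lit
  0x9104d200cb25) (nat_lit 51888) (nat_lit 0xc8384113021e) .nil) (nat_lit 0x9104d2065928) (nat_lit 24849)
  (nat_lit 0xc3039010d80e) (.node (.node .nil (nat_lit 0x9104d206920d) (nat_lit 27793) (nat_lit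
  0x9348882c2461) .nil) (nat_lit 0x9104d20a7221) (nat_lit 35537) (nat_lit 0xc0d98013021e) .nil)))) (nat_lit
  0x9104d20ab904) (nat_lit 30096) (nat_lit 0xcb004a103a15) (.node (.node (.node (.node (.node .nil (nat_lit
  0x9104d20c2b09) (nat_lit 47216) (nat_lit 0x9b301024c5a0) .nil) (nat_lit 0x9104d20ce02c) (nat_lit 53425)
  (nat_lit 0x804a962c2461) (.node .nil (nat_lit 0x9104d2226a0c) (nat_lit 28640) (nat_lit 0xc120171a1a48)
  .nil)) (nat_lit 0x9104d222a129) (nat_lit 20897) (nat_lit 0xd11a0202c19c) (.node (.node .nil (nat_lit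
  0x9104d2243324) (nat_lit 48033) (nat_lit 0x9189142c2461) .nil) (nat_lit 0x9104d224f801) (nat_lit 11793)
  (nat_lit 0xc1c20c121992) .nil)) (nat_lit 0x9104d228182d) (nat_lit 48865) (nat_lit 0x9253042c2461) (.node
  (.node (.node .nil (nat_lit 0x9104d228d308) (nat_lit 23377) (nat_lit 0xc2181c11c382) .nil) (nat_lit
  0x9104d22e4105) (nat_lit 2816) (nat_lit 0x812a5824c5a0) .nil) (nat_lit 0x9104d22e8a20) (nat_lit 29617)
  (nat_lit 0xd2c012011b8c) (.node (.node .nil (nat_lit 0x91104d046e30) (nat_lit 31872) (nat_lit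
  0xa209a40d241a) .nil) (nat_lit 0x91104d068692) (nat_lit 52544) (nat_lit 0xa209a40dc601) .nil))) (nat_lit
  0x91104d08a722) (nat_lit 10784) (nat_lit 0xa209a4157208) (.node (.node (.node (.node .nil (nat_lit
  0x91104d0a4f80) (nat_lit 42577) (nat_lit 0xb6602001964a) .nil) (nat_lit 0x91104d0cc912) (nat_lit 225)
  (nat_lit 0xb66020089a83) (.node .nil (nat_lit 0x91104d0e21b0) (nat_lit 47025) (nat_lit 0xb66020088e1c)
  .nil)) (nat_lit 0x91104d24c5a0) (nat_lit 9777) (nat_lit 0xb66020008dc6) (.node (.node .nil (nat_lit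
  0x91104d262d02) (nat_lit 22513) (nat_lit 0xb66020009959) .nil) (nat_lit 0x91104d280cb2) (nat_lit 40560)
  (nat_lit 0xa209a4192243) .nil)) (nat_lit 0x91104d2ae410) (nat_lit 18737) (nat_lit 0xb660200803da) (.node
  (.node (.node .nil (nat_lit 0x91104d2c6282) (nat_lit 1664) (nat_lit 0xa209a4140659) .nil) (nat_lit
  0x91104d2e8a20) (nat_lit 11456) (nat_lit 0xa209a414e442) .nil) (nat_lit 0x914231008dc6) (nat_lit 41552)
  (nat_lit 0xc838410305aa) (.node (.node .nil (nat_lit 0x914231043c4c) (nat_lit 35280) (nat_lit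
  0xac28140305aa) .nil) (nat_lit 0x91423104b18a) (nat_lit 24864) (nat_lit 0x98ea000305aa) .nil))))))
def tt3360_11 : T := (.node (.node (.node (.node (.node (.node (.node .nil (nat_lit 0x9142310ab904) (nat_lit
  34065) (nat_lit 0x9092982b2026) .nil) (nat_lit 0x9142310e8548) (nat_lit 43201) (nat_lit 0xd0151104cac8)
  (.node .nil (nat_lit 0x914231229c88) (nat_lit 10416) (nat_lit 0xc48a110305aa) .nil)) (nat_lit
  0x914231262d02) (nat_lit 28961) (nat_lit 0xd44680009959) (.node (.node .nil (nat_lit 0x91423126a0c4)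
  (nat_lit 8849) (nat_lit 0x840d982b2026) .nil) (nat_lit 0x91423128258c) (nat_lit 26064) (nat_lit
  0xd4b0040305aa) .nil)) (nat_lit 0x91423128a84a) (nat_lit 4161) (nat_lit 0xd08c48045391) (.node (.node (.node
  .nil (nat_lit 0x9142312c9406) (nat_lit 8736) (nat_lit 0xb0a0510305aa) .nil) (nat_lit 0x9189140046e3)
  (nat_lit 10049) (nat_lit 0xa8b0a0070447) (.node .nil (nat_lit 0x91891406226a) (nat_lit 30273) (nat_lit
  0xa8b0a005481d) .nil)) (nat_lit 0x918914066489) (nat_lit 40641) (nat_lit 0xa8b0a0024c5a) (.node (.node .nil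
  (nat_lit 0x9189140a34c2) (nat_lit 45889) (nat_lit 0xa8b0a0140659) .nil) (nat_lit 0x9189140a7221) (nat_lit
  36192) (nat_lit 0xecc04003380b) .nil))) (nat_lit 0x9189140c16a8) (nat_lit 24608) (nat_lit 0x8d98081007b4)
  (.node (.node (.node (.node .nil (nat_lit 0x9189140c504b) (nat_lit 16817) (nat_lit 0xa8b0a0164a03) .nil)
  (nat_lit 0x9189142032c9) (nat_lit 4865) (nat_lit 0xa8b0a0174510) (.node .nil (nat_lit 0x91891420742a)
  (nat_lit 1457) (nat_lit 0xa8b0a0104157) .nil)) (nat_lit 0x9189142610a3) (nat_lit 47232) (nat_lit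
  0xa530421007b4) (.node (.node .nil (nat_lit 0x918914265640) (nat_lit 44816) (nat_lit 0x82f0481007b4) .nil)
  (nat_lit 0x9189142a060b) (nat_lit 2464) (nat_lit 0xc750011007b4) .nil)) (nat_lit 0x9189142a40e8) (nat_lit
  33376) (nat_lit 0xe0900b0f6840) (.node (.node (.node .nil (nat_lit 0x9189142c2461) (nat_lit 36577) (nat_lit
  0xa8b0a0060b54) .nil) (nat_lit 0x9189142c6282) (nat_lit 22225) (nat_lit 0xa8b0a0010f13) .nil) (nat_lit
  0x91a02a045391) (nat_lit 545) (nat_lit 0xc413481b8c02) (.node (.node .nil (nat_lit 0x91a02a060b54) (nat_lit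
  25072) (nat_lit 0x8063a8390415) .nil) (nat_lit 0x91a02a081745) (nat_lit 26161) (nat_lit 0x9782402060b5)
  .nil)))) (nat_lit 0x91a02a0a4f80) (nat_lit 38369) (nat_lit 0xde090001964a) (.node (.node (.node (.node
  (.node .nil (nat_lit 0x91a02a0c44d4) (nat_lit 53361) (nat_lit 0x8c0e422060b5) .nil) (nat_lit 0x91a02a0e1c11)
  (nat_lit 21632) (nat_lit 0x8063a80e1c11) (.node .nil (nat_lit 0x91a02a205d14) (nat_lit 20129) (nat_lit
  0x9891422060b5) .nil)) (nat_lit 0x91a02a2205d1) (nat_lit 45040) (nat_lit 0x8063a8091856) (.node (.node .nil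
  (nat_lit 0x91a02a240e85) (nat_lit 17696) (nat_lit 0x8063a8301c43) .nil) (nat_lit 0x91a02a265640) (nat_lit
  42224) (nat_lit 0x8063a8129454) .nil)) (nat_lit 0x91a02a284a51) (nat_lit 8033) (nat_lit 0xd08c480f1302)
  (.node (.node (.node .nil (nat_lit 0x91a02a2a1294) (nat_lit 16209) (nat_lit 0x9907082060b5) .nil) (nat_lit
  0x92017800f684) (nat_lit 24080) (nat_lit 0xb004a905aa06) .nil) (nat_lit 0x920178055c82) (nat_lit 13776)
  (nat_lit 0xb004a90cc912) (.node (.node .nil (nat_lit 0x92017805aa06) (nat_lit 46225) (nat_lit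
  0xa118910ce02c) .nil) (nat_lit 0x920178089a83) (nat_lit 769) (nat_lit 0xe009520ce02c) .nil))) (nat_lit
  0x9201780d3085) (nat_lit 39360) (nat_lit 0xb004a90ab904) (.node (.node (.node (.node .nil (nat_lit
  0x9201780dc601) (nat_lit 53184) (nat_lit 0xb004a90f1302) .nil) (nat_lit 0x92017821a483) (nat_lit 23505)
  (nat_lit 0xd11a020ce02c) (.node .nil (nat_lit 0x920178240e85) (nat_lit 14000) (nat_lit 0xb004a9007b42)
  .nil)) (nat_lit 0x92017824f801) (nat_lit 31776) (nat_lit 0xb004a905d144) (.node (.node .nil (nat_lit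
  0x92017829c884) (nat_lit 23760) (nat_lit 0xb004a90f6840) .nil) (nat_lit 0x9201782c6282) (nat_lit 24977)
  (nat_lit 0xf210c0010f13) .nil)) (nat_lit 0x9201782c9406) (nat_lit 41057) (nat_lit 0x900bc10ce02c) (.node
  (.node (.node .nil (nat_lit 0x922846045391) (nat_lit 528) (nat_lit 0xc413481b8c02) .nil) (nat_lit
  0x922846058338) (nat_lit 14401) (nat_lit 0x84303929c884) .nil) (nat_lit 0x9228460c16a8) (nat_lit 40048)
  (nat_lit 0x8d98082060b5) (.node (.node .nil (nat_lit 0x9228460dc601) (nat_lit 8016) (nat_lit 0xd08c480f1302)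
  .nil) (nat_lit 0x922846209631) (nat_lit 6081) (nat_lit 0x8430391b01c4) .nil))))) (nat_lit 0x922846214698)
  (nat_lit 1617) (nat_lit 0x843039294542) (.node (.node (.node (.node (.node (.node .nil (nat_lit
  0x92284624c5a0) (nat_lit 39521) (nat_lit 0x843039008dc6) .nil) (nat_lit 0x922846251509) (nat_lit 15697)
  (nat_lit 0x84303932c940) (.node .nil (nat_lit 0x92284628d308) (nat_lit 47136) (nat_lit 0xd11a020e8548)
  .nil)) (nat_lit 0x9228462903a1) (nat_lit 19825) (nat_lit 0x843039238704) (.node (.node .nil (nat_lit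
  0x9228462c8099) (nat_lit 38225) (nat_lit 0x8430390a4f80) .nil) (nat_lit 0x9228462d5030) (nat_lit 4625)
  (nat_lit 0x843039380b06) .nil)) (nat_lit 0x92530400a4f8) (nat_lit 52240) (nat_lit 0xa4a6081108a7) (.node
  (.node (.node .nil (nat_lit 0x9253040428d3) (nat_lit 34289) (nat_lit 0x91a02a0e1c11) .nil) (nat_lit
  0x925304090cc9) (nat_lit 51153) (nat_lit 0x91a02a265640) .nil) (nat_lit 0x92530409a831) (nat_lit 27281)
  (nat_lit 0x91a02a2a1294) (.node (.node .nil (nat_lit 0x9253040d241a) (nat_lit 14625) (nat_lit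
  0x91a02a284a51) .nil) (nat_lit 0x9253040d80e2) (nat_lit 29201) (nat_lit 0x91a02a240e85) .nil))) (nat_lit
  0x92530421a483) (nat_lit 52193) (nat_lit 0x91a02a2205d1) (.node (.node (.node (.node .nil (nat_lit
  0x9253042528a8) (nat_lit 21216) (nat_lit 0xc8a1181108a7) .nil) (nat_lit 0x925304280cb2) (nat_lit 29312)
  (nat_lit 0xaa23401108a7) (.node .nil (nat_lit 0x92530428a84a) (nat_lit 1105) (nat_lit 0x91a02a045391) .nil))
  (nat_lit 0x9253042c2461) (nat_lit 38049) (nat_lit 0x91a02a060b54) (.node (.node .nil (nat_lit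
  0x9253042c8099) (nat_lit 5904) (nat_lit 0xca96001108a7) .nil) (nat_lit 0x9298210803da) (nat_lit 12209)
  (nat_lit 0xe009520dc601) .nil)) (nat_lit 0x929821096314) (nat_lit 25985) (nat_lit 0xa982121230ac) (.node
  (.node (.node .nil (nat_lit 0x9298210c44d4) (nat_lit 47760) (nat_lit 0xd16140020ab9) .nil) (nat_lit
  0x9298210d241a) (nat_lit 43840) (nat_lit 0x8c7500020ab9) .nil) (nat_lit 0x929821202656) (nat_lit 15648)
  (nat_lit 0x989142020ab9) (.node (.node .nil (nat_lit 0x929821214698) (nat_lit 11553) (nat_lit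
  0xc48a111230ac) .nil) (nat_lit 0x929821246158) (nat_lit 53233) (nat_lit 0xe106410cc912) .nil)))) (nat_lit
  0x929821250196) (nat_lit 51409) (nat_lit 0xa88d011230ac) (.node (.node (.node (.node (.node .nil (nat_lit
  0x92982128258c) (nat_lit 17264) (nat_lit 0xd4b004020ab9) .nil) (nat_lit 0x929821294542) (nat_lit 5729)
  (nat_lit 0xc94c101230ac) (.node .nil (nat_lit 0x9298212c6282) (nat_lit 5968) (nat_lit 0xb40544020ab9) .nil))
  (nat_lit 0x9298212d024c) (nat_lit 49633) (nat_lit 0xa54b001230ac) (.node (.node .nil (nat_lit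
  0x92a58000527c) (nat_lit 26705) (nat_lit 0x9d400600a4f8) .nil) (nat_lit 0x92a580051a61) (nat_lit 42049)
  (nat_lit 0xc8430300a4f8) .nil)) (nat_lit 0x92a58005481d) (nat_lit 11376) (nat_lit 0x8a051614a2a1) (.node
  (.node (.node .nil (nat_lit 0x92a580091856) (nat_lit 3601) (nat_lit 0xbc120100a4f8) .nil) (nat_lit
  0x92a580094a2a) (nat_lit 10017) (nat_lit 0xde090000a4f8) .nil) (nat_lit 0x92a5800c0237) (nat_lit 8576)
  (nat_lit 0xe009520b540c) (.node (.node .nil (nat_lit 0x92a5800c504b) (nat_lit 28240) (nat_lit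
  0xaa580214a2a1) .nil) (nat_lit 0x92a58021007b) (nat_lit 39841) (nat_lit 0xd11a0200a4f8) .nil))) (nat_lit
  0x92a580215207) (nat_lit 42385) (nat_lit 0xb3010300a4f8) (.node (.node (.node (.node .nil (nat_lit
  0x92a580241a1a) (nat_lit 11904) (nat_lit 0xc94c1014a2a1) .nil) (nat_lit 0x92a580244866) (nat_lit 36337)
  (nat_lit 0x84190700a4f8) (.node .nil (nat_lit 0x92a58028182d) (nat_lit 45152) (nat_lit 0xc2181c14a2a1)
  .nil)) (nat_lit 0x92a580284a51) (nat_lit 29888) (nat_lit 0x88494c14a2a1) (.node (.node .nil (nat_lit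
  0x92a5802d024c) (nat_lit 20865) (nat_lit 0xa54b0000a4f8) .nil) (nat_lit 0x92a5802d5030) (nat_lit 39681)
  (nat_lit 0xc7500100a4f8) .nil)) (nat_lit 0x934888041572) (nat_lit 50177) (nat_lit 0xc303901c8845) (.node
  (.node (.node .nil (nat_lit 0x93488804a515) (nat_lit 5073) (nat_lit 0x8a88d020742a) .nil) (nat_lit
  0x934888081745) (nat_lit 49697) (nat_lit 0x97824020742a) .nil) (nat_lit 0x93488808a722) (nat_lit 18129)
  (nat_lit 0xde09000182d5) (.node (.node .nil (nat_lit 0x934888202656) (nat_lit 15152) (nat_lit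
  0x8081b31a1a48) .nil) (nat_lit 0x934888209631) (nat_lit 3633) (nat_lit 0xc48a111b01c4) .nil))))))
def tt3360_12 : T := (.node (.node (.node (.node (.node (.node (.node .nil (nat_lit 0x934888248343) (nat_lit
  31920) (nat_lit 0x8081b3043c4c) .nil) (nat_lit 0x934888283113) (nat_lit 20672) (nat_lit 0x8081b32d024c)
  (.node .nil (nat_lit 0x934888288174) (nat_lit 18385) (nat_lit 0x8c838420742a) .nil)) (nat_lit
  0x9348882c2461) (nat_lit 16608) (nat_lit 0x8081b3114e44) (.node (.node .nil (nat_lit 0x9348882c9406)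
  (nat_lit 13120) (nat_lit 0x8081b3332448) .nil) (nat_lit 0x940a2c017451) (nat_lit 39345) (nat_lit
  0x8178243e0052) .nil)) (nat_lit 0x940a2c03a152) (nat_lit 51568) (nat_lit 0x8900bc306701) (.node (.node
  (.node .nil (nat_lit 0x940a2c08e1c1) (nat_lit 18705) (nat_lit 0x817824068692) .nil) (nat_lit 0x940a2c0a34c2)
  (nat_lit 21313) (nat_lit 0x817824140659) (.node .nil (nat_lit 0x940a2c20d0d2) (nat_lit 13232) (nat_lit
  0x8900bc163141) .nil)) (nat_lit 0x940a2c21a483) (nat_lit 36352) (nat_lit 0x8900bc301c43) (.node (.node .nil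
  (nat_lit 0x940a2c2205d1) (nat_lit 10752) (nat_lit 0x8900bc007b42) .nil) (nat_lit 0x940a2c237180) (nat_lit
  7409) (nat_lit 0x81782430851a) .nil))) (nat_lit 0x940a2c283113) (nat_lit 193) (nat_lit 0x8178241a8311)
  (.node (.node (.node (.node .nil (nat_lit 0x940a2c294542) (nat_lit 23745) (nat_lit 0x817824248343) .nil)
  (nat_lit 0x940a2c2ae410) (nat_lit 1632) (nat_lit 0x8900bc32c940) (.node .nil (nat_lit 0x940a2c2b9041)
  (nat_lit 43936) (nat_lit 0x8900bc14e442) .nil)) (nat_lit 0x94231201d0a9) (nat_lit 2944) (nat_lit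
  0x828b0a1964a0) (.node (.node .nil (nat_lit 0x9423120258c5) (nat_lit 3969) (nat_lit 0x96140a09a831) .nil)
  (nat_lit 0x94231203886c) (nat_lit 35056) (nat_lit 0xa0031d1964a0) .nil)) (nat_lit 0x94231208dc60) (nat_lit
  48945) (nat_lit 0xe2450809a831) (.node (.node (.node .nil (nat_lit 0x942312090cc9) (nat_lit 33217) (nat_lit
  0xd0018e09a831) .nil) (nat_lit 0x9423120a84a5) (nat_lit 38800) (nat_lit 0xe0095206920d) .nil) (nat_lit
  0x9423120b540c) (nat_lit 39440) (nat_lit 0x8419071964a0) (.node (.node .nil (nat_lit 0x94231220c44d)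
  (nat_lit 5840) (nat_lit 0xe60206009959) .nil) (nat_lit 0x9423122114e4) (nat_lit 34241) (nat_lit
  0xb4054409a831) .nil)))) (nat_lit 0x942312229c88) (nat_lit 46481) (nat_lit 0xe6020609a831) (.node (.node
  (.node (.node (.node .nil (nat_lit 0x942312234c21) (nat_lit 17153) (nat_lit 0xd4468009a831) .nil) (nat_lit
  0x94231228182d) (nat_lit 32368) (nat_lit 0xc2181c1964a0) (.node .nil (nat_lit 0x94231229c884) (nat_lit
  51825) (nat_lit 0xa0178209a831) .nil)) (nat_lit 0x9423122a40e8) (nat_lit 34736) (nat_lit 0xe0900b060b54)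
  (.node (.node .nil (nat_lit 0x9423122b9041) (nat_lit 20736) (nat_lit 0x84805e1964a0) .nil) (nat_lit
  0x94585001262d) (nat_lit 11600) (nat_lit 0x87210c280cb2) .nil)) (nat_lit 0x945850022387) (nat_lit 24288)
  (nat_lit 0xc4134813e005) (.node (.node (.node .nil (nat_lit 0x9458500305aa) (nat_lit 37489) (nat_lit
  0xc303901c3822) .nil) (nat_lit 0x94585008a722) (nat_lit 31393) (nat_lit 0xe245080182d5) .nil) (nat_lit
  0x94585009810f) (nat_lit 42320) (nat_lit 0x925304280cb2) (.node (.node .nil (nat_lit 0x9458500a84a5)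
  (nat_lit 11185) (nat_lit 0x8206cc1c3822) .nil) (nat_lit 0x9458500ba288) (nat_lit 39297) (nat_lit
  0xc281451c3822) .nil))) (nat_lit 0x9458502082ae) (nat_lit 44449) (nat_lit 0x8145851c3822) (.node (.node
  (.node (.node .nil (nat_lit 0x94585021a483) (nat_lit 7185) (nat_lit 0xc1c20c1c3822) .nil) (nat_lit
  0x94585022a129) (nat_lit 9920) (nat_lit 0xd2220905d144) (.node .nil (nat_lit 0x945850238704) (nat_lit 40144)
  (nat_lit 0x82f048280cb2) .nil)) (nat_lit 0x94585028258c) (nat_lit 12544) (nat_lit 0xd4b004034349) (.node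
  (.node .nil (nat_lit 0x9458502903a1) (nat_lit 8464) (nat_lit 0x846245280cb2) .nil) (nat_lit 0x9458502a060b)
  (nat_lit 42944) (nat_lit 0xc7500110a34c) .nil)) (nat_lit 0x9458502b2026) (nat_lit 41425) (nat_lit
  0xa0031d1c3822) (.node (.node (.node .nil (nat_lit 0x94c1090132b2) (nat_lit 7889) (nat_lit 0xc4134802e8a2)
  .nil) (nat_lit 0x94c109032c94) (nat_lit 38624) (nat_lit 0x9a02a204a515) .nil) (nat_lit 0x94c109082ae4)
  (nat_lit 8416) (nat_lit 0x9a02a221b01c) (.node (.node .nil (nat_lit 0x94c109091856) (nat_lit 2385) (nat_lit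
  0xbc120102e8a2) .nil) (nat_lit 0x94c1090a34c2) (nat_lit 45121) (nat_lit 0xe9110402e8a2) .nil))))) (nat_lit
  0x94c1090b0670) (nat_lit 2912) (nat_lit 0x9a02a2251509) (.node (.node (.node (.node (.node (.node .nil
  (nat_lit 0x94c109202656) (nat_lit 30672) (nat_lit 0x9a02a2009959) .nil) (nat_lit 0x94c1092114e4) (nat_lit
  3648) (nat_lit 0x9a02a2017451) (.node .nil (nat_lit 0x94c109223870) (nat_lit 17168) (nat_lit 0x9a02a205d144)
  .nil)) (nat_lit 0x94c109230ac2) (nat_lit 12928) (nat_lit 0x9a02a2043c4c) (.node (.node .nil (nat_lit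
  0x94c109280cb2) (nat_lit 41616) (nat_lit 0x9a02a2212945) .nil) (nat_lit 0x94c1092a1294) (nat_lit 5088)
  (nat_lit 0x9a02a2246158) .nil)) (nat_lit 0x9511a000e21b) (nat_lit 18032) (nat_lit 0x8366021889a8) (.node
  (.node (.node .nil (nat_lit 0x9511a0024c5a) (nat_lit 22193) (nat_lit 0xc303900c504b) .nil) (nat_lit
  0x9511a002ae41) (nat_lit 34336) (nat_lit 0xc054461889a8) .nil) (nat_lit 0x9511a0086c07) (nat_lit 33329)
  (nat_lit 0x82125330ac24) (.node (.node .nil (nat_lit 0x9511a0088e1c) (nat_lit 51121) (nat_lit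
  0x8952c030ac24) .nil) (nat_lit 0x9511a00a205d) (nat_lit 34689) (nat_lit 0x8e421830ac24) .nil))) (nat_lit
  0x9511a00ac246) (nat_lit 30225) (nat_lit 0x85028b30ac24) (.node (.node (.node (.node .nil (nat_lit
  0x9511a0202656) (nat_lit 14224) (nat_lit 0x8212531889a8) .nil) (nat_lit 0x9511a020c44d) (nat_lit 19344)
  (nat_lit 0xe60206017451) (.node .nil (nat_lit 0x9511a0226a0c) (nat_lit 23024) (nat_lit 0xc120171889a8)
  .nil)) (nat_lit 0x9511a0228817) (nat_lit 18993) (nat_lit 0x8a118930ac24) (.node (.node .nil (nat_lit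
  0x9511a0284a51) (nat_lit 4785) (nat_lit 0xc040d90f1302) .nil) (nat_lit 0x9511a028a84a) (nat_lit 10560)
  (nat_lit 0xe07210070447) .nil)) (nat_lit 0x9511a02a060b) (nat_lit 38864) (nat_lit 0xc750011889a8) (.node
  (.node (.node .nil (nat_lit 0x9511a02ae410) (nat_lit 16193) (nat_lit 0xc750010803da) .nil) (nat_lit
  0x952c0100527c) (nat_lit 50000) (nat_lit 0xa10c0e0e21b0) .nil) (nat_lit 0x952c010293e0) (nat_lit 52272)
  (nat_lit 0xc054460e21b0) (.node (.node .nil (nat_lit 0x952c0102c19c) (nat_lit 12512) (nat_lit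
  0x9086070e21b0) .nil) (nat_lit 0x952c010803da) (nat_lit 43248) (nat_lit 0xb1d4000e21b0) .nil)))) (nat_lit
  0x952c010851a6) (nat_lit 46817) (nat_lit 0x908607223870) (.node (.node (.node (.node (.node .nil (nat_lit
  0x952c010a903a) (nat_lit 23856) (nat_lit 0x805e090e21b0) .nil) (nat_lit 0x952c010ac246) (nat_lit 45776)
  (nat_lit 0xd08c480e21b0) (.node .nil (nat_lit 0x952c012082ae) (nat_lit 47552) (nat_lit 0xc1c20c0e21b0)
  .nil)) (nat_lit 0x952c0120d0d2) (nat_lit 52385) (nat_lit 0xc1c20c1c0583) (.node (.node .nil (nat_lit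
  0x952c0122114e) (nat_lit 28385) (nat_lit 0x94c109223870) .nil) (nat_lit 0x952c01224332) (nat_lit 28833)
  (nat_lit 0xd4468009810f) .nil)) (nat_lit 0x952c01288174) (nat_lit 32144) (nat_lit 0x81c8430e21b0) (.node
  (.node (.node .nil (nat_lit 0x952c0128d308) (nat_lit 48480) (nat_lit 0xd11a020e21b0) .nil) (nat_lit
  0x952c012a1294) (nat_lit 50272) (nat_lit 0xb0424a0e21b0) .nil) (nat_lit 0x952c012a40e8) (nat_lit 40832)
  (nat_lit 0xe0900b0e21b0) (.node (.node .nil (nat_lit 0x960095007b42) (nat_lit 18496) (nat_lit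
  0xc413480a84a5) .nil) (nat_lit 0x96009501964a) (nat_lit 11744) (nat_lit 0xa54b000a84a5) .nil))) (nat_lit
  0x96009501ed08) (nat_lit 11217) (nat_lit 0x8a2c2820d0d2) (.node (.node (.node (.node .nil (nat_lit
  0x96009508a722) (nat_lit 8304) (nat_lit 0xe009520a84a5) .nil) (nat_lit 0x96009508dc60) (nat_lit 24785)
  (nat_lit 0x8a2c281412c6) (.node .nil (nat_lit 0x960095093168) (nat_lit 26545) (nat_lit 0x8a2c2834c214)
  .nil)) (nat_lit 0x960095200f68) (nat_lit 8625) (nat_lit 0x8a2c2805d144) (.node (.node .nil (nat_lit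
  0x960095219922) (nat_lit 3169) (nat_lit 0x8a2c28309185) .nil) (nat_lit 0x96009521e260) (nat_lit 19792)
  (nat_lit 0x9458500a84a5) .nil)) (nat_lit 0x96009528a84a) (nat_lit 12465) (nat_lit 0x8a2c28045391) (.node
  (.node (.node .nil (nat_lit 0x96009528d308) (nat_lit 7136) (nat_lit 0xd11a020a84a5) .nil) (nat_lit
  0x960095294542) (nat_lit 31232) (nat_lit 0x812a580a84a5) .nil) (nat_lit 0x96140a0149f0) (nat_lit 51216)
  (nat_lit 0x8c48a130851a) (.node (.node .nil (nat_lit 0x96140a0182d5) (nat_lit 41121) (nat_lit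
  0xaf0480106869) .nil) (nat_lit 0x96140a082ae4) (nat_lit 41904) (nat_lit 0x8c48a121b01c) .nil))))))
def tt3360_13 : T := (.node (.node (.node (.node (.node (.node (.node .nil (nat_lit 0x96140a096314) (nat_lit
  23921) (nat_lit 0xa98212106869) .nil) (nat_lit 0x96140a09a831) (nat_lit 2016) (nat_lit 0x8c48a1023718)
  (.node .nil (nat_lit 0x96140a212945) (nat_lit 21009) (nat_lit 0xa69110106869) .nil)) (nat_lit
  0x96140a21e260) (nat_lit 7681) (nat_lit 0xca9600106869) (.node (.node .nil (nat_lit 0x96140a284a51) (nat_lit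
  16785) (nat_lit 0xe084940f1302) .nil) (nat_lit 0x96140a288174) (nat_lit 42752) (nat_lit 0x8c48a103a152)
  .nil)) (nat_lit 0x96140a2903a1) (nat_lit 23617) (nat_lit 0xcc1092106869) (.node (.node (.node .nil (nat_lit
  0x96140a29c884) (nat_lit 1984) (nat_lit 0x8c48a1332448) .nil) (nat_lit 0x97824000149f) (nat_lit 17617)
  (nat_lit 0x9a44412528a8) (.node .nil (nat_lit 0x97824000293e) (nat_lit 17040) (nat_lit 0x90641c2903a1)
  .nil)) (nat_lit 0x978240003da1) (nat_lit 29441) (nat_lit 0xc84303129454) (.node (.node .nil (nat_lit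
  0x978240084539) (nat_lit 36480) (nat_lit 0x96140a2903a1) .nil) (nat_lit 0x9782400851a6) (nat_lit 45761)
  (nat_lit 0x9086072528a8) .nil))) (nat_lit 0x978240086c07) (nat_lit 23281) (nat_lit 0x8212532528a8) (.node
  (.node (.node (.node .nil (nat_lit 0x978240087898) (nat_lit 17393) (nat_lit 0xc28145185612) .nil) (nat_lit
  0x97824020498b) (nat_lit 51616) (nat_lit 0xd2c012043c4c) (.node .nil (nat_lit 0x978240205d14) (nat_lit
  44560) (nat_lit 0x82f0482903a1) .nil)) (nat_lit 0x9782402060b5) (nat_lit 15440) (nat_lit 0x9458502903a1)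
  (.node (.node .nil (nat_lit 0x97824020742a) (nat_lit 39489) (nat_lit 0xca9600104157) .nil) (nat_lit
  0x978240280cb2) (nat_lit 31936) (nat_lit 0x9228462903a1) .nil)) (nat_lit 0x97824028182d) (nat_lit 1152)
  (nat_lit 0xc2181c14e442) (.node (.node (.node .nil (nat_lit 0x97824028258c) (nat_lit 43264) (nat_lit
  0xd4b004024c5a) .nil) (nat_lit 0x978240283113) (nat_lit 45504) (nat_lit 0x84805e2903a1) .nil) (nat_lit
  0x98081b00f684) (nat_lit 40176) (nat_lit 0x8254b005aa06) (.node (.node .nil (nat_lit 0x98081b0293e0)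
  (nat_lit 23968) (nat_lit 0x8254b0318a09) .nil) (nat_lit 0x98081b05d144) (nat_lit 23664) (nat_lit
  0x8254b0380b06) .nil)))) (nat_lit 0x98081b07b420) (nat_lit 38513) (nat_lit 0xc585020a7221) (.node (.node
  (.node (.node (.node .nil (nat_lit 0x98081b2114e4) (nat_lit 52401) (nat_lit 0xb405440a7221) .nil) (nat_lit
  0x98081b21e260) (nat_lit 39745) (nat_lit 0xd08c480a7221) (.node .nil (nat_lit 0x98081b237180) (nat_lit 2545)
  (nat_lit 0xc508c40a7221) .nil)) (nat_lit 0x98081b238704) (nat_lit 24928) (nat_lit 0x8254b028a84a) (.node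
  (.node .nil (nat_lit 0x98081b243324) (nat_lit 47873) (nat_lit 0x9189140a7221) .nil) (nat_lit 0x98081b24c5a0)
  (nat_lit 48369) (nat_lit 0xf50018008dc6) .nil)) (nat_lit 0x98081b265640) (nat_lit 26224) (nat_lit
  0x8254b010a34c) (.node (.node (.node .nil (nat_lit 0x98081b26a0c4) (nat_lit 16289) (nat_lit 0x840d980a7221)
  .nil) (nat_lit 0x981c8400e21b) (nat_lit 47360) (nat_lit 0x8366020498b4) .nil) (nat_lit 0x981c84034349)
  (nat_lit 34480) (nat_lit 0xb301030498b4) (.node (.node .nil (nat_lit 0x981c8403a152) (nat_lit 47393)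
  (nat_lit 0x9036602c8099) .nil) (nat_lit 0x981c84056123) (nat_lit 50849) (nat_lit 0x903660228817) .nil)))
  (nat_lit 0x981c84058338) (nat_lit 29041) (nat_lit 0x90366029c884) (.node (.node (.node (.node .nil (nat_lit
  0x981c8406226a) (nat_lit 32992) (nat_lit 0xa960090498b4) .nil) (nat_lit 0x981c8406c071) (nat_lit 43232)
  (nat_lit 0xd161400498b4) (.node .nil (nat_lit 0x981c8421007b) (nat_lit 22593) (nat_lit 0x9036602e4105)
  .nil)) (nat_lit 0x981c8421e260) (nat_lit 32128) (nat_lit 0x9a44410498b4) (.node (.node .nil (nat_lit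
  0x981c84224332) (nat_lit 46145) (nat_lit 0x90366009810f) .nil) (nat_lit 0x981c8422a129) (nat_lit 12480)
  (nat_lit 0xd222090498b4) .nil)) (nat_lit 0x981c84246158) (nat_lit 5201) (nat_lit 0x9036600cc912) (.node
  (.node (.node .nil (nat_lit 0x981c84248343) (nat_lit 52768) (nat_lit 0x80254b0498b4) .nil) (nat_lit
  0x981c84272211) (nat_lit 51425) (nat_lit 0x9036602b0918) .nil) (nat_lit 0x981c8427c00a) (nat_lit 17472)
  (nat_lit 0xc843030498b4) (.node (.node .nil (nat_lit 0x98212501964a) (nat_lit 32753) (nat_lit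
  0x82a2343540c1) .nil) (nat_lit 0x98212503da10) (nat_lit 33184) (nat_lit 0xecc040010f13) .nil))))) (nat_lit
  0x98212504cac8) (nat_lit 25968) (nat_lit 0xa982121230ac) (.node (.node (.node (.node (.node (.node .nil
  (nat_lit 0x982125055c82) (nat_lit 22993) (nat_lit 0x82a234301c43) .nil) (nat_lit 0x982125068692) (nat_lit
  12192) (nat_lit 0xe009520dc601) (.node .nil (nat_lit 0x9821250710d8) (nat_lit 19185) (nat_lit
  0x82a2343c4c08) .nil)) (nat_lit 0x98212520d0d2) (nat_lit 18432) (nat_lit 0x8d01511230ac) (.node (.node .nil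
  (nat_lit 0x982125214698) (nat_lit 20209) (nat_lit 0x82a234294542) .nil) (nat_lit 0x982125229c88) (nat_lit
  11536) (nat_lit 0xc48a111230ac) .nil)) (nat_lit 0x982125230ac2) (nat_lit 3265) (nat_lit 0x82a234251509)
  (.node (.node (.node .nil (nat_lit 0x982125241a1a) (nat_lit 5712) (nat_lit 0xc94c101230ac) .nil) (nat_lit
  0x982125265640) (nat_lit 8401) (nat_lit 0x82a23415094a) .nil) (nat_lit 0x98914201262d) (nat_lit 26032)
  (nat_lit 0x87210c305aa0) (.node (.node .nil (nat_lit 0x989142020ab9) (nat_lit 8593) (nat_lit 0xe009520b540c)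
  .nil) (nat_lit 0x989142032c94) (nat_lit 50913) (nat_lit 0xa8145814a2a1) .nil))) (nat_lit 0x989142046e30)
  (nat_lit 47633) (nat_lit 0xe24508091856) (.node (.node (.node (.node .nil (nat_lit 0x98914205481d) (nat_lit
  28257) (nat_lit 0xaa580214a2a1) .nil) (nat_lit 0x989142066489) (nat_lit 29745) (nat_lit 0xe91104024c5a)
  (.node .nil (nat_lit 0x9891420742a4) (nat_lit 26784) (nat_lit 0xc6245009810f) .nil)) (nat_lit
  0x9891422060b5) (nat_lit 11393) (nat_lit 0x8a051614a2a1) (.node (.node .nil (nat_lit 0x989142214698)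
  (nat_lit 45169) (nat_lit 0xc2181c14a2a1) .nil) (nat_lit 0x989142226a0c) (nat_lit 3808) (nat_lit
  0xc120170e8548) .nil)) (nat_lit 0x989142234c21) (nat_lit 11921) (nat_lit 0xc94c1014a2a1) (.node (.node
  (.node .nil (nat_lit 0x989142240e85) (nat_lit 41281) (nat_lit 0x831d4014a2a1) .nil) (nat_lit 0x9891422528a8)
  (nat_lit 35328) (nat_lit 0xc8a118070447) .nil) (nat_lit 0x98914226043c) (nat_lit 29905) (nat_lit
  0x88494c14a2a1) (.node (.node .nil (nat_lit 0x989142272211) (nat_lit 43873) (nat_lit 0xc0544614a2a1) .nil)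
  (nat_lit 0x98ea0000149f) (nat_lit 31264) (nat_lit 0x86cc040132b2) .nil)))) (nat_lit 0x98ea000305aa) (nat_lit
  14448) (nat_lit 0x94c1090132b2) (.node (.node (.node (.node (.node .nil (nat_lit 0x98ea00031135) (nat_lit
  31968) (nat_lit 0xecc0400132b2) .nil) (nat_lit 0x98ea000401ed) (nat_lit 31281) (nat_lit 0x86cc040132b2)
  (.node .nil (nat_lit 0x98ea00041572) (nat_lit 52737) (nat_lit 0xe245080132b2) .nil)) (nat_lit
  0x98ea00070447) (nat_lit 6816) (nat_lit 0xd08c480132b2) (.node (.node .nil (nat_lit 0x98ea000710d8) (nat_lit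
  53280) (nat_lit 0xa88d010132b2) .nil) (nat_lit 0x98ea0021007b) (nat_lit 6833) (nat_lit 0xd08c480132b2)
  .nil)) (nat_lit 0x98ea002114e4) (nat_lit 38480) (nat_lit 0x9a44410132b2) (.node (.node (.node .nil (nat_lit
  0x98ea002205d1) (nat_lit 22737) (nat_lit 0xf048050132b2) .nil) (nat_lit 0x98ea0022114e) (nat_lit 14465)
  (nat_lit 0x94c1090132b2) .nil) (nat_lit 0x98ea00250196) (nat_lit 53297) (nat_lit 0xa88d010132b2) (.node
  (.node .nil (nat_lit 0x98ea00251509) (nat_lit 34769) (nat_lit 0xcc040d0132b2) .nil) (nat_lit 0x98ea0026043c)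
  (nat_lit 34752) (nat_lit 0xcc040d0132b2) .nil))) (nat_lit 0x98ea002610a3) (nat_lit 31985) (nat_lit
  0xecc0400132b2) (.node (.node (.node (.node .nil (nat_lit 0x99070800b067) (nat_lit 31905) (nat_lit
  0x96009521e260) .nil) (nat_lit 0x9907080258c5) (nat_lit 14065) (nat_lit 0x96140a21e260) (.node .nil (nat_lit
  0x99070802e8a2) (nat_lit 29664) (nat_lit 0x9511a000e21b) .nil)) (nat_lit 0x9907080428d3) (nat_lit 12241)
  (nat_lit 0xd0018e0e1c11) (.node (.node .nil (nat_lit 0x9907080498b4) (nat_lit 44849) (nat_lit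
  0x981c8421e260) .nil) (nat_lit 0x990708067016) (nat_lit 45840) (nat_lit 0x9511a0086c07) .nil)) (nat_lit
  0x99070806c071) (nat_lit 25617) (nat_lit 0xd015110e088e) (.node (.node (.node .nil (nat_lit 0x9907082060b5)
  (nat_lit 8960) (nat_lit 0x9511a0284a51) .nil) (nat_lit 0x99070820d0d2) (nat_lit 27761) (nat_lit
  0xc2181c1c0583) .nil) (nat_lit 0x990708223870) (nat_lit 43152) (nat_lit 0x9511a00ac246) (.node (.node .nil
  (nat_lit 0x990708228817) (nat_lit 16625) (nat_lit 0x8a118921e260) .nil) (nat_lit 0x990708244866) (nat_lit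
  46752) (nat_lit 0x9511a002ae41) .nil))))))
def tt3360_14 : T := (.node (.node (.node (.node (.node (.node (.node .nil (nat_lit 0x9907082610a3) (nat_lit
  24496) (nat_lit 0x9511a0202656) .nil) (nat_lit 0x99070826a0c4) (nat_lit 34816) (nat_lit 0x9511a0024c5a)
  (.node .nil (nat_lit 0x9a02a2009959) (nat_lit 18752) (nat_lit 0xb20e1001d0a9) .nil)) (nat_lit
  0x9a02a2017451) (nat_lit 1856) (nat_lit 0xd8025401d0a9) (.node (.node .nil (nat_lit 0x9a02a201ed08) (nat_lit
  5648) (nat_lit 0x94231201d0a9) .nil) (nat_lit 0x9a02a2043c4c) (nat_lit 7040) (nat_lit 0xac281401d0a9) .nil))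
  (nat_lit 0x9a02a204a515) (nat_lit 25633) (nat_lit 0x8a88d001262d) (.node (.node (.node .nil (nat_lit
  0x9a02a205d144) (nat_lit 9568) (nat_lit 0xc6245001d0a9) .nil) (nat_lit 0x9a02a2205d14) (nat_lit 36272)
  (nat_lit 0xaa234001d0a9) (.node .nil (nat_lit 0x9a02a2212945) (nat_lit 28416) (nat_lit 0x8c0e4201d0a9)
  .nil)) (nat_lit 0x9a02a221b01c) (nat_lit 4465) (nat_lit 0xb8419001262d) (.node (.node .nil (nat_lit
  0x9a02a2246158) (nat_lit 2624) (nat_lit 0xf8240201d0a9) .nil) (nat_lit 0x9a02a224f801) (nat_lit 46305)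
  (nat_lit 0xecc04001262d) .nil))) (nat_lit 0x9a02a2251509) (nat_lit 1472) (nat_lit 0xde090001d0a9) (.node
  (.node (.node (.node .nil (nat_lit 0x9a4441011b8c) (nat_lit 29793) (nat_lit 0xb1d40006226a) .nil) (nat_lit
  0x9a44410132b2) (nat_lit 25489) (nat_lit 0xc0d98006226a) (.node .nil (nat_lit 0x9a44410498b4) (nat_lit
  19968) (nat_lit 0xd16140088e1c) .nil)) (nat_lit 0x9a444104b18a) (nat_lit 44720) (nat_lit 0x98ea002610a3)
  (.node (.node .nil (nat_lit 0x9a4441058338) (nat_lit 1041) (nat_lit 0xd0151106226a) .nil) (nat_lit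
  0x9a444105aa06) (nat_lit 46800) (nat_lit 0xd08c48096314) .nil)) (nat_lit 0x9a4441219922) (nat_lit 32337)
  (nat_lit 0xc94c1006226a) (.node (.node (.node .nil (nat_lit 0x9a444121b01c) (nat_lit 12320) (nat_lit
  0xc02f0419c058) .nil) (nat_lit 0x9a4441241a1a) (nat_lit 38736) (nat_lit 0xc94c1010a34c) .nil) (nat_lit
  0x9a4441243324) (nat_lit 35552) (nat_lit 0x80c7502610a3) (.node (.node .nil (nat_lit 0x9a4441250196)
  (nat_lit 14577) (nat_lit 0xa88d0106226a) .nil) (nat_lit 0x9a44412528a8) (nat_lit 9840) (nat_lit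
  0xc8a118114e44) .nil)))) (nat_lit 0x9b30100046e3) (nat_lit 7281) (nat_lit 0xc0d980070447) (.node (.node
  (.node (.node (.node .nil (nat_lit 0x9b3010008dc6) (nat_lit 10256) (nat_lit 0xcb004a003da1) .nil) (nat_lit
  0x9b301000cb25) (nat_lit 32656) (nat_lit 0xecc040003da1) (.node .nil (nat_lit 0x9b30100401ed) (nat_lit
  10993) (nat_lit 0x86cc04382238) .nil)) (nat_lit 0x9b301004470e) (nat_lit 51521) (nat_lit 0x81c843382238)
  (.node (.node .nil (nat_lit 0x9b3010048c2b) (nat_lit 35937) (nat_lit 0xc585020258c5) .nil) (nat_lit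
  0x9b301004cac8) (nat_lit 24129) (nat_lit 0xc28145055c82) .nil)) (nat_lit 0x9b3010200f68) (nat_lit 40000)
  (nat_lit 0xf50018003da1) (.node (.node (.node .nil (nat_lit 0x9b301020498b) (nat_lit 39873) (nat_lit
  0xc508c402d503) .nil) (nat_lit 0x9b30102082ae) (nat_lit 47408) (nat_lit 0xc1c20c003da1) .nil) (nat_lit
  0x9b301020c44d) (nat_lit 27584) (nat_lit 0xe60206003da1) (.node (.node .nil (nat_lit 0x9b3010240e85)
  (nat_lit 37617) (nat_lit 0x831d40382238) .nil) (nat_lit 0x9b3010244866) (nat_lit 1585) (nat_lit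
  0x841907382238) .nil))) (nat_lit 0x9b3010248343) (nat_lit 8561) (nat_lit 0xc05446078981) (.node (.node
  (.node (.node .nil (nat_lit 0x9b301024c5a0) (nat_lit 35089) (nat_lit 0xc75001008dc6) .nil) (nat_lit
  0x9c20c800cb25) (nat_lit 49217) (nat_lit 0x839086046e30) (.node .nil (nat_lit 0x9c20c8010f13) (nat_lit 4848)
  (nat_lit 0xa8b0a0174510) .nil)) (nat_lit 0x9c20c801c436) (nat_lit 36097) (nat_lit 0xa800c7046e30) (.node
  (.node .nil (nat_lit 0x9c20c8021e26) (nat_lit 30256) (nat_lit 0xa8b0a005481d) .nil) (nat_lit 0x9c20c802d503)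
  (nat_lit 16800) (nat_lit 0xa8b0a0164a03) .nil)) (nat_lit 0x9c20c8031135) (nat_lit 51792) (nat_lit
  0xa8b0a0120d0d) (.node (.node (.node .nil (nat_lit 0x9c20c803da10) (nat_lit 22208) (nat_lit 0xa8b0a0010f13)
  .nil) (nat_lit 0x9c20c8205d14) (nat_lit 9984) (nat_lit 0xa8b0a0034349) .nil) (nat_lit 0x9c20c8209631)
  (nat_lit 1440) (nat_lit 0xa8b0a0104157) (.node (.node .nil (nat_lit 0x9c20c8215207) (nat_lit 27297) (nat_lit
  0xb30103046e30) .nil) (nat_lit 0x9c20c8219922) (nat_lit 10032) (nat_lit 0xa8b0a0070447) .nil))))) (nat_lit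
  0x9c20c8224332) (nat_lit 36560) (nat_lit 0xa8b0a0060b54) (.node (.node (.node (.node (.node (.node .nil
  (nat_lit 0x9c20c8228817) (nat_lit 50800) (nat_lit 0xa8b0a015094a) .nil) (nat_lit 0x9c20c8234c21) (nat_lit
  8785) (nat_lit 0xd98081046e30) (.node .nil (nat_lit 0x9c20c8238704) (nat_lit 40624) (nat_lit 0xa8b0a0024c5a)
  .nil)) (nat_lit 0x9c8430007b42) (nat_lit 21249) (nat_lit 0xe24508082ae4) (.node (.node .nil (nat_lit
  0x9c8430011b8c) (nat_lit 34209) (nat_lit 0xb1d400082ae4) .nil) (nat_lit 0x9c84300160ce) (nat_lit 13424)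
  (nat_lit 0xa0e1060c16a8) .nil)) (nat_lit 0x9c8430022387) (nat_lit 50145) (nat_lit 0x838419082ae4) (.node
  (.node (.node .nil (nat_lit 0x9c84300258c5) (nat_lit 50945) (nat_lit 0x96140a082ae4) .nil) (nat_lit
  0x9c843003380b) (nat_lit 23073) (nat_lit 0xc58502082ae4) .nil) (nat_lit 0x9c8430034349) (nat_lit 50257)
  (nat_lit 0xd01511082ae4) (.node (.node .nil (nat_lit 0x9c84302032c9) (nat_lit 2592) (nat_lit 0xe3a8000c16a8)
  .nil) (nat_lit 0x9c843020498b) (nat_lit 27713) (nat_lit 0xf5001802d503) .nil))) (nat_lit 0x9c8430212945)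
  (nat_lit 17632) (nat_lit 0x81c8430c16a8) (.node (.node (.node (.node .nil (nat_lit 0x9c8430215207) (nat_lit
  6801) (nat_lit 0xb30103082ae4) .nil) (nat_lit 0x9c843022114e) (nat_lit 15361) (nat_lit 0x94c109082ae4)
  (.node .nil (nat_lit 0x9c8430226a0c) (nat_lit 37361) (nat_lit 0x81511a082ae4) .nil)) (nat_lit
  0x9c8430230ac2) (nat_lit 41313) (nat_lit 0xd2c012082ae4) (.node (.node .nil (nat_lit 0x9c8430237180)
  (nat_lit 40928) (nat_lit 0xa340540c16a8) .nil) (nat_lit 0x9d4006003da1) (nat_lit 49504) (nat_lit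
  0xe106410851a6) .nil)) (nat_lit 0x9d4006009959) (nat_lit 36433) (nat_lit 0xa02a231ed080) (.node (.node
  (.node .nil (nat_lit 0x9d400600a4f8) (nat_lit 15808) (nat_lit 0xa4a6080851a6) .nil) (nat_lit 0x9d4006023718)
  (nat_lit 51585) (nat_lit 0xa02a2319c058) .nil) (nat_lit 0x9d40060293e0) (nat_lit 32113) (nat_lit
  0xa02a2315848c) (.node (.node .nil (nat_lit 0x9d400602ae41) (nat_lit 36225) (nat_lit 0xa02a230710d8) .nil)
  (nat_lit 0x9d4006200f68) (nat_lit 1393) (nat_lit 0xa02a2305d144) .nil)))) (nat_lit 0x9d40062032c9) (nat_lit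
  1777) (nat_lit 0xa02a23174510) (.node (.node (.node (.node (.node .nil (nat_lit 0x9d4006209631) (nat_lit
  21904) (nat_lit 0xb0a0510851a6) .nil) (nat_lit 0x9d40062205d1) (nat_lit 17840) (nat_lit 0x812a580851a6)
  (.node .nil (nat_lit 0x9d4006223870) (nat_lit 52017) (nat_lit 0xa02a231c111c) .nil)) (nat_lit
  0x9d4006229c88) (nat_lit 21569) (nat_lit 0xa02a231055c8) (.node (.node .nil (nat_lit 0xa0031d055c82)
  (nat_lit 18465) (nat_lit 0x8bc120301c43) .nil) (nat_lit 0xa0031d07b420) (nat_lit 22881) (nat_lit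
  0x8bc1203008dc) .nil)) (nat_lit 0xa0031d08dc60) (nat_lit 2400) (nat_lit 0xd3042408e1c1) (.node (.node (.node
  .nil (nat_lit 0xa0031d0a34c2) (nat_lit 16353) (nat_lit 0x8bc120140659) .nil) (nat_lit 0xa0031d0d80e2)
  (nat_lit 27008) (nat_lit 0xd304240428d3) .nil) (nat_lit 0xa0031d0f6840) (nat_lit 33153) (nat_lit
  0x8bc120241a1a) (.node (.node .nil (nat_lit 0xa0031d14e442) (nat_lit 42993) (nat_lit 0x8bc1200428d3) .nil)
  (nat_lit 0xa0031d160ce0) (nat_lit 45136) (nat_lit 0xd30424007b42) .nil))) (nat_lit 0xa0031d1964a0) (nat_lit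
  22369) (nat_lit 0x8bc120202656) (.node (.node (.node (.node .nil (nat_lit 0xa0031d1b8c02) (nat_lit 14736)
  (nat_lit 0xd30424045391) .nil) (nat_lit 0xa0031d1c3822) (nat_lit 28225) (nat_lit 0x8bc120103a15) (.node .nil
  (nat_lit 0xa0031d1ed080) (nat_lit 48417) (nat_lit 0x8bc120102e8a) .nil)) (nat_lit 0xa0178203886c) (nat_lit
  27472) (nat_lit 0xa0031d0a34c2) (.node (.node .nil (nat_lit 0xa0178205481d) (nat_lit 240) (nat_lit
  0x8a05162032c9) .nil) (nat_lit 0xa0178206c071) (nat_lit 3841) (nat_lit 0xe072100e088e) .nil)) (nat_lit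
  0xa0178209a831) (nat_lit 44193) (nat_lit 0xc4680a118561) (.node (.node (.node .nil (nat_lit 0xa017820a205d)
  (nat_lit 28177) (nat_lit 0x8e4218118561) .nil) (nat_lit 0xa017820ce02c) (nat_lit 32848) (nat_lit
  0x88320e2205d1) .nil) (nat_lit 0xa017820f6840) (nat_lit 44753) (nat_lit 0xca6084118561) (.node (.node .nil
  (nat_lit 0xa01782106869) (nat_lit 40513) (nat_lit 0xe80a88067016) .nil) (nat_lit 0xa0178213e005) (nat_lit
  34368) (nat_lit 0xa81458022387) .nil))))))
def tt3360_15 : T := (.node (.node (.node (.node (.node (.node (.node .nil (nat_lit 0xa0178216a818) (nat_lit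
  10448) (nat_lit 0x88269122114e) .nil) (nat_lit 0xa0178219c058) (nat_lit 14689) (nat_lit 0xc2181c118561)
  (.node .nil (nat_lit 0xa017821a4834) (nat_lit 4112) (nat_lit 0xaa234000149f) .nil)) (nat_lit 0xa017821c8845)
  (nat_lit 30640) (nat_lit 0x80254b2a1294) (.node (.node .nil (nat_lit 0xa017821f0029) (nat_lit 33872)
  (nat_lit 0x8a1189202656) .nil) (nat_lit 0xa02a2305d144) (nat_lit 688) (nat_lit 0x8494c1380b06) .nil))
  (nat_lit 0xa02a230710d8) (nat_lit 23440) (nat_lit 0xa88d011412c6) (.node (.node (.node .nil (nat_lit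
  0xa02a230c44d4) (nat_lit 19664) (nat_lit 0x900bc12c9406) .nil) (nat_lit 0xa02a230e8548) (nat_lit 42257)
  (nat_lit 0xf82402031135) (.node .nil (nat_lit 0xa02a231055c8) (nat_lit 12305) (nat_lit 0xe80a88031135)
  .nil)) (nat_lit 0xa02a23129454) (nat_lit 50560) (nat_lit 0x989142240e85) (.node (.node .nil (nat_lit
  0xa02a2315848c) (nat_lit 19953) (nat_lit 0xa06cc0031135) .nil) (nat_lit 0xa02a23174510) (nat_lit 880)
  (nat_lit 0xa09a441c0583) .nil))) (nat_lit 0xa02a2319c058) (nat_lit 43488) (nat_lit 0xa017821c8845) (.node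
  (.node (.node (.node .nil (nat_lit 0xa02a231b01c4) (nat_lit 16065) (nat_lit 0xa4a608031135) .nil) (nat_lit
  0xa02a231c111c) (nat_lit 44705) (nat_lit 0x98ea00031135) (.node .nil (nat_lit 0xa02a231ed080) (nat_lit
  23568) (nat_lit 0xb40544089a83) .nil)) (nat_lit 0xa05161032c94) (nat_lit 32032) (nat_lit 0x8952c004a515)
  (.node (.node .nil (nat_lit 0xa0516105aa06) (nat_lit 43697) (nat_lit 0xa11891168126) .nil) (nat_lit
  0xa05161068692) (nat_lit 8928) (nat_lit 0x8031d40dc601) .nil)) (nat_lit 0xa05161088e1c) (nat_lit 38016)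
  (nat_lit 0x85161408e1c1) (.node (.node (.node .nil (nat_lit 0xa051610ba288) (nat_lit 26608) (nat_lit
  0x81b3010c44d4) .nil) (nat_lit 0xa051610d241a) (nat_lit 11344) (nat_lit 0x8c75000182d5) .nil) (nat_lit
  0xa05161102e8a) (nat_lit 26017) (nat_lit 0xe80a88017451) (.node (.node .nil (nat_lit 0xa0516115848c)
  (nat_lit 34080) (nat_lit 0x8c8384017451) .nil) (nat_lit 0xa0516116a818) (nat_lit 49712) (nat_lit
  0x88269105d144) .nil)))) (nat_lit 0xa0516118a096) (nat_lit 11585) (nat_lit 0x882691168126) (.node (.node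
  (.node (.node (.node .nil (nat_lit 0xa051611b8c02) (nat_lit 4176) (nat_lit 0x89a444045391) .nil) (nat_lit
  0xa051611e2604) (nat_lit 28976) (nat_lit 0x80c7500d3085) (.node .nil (nat_lit 0xa06cc0031135) (nat_lit
  11264) (nat_lit 0x8952c0120d0d) .nil)) (nat_lit 0xa06cc0058338) (nat_lit 24272) (nat_lit 0x9907080258c5)
  (.node (.node .nil (nat_lit 0xa06cc006920d) (nat_lit 17568) (nat_lit 0x8b0a051055c8) .nil) (nat_lit
  0xa06cc009810f) (nat_lit 28305) (nat_lit 0xa2c281041572) .nil)) (nat_lit 0xa06cc00a903a) (nat_lit 37153)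
  (nat_lit 0xe3a800041572) (.node (.node (.node .nil (nat_lit 0xa06cc00c0237) (nat_lit 50864) (nat_lit
  0x900bc10b540c) .nil) (nat_lit 0xa06cc00f1302) (nat_lit 50721) (nat_lit 0xca6084041572) .nil) (nat_lit
  0xa06cc010132b) (nat_lit 23953) (nat_lit 0xe80a88041572) (.node (.node .nil (nat_lit 0xa06cc013021e)
  (nat_lit 18272) (nat_lit 0x8145851a1a48) .nil) (nat_lit 0xa06cc0159013) (nat_lit 24369) (nat_lit
  0xc1c20c041572) .nil))) (nat_lit 0xa06cc0168126) (nat_lit 31121) (nat_lit 0x80a88d041572) (.node (.node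
  (.node (.node .nil (nat_lit 0xa06cc0199224) (nat_lit 37729) (nat_lit 0xb12284041572) .nil) (nat_lit
  0xa06cc01a8311) (nat_lit 6481) (nat_lit 0xf04805041572) (.node .nil (nat_lit 0xa06cc01c111c) (nat_lit 46832)
  (nat_lit 0x981c84034349) .nil)) (nat_lit 0xa06cc01f0029) (nat_lit 49936) (nat_lit 0x8a1189114e44) (.node
  (.node .nil (nat_lit 0xa09a440305aa) (nat_lit 31345) (nat_lit 0x9511a020c44d) .nil) (nat_lit 0xa09a44056123)
  (nat_lit 30913) (nat_lit 0x9511a0228817) .nil)) (nat_lit 0xa09a44066489) (nat_lit 34833) (nat_lit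
  0x9511a0024c5a) (.node (.node (.node .nil (nat_lit 0xa09a44084539) (nat_lit 43169) (nat_lit 0x9511a00ac246)
  .nil) (nat_lit 0xa09a440b4093) (nat_lit 28000) (nat_lit 0x9c20c802d503) .nil) (nat_lit 0xa09a440d241a)
  (nat_lit 8977) (nat_lit 0x9511a0284a51) (.node (.node .nil (nat_lit 0xa09a440e21b0) (nat_lit 47120) (nat_lit
  0x8641c218b409) .nil) (nat_lit 0xa09a44112199) (nat_lit 27265) (nat_lit 0x9511a02ae410) .nil))))) (nat_lit
  0xa09a44122433) (nat_lit 42720) (nat_lit 0x989142066489) (.node (.node (.node (.node (.node (.node .nil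
  (nat_lit 0xa09a441440ba) (nat_lit 45857) (nat_lit 0x9511a0086c07) .nil) (nat_lit 0xa09a44174510) (nat_lit
  18817) (nat_lit 0x9511a028a84a) (.node .nil (nat_lit 0xa09a441964a0) (nat_lit 24513) (nat_lit
  0x9511a0202656) .nil)) (nat_lit 0xa09a441a610a) (nat_lit 4640) (nat_lit 0x9070830e8548) (.node (.node .nil
  (nat_lit 0xa09a441c0583) (nat_lit 432) (nat_lit 0x80254b1ed080) .nil) (nat_lit 0xa09a441f0029) (nat_lit
  19584) (nat_lit 0x8a118914e442) .nil)) (nat_lit 0xa0c838081745) (nat_lit 52417) (nat_lit 0x9782400851a6)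
  (.node (.node (.node .nil (nat_lit 0xa0c8380a34c2) (nat_lit 46673) (nat_lit 0xe3a8000851a6) .nil) (nat_lit
  0xa0c8380d3085) (nat_lit 11136) (nat_lit 0xc0063a0ab904) .nil) (nat_lit 0xa0c8380f1302) (nat_lit 37905)
  (nat_lit 0xc624500851a6) (.node (.node .nil (nat_lit 0xa0c838113506) (nat_lit 21921) (nat_lit
  0xb0a0510851a6) .nil) (nat_lit 0xa0c838131681) (nat_lit 25377) (nat_lit 0xc48a110851a6) .nil))) (nat_lit
  0xa0c8381412c6) (nat_lit 30464) (nat_lit 0xc0063a163141) (.node (.node (.node (.node .nil (nat_lit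
  0xa0c838163141) (nat_lit 49521) (nat_lit 0xe106410851a6) .nil) (nat_lit 0xa0c838192243) (nat_lit 41504)
  (nat_lit 0xc0063a1c8845) (.node .nil (nat_lit 0xa0c8381b01c4) (nat_lit 4352) (nat_lit 0xc0063a0f6840) .nil))
  (nat_lit 0xa0c8381c0583) (nat_lit 38080) (nat_lit 0xc0063a1ed080) (.node (.node .nil (nat_lit
  0xa0c8381e2604) (nat_lit 17857) (nat_lit 0x812a580851a6) .nil) (nat_lit 0xa0e106051a61) (nat_lit 40752)
  (nat_lit 0x8494c12b0918) .nil)) (nat_lit 0xa0e1060710d8) (nat_lit 9184) (nat_lit 0xa88d010710d8) (.node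
  (.node (.node .nil (nat_lit 0xa0e106090cc9) (nat_lit 35840) (nat_lit 0xa69110090cc9) .nil) (nat_lit
  0xa0e1060b0670) (nat_lit 20689) (nat_lit 0x8081b32d024c) .nil) (nat_lit 0xa0e1060c16a8) (nat_lit 7328)
  (nat_lit 0x8d98082205d1) (.node (.node .nil (nat_lit 0xa0e1060e1c11) (nat_lit 15169) (nat_lit
  0x8081b31a1a48) .nil) (nat_lit 0xa0e106111c38) (nat_lit 36128) (nat_lit 0x840d982b9041) .nil)))) (nat_lit
  0xa0e106131681) (nat_lit 13137) (nat_lit 0x8081b3332448) (.node (.node (.node (.node (.node .nil (nat_lit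
  0xa0e106140659) (nat_lit 23824) (nat_lit 0xaf0480009959) .nil) (nat_lit 0xa0e106160ce0) (nat_lit 24160)
  (nat_lit 0x831d402c8099) (.node .nil (nat_lit 0xa0e1061810f1) (nat_lit 37585) (nat_lit 0x8081b31e2604)
  .nil)) (nat_lit 0xa0e1061a1a48) (nat_lit 30321) (nat_lit 0x8081b3157208) (.node (.node .nil (nat_lit
  0xa10c0e0293e0) (nat_lit 16112) (nat_lit 0xc441340a34c2) .nil) (nat_lit 0xa10c0e045391) (nat_lit 7985)
  (nat_lit 0xa051611b8c02) .nil)) (nat_lit 0xa10c0e08e1c1) (nat_lit 16161) (nat_lit 0xa05161068692) (.node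
  (.node (.node .nil (nat_lit 0xa10c0e0e21b0) (nat_lit 40064) (nat_lit 0xc4413418b409) .nil) (nat_lit
  0xa10c0e10f130) (nat_lit 20433) (nat_lit 0xa0516118a096) .nil) (nat_lit 0xa10c0e1262d0) (nat_lit 20065)
  (nat_lit 0xa051610d241a) (.node (.node .nil (nat_lit 0xa10c0e14a2a1) (nat_lit 44785) (nat_lit
  0xa05161032c94) .nil) (nat_lit 0xa10c0e163141) (nat_lit 53457) (nat_lit 0xa0516116a818) .nil))) (nat_lit
  0xa10c0e1810f1) (nat_lit 42113) (nat_lit 0xa051611e2604) (.node (.node (.node (.node .nil (nat_lit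
  0xa10c0e1a8311) (nat_lit 21744) (nat_lit 0xc44134131681) .nil) (nat_lit 0xa10c0e1c4360) (nat_lit 40032)
  (nat_lit 0xc4413402ae41) (.node .nil (nat_lit 0xa10c0e1ed080) (nat_lit 38977) (nat_lit 0xa05161102e8a)
  .nil)) (nat_lit 0xa11891026564) (nat_lit 15024) (nat_lit 0x8952c034200f) (.node (.node .nil (nat_lit
  0xa1189104470e) (nat_lit 3488) (nat_lit 0x9d40062032c9) .nil) (nat_lit 0xa1189106226a) (nat_lit 51056)
  (nat_lit 0xa960091412c6) .nil)) (nat_lit 0xa1189108a722) (nat_lit 17025) (nat_lit 0xc4680a0182d5) (.node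
  (.node (.node .nil (nat_lit 0xa118910ac246) (nat_lit 35041) (nat_lit 0x85028b3a1520) .nil) (nat_lit
  0xa118910ce02c) (nat_lit 33744) (nat_lit 0x88320e3540c1) .nil) (nat_lit 0xa118910e8548) (nat_lit 48048)
  (nat_lit 0xbc12010160ce) (.node (.node .nil (nat_lit 0xa1189110a34c) (nat_lit 4433) (nat_lit 0x85e0903a1520)
  .nil) (nat_lit 0xa1189112c628) (nat_lit 27456) (nat_lit 0x85028b387044) .nil))))))
def tt3360_16 : T := (.node (.node (.node (.node (.node (.node (.node .nil (nat_lit 0xa11891168126) (nat_lit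
  30848) (nat_lit 0xa5304218428d) .nil) (nat_lit 0xa1189118046e) (nat_lit 16080) (nat_lit 0xa4508c192243)
  (.node .nil (nat_lit 0xa118911a610a) (nat_lit 46945) (nat_lit 0xc508c400e21b) .nil)) (nat_lit
  0xa118911c4360) (nat_lit 15265) (nat_lit 0xc040d905aa06) (.node (.node .nil (nat_lit 0xa118911e2604)
  (nat_lit 18161) (nat_lit 0x812a583a1520) .nil) (nat_lit 0xa125300258c5) (nat_lit 29568) (nat_lit
  0x8952c0228817) .nil)) (nat_lit 0xa1253004cac8) (nat_lit 47984) (nat_lit 0xa982120258c5) (.node (.node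
  (.node .nil (nat_lit 0xa1253006920d) (nat_lit 10816) (nat_lit 0x8b0a0520d0d2) .nil) (nat_lit 0xa12530089a83)
  (nat_lit 16416) (nat_lit 0xa800c703da10) (.node .nil (nat_lit 0xa125300ac246) (nat_lit 5456) (nat_lit
  0x8a88d0215207) .nil)) (nat_lit 0xa125300c504b) (nat_lit 45984) (nat_lit 0xaa58020182d5) (.node (.node .nil
  (nat_lit 0xa125300e088e) (nat_lit 5616) (nat_lit 0x88d015230ac2) .nil) (nat_lit 0xa1253010d80e) (nat_lit
  52992) (nat_lit 0x804a962b9041) .nil))) (nat_lit 0xa125301280cb) (nat_lit 9265) (nat_lit 0xd11a02066489)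
  (.node (.node (.node (.node .nil (nat_lit 0xa125301412c6) (nat_lit 26832) (nat_lit 0x82125329c884) .nil)
  (nat_lit 0xa12530164a03) (nat_lit 1297) (nat_lit 0xd4468003380b) (.node .nil (nat_lit 0xa1253018428d)
  (nat_lit 53649) (nat_lit 0x836602288174) .nil)) (nat_lit 0xa125301a1a48) (nat_lit 47184) (nat_lit
  0xa118910ac246) (.node (.node .nil (nat_lit 0xa125301c8845) (nat_lit 14337) (nat_lit 0x863a80288174) .nil)
  (nat_lit 0xa125301ed080) (nat_lit 40464) (nat_lit 0xa34054089a83) .nil)) (nat_lit 0xa181c8021e26) (nat_lit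
  17489) (nat_lit 0x91104d24c5a0) (.node (.node (.node .nil (nat_lit 0xa181c8046e30) (nat_lit 41200) (nat_lit
  0xf083200258c5) .nil) (nat_lit 0xa181c8067016) (nat_lit 53104) (nat_lit 0xf083200710d8) .nil) (nat_lit
  0xa181c8086c07) (nat_lit 37536) (nat_lit 0xf08320067016) (.node (.node .nil (nat_lit 0xa181c80a7221)
  (nat_lit 51536) (nat_lit 0xf0832003380b) .nil) (nat_lit 0xa181c80c0237) (nat_lit 32081) (nat_lit
  0x8b0a0524c5a0) .nil)))) (nat_lit 0xa181c80e1c11) (nat_lit 25888) (nat_lit 0xf083200160ce) (.node (.node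
  (.node (.node (.node .nil (nat_lit 0xa181c8103a15) (nat_lit 18064) (nat_lit 0xf08320032c94) .nil) (nat_lit
  0xa181c8122433) (nat_lit 39472) (nat_lit 0xf08320066489) (.node .nil (nat_lit 0xa181c8145425) (nat_lit
  33632) (nat_lit 0xf08320017451) .nil)) (nat_lit 0xa181c8164a03) (nat_lit 51488) (nat_lit 0xf08320043c4c)
  (.node (.node .nil (nat_lit 0xa181c8185612) (nat_lit 5872) (nat_lit 0xf08320055c82) .nil) (nat_lit
  0xa181c81a4834) (nat_lit 32400) (nat_lit 0xf0832000149f) .nil)) (nat_lit 0xa181c81c3822) (nat_lit 27872)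
  (nat_lit 0xf08320070447) (.node (.node (.node .nil (nat_lit 0xa181c81e2604) (nat_lit 2833) (nat_lit
  0x812a5824c5a0) .nil) (nat_lit 0xa209a4017451) (nat_lit 11712) (nat_lit 0x8952c0262d02) .nil) (nat_lit
  0xa209a401964a) (nat_lit 15056) (nat_lit 0xa54b000a34c2) (.node (.node .nil (nat_lit 0xa209a40d241a)
  (nat_lit 19776) (nat_lit 0x8c7500230ac2) .nil) (nat_lit 0xa209a40dc601) (nat_lit 46257) (nat_lit
  0x80952c230ac2) .nil))) (nat_lit 0xa209a4140659) (nat_lit 833) (nat_lit 0x80952c0f6840) (.node (.node (.node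
  (.node .nil (nat_lit 0xa209a414e442) (nat_lit 6209) (nat_lit 0x80952c0428d3) .nil) (nat_lit 0xa209a4157208)
  (nat_lit 5793) (nat_lit 0x80952c316812) (.node .nil (nat_lit 0xa209a4159013) (nat_lit 31856) (nat_lit
  0xa530420a4f80) .nil)) (nat_lit 0xa209a4185612) (nat_lit 7104) (nat_lit 0xaa2340055c82) (.node (.node .nil
  (nat_lit 0xa209a418b409) (nat_lit 35665) (nat_lit 0x80952c1262d0) .nil) (nat_lit 0xa209a4192243) (nat_lit
  27441) (nat_lit 0x80952c272211) .nil)) (nat_lit 0xa209a419c058) (nat_lit 31073) (nat_lit 0x80952c2c6282)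
  (.node (.node (.node .nil (nat_lit 0xa2209a051a61) (nat_lit 2048) (nat_lit 0xc0e4211412c6) .nil) (nat_lit
  0xa2209a05d144) (nat_lit 6496) (nat_lit 0xc0e4210710d8) .nil) (nat_lit 0xa2209a081745) (nat_lit 42784)
  (nat_lit 0xc0e4210803da) (.node (.node .nil (nat_lit 0xa2209a08dc60) (nat_lit 7441) (nat_lit 0xe3a800084539)
  .nil) (nat_lit 0xa2209a0d0d24) (nat_lit 51441) (nat_lit 0xa09a44084539) .nil))))) (nat_lit 0xa2209a0dc601)
  (nat_lit 29505) (nat_lit 0xd4b004084539) (.node (.node (.node (.node (.node (.node .nil (nat_lit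
  0xa2209a114e44) (nat_lit 37649) (nat_lit 0xa53042084539) .nil) (nat_lit 0xa2209a118561) (nat_lit 31312)
  (nat_lit 0xc0e421091856) (.node .nil (nat_lit 0xa2209a195901) (nat_lit 52881) (nat_lit 0xc508c4084539)
  .nil)) (nat_lit 0xa2209a199224) (nat_lit 18177) (nat_lit 0xb12284084539) (.node (.node .nil (nat_lit
  0xa2209a1c4360) (nat_lit 38448) (nat_lit 0xc0e421060b54) .nil) (nat_lit 0xa2209a1c8845) (nat_lit 7569)
  (nat_lit 0x863a80084539) .nil)) (nat_lit 0xa234050149f0) (nat_lit 32544) (nat_lit 0x8952c030851a) (.node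
  (.node (.node .nil (nat_lit 0xa2340504cac8) (nat_lit 2304) (nat_lit 0xa982121055c8) .nil) (nat_lit
  0xa23405058338) (nat_lit 36625) (nat_lit 0x92017829c884) .nil) (nat_lit 0xa234050803da) (nat_lit 42912)
  (nat_lit 0xb1d4000803da) (.node (.node .nil (nat_lit 0xa234050cc912) (nat_lit 1553) (nat_lit 0x920178089a83)
  .nil) (nat_lit 0xa234050d80e2) (nat_lit 24193) (nat_lit 0x920178240e85) .nil))) (nat_lit 0xa23405108a72)
  (nat_lit 49601) (nat_lit 0x9201780d3085) (.node (.node (.node (.node .nil (nat_lit 0xa2340511c382) (nat_lit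
  36321) (nat_lit 0x92017821a483) .nil) (nat_lit 0xa2340515094a) (nat_lit 6560) (nat_lit 0xb8419001964a)
  (.node .nil (nat_lit 0xa234051889a8) (nat_lit 37009) (nat_lit 0x92017800f684) .nil)) (nat_lit
  0xa2340519c058) (nat_lit 25184) (nat_lit 0xa0178219c058) (.node (.node .nil (nat_lit 0xa234051c4360)
  (nat_lit 51040) (nat_lit 0x80c75039108a) .nil) (nat_lit 0xa28462011b8c) (nat_lit 52448) (nat_lit
  0x9189140a34c2) .nil)) (nat_lit 0xa28462045391) (nat_lit 8113) (nat_lit 0xe072100401ed) (.node (.node (.node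
  .nil (nat_lit 0xa28462087898) (nat_lit 22336) (nat_lit 0x80bc121b01c4) .nil) (nat_lit 0xa28462096314)
  (nat_lit 45344) (nat_lit 0x8a88d0113506) .nil) (nat_lit 0xa284620c2b09) (nat_lit 18304) (nat_lit
  0x9b3010008dc6) (.node (.node .nil (nat_lit 0xa284620d3085) (nat_lit 41681) (nat_lit 0xb20e100401ed) .nil)
  (nat_lit 0xa28462103a15) (nat_lit 19553) (nat_lit 0x9b30100401ed) .nil)))) (nat_lit 0xa28462112199) (nat_lit
  6912) (nat_lit 0x92a580091856) (.node (.node (.node (.node (.node .nil (nat_lit 0xa28462146984) (nat_lit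
  49809) (nat_lit 0x80bc120401ed) .nil) (nat_lit 0xa28462157208) (nat_lit 5488) (nat_lit 0x892982129454)
  (.node .nil (nat_lit 0xa28462195901) (nat_lit 1233) (nat_lit 0xc94c100401ed) .nil)) (nat_lit 0xa284621c111c)
  (nat_lit 44177) (nat_lit 0x98ea000401ed) (.node (.node .nil (nat_lit 0xa2c281041572) (nat_lit 17121)
  (nat_lit 0xe072100305aa) .nil) (nat_lit 0xa2c281043c4c) (nat_lit 48561) (nat_lit 0x9458500305aa) .nil))
  (nat_lit 0xa2c281091856) (nat_lit 17872) (nat_lit 0x9c20c8205d14) (.node (.node (.node .nil (nat_lit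
  0xa2c281093168) (nat_lit 41569) (nat_lit 0xc838410305aa) .nil) (nat_lit 0xa2c2810d0d24) (nat_lit 44241)
  (nat_lit 0xa09a440305aa) .nil) (nat_lit 0xa2c2810d241a) (nat_lit 26081) (nat_lit 0xd4b0040305aa) (.node
  (.node .nil (nat_lit 0xa2c281111c38) (nat_lit 10433) (nat_lit 0xc48a110305aa) .nil) (nat_lit 0xa2c281113506)
  (nat_lit 8753) (nat_lit 0xb0a0510305aa) .nil))) (nat_lit 0xa2c28115094a) (nat_lit 12849) (nat_lit
  0xd802540305aa) (.node (.node (.node (.node .nil (nat_lit 0xa2c281152074) (nat_lit 21936) (nat_lit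
  0x94585028258c) .nil) (nat_lit 0xa2c2811c111c) (nat_lit 9744) (nat_lit 0x981c84246158) (.node .nil (nat_lit
  0xa2c2811c3822) (nat_lit 41344) (nat_lit 0xb40544087898) .nil)) (nat_lit 0xa31228008dc6) (nat_lit 19104)
  (nat_lit 0xc109290a34c2) (.node (.node .nil (nat_lit 0xa312280428d3) (nat_lit 21409) (nat_lit
  0xc0a2c20e1c11) .nil) (nat_lit 0xa3122804a515) (nat_lit 10705) (nat_lit 0x8a88d031412c) .nil)) (nat_lit
  0xa3122808e1c1) (nat_lit 50192) (nat_lit 0xc109290c44d4) (.node (.node (.node .nil (nat_lit 0xa312280c44d4)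
  (nat_lit 21057) (nat_lit 0x8c0e4231412c) .nil) (nat_lit 0xa312280cc912) (nat_lit 14192) (nat_lit
  0xc10929185612) .nil) (nat_lit 0xa3122810cc91) (nat_lit 48065) (nat_lit 0xc48a110a34c2) (.node (.node .nil
  (nat_lit 0xa31228146984) (nat_lit 47489) (nat_lit 0x80bc1231412c) .nil) (nat_lit 0xa3122814e442) (nat_lit
  16448) (nat_lit 0xc10929129454) .nil))))))
def tt3360_17 : T := (.node (.node (.node (.node (.node (.node (.node .nil (nat_lit 0xa312281c0583) (nat_lit
  3024) (nat_lit 0xc109291ed080) .nil) (nat_lit 0xa312281c8845) (nat_lit 33968) (nat_lit 0xc1092914e442)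
  (.node .nil (nat_lit 0xa34054003da1) (nat_lit 44464) (nat_lit 0x8952c016a818) .nil)) (nat_lit
  0xa3405404b18a) (nat_lit 52913) (nat_lit 0xac012a10cc91) (.node (.node .nil (nat_lit 0xa34054089a83)
  (nat_lit 27361) (nat_lit 0xac012a131681) .nil) (nat_lit 0xa3405408a722) (nat_lit 1137) (nat_lit
  0xac012a0182d5) .nil)) (nat_lit 0xa340540c16a8) (nat_lit 27745) (nat_lit 0xac012a114e44) (.node (.node
  (.node .nil (nat_lit 0xa340540c2b09) (nat_lit 14657) (nat_lit 0xac012a03da10) .nil) (nat_lit 0xa34054102e8a)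
  (nat_lit 41376) (nat_lit 0x85e0901a1a48) (.node .nil (nat_lit 0xa3405414a2a1) (nat_lit 49568) (nat_lit
  0x9458500ba288) .nil)) (nat_lit 0xa340541889a8) (nat_lit 52576) (nat_lit 0x9092980f6840) (.node (.node .nil
  (nat_lit 0xa3405418b409) (nat_lit 23345) (nat_lit 0xac012a1262d0) .nil) (nat_lit 0xa340541c0583) (nat_lit
  40672) (nat_lit 0x812a581ed080) .nil))) (nat_lit 0xa340541c3822) (nat_lit 28752) (nat_lit 0x978240087898)
  (.node (.node (.node (.node .nil (nat_lit 0xa402f001ed08) (nat_lit 1809) (nat_lit 0xd222090d0d24) .nil)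
  (nat_lit 0xa402f002d503) (nat_lit 28817) (nat_lit 0xe072100d0d24) (.node .nil (nat_lit 0xa402f003380b)
  (nat_lit 15793) (nat_lit 0xc0a2c20d0d24) .nil)) (nat_lit 0xa402f0086c07) (nat_lit 44481) (nat_lit
  0x8212530d0d24) (.node (.node .nil (nat_lit 0xa402f009810f) (nat_lit 46704) (nat_lit 0x9253040428d3) .nil)
  (nat_lit 0xa402f00ab904) (nat_lit 48609) (nat_lit 0x9092980d0d24) .nil)) (nat_lit 0xa402f00b540c) (nat_lit
  51665) (nat_lit 0xb0424a0d0d24) (.node (.node (.node .nil (nat_lit 0xa402f010d80e) (nat_lit 49584) (nat_lit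
  0x804a96163141) .nil) (nat_lit 0xa402f0113506) (nat_lit 30496) (nat_lit 0x821253146984) .nil) (nat_lit
  0xa402f0120d0d) (nat_lit 30288) (nat_lit 0x960095007b42) (.node (.node .nil (nat_lit 0xa402f013e005)
  (nat_lit 37264) (nat_lit 0x945850022387) .nil) (nat_lit 0xa402f018b409) (nat_lit 27329) (nat_lit
  0xe0900b0d0d24) .nil)))) (nat_lit 0xa402f0195901) (nat_lit 23888) (nat_lit 0x846245121992) (.node (.node
  (.node (.node (.node .nil (nat_lit 0xa402f01a610a) (nat_lit 14416) (nat_lit 0x907083060b54) .nil) (nat_lit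
  0xa402f01b8c02) (nat_lit 1056) (nat_lit 0x922846045391) (.node .nil (nat_lit 0xa44413011b8c) (nat_lit 9120)
  (nat_lit 0x9189142032c9) .nil)) (nat_lit 0xa444130293e0) (nat_lit 1265) (nat_lit 0xe072100a0963) (.node
  (.node .nil (nat_lit 0xa44413082ae4) (nat_lit 18545) (nat_lit 0x8516140a0963) .nil) (nat_lit 0xa44413093168)
  (nat_lit 22401) (nat_lit 0xc134880a0963) .nil)) (nat_lit 0xa444130ab904) (nat_lit 29712) (nat_lit
  0xa181c8103a15) (.node (.node (.node .nil (nat_lit 0xa444130ba288) (nat_lit 35873) (nat_lit 0xd4b0040a0963)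
  .nil) (nat_lit 0xa4441310a34c) (nat_lit 51697) (nat_lit 0x85e0900a0963) .nil) (nat_lit 0xa44413132b20)
  (nat_lit 40368) (nat_lit 0xa09a44112199) (.node (.node .nil (nat_lit 0xa444131889a8) (nat_lit 50369)
  (nat_lit 0xf5001800f684) .nil) (nat_lit 0xa44413199224) (nat_lit 31249) (nat_lit 0xb122840a0963) .nil)))
  (nat_lit 0xa444131a1a48) (nat_lit 8352) (nat_lit 0xa1189110a34c) (.node (.node (.node (.node .nil (nat_lit
  0xa444131b01c4) (nat_lit 38305) (nat_lit 0xa4a6080a0963) .nil) (nat_lit 0xa4508c010f13) (nat_lit 38272)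
  (nat_lit 0xc88826174510) (.node .nil (nat_lit 0xa4508c02ae41) (nat_lit 41153) (nat_lit 0x904d220710d8)
  .nil)) (nat_lit 0xa4508c03a152) (nat_lit 26896) (nat_lit 0xc888260710d8) (.node (.node .nil (nat_lit
  0xa4508c08a722) (nat_lit 39633) (nat_lit 0x904d220182d5) .nil) (nat_lit 0xa4508c09a831) (nat_lit 51985)
  (nat_lit 0x904d222a1294) .nil)) (nat_lit 0xa4508c0b0670) (nat_lit 20017) (nat_lit 0x904d222d024c) (.node
  (.node (.node .nil (nat_lit 0xa4508c108a72) (nat_lit 23217) (nat_lit 0x904d220d3085) .nil) (nat_lit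
  0xa4508c118561) (nat_lit 50080) (nat_lit 0xc88826017451) .nil) (nat_lit 0xa4508c132b20) (nat_lit 38785)
  (nat_lit 0x904d2221b01c) (.node (.node .nil (nat_lit 0xa4508c192243) (nat_lit 8896) (nat_lit 0xc88826140659)
  .nil) (nat_lit 0xa4508c1a8311) (nat_lit 50048) (nat_lit 0xc88826131681) .nil))))) (nat_lit 0xa4508c1b8c02)
  (nat_lit 12416) (nat_lit 0xc88826045391) (.node (.node (.node (.node (.node (.node .nil (nat_lit
  0xa4a6080149f0) (nat_lit 31761) (nat_lit 0xd222090149f0) .nil) (nat_lit 0xa4a6080258c5) (nat_lit 30112)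
  (nat_lit 0xcd22201055c8) (.node .nil (nat_lit 0xa4a608031135) (nat_lit 8881) (nat_lit 0xba800c0149f0) .nil))
  (nat_lit 0xa4a6080851a6) (nat_lit 8704) (nat_lit 0xcd222010d80e) (.node (.node .nil (nat_lit 0xa4a608091856)
  (nat_lit 35009) (nat_lit 0xbc12010149f0) .nil) (nat_lit 0xa4a6080a0963) (nat_lit 25313) (nat_lit
  0xf824020149f0) .nil)) (nat_lit 0xa4a6080b4093) (nat_lit 52657) (nat_lit 0xd4b0040149f0) (.node (.node
  (.node .nil (nat_lit 0xa4a608104157) (nat_lit 912) (nat_lit 0xcd2220009959) .nil) (nat_lit 0xa4a6081108a7)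
  (nat_lit 45217) (nat_lit 0xa234050149f0) .nil) (nat_lit 0xa4a608121992) (nat_lit 41489) (nat_lit
  0xe602060149f0) (.node (.node .nil (nat_lit 0xa4a608135062) (nat_lit 17504) (nat_lit 0xcd2220129454) .nil)
  (nat_lit 0xa4a6081810f1) (nat_lit 30801) (nat_lit 0xe0900b0149f0) .nil))) (nat_lit 0xa4a608195901) (nat_lit
  43920) (nat_lit 0xcd2220121992) (.node (.node (.node (.node .nil (nat_lit 0xa4a6081a4834) (nat_lit 13553)
  (nat_lit 0x88320e0149f0) .nil) (nat_lit 0xa4a6081b01c4) (nat_lit 44577) (nat_lit 0xa4a6080149f0) (.node .nil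
  (nat_lit 0xa5304200cb25) (nat_lit 37184) (nat_lit 0x8494c113021e) .nil)) (nat_lit 0xa53042020ab9) (nat_lit
  53504) (nat_lit 0x8384191412c6) (.node (.node .nil (nat_lit 0xa5304202c19c) (nat_lit 50096) (nat_lit
  0x9086070710d8) .nil) (nat_lit 0xa53042084539) (nat_lit 24593) (nat_lit 0xc134880ac246) .nil)) (nat_lit
  0xa53042088e1c) (nat_lit 16528) (nat_lit 0x8516141280cb) (.node (.node (.node .nil (nat_lit 0xa530420a4f80)
  (nat_lit 19761) (nat_lit 0xca608401964a) .nil) (nat_lit 0xa530420a84a5) (nat_lit 28609) (nat_lit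
  0x8206cc340931) .nil) (nat_lit 0xa530421007b4) (nat_lit 35152) (nat_lit 0x82125315848c) (.node (.node .nil
  (nat_lit 0xa5304210cc91) (nat_lit 53712) (nat_lit 0x91104d068692) .nil) (nat_lit 0xa53042120d0d) (nat_lit
  2737) (nat_lit 0x82f048340931) .nil)))) (nat_lit 0xa5304212c628) (nat_lit 26864) (nat_lit 0x85028b129454)
  (.node (.node (.node (.node (.node .nil (nat_lit 0xa5304218428d) (nat_lit 18913) (nat_lit 0x836602340931)
  .nil) (nat_lit 0xa530421889a8) (nat_lit 51393) (nat_lit 0xcb004a00f684) (.node .nil (nat_lit 0xa530421a4834)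
  (nat_lit 29056) (nat_lit 0x97824000149f) .nil)) (nat_lit 0xa530421a8311) (nat_lit 3920) (nat_lit
  0x84805e131681) (.node (.node .nil (nat_lit 0xa54b0000149f) (nat_lit 8080) (nat_lit 0x86cc042032c9) .nil)
  (nat_lit 0xa54b0000a4f8) (nat_lit 11873) (nat_lit 0xd222090c44d4) .nil)) (nat_lit 0xa54b0000b067) (nat_lit
  6113) (nat_lit 0x960095219922) (.node (.node (.node .nil (nat_lit 0xa54b000a205d) (nat_lit 4512) (nat_lit
  0xa2340504cac8) .nil) (nat_lit 0xa54b000a34c2) (nat_lit 8273) (nat_lit 0xca6084140659) .nil) (nat_lit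
  0xa54b000a84a5) (nat_lit 6369) (nat_lit 0x8206cc219922) (.node (.node .nil (nat_lit 0xa54b000a903a) (nat_lit
  48896) (nat_lit 0x805e0926a0c4) .nil) (nat_lit 0xa54b00122433) (nat_lit 42545) (nat_lit 0xd446800a205d)
  .nil))) (nat_lit 0xa54b001230ac) (nat_lit 39409) (nat_lit 0x90641c219922) (.node (.node (.node (.node .nil
  (nat_lit 0xa54b001280cb) (nat_lit 19617) (nat_lit 0xd80254066489) .nil) (nat_lit 0xa54b00129454) (nat_lit
  17985) (nat_lit 0x9c20c8219922) (.node .nil (nat_lit 0xa54b0018046e) (nat_lit 50464) (nat_lit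
  0xa4508c02ae41) .nil)) (nat_lit 0xa54b001810f1) (nat_lit 48912) (nat_lit 0x846245229c88) (.node (.node .nil
  (nat_lit 0xa54b0018a096) (nat_lit 20560) (nat_lit 0xa6084900f684) .nil) (nat_lit 0xa54b0018b409) (nat_lit
  36896) (nat_lit 0x863a8020c44d) .nil)) (nat_lit 0xa58025007b42) (nat_lit 9632) (nat_lit 0x8494c1316812)
  (.node (.node (.node .nil (nat_lit 0xa58025023718) (nat_lit 43969) (nat_lit 0xa209a419c058) .nil) (nat_lit
  0xa580250803da) (nat_lit 43520) (nat_lit 0xb1d4000428d3) .nil) (nat_lit 0xa58025087898) (nat_lit 13041)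
  (nat_lit 0xa209a4185612) (.node (.node .nil (nat_lit 0xa580250a34c2) (nat_lit 1681) (nat_lit 0xa209a4140659)
  .nil) (nat_lit 0xa580250a4f80) (nat_lit 25681) (nat_lit 0xa209a401964a) .nil))))))
def tt3360_18 : T := (.node (.node (.node (.node (.node (.node (.node .nil (nat_lit 0xa580251055c8) (nat_lit
  11473) (nat_lit 0xa209a414e442) .nil) (nat_lit 0xa58025121992) (nat_lit 47521) (nat_lit 0xa209a418b409)
  (.node .nil (nat_lit 0xa580251262d0) (nat_lit 13184) (nat_lit 0x94585021a483) .nil)) (nat_lit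
  0xa58025185612) (nat_lit 944) (nat_lit 0xb0a051055c82) (.node (.node .nil (nat_lit 0xa580251a1a48) (nat_lit
  6320) (nat_lit 0xa1189114e442) .nil) (nat_lit 0xa6084900f684) (nat_lit 11680) (nat_lit 0xea003105aa06)
  .nil)) (nat_lit 0xa608490132b2) (nat_lit 50305) (nat_lit 0xc0a2c2065928) (.node (.node (.node .nil (nat_lit
  0xa6084908a722) (nat_lit 17312) (nat_lit 0xea0031008dc6) .nil) (nat_lit 0xa60849096314) (nat_lit 1920)
  (nat_lit 0xea003104cac8) (.node .nil (nat_lit 0xa608491007b4) (nat_lit 48496) (nat_lit 0xea0031007b42)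
  .nil)) (nat_lit 0xa6084910f130) (nat_lit 49537) (nat_lit 0xe10641065928) (.node (.node .nil (nat_lit
  0xa60849113506) (nat_lit 45536) (nat_lit 0xea003101964a) .nil) (nat_lit 0xa6084911c382) (nat_lit 15841)
  (nat_lit 0xd80254065928) .nil))) (nat_lit 0xa60849185612) (nat_lit 9297) (nat_lit 0xe08494065928) (.node
  (.node (.node (.node .nil (nat_lit 0xa6084918a096) (nat_lit 13264) (nat_lit 0xea003100f684) .nil) (nat_lit
  0xa608491964a0) (nat_lit 48145) (nat_lit 0xd98081065928) (.node .nil (nat_lit 0xa60849199224) (nat_lit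
  47088) (nat_lit 0xea0031011b8c) .nil)) (nat_lit 0xa691100046e3) (nat_lit 10577) (nat_lit 0xe07210070447)
  (.node (.node .nil (nat_lit 0xa6911001262d) (nat_lit 44016) (nat_lit 0x87210c20d0d2) .nil) (nat_lit
  0xa691100160ce) (nat_lit 16560) (nat_lit 0xa0e1060710d8) .nil)) (nat_lit 0xa69110082ae4) (nat_lit 51024)
  (nat_lit 0x8641c221b01c) (.node (.node (.node .nil (nat_lit 0xa69110086c07) (nat_lit 14241) (nat_lit
  0x8212531889a8) .nil) (nat_lit 0xa69110090cc9) (nat_lit 23041) (nat_lit 0xc120171889a8) .nil) (nat_lit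
  0xa69110094a2a) (nat_lit 44545) (nat_lit 0xc624501889a8) (.node (.node .nil (nat_lit 0xa69110102e8a)
  (nat_lit 19361) (nat_lit 0xe60206017451) .nil) (nat_lit 0xa69110106869) (nat_lit 11968) (nat_lit
  0xa2209a05d144) .nil)))) (nat_lit 0xa691101108a7) (nat_lit 48273) (nat_lit 0xa234051889a8) (.node (.node
  (.node (.node (.node .nil (nat_lit 0xa69110114e44) (nat_lit 41168) (nat_lit 0x82f048250196) .nil) (nat_lit
  0xa6911018046e) (nat_lit 40016) (nat_lit 0xa4508c03a152) (.node .nil (nat_lit 0xa6911018428d) (nat_lit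
  18049) (nat_lit 0x8366021889a8) .nil)) (nat_lit 0xa69110192243) (nat_lit 34353) (nat_lit 0xc054461889a8)
  (.node (.node .nil (nat_lit 0xa691101964a0) (nat_lit 38881) (nat_lit 0xc750011889a8) .nil) (nat_lit
  0xa800c701ed08) (nat_lit 43777) (nat_lit 0x86072120d0d2) .nil)) (nat_lit 0xa800c7023718) (nat_lit 51472)
  (nat_lit 0x952c010803da) (.node (.node (.node .nil (nat_lit 0xa800c703da10) (nat_lit 9088) (nat_lit
  0x9c20c8010f13) .nil) (nat_lit 0xa800c7046e30) (nat_lit 23249) (nat_lit 0x860721091856) .nil) (nat_lit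
  0xa800c7058338) (nat_lit 21424) (nat_lit 0x9907080428d3) (.node (.node .nil (nat_lit 0xa800c707b420)
  (nat_lit 48289) (nat_lit 0x8607213008dc) .nil) (nat_lit 0xa800c710f130) (nat_lit 8336) (nat_lit
  0x8d0151102e8a) .nil))) (nat_lit 0xa800c7111c38) (nat_lit 7744) (nat_lit 0x840d98192243) (.node (.node
  (.node (.node .nil (nat_lit 0xa800c7132b20) (nat_lit 40528) (nat_lit 0x8c0e42112199) .nil) (nat_lit
  0xa800c7157208) (nat_lit 10720) (nat_lit 0x892982140659) (.node .nil (nat_lit 0xa800c716a818) (nat_lit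
  40241) (nat_lit 0x860721087898) .nil)) (nat_lit 0xa800c7174510) (nat_lit 21072) (nat_lit 0x812a581c0583)
  (.node (.node .nil (nat_lit 0xa8145800cb25) (nat_lit 35024) (nat_lit 0xe41c2008e1c1) .nil) (nat_lit
  0xa81458022387) (nat_lit 21713) (nat_lit 0x8384191c4360) .nil)) (nat_lit 0xa8145802e8a2) (nat_lit 52928)
  (nat_lit 0xe41c2000e21b) (.node (.node (.node .nil (nat_lit 0xa81458056123) (nat_lit 23137) (nat_lit
  0xc134881c4360) .nil) (nat_lit 0xa8145805aa06) (nat_lit 25953) (nat_lit 0xa118911c4360) .nil) (nat_lit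
  0xa814580742a4) (nat_lit 49440) (nat_lit 0xe41c2009810f) (.node (.node .nil (nat_lit 0xa81458078981)
  (nat_lit 20593) (nat_lit 0xc120171c4360) .nil) (nat_lit 0xa814581108a7) (nat_lit 53553) (nat_lit
  0xa234051c4360) .nil))))) (nat_lit 0xa8145811c382) (nat_lit 34976) (nat_lit 0xe41c200a205d) (.node (.node
  (.node (.node (.node (.node .nil (nat_lit 0xa81458132b20) (nat_lit 13313) (nat_lit 0xc20c831c4360) .nil)
  (nat_lit 0xa8145813e005) (nat_lit 49169) (nat_lit 0xa2209a1c4360) (.node .nil (nat_lit 0xa81458146984)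
  (nat_lit 15585) (nat_lit 0x80bc121c4360) .nil)) (nat_lit 0xa8145814a2a1) (nat_lit 41792) (nat_lit
  0xe41c200ba288) (.node (.node .nil (nat_lit 0xa81458164a03) (nat_lit 34608) (nat_lit 0xe41c200b4093) .nil)
  (nat_lit 0xa81458168126) (nat_lit 35440) (nat_lit 0xe41c2003a152) .nil)) (nat_lit 0xa84624009959) (nat_lit
  45617) (nat_lit 0x8103661ed080) (.node (.node (.node .nil (nat_lit 0xa8462403a152) (nat_lit 37216) (nat_lit
  0x8a88d0306701) .nil) (nat_lit 0xa846240428d3) (nat_lit 20545) (nat_lit 0x8103660e1c11) .nil) (nat_lit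
  0xa8462404b18a) (nat_lit 6401) (nat_lit 0x81036610cc91) (.node (.node .nil (nat_lit 0xa846240710d8) (nat_lit
  14161) (nat_lit 0x8103663c4c08) .nil) (nat_lit 0xa84624078981) (nat_lit 11936) (nat_lit 0xa06cc01a8311)
  .nil))) (nat_lit 0xa84624112199) (nat_lit 19057) (nat_lit 0x8103662ae410) (.node (.node (.node (.node .nil
  (nat_lit 0xa84624121992) (nat_lit 32800) (nat_lit 0xaa234010cc91) .nil) (nat_lit 0xa8462415094a) (nat_lit
  36912) (nat_lit 0xb8419002ae41) (.node .nil (nat_lit 0xa84624159013) (nat_lit 33521) (nat_lit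
  0x8103663a2881) .nil)) (nat_lit 0xa84624163141) (nat_lit 35489) (nat_lit 0x81036616a818) (.node (.node .nil
  (nat_lit 0xa8462416a818) (nat_lit 3761) (nat_lit 0x810366087898) .nil) (nat_lit 0xa88d0100527c) (nat_lit
  27216) (nat_lit 0xa10c0e08e1c1) .nil)) (nat_lit 0xa88d010132b2) (nat_lit 49073) (nat_lit 0xc4680a0293e0)
  (.node (.node (.node .nil (nat_lit 0xa88d010160ce) (nat_lit 2513) (nat_lit 0xa444130293e0) .nil) (nat_lit
  0xa88d0106226a) (nat_lit 8001) (nat_lit 0xf824020293e0) .nil) (nat_lit 0xa88d01067016) (nat_lit 36849)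
  (nat_lit 0x98081b0293e0) (.node (.node .nil (nat_lit 0xa88d010710d8) (nat_lit 4896) (nat_lit 0xa88d010160ce)
  .nil) (nat_lit 0xa88d010742a4) (nat_lit 27153) (nat_lit 0xa10c0e0293e0) .nil)))) (nat_lit 0xa88d011230ac)
  (nat_lit 43089) (nat_lit 0x90641c0293e0) (.node (.node (.node (.node (.node .nil (nat_lit 0xa88d011262d0)
  (nat_lit 26320) (nat_lit 0x88494c21a483) .nil) (nat_lit 0xa88d0113021e) (nat_lit 25280) (nat_lit
  0x81458528a84a) (.node .nil (nat_lit 0xa88d01135062) (nat_lit 43616) (nat_lit 0x89a44420498b) .nil))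
  (nat_lit 0xa88d011412c6) (nat_lit 13504) (nat_lit 0x80254b29c884) (.node (.node .nil (nat_lit
  0xa88d011440ba) (nat_lit 16753) (nat_lit 0xf500180293e0) .nil) (nat_lit 0xa88d01152074) (nat_lit 24641)
  (nat_lit 0xac28140293e0) .nil)) (nat_lit 0xa88d01157208) (nat_lit 33425) (nat_lit 0xcc040d0293e0) (.node
  (.node (.node .nil (nat_lit 0xa8b0a0010f13) (nat_lit 12689) (nat_lit 0xc4680a1007b4) .nil) (nat_lit
  0xa8b0a0024c5a) (nat_lit 27505) (nat_lit 0xe3a8000c504b) .nil) (nat_lit 0xa8b0a0034349) (nat_lit 5360)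
  (nat_lit 0xb301030c44d4) (.node (.node .nil (nat_lit 0xa8b0a004470e) (nat_lit 29376) (nat_lit
  0x9d40062205d1) .nil) (nat_lit 0xa8b0a005481d) (nat_lit 18481) (nat_lit 0xaa58021007b4) .nil))) (nat_lit
  0xa8b0a0060b54) (nat_lit 23696) (nat_lit 0x8641c2390415) (.node (.node (.node (.node .nil (nat_lit
  0xa8b0a0070447) (nat_lit 5392) (nat_lit 0x9104d22e4105) .nil) (nat_lit 0xa8b0a0104157) (nat_lit 720)
  (nat_lit 0x8d0151324486) (.node .nil (nat_lit 0xa8b0a0114e44) (nat_lit 25008) (nat_lit 0x9a4441250196)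
  .nil)) (nat_lit 0xa8b0a0120d0d) (nat_lit 44112) (nat_lit 0x960095294542) (.node (.node .nil (nat_lit
  0xa8b0a013021e) (nat_lit 43024) (nat_lit 0x8145853e0052) .nil) (nat_lit 0xa8b0a0140659) (nat_lit 33393)
  (nat_lit 0xe0900b0f6840) .nil)) (nat_lit 0xa8b0a015094a) (nat_lit 41648) (nat_lit 0xb84190070447) (.node
  (.node (.node .nil (nat_lit 0xa8b0a0164a03) (nat_lit 9344) (nat_lit 0xb405440b4093) .nil) (nat_lit
  0xa8b0a0174510) (nat_lit 2481) (nat_lit 0xc750011007b4) .nil) (nat_lit 0xa96009008dc6) (nat_lit 31473)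
  (nat_lit 0x8494c1224332) (.node (.node .nil (nat_lit 0xa960090293e0) (nat_lit 50673) (nat_lit
  0xc8384115848c) .nil) (nat_lit 0xa96009041572) (nat_lit 15088) (nat_lit 0xc231220182d5) .nil))))))
def tt3360_19 : T := (.node (.node (.node (.node (.node (.node (.node .nil (nat_lit 0xa96009060b54) (nat_lit
  13056) (nat_lit 0xc2312204cac8) .nil) (nat_lit 0xa96009068692) (nat_lit 27968) (nat_lit 0xc231220dc601)
  (.node .nil (nat_lit 0xa960091007b4) (nat_lit 51296) (nat_lit 0xc2312215848c) .nil)) (nat_lit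
  0xa96009108a72) (nat_lit 8193) (nat_lit 0xd08c480d3085) (.node (.node .nil (nat_lit 0xa96009121992) (nat_lit
  24657) (nat_lit 0xc508c418b409) .nil) (nat_lit 0xa96009129454) (nat_lit 48017) (nat_lit 0x9c20c8224332)
  .nil)) (nat_lit 0xa960091412c6) (nat_lit 42017) (nat_lit 0x952c01224332) (.node (.node (.node .nil (nat_lit
  0xa96009160ce0) (nat_lit 14032) (nat_lit 0xc23122114e44) .nil) (nat_lit 0xa98212003da1) (nat_lit 50064)
  (nat_lit 0xa800c716a818) (.node .nil (nat_lit 0xa982120258c5) (nat_lit 36497) (nat_lit 0x96140a2903a1)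
  .nil)) (nat_lit 0xa98212026564) (nat_lit 45521) (nat_lit 0x84805e2903a1) (.node (.node .nil (nat_lit
  0xa982120401ed) (nat_lit 34304) (nat_lit 0xba800c0428d3) .nil) (nat_lit 0xa98212043c4c) (nat_lit 15457)
  (nat_lit 0x9458502903a1) .nil))) (nat_lit 0xa98212065928) (nat_lit 27392) (nat_lit 0x98081b26a0c4) (.node
  (.node (.node (.node .nil (nat_lit 0xa98212066489) (nat_lit 43281) (nat_lit 0xd4b004024c5a) .nil) (nat_lit
  0xa982121055c8) (nat_lit 1169) (nat_lit 0xc2181c14e442) (.node .nil (nat_lit 0xa98212106869) (nat_lit 13840)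
  (nat_lit 0xa2209a1c8845) .nil)) (nat_lit 0xa98212120d0d) (nat_lit 21776) (nat_lit 0x96009528a84a) (.node
  (.node .nil (nat_lit 0xa982121230ac) (nat_lit 15280) (nat_lit 0x80a88d3e0052) .nil) (nat_lit 0xa98212145425)
  (nat_lit 31953) (nat_lit 0x9228462903a1) .nil)) (nat_lit 0xa98212146984) (nat_lit 18145) (nat_lit
  0x80bc122903a1) (.node (.node (.node .nil (nat_lit 0xa98212160ce0) (nat_lit 49008) (nat_lit 0x9228462c8099)
  .nil) (nat_lit 0xa98212163141) (nat_lit 3984) (nat_lit 0x84805e3a2881) .nil) (nat_lit 0xaa234000149f)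
  (nat_lit 2097) (nat_lit 0x9a4441058338) (.node (.node .nil (nat_lit 0xaa234001c436) (nat_lit 29120) (nat_lit
  0x8a88d004470e) .nil) (nat_lit 0xaa234001d0a9) (nat_lit 23473) (nat_lit 0xc83841058338) .nil)))) (nat_lit
  0xaa2340048c2b) (nat_lit 7473) (nat_lit 0xf824020258c5) (.node (.node (.node (.node (.node .nil (nat_lit
  0xaa23400498b4) (nat_lit 37328) (nat_lit 0x8641c2088e1c) .nil) (nat_lit 0xaa234005481d) (nat_lit 48544)
  (nat_lit 0x8a051604cac8) (.node .nil (nat_lit 0xaa2340055c82) (nat_lit 3712) (nat_lit 0x8206cc0cc912) .nil))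
  (nat_lit 0xaa234010cc91) (nat_lit 20480) (nat_lit 0x88494c068692) (.node (.node .nil (nat_lit
  0xaa234010d80e) (nat_lit 27665) (nat_lit 0x907083058338) .nil) (nat_lit 0xaa23401108a7) (nat_lit 17808)
  (nat_lit 0x8c0e4202c19c) .nil)) (nat_lit 0xaa2340111c38) (nat_lit 22000) (nat_lit 0x840d980ac246) (.node
  (.node (.node .nil (nat_lit 0xaa23401440ba) (nat_lit 39953) (nat_lit 0xf210c0058338) .nil) (nat_lit
  0xaa2340145425) (nat_lit 24801) (nat_lit 0x922846058338) .nil) (nat_lit 0xaa234015848c) (nat_lit 37249)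
  (nat_lit 0xa06cc0058338) (.node (.node .nil (nat_lit 0xaa2340159013) (nat_lit 48961) (nat_lit
  0xc05446058338) .nil) (nat_lit 0xaa580200a4f8) (nat_lit 14129) (nat_lit 0xe3a8000c44d4) .nil))) (nat_lit
  0xaa58020182d5) (nat_lit 33489) (nat_lit 0xaf048010132b) (.node (.node (.node (.node .nil (nat_lit
  0xaa580204a515) (nat_lit 5424) (nat_lit 0xa181c81e2604) .nil) (nat_lit 0xaa5802058338) (nat_lit 40977)
  (nat_lit 0xc6245010132b) (.node .nil (nat_lit 0xaa58021007b4) (nat_lit 10369) (nat_lit 0x89a44410132b)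
  .nil)) (nat_lit 0xaa580210a34c) (nat_lit 37313) (nat_lit 0x85e09010132b) (.node (.node .nil (nat_lit
  0xaa5802112199) (nat_lit 33280) (nat_lit 0x92a5802d024c) .nil) (nat_lit 0xaa5802118561) (nat_lit 6848)
  (nat_lit 0x89a444360388) .nil)) (nat_lit 0xaa5802140659) (nat_lit 29296) (nat_lit 0xaf048010a34c) (.node
  (.node (.node .nil (nat_lit 0xaa580214a2a1) (nat_lit 17073) (nat_lit 0xecc040032c94) .nil) (nat_lit
  0xaa5802152074) (nat_lit 51345) (nat_lit 0xac281410132b) .nil) (nat_lit 0xaa580215848c) (nat_lit 16912)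
  (nat_lit 0x8c8384332448) (.node (.node .nil (nat_lit 0xac012a00f684) (nat_lit 52720) (nat_lit
  0xd8502805aa06) .nil) (nat_lit 0xac012a017451) (nat_lit 36704) (nat_lit 0xd850280182d5) .nil))))) (nat_lit
  0xac012a0182d5) (nat_lit 560) (nat_lit 0xd850280428d3) (.node (.node (.node (.node (.node (.node .nil
  (nat_lit 0xac012a02ae41) (nat_lit 37169) (nat_lit 0xf8240200cb25) .nil) (nat_lit 0xac012a032c94) (nat_lit
  39696) (nat_lit 0xd8502804a515) (.node .nil (nat_lit 0xac012a03da10) (nat_lit 8048) (nat_lit 0xd85028010f13)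
  .nil)) (nat_lit 0xac012a103a15) (nat_lit 45313) (nat_lit 0x9b301000cb25) (.node (.node .nil (nat_lit
  0xac012a10cc91) (nat_lit 47616) (nat_lit 0xd85028068692) .nil) (nat_lit 0xac012a114e44) (nat_lit 16576)
  (nat_lit 0xd8502802ae41) .nil)) (nat_lit 0xac012a1262d0) (nat_lit 13440) (nat_lit 0xd85028060b54) (.node
  (.node (.node .nil (nat_lit 0xac012a129454) (nat_lit 37088) (nat_lit 0xd8502803a152) .nil) (nat_lit
  0xac012a131681) (nat_lit 16257) (nat_lit 0xcc109200cb25) .nil) (nat_lit 0xac28140046e3) (nat_lit 30721)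
  (nat_lit 0x881b30070447) (.node (.node .nil (nat_lit 0xac281401964a) (nat_lit 26945) (nat_lit
  0x881b303540c1) .nil) (nat_lit 0xac281401d0a9) (nat_lit 3680) (nat_lit 0x828b0a3540c1) .nil))) (nat_lit
  0xac28140293e0) (nat_lit 14305) (nat_lit 0x881b3015848c) (.node (.node (.node (.node .nil (nat_lit
  0xac281402d503) (nat_lit 30417) (nat_lit 0x881b301280cb) .nil) (nat_lit 0xac28140305aa) (nat_lit 22528)
  (nat_lit 0x94c109230ac2) (.node .nil (nat_lit 0xac2814034349) (nat_lit 39136) (nat_lit 0xb3010304cac8)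
  .nil)) (nat_lit 0xac281410132b) (nat_lit 42881) (nat_lit 0x881b3013e005) (.node (.node .nil (nat_lit
  0xac28141055c8) (nat_lit 42080) (nat_lit 0xb48882034349) .nil) (nat_lit 0xac2814118561) (nat_lit 36881)
  (nat_lit 0x881b3026a0c4) .nil)) (nat_lit 0xac281411c382) (nat_lit 18417) (nat_lit 0x881b3021a483) (.node
  (.node (.node .nil (nat_lit 0xac28141280cb) (nat_lit 16961) (nat_lit 0x881b30066489) .nil) (nat_lit
  0xac281412c628) (nat_lit 51809) (nat_lit 0x881b300160ce) .nil) (nat_lit 0xac2814131681) (nat_lit 673)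
  (nat_lit 0x881b30332448) (.node (.node .nil (nat_lit 0xac2814135062) (nat_lit 52497) (nat_lit
  0x881b3034200f) .nil) (nat_lit 0xaf048000293e) (nat_lit 6592) (nat_lit 0x90641c230ac2) .nil)))) (nat_lit
  0xaf048000527c) (nat_lit 2769) (nat_lit 0x9d4006200f68) (.node (.node (.node (.node (.node .nil (nat_lit
  0xaf0480007b42) (nat_lit 4384) (nat_lit 0x8206cc316812) .nil) (nat_lit 0xaf0480009959) (nat_lit 13761)
  (nat_lit 0xc120171ed080) (.node .nil (nat_lit 0xaf048000b067) (nat_lit 15713) (nat_lit 0x960095200f68)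
  .nil)) (nat_lit 0xaf048000cb25) (nat_lit 30016) (nat_lit 0xa06cc013021e) (.node (.node .nil (nat_lit
  0xaf048000e21b) (nat_lit 40881) (nat_lit 0xd4b0040b4093) .nil) (nat_lit 0xaf048010132b) (nat_lit 21025)
  (nat_lit 0xcc109213e005) .nil)) (nat_lit 0xaf0480103a15) (nat_lit 47680) (nat_lit 0xb0424a032c94) (.node
  (.node (.node .nil (nat_lit 0xaf0480104157) (nat_lit 46288) (nat_lit 0x812a58324486) .nil) (nat_lit
  0xaf0480106869) (nat_lit 27921) (nat_lit 0xd98081067016) .nil) (nat_lit 0xaf0480108a72) (nat_lit 3184)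
  (nat_lit 0x922846214698) (.node (.node .nil (nat_lit 0xaf048010a34c) (nat_lit 17793) (nat_lit
  0x85e090200f68) .nil) (nat_lit 0xaf048010d80e) (nat_lit 21616) (nat_lit 0x804a96332448) .nil))) (nat_lit
  0xaf048010f130) (nat_lit 50608) (nat_lit 0xa34054102e8a) (.node (.node (.node (.node .nil (nat_lit
  0xb004a9007b42) (nat_lit 7649) (nat_lit 0xe80a88026564) .nil) (nat_lit 0xb004a903a152) (nat_lit 46192)
  (nat_lit 0xc680a8091856) (.node .nil (nat_lit 0xb004a903da10) (nat_lit 19232) (nat_lit 0xc680a8010f13)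
  .nil)) (nat_lit 0xb004a905aa06) (nat_lit 13936) (nat_lit 0xc680a8096314) (.node (.node .nil (nat_lit
  0xb004a905d144) (nat_lit 19696) (nat_lit 0xc680a8017451) .nil) (nat_lit 0xb004a9060b54) (nat_lit 53697)
  (nat_lit 0x8d9808026564) .nil)) (nat_lit 0xb004a9091856) (nat_lit 47697) (nat_lit 0xbc1201026564) (.node
  (.node (.node .nil (nat_lit 0xb004a9096314) (nat_lit 52353) (nat_lit 0xa98212026564) .nil) (nat_lit
  0xb004a90ab904) (nat_lit 26416) (nat_lit 0xc680a8103a15) .nil) (nat_lit 0xb004a90cc912) (nat_lit 7537)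
  (nat_lit 0xf50018026564) (.node (.node .nil (nat_lit 0xb004a90f1302) (nat_lit 48529) (nat_lit
  0xcc1092026564) .nil) (nat_lit 0xb004a90f6840) (nat_lit 13712) (nat_lit 0xc680a8114e44) .nil))))))
def tt3360_20 : T := (.node (.node (.node (.node (.node (.node (.node .nil (nat_lit 0xb0103602ae41) (nat_lit
  31153) (nat_lit 0x9821250710d8) .nil) (nat_lit 0xb0103604cac8) (nat_lit 7600) (nat_lit 0xa98212163141)
  (.node .nil (nat_lit 0xb01036078981) (nat_lit 7488) (nat_lit 0xa530421a8311) .nil)) (nat_lit 0xb0103608e1c1)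
  (nat_lit 21361) (nat_lit 0x982125068692) (.node (.node .nil (nat_lit 0xb01036090cc9) (nat_lit 15329)
  (nat_lit 0x982125265640) .nil) (nat_lit 0xb010360a4f80) (nat_lit 45409) (nat_lit 0x98212501964a) .nil))
  (nat_lit 0xb010360ba288) (nat_lit 11104) (nat_lit 0x81b3013e0052) (.node (.node (.node .nil (nat_lit
  0xb010360c2b09) (nat_lit 15600) (nat_lit 0x9b3010248343) .nil) (nat_lit 0xb010360dc601) (nat_lit 6305)
  (nat_lit 0x982125230ac2) (.node .nil (nat_lit 0xb010360e8548) (nat_lit 33712) (nat_lit 0xbc120103a152)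
  .nil)) (nat_lit 0xb010360f6840) (nat_lit 10641) (nat_lit 0x982125241a1a) (.node (.node .nil (nat_lit
  0xb039080046e3) (nat_lit 35825) (nat_lit 0xe80a88070447) .nil) (nat_lit 0xb039080182d5) (nat_lit 37376)
  (nat_lit 0xd028b00c504b) .nil))) (nat_lit 0xb0390801c436) (nat_lit 15201) (nat_lit 0xa800c710f130) (.node
  (.node (.node (.node .nil (nat_lit 0xb03908068692) (nat_lit 35296) (nat_lit 0xd028b00dc601) .nil) (nat_lit
  0xb0390806c071) (nat_lit 12881) (nat_lit 0xe106410e088e) (.node .nil (nat_lit 0xb03908070447) (nat_lit 7072)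
  (nat_lit 0xd028b001964a) .nil)) (nat_lit 0xb039080742a4) (nat_lit 32737) (nat_lit 0xa10c0e10f130) (.node
  (.node .nil (nat_lit 0xb039080a84a5) (nat_lit 40128) (nat_lit 0xd028b006920d) .nil) (nat_lit 0xb039080ac246)
  (nat_lit 6880) (nat_lit 0xd028b00e8548) .nil)) (nat_lit 0xb039080b0670) (nat_lit 17904) (nat_lit
  0xd028b00ac246) (.node (.node (.node .nil (nat_lit 0xb039080b4093) (nat_lit 44528) (nat_lit 0xd028b002d503)
  .nil) (nat_lit 0xb039080c0237) (nat_lit 9600) (nat_lit 0xd028b00b540c) .nil) (nat_lit 0xb039080c44d4)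
  (nat_lit 44593) (nat_lit 0x8c0e4210f130) (.node (.node .nil (nat_lit 0xb039080d80e2) (nat_lit 39808)
  (nat_lit 0xd028b0070447) .nil) (nat_lit 0xb039080dc601) (nat_lit 21121) (nat_lit 0xcc040d10f130) .nil))))
  (nat_lit 0xb0424a003da1) (nat_lit 41968) (nat_lit 0xe140a2081745) (.node (.node (.node (.node (.node .nil
  (nat_lit 0xb0424a032c94) (nat_lit 35969) (nat_lit 0xa81458056123) .nil) (nat_lit 0xb0424a0498b4) (nat_lit
  47888) (nat_lit 0xe140a2088e1c) (.node .nil (nat_lit 0xb0424a04a515) (nat_lit 47104) (nat_lit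
  0xe140a2009959) .nil)) (nat_lit 0xb0424a078981) (nat_lit 2656) (nat_lit 0xe140a2043c4c) (.node (.node .nil
  (nat_lit 0xb0424a07b420) (nat_lit 47072) (nat_lit 0xe140a20c2b09) .nil) (nat_lit 0xb0424a09a831) (nat_lit
  37889) (nat_lit 0xd08c48056123) .nil)) (nat_lit 0xb0424a0ab904) (nat_lit 41233) (nat_lit 0x909298056123)
  (.node (.node (.node .nil (nat_lit 0xb0424a0d0d24) (nat_lit 43793) (nat_lit 0xa09a44056123) .nil) (nat_lit
  0xb0424a0d3085) (nat_lit 15777) (nat_lit 0xb20e10056123) .nil) (nat_lit 0xb0424a0e1c11) (nat_lit 50624)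
  (nat_lit 0xe140a20e1c11) (.node (.node .nil (nat_lit 0xb0424a0e21b0) (nat_lit 40657) (nat_lit
  0xf210c0056123) .nil) (nat_lit 0xb0a051011b8c) (nat_lit 28016) (nat_lit 0x9189140c504b) .nil))) (nat_lit
  0xb0a051021e26) (nat_lit 41440) (nat_lit 0x98914205481d) (.node (.node (.node (.node .nil (nat_lit
  0xb0a0510305aa) (nat_lit 4672) (nat_lit 0x94c109091856) .nil) (nat_lit 0xb0a05104470e) (nat_lit 32161)
  (nat_lit 0x81c8430e21b0) (.node .nil (nat_lit 0xb0a051055c82) (nat_lit 464) (nat_lit 0x91104d0cc912) .nil))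
  (nat_lit 0xb0a051065928) (nat_lit 36512) (nat_lit 0x98081b05d144) (.node (.node .nil (nat_lit
  0xb0a0510742a4) (nat_lit 50017) (nat_lit 0xa10c0e0e21b0) .nil) (nat_lit 0xb0a0510851a6) (nat_lit 12529)
  (nat_lit 0x9086070e21b0) .nil)) (nat_lit 0xb0a051094a2a) (nat_lit 45793) (nat_lit 0xd08c480e21b0) (.node
  (.node (.node .nil (nat_lit 0xb0a0510a4f80) (nat_lit 33025) (nat_lit 0xf0480501964a) .nil) (nat_lit
  0xb0a0510b540c) (nat_lit 14352) (nat_lit 0x84190719c058) .nil) (nat_lit 0xb0a0510c16a8) (nat_lit 40849)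
  (nat_lit 0xe0900b0e21b0) (.node (.node .nil (nat_lit 0xb0a0510d0d24) (nat_lit 52032) (nat_lit
  0x81c8431c111c) .nil) (nat_lit 0xb0a0510e088e) (nat_lit 23873) (nat_lit 0x805e090e21b0) .nil))))) (nat_lit
  0xb0a0510f1302) (nat_lit 52144) (nat_lit 0x84805e195901) (.node (.node (.node (.node (.node (.node .nil
  (nat_lit 0xb12284009959) (nat_lit 50161) (nat_lit 0xa125301ed080) .nil) (nat_lit 0xb12284024c5a) (nat_lit
  15216) (nat_lit 0xa444131a1a48) (.node .nil (nat_lit 0xb1228402d503) (nat_lit 16673) (nat_lit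
  0xa125301280cb) .nil)) (nat_lit 0xb12284041572) (nat_lit 24689) (nat_lit 0xa125301c8845) (.node (.node .nil
  (nat_lit 0xb12284048c2b) (nat_lit 42561) (nat_lit 0xa125300258c5) .nil) (nat_lit 0xb12284065928) (nat_lit
  39200) (nat_lit 0x98081b265640) .nil)) (nat_lit 0xb1228406c071) (nat_lit 10481) (nat_lit 0xa125300e088e)
  (.node (.node (.node .nil (nat_lit 0xb12284084539) (nat_lit 10177) (nat_lit 0xa125300ac246) .nil) (nat_lit
  0xb1228408dc60) (nat_lit 39921) (nat_lit 0xa125301412c6) .nil) (nat_lit 0xb122840a0963) (nat_lit 19281)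
  (nat_lit 0xa1253006920d) (.node (.node .nil (nat_lit 0xb122840a903a) (nat_lit 21152) (nat_lit
  0x805e093e0052) .nil) (nat_lit 0xb122840c504b) (nat_lit 2577) (nat_lit 0xa12530164a03) .nil))) (nat_lit
  0xb122840cc912) (nat_lit 16704) (nat_lit 0xa60849185612) (.node (.node (.node (.node .nil (nat_lit
  0xb122840e1c11) (nat_lit 52817) (nat_lit 0xa125301a1a48) .nil) (nat_lit 0xb122840e8548) (nat_lit 53073)
  (nat_lit 0xa1253004cac8) (.node .nil (nat_lit 0xb1d40000293e) (nat_lit 20768) (nat_lit 0x90641c2b9041)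
  .nil)) (nat_lit 0xb1d400020ab9) (nat_lit 52784) (nat_lit 0x838419387044) (.node (.node .nil (nat_lit
  0xb1d400022387) (nat_lit 36081) (nat_lit 0x8384193021e2) .nil) (nat_lit 0xb1d4000401ed) (nat_lit 46561)
  (nat_lit 0x86cc043021e2) .nil)) (nat_lit 0xb1d4000428d3) (nat_lit 30656) (nat_lit 0x91104d2ae410) (.node
  (.node (.node .nil (nat_lit 0xb1d400060b54) (nat_lit 43569) (nat_lit 0x8d98083021e2) .nil) (nat_lit
  0xb1d40006226a) (nat_lit 18113) (nat_lit 0xca960005481d) .nil) (nat_lit 0xb1d4000803da) (nat_lit 29936)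
  (nat_lit 0xb1d4000a205d) (.node (.node .nil (nat_lit 0xb1d400082ae4) (nat_lit 21584) (nat_lit
  0x9a444121b01c) .nil) (nat_lit 0xb1d4000a0963) (nat_lit 17105) (nat_lit 0xc94c1006920d) .nil)))) (nat_lit
  0xb1d4000a205d) (nat_lit 18225) (nat_lit 0x8e42183021e2) (.node (.node (.node (.node (.node .nil (nat_lit
  0xb1d4000c0237) (nat_lit 24704) (nat_lit 0xb0a0510b540c) .nil) (nat_lit 0xb1d4000c2b09) (nat_lit 14945)
  (nat_lit 0xcc040d03da10) (.node .nil (nat_lit 0xb1d4000e088e) (nat_lit 16) (nat_lit 0x88d015332448) .nil))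
  (nat_lit 0xb1d4000e21b0) (nat_lit 30353) (nat_lit 0xc75001088e1c) (.node (.node .nil (nat_lit
  0xb20e1000b067) (nat_lit 7296) (nat_lit 0x989142226a0c) .nil) (nat_lit 0xb20e100160ce) (nat_lit 35121)
  (nat_lit 0xa44413093168) .nil)) (nat_lit 0xb20e1001d0a9) (nat_lit 10528) (nat_lit 0x828b0a387044) (.node
  (.node (.node .nil (nat_lit 0xb20e100401ed) (nat_lit 28481) (nat_lit 0x86cc04093168) .nil) (nat_lit
  0xb20e1004b18a) (nat_lit 24880) (nat_lit 0x98ea0022114e) .nil) (nat_lit 0xb20e10056123) (nat_lit 8672)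
  (nat_lit 0xa09a441a610a) (.node (.node .nil (nat_lit 0xb20e1005d144) (nat_lit 18353) (nat_lit
  0xb48882093168) .nil) (nat_lit 0xb20e100851a6) (nat_lit 40800) (nat_lit 0xaa234010d80e) .nil))) (nat_lit
  0xb20e1008e1c1) (nat_lit 42496) (nat_lit 0x88494c32b202) (.node (.node (.node (.node .nil (nat_lit
  0xb20e10093168) (nat_lit 12704) (nat_lit 0xb039080ac246) .nil) (nat_lit 0xb20e1009810f) (nat_lit 2192)
  (nat_lit 0x92530428a84a) (.node .nil (nat_lit 0xb20e100c504b) (nat_lit 48432) (nat_lit 0xaa580210a34c)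
  .nil)) (nat_lit 0xb20e100ce02c) (nat_lit 36960) (nat_lit 0x88320e32c940) (.node (.node .nil (nat_lit
  0xb20e100d3085) (nat_lit 22241) (nat_lit 0xb20e10093168) .nil) (nat_lit 0xb20e100d80e2) (nat_lit 9809)
  (nat_lit 0xd2c012093168) .nil)) (nat_lit 0xb3010300a4f8) (nat_lit 29361) (nat_lit 0xd11a020c44d4) (.node
  (.node (.node .nil (nat_lit 0xb3010300f684) (nat_lit 33297) (nat_lit 0x9104d222a129) .nil) (nat_lit
  0xb30103043c4c) (nat_lit 17761) (nat_lit 0x94585022a129) .nil) (nat_lit 0xb30103046e30) (nat_lit 16224)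
  (nat_lit 0xa09a440d241a) (.node (.node .nil (nat_lit 0xb301030498b4) (nat_lit 21825) (nat_lit
  0x981c8422a129) .nil) (nat_lit 0xb3010304cac8) (nat_lit 26176) (nat_lit 0xa98212043c4c) .nil))))))
def tt3360_21 : T := (.node (.node (.node (.node (.node (.node (.node .nil (nat_lit 0xb30103087898) (nat_lit
  53345) (nat_lit 0xc508c4185612) .nil) (nat_lit 0xb30103088e1c) (nat_lit 20849) (nat_lit 0x8952c022a129)
  (.node .nil (nat_lit 0xb3010308dc60) (nat_lit 34561) (nat_lit 0xc94c101412c6) .nil)) (nat_lit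
  0xb301030c16a8) (nat_lit 43296) (nat_lit 0x8d9808202656) (.node (.node .nil (nat_lit 0xb301030c44d4)
  (nat_lit 2801) (nat_lit 0x8c0e4222a129) .nil) (nat_lit 0xb4054400e21b) (nat_lit 9680) (nat_lit
  0x836602009959) .nil)) (nat_lit 0xb405440132b2) (nat_lit 41536) (nat_lit 0x82125301ed08) (.node (.node
  (.node .nil (nat_lit 0xb4054401d0a9) (nat_lit 35312) (nat_lit 0x828b0a017451) .nil) (nat_lit 0xb40544020ab9)
  (nat_lit 3105) (nat_lit 0x84a9600b540c) (.node .nil (nat_lit 0xb4054402e8a2) (nat_lit 19521) (nat_lit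
  0x84a96000149f) .nil)) (nat_lit 0xb4054403380b) (nat_lit 41920) (nat_lit 0x82691101964a) (.node (.node .nil
  (nat_lit 0xb4054403da10) (nat_lit 3456) (nat_lit 0x82f048010f13) .nil) (nat_lit 0xb40544087898) (nat_lit
  28112) (nat_lit 0x80bc12034349) .nil))) (nat_lit 0xb40544089a83) (nat_lit 13600) (nat_lit 0x80254b03da10)
  (.node (.node (.node (.node .nil (nat_lit 0xb40544094a2a) (nat_lit 46849) (nat_lit 0x84a960215207) .nil)
  (nat_lit 0xb4054409a831) (nat_lit 21600) (nat_lit 0x81c843023718) (.node .nil (nat_lit 0xb405440a7221)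
  (nat_lit 45649) (nat_lit 0x84a96013021e) .nil)) (nat_lit 0xb405440a903a) (nat_lit 44384) (nat_lit
  0x805e0903a152) (.node (.node .nil (nat_lit 0xb405440b4093) (nat_lit 4976) (nat_lit 0x812a5802d503) .nil)
  (nat_lit 0xb405440ba288) (nat_lit 21857) (nat_lit 0x84a960214698) .nil)) (nat_lit 0xb4888200527c) (nat_lit
  53441) (nat_lit 0x9d4006003da1) (.node (.node (.node .nil (nat_lit 0xb4888201262d) (nat_lit 51937) (nat_lit
  0xa34054003da1) .nil) (nat_lit 0xb48882017451) (nat_lit 35248) (nat_lit 0x91104d262d02) .nil) (nat_lit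
  0xb48882023718) (nat_lit 27601) (nat_lit 0xe60206003da1) (.node (.node .nil (nat_lit 0xb48882026564)
  (nat_lit 13217) (nat_lit 0x84805e003da1) .nil) (nat_lit 0xb48882031135) (nat_lit 5248) (nat_lit
  0xa53042120d0d) .nil)))) (nat_lit 0xb48882034349) (nat_lit 28929) (nat_lit 0xd80254003da1) (.node (.node
  (.node (.node (.node .nil (nat_lit 0xb48882081745) (nat_lit 35200) (nat_lit 0x80254b371804) .nil) (nat_lit
  0xb48882084539) (nat_lit 33456) (nat_lit 0x96140a212945) (.node .nil (nat_lit 0xb48882093168) (nat_lit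
  10273) (nat_lit 0xcb004a003da1) .nil)) (nat_lit 0xb48882096314) (nat_lit 52368) (nat_lit 0xa60849113506)
  (.node (.node .nil (nat_lit 0xb488820a205d) (nat_lit 12096) (nat_lit 0xa2340515094a) .nil) (nat_lit
  0xb488820a7221) (nat_lit 32673) (nat_lit 0xecc040003da1) .nil)) (nat_lit 0xb488820b0670) (nat_lit 26560)
  (nat_lit 0x922846251509) (.node (.node (.node .nil (nat_lit 0xb488820b540c) (nat_lit 38176) (nat_lit
  0x841907332448) .nil) (nat_lit 0xb66020008dc6) (nat_lit 5216) (nat_lit 0x831d4034c214) .nil) (nat_lit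
  0xb66020009959) (nat_lit 12913) (nat_lit 0xe1064100293e) (.node (.node .nil (nat_lit 0xb66020010f13)
  (nat_lit 3873) (nat_lit 0xd4468000293e) .nil) (nat_lit 0xb66020011b8c) (nat_lit 33169) (nat_lit
  0xb1d40000293e) .nil))) (nat_lit 0xb660200182d5) (nat_lit 12177) (nat_lit 0xaf048000293e) (.node (.node
  (.node (.node .nil (nat_lit 0xb6602001964a) (nat_lit 29584) (nat_lit 0xa54b00129454) .nil) (nat_lit
  0xb660200803da) (nat_lit 10513) (nat_lit 0xf210c000293e) (.node .nil (nat_lit 0xb66020081745) (nat_lit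
  28209) (nat_lit 0x97824000293e) .nil)) (nat_lit 0xb66020088e1c) (nat_lit 34704) (nat_lit 0x85161432c940)
  (.node (.node .nil (nat_lit 0xb66020089a83) (nat_lit 97) (nat_lit 0xecc04000293e) .nil) (nat_lit
  0xb66020090cc9) (nat_lit 50496) (nat_lit 0xa69110114e44) .nil)) (nat_lit 0xb66020091856) (nat_lit 26145)
  (nat_lit 0xbc120100293e) (.node (.node (.node .nil (nat_lit 0xb8419000b067) (nat_lit 15137) (nat_lit
  0x96009508a722) .nil) (nat_lit 0xb8419001262d) (nat_lit 2273) (nat_lit 0xa3405408a722) .nil) (nat_lit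
  0xb8419001964a) (nat_lit 3409) (nat_lit 0xc2181c08a722) (.node (.node .nil (nat_lit 0xb84190021e26) (nat_lit
  19217) (nat_lit 0x91104d08a722) .nil) (nat_lit 0xb8419002ae41) (nat_lit 24032) (nat_lit 0x88494c272211)
  .nil))))) (nat_lit 0xb8419003380b) (nat_lit 19408) (nat_lit 0x8269112d024c) (.node (.node (.node (.node
  (.node (.node .nil (nat_lit 0xb8419003886c) (nat_lit 45728) (nat_lit 0xa0031d0f6840) .nil) (nat_lit
  0xb84190043c4c) (nat_lit 44289) (nat_lit 0x94585008a722) (.node .nil (nat_lit 0xb84190048c2b) (nat_lit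
  28784) (nat_lit 0x8e4218212945) .nil)) (nat_lit 0xb84190051a61) (nat_lit 18257) (nat_lit 0xc040d908a722)
  (.node (.node .nil (nat_lit 0xb8419005aa06) (nat_lit 3776) (nat_lit 0xa60849096314) .nil) (nat_lit
  0xb8419006226a) (nat_lit 22704) (nat_lit 0xa96009060b54) .nil)) (nat_lit 0xb8419006920d) (nat_lit 29809)
  (nat_lit 0x93488808a722) (.node (.node (.node .nil (nat_lit 0xb84190070447) (nat_lit 28432) (nat_lit
  0x812a582e4105) .nil) (nat_lit 0xb8419007b420) (nat_lit 20081) (nat_lit 0xc7500108a722) .nil) (nat_lit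
  0xb9086000149f) (nat_lit 38320) (nat_lit 0x86cc04192243) (.node (.node .nil (nat_lit 0xb9086000e21b)
  (nat_lit 9073) (nat_lit 0xd08c480b4093) .nil) (nat_lit 0xb9086000f684) (nat_lit 52704) (nat_lit
  0x9a444105aa06) .nil))) (nat_lit 0xb90860022387) (nat_lit 7696) (nat_lit 0x8c0e4213e005) (.node (.node
  (.node (.node .nil (nat_lit 0xb90860023718) (nat_lit 13489) (nat_lit 0xc20c8319c058) .nil) (nat_lit
  0xb9086002c19c) (nat_lit 26305) (nat_lit 0x88c48a243324) (.node .nil (nat_lit 0xb9086002d503) (nat_lit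
  16368) (nat_lit 0x89a444164a03) .nil)) (nat_lit 0xb9086004470e) (nat_lit 44337) (nat_lit 0x81c843243324)
  (.node (.node .nil (nat_lit 0xb90860045391) (nat_lit 7904) (nat_lit 0x8462451b8c02) .nil) (nat_lit
  0xb9086004a515) (nat_lit 14864) (nat_lit 0x81c8431e2604) .nil)) (nat_lit 0xb9086004b18a) (nat_lit 12608)
  (nat_lit 0x98ea00070447) (.node (.node (.node .nil (nat_lit 0xb90860066489) (nat_lit 4881) (nat_lit
  0xd98081024c5a) .nil) (nat_lit 0xb90860067016) (nat_lit 36112) (nat_lit 0x978240086c07) .nil) (nat_lit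
  0xb90860068692) (nat_lit 14592) (nat_lit 0x9228460dc601) (.node (.node .nil (nat_lit 0xb9086006920d)
  (nat_lit 5569) (nat_lit 0x934888243324) .nil) (nat_lit 0xba800c003da1) (nat_lit 42241) (nat_lit
  0x8063a8129454) .nil)))) (nat_lit 0xba800c007b42) (nat_lit 53313) (nat_lit 0x8063a8159013) (.node (.node
  (.node (.node (.node .nil (nat_lit 0xba800c010f13) (nat_lit 25248) (nat_lit 0xc012a5174510) .nil) (nat_lit
  0xba800c0132b2) (nat_lit 25089) (nat_lit 0x8063a8390415) (.node .nil (nat_lit 0xba800c0149f0) (nat_lit 4736)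
  (nat_lit 0xc012a50f6840) .nil)) (nat_lit 0xba800c017451) (nat_lit 40689) (nat_lit 0x8063a83e0052) (.node
  (.node .nil (nat_lit 0xba800c041572) (nat_lit 15952) (nat_lit 0xc012a503a152) .nil) (nat_lit 0xba800c0428d3)
  (nat_lit 21649) (nat_lit 0x8063a80e1c11) .nil)) (nat_lit 0xba800c045391) (nat_lit 2177) (nat_lit
  0x8063a81b8c02) (.node (.node (.node .nil (nat_lit 0xba800c046e30) (nat_lit 45057) (nat_lit 0x8063a8091856)
  .nil) (nat_lit 0xba800c051a61) (nat_lit 38833) (nat_lit 0x8063a8371804) .nil) (nat_lit 0xba800c055c82)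
  (nat_lit 17713) (nat_lit 0x8063a8301c43) (.node (.node .nil (nat_lit 0xbc120100293e) (nat_lit 15393)
  (nat_lit 0x88d015132b20) .nil) (nat_lit 0xbc1201008dc6) (nat_lit 35232) (nat_lit 0x80254b34c214) .nil)))
  (nat_lit 0xbc120100a4f8) (nat_lit 1824) (nat_lit 0xa4a608104157) (.node (.node (.node (.node .nil (nat_lit
  0xbc12010149f0) (nat_lit 22305) (nat_lit 0xc040d9132b20) .nil) (nat_lit 0xbc12010160ce) (nat_lit 36672)
  (nat_lit 0xa0e106140659) (.node .nil (nat_lit 0xbc120101c436) (nat_lit 44880) (nat_lit 0xb0a05104470e)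
  .nil)) (nat_lit 0xbc120101ed08) (nat_lit 10848) (nat_lit 0x94231220c44d) (.node (.node .nil (nat_lit
  0xbc1201024c5a) (nat_lit 51857) (nat_lit 0xe084940c504b) .nil) (nat_lit 0xbc1201026564) (nat_lit 36000)
  (nat_lit 0x80c75034200f) .nil)) (nat_lit 0xbc120102c19c) (nat_lit 14816) (nat_lit 0x908607246158) (.node
  (.node (.node .nil (nat_lit 0xbc120102e8a2) (nat_lit 1201) (nat_lit 0xecc04000149f) .nil) (nat_lit
  0xbc12010305aa) (nat_lit 43536) (nat_lit 0x94c109202656) .nil) (nat_lit 0xbc1201032c94) (nat_lit 23105)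
  (nat_lit 0xa81458132b20) (.node (.node .nil (nat_lit 0xbc120103886c) (nat_lit 49329) (nat_lit
  0xa4508c132b20) .nil) (nat_lit 0xbc120103a152) (nat_lit 21281) (nat_lit 0xc05446132b20) .nil))))))
def tt3360_22 : T := (.node (.node (.node (.node (.node (.node (.node .nil (nat_lit 0xc0063a078981) (nat_lit
  40432) (nat_lit 0x8544681a8311) .nil) (nat_lit 0xc0063a08e1c1) (nat_lit 47313) (nat_lit 0xb03908068692)
  (.node .nil (nat_lit 0xc0063a0ab904) (nat_lit 6032) (nat_lit 0x854468103a15) .nil)) (nat_lit 0xc0063a0d3085)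
  (nat_lit 37921) (nat_lit 0xb20e1004b18a) (.node (.node .nil (nat_lit 0xc0063a0f6840) (nat_lit 2224) (nat_lit
  0x854468283113) .nil) (nat_lit 0xc0063a146984) (nat_lit 15905) (nat_lit 0x80bc12360388) .nil)) (nat_lit
  0xc0063a163141) (nat_lit 18609) (nat_lit 0xa0178216a818) (.node (.node (.node .nil (nat_lit 0xc0063a195901)
  (nat_lit 39073) (nat_lit 0x840d9832b202) .nil) (nat_lit 0xc0063a1b01c4) (nat_lit 50689) (nat_lit
  0xa4a608121992) (.node .nil (nat_lit 0xc0063a1c8845) (nat_lit 28337) (nat_lit 0x863a8030851a) .nil))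
  (nat_lit 0xc0063a1ed080) (nat_lit 25136) (nat_lit 0x854468089a83) (.node (.node .nil (nat_lit
  0xc012a501ed08) (nat_lit 31569) (nat_lit 0xd304240c2b09) .nil) (nat_lit 0xc012a503a152) (nat_lit 8800)
  (nat_lit 0xcc109203886c) .nil))) (nat_lit 0xc012a50cc912) (nat_lit 27104) (nat_lit 0xe4218103886c) (.node
  (.node (.node (.node .nil (nat_lit 0xc012a50d241a) (nat_lit 40337) (nat_lit 0xd3042404b18a) .nil) (nat_lit
  0xc012a50e8548) (nat_lit 52689) (nat_lit 0xd3042404cac8) (.node .nil (nat_lit 0xc012a50f6840) (nat_lit 2417)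
  (nat_lit 0xd3042408e1c1) .nil)) (nat_lit 0xc012a514e442) (nat_lit 27025) (nat_lit 0xd304240428d3) (.node
  (.node .nil (nat_lit 0xc012a515094a) (nat_lit 50113) (nat_lit 0xd304240803da) .nil) (nat_lit 0xc012a516a818)
  (nat_lit 44928) (nat_lit 0x88269103886c) .nil)) (nat_lit 0xc012a5174510) (nat_lit 14753) (nat_lit
  0xd30424045391) (.node (.node (.node .nil (nat_lit 0xc012a519c058) (nat_lit 40576) (nat_lit 0xa0178203886c)
  .nil) (nat_lit 0xc012a51b8c02) (nat_lit 34384) (nat_lit 0xf8240203886c) .nil) (nat_lit 0xc02f0401d0a9)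
  (nat_lit 12960) (nat_lit 0x828b0a152074) (.node (.node .nil (nat_lit 0xc02f0406c071) (nat_lit 41601)
  (nat_lit 0xc190700e088e) .nil) (nat_lit 0xc02f040710d8) (nat_lit 29249) (nat_lit 0xc19070022387) .nil))))
  (nat_lit 0xc02f040a903a) (nat_lit 17377) (nat_lit 0xc1907018428d) (.node (.node (.node (.node (.node .nil
  (nat_lit 0xc02f040b4093) (nat_lit 41361) (nat_lit 0xc19070146984) .nil) (nat_lit 0xc02f040c504b) (nat_lit
  50321) (nat_lit 0xc19070164a03) (.node .nil (nat_lit 0xc02f040d80e2) (nat_lit 43104) (nat_lit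
  0xc20c83152074) .nil)) (nat_lit 0xc02f041280cb) (nat_lit 34592) (nat_lit 0xa2c281152074) (.node (.node .nil
  (nat_lit 0xc02f04135062) (nat_lit 50977) (nat_lit 0xc190700a4f80) .nil) (nat_lit 0xc02f041440ba) (nat_lit
  34912) (nat_lit 0x88c48a152074) .nil)) (nat_lit 0xc02f04159013) (nat_lit 5297) (nat_lit 0xc1907004470e)
  (.node (.node (.node .nil (nat_lit 0xc02f041810f1) (nat_lit 9393) (nat_lit 0xc190701e2604) .nil) (nat_lit
  0xc02f0419c058) (nat_lit 6673) (nat_lit 0xc19070120d0d) .nil) (nat_lit 0xc02f041ed080) (nat_lit 2688)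
  (nat_lit 0xe24508089a83) (.node (.node .nil (nat_lit 0xc02f041f0029) (nat_lit 23809) (nat_lit
  0xc190701c0583) .nil) (nat_lit 0xc040d905aa06) (nat_lit 8369) (nat_lit 0xa1189110a34c) .nil))) (nat_lit
  0xc040d907b420) (nat_lit 30064) (nat_lit 0xa284620c2b09) (.node (.node (.node (.node .nil (nat_lit
  0xc040d908a722) (nat_lit 10224) (nat_lit 0xa28462157208) .nil) (nat_lit 0xc040d90ab904) (nat_lit 31584)
  (nat_lit 0xa28462103a15) (.node .nil (nat_lit 0xc040d90d0d24) (nat_lit 40385) (nat_lit 0xa09a44112199)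
  .nil)) (nat_lit 0xc040d90f1302) (nat_lit 2432) (nat_lit 0xa28462195901) (.node (.node .nil (nat_lit
  0xc040d9113506) (nat_lit 41217) (nat_lit 0xb0a051011b8c) .nil) (nat_lit 0xc040d9132b20) (nat_lit 12768)
  (nat_lit 0xa28462112199) .nil)) (nat_lit 0xc040d9199224) (nat_lit 53473) (nat_lit 0xb12284009959) (.node
  (.node (.node .nil (nat_lit 0xc040d91b8c02) (nat_lit 9137) (nat_lit 0x9189142032c9) .nil) (nat_lit
  0xc040d91c3822) (nat_lit 29729) (nat_lit 0xa181c8103a15) .nil) (nat_lit 0xc040d91e2604) (nat_lit 50816)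
  (nat_lit 0xa284620d3085) (.node (.node .nil (nat_lit 0xc05446058338) (nat_lit 38161) (nat_lit
  0xd40063023718) .nil) (nat_lit 0xc05446078981) (nat_lit 4561) (nat_lit 0xd40063096314) .nil))))) (nat_lit
  0xc0544609a831) (nat_lit 24736) (nat_lit 0xd98081023718) (.node (.node (.node (.node (.node (.node .nil
  (nat_lit 0xc054460ba288) (nat_lit 50880) (nat_lit 0x81b301244866) .nil) (nat_lit 0xc054460c2b09) (nat_lit
  3120) (nat_lit 0x9b3010244866) (.node .nil (nat_lit 0xc054460e21b0) (nat_lit 45249) (nat_lit 0xd40063088e1c)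
  .nil)) (nat_lit 0xc05446112199) (nat_lit 47920) (nat_lit 0x92a580244866) (.node (.node .nil (nat_lit
  0xc05446132b20) (nat_lit 12145) (nat_lit 0xd400630a4f80) .nil) (nat_lit 0xc0544614a2a1) (nat_lit 30960)
  (nat_lit 0xd015110ba288) .nil)) (nat_lit 0xc0544616a818) (nat_lit 19393) (nat_lit 0xd40063087898) (.node
  (.node (.node .nil (nat_lit 0xc054461889a8) (nat_lit 21681) (nat_lit 0xd4006300f684) .nil) (nat_lit
  0xc054461a8311) (nat_lit 48992) (nat_lit 0xc8a118131681) .nil) (nat_lit 0xc0a2c2031135) (nat_lit 48752)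
  (nat_lit 0xcc1092120d0d) (.node (.node .nil (nat_lit 0xc0a2c205481d) (nat_lit 48449) (nat_lit
  0xaa580210a34c) .nil) (nat_lit 0xc0a2c2065928) (nat_lit 40817) (nat_lit 0xaa234010d80e) .nil))) (nat_lit
  0xc0a2c2084539) (nat_lit 12721) (nat_lit 0xb039080ac246) (.node (.node (.node (.node .nil (nat_lit
  0xc0a2c20b540c) (nat_lit 50529) (nat_lit 0xb0424a0ab904) .nil) (nat_lit 0xc0a2c20d0d24) (nat_lit 8689)
  (nat_lit 0xa09a441a610a) (.node .nil (nat_lit 0xc0a2c20e1c11) (nat_lit 12224) (nat_lit 0xd0018e0e1c11)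
  .nil)) (nat_lit 0xc0a2c2111c38) (nat_lit 10545) (nat_lit 0x828b0a387044) (.node (.node .nil (nat_lit
  0xc0a2c2120d0d) (nat_lit 31888) (nat_lit 0x96009521e260) .nil) (nat_lit 0xc0a2c2145425) (nat_lit 25600)
  (nat_lit 0xd015110e088e) .nil)) (nat_lit 0xc0a2c2174510) (nat_lit 2209) (nat_lit 0x92530428a84a) (.node
  (.node (.node .nil (nat_lit 0xc0a2c2195901) (nat_lit 42513) (nat_lit 0x88494c32b202) .nil) (nat_lit
  0xc0a2c21a4834) (nat_lit 36977) (nat_lit 0x88320e32c940) .nil) (nat_lit 0xc0a2c21c111c) (nat_lit 24897)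
  (nat_lit 0x98ea0022114e) (.node (.node .nil (nat_lit 0xc0a2c21f0029) (nat_lit 7313) (nat_lit 0x989142226a0c)
  .nil) (nat_lit 0xc0d98001262d) (nat_lit 25153) (nat_lit 0xa340540c2b09) .nil)))) (nat_lit 0xc0d98006226a)
  (nat_lit 14896) (nat_lit 0xa96009108a72) (.node (.node (.node (.node (.node .nil (nat_lit 0xc0d980070447)
  (nat_lit 3793) (nat_lit 0xa60849096314) .nil) (nat_lit 0xc0d9800a205d) (nat_lit 28801) (nat_lit
  0x8e4218212945) (.node .nil (nat_lit 0xc0d9800b0670) (nat_lit 19425) (nat_lit 0x8269112d024c) .nil))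
  (nat_lit 0xc0d9800c0237) (nat_lit 30928) (nat_lit 0xe421810b540c) (.node (.node .nil (nat_lit
  0xc0d9800d241a) (nat_lit 49393) (nat_lit 0x87210c284a51) .nil) (nat_lit 0xc0d980122433) (nat_lit 8497)
  (nat_lit 0xa54b000a205d) .nil)) (nat_lit 0xc0d98013021e) (nat_lit 22721) (nat_lit 0xa96009060b54) (.node
  (.node (.node .nil (nat_lit 0xc0d980140659) (nat_lit 6128) (nat_lit 0xaf0480108a72) .nil) (nat_lit
  0xc0d980152074) (nat_lit 42128) (nat_lit 0xc75001108a72) .nil) (nat_lit 0xc0d98018046e) (nat_lit 36032)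
  (nat_lit 0xa4508c108a72) (.node (.node .nil (nat_lit 0xc0d980192243) (nat_lit 24049) (nat_lit
  0x88494c272211) .nil) (nat_lit 0xc0d9801e2604) (nat_lit 28449) (nat_lit 0x812a582e4105) .nil))) (nat_lit
  0xc0d9801f0029) (nat_lit 32624) (nat_lit 0x8a1189108a72) (.node (.node (.node (.node .nil (nat_lit
  0xc0e421011b8c) (nat_lit 25569) (nat_lit 0xb1d4000c2b09) .nil) (nat_lit 0xc0e421060b54) (nat_lit 25472)
  (nat_lit 0xc0d98006226a) (.node .nil (nat_lit 0xc0e4210710d8) (nat_lit 3377) (nat_lit 0x81b3013c4c08) .nil))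
  (nat_lit 0xc0e4210803da) (nat_lit 29776) (nat_lit 0xb1d40006226a) (.node (.node .nil (nat_lit
  0xc0e421091856) (nat_lit 19329) (nat_lit 0xbc120101ed08) .nil) (nat_lit 0xc0e4210f1302) (nat_lit 43665)
  (nat_lit 0x8c7500318a09) .nil)) (nat_lit 0xc0e421121992) (nat_lit 48209) (nat_lit 0xa54b0018b409) (.node
  (.node (.node .nil (nat_lit 0xc0e4211412c6) (nat_lit 1024) (nat_lit 0xd0151106226a) .nil) (nat_lit
  0xc0e42115094a) (nat_lit 35504) (nat_lit 0xb8419006226a) .nil) (nat_lit 0xc0e4211a1a48) (nat_lit 45921)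
  (nat_lit 0xa88d01157208) (.node (.node .nil (nat_lit 0xc0e4211b01c4) (nat_lit 32320) (nat_lit
  0xc94c1006226a) .nil) (nat_lit 0xc0e4211c111c) (nat_lit 45632) (nat_lit 0x981c8406226a) .nil))))))
def tt3360_23 : T := (.node (.node (.node (.node (.node (.node (.node .nil (nat_lit 0xc10929068692) (nat_lit
  45745) (nat_lit 0x942312090cc9) .nil) (nat_lit 0xc109290a34c2) (nat_lit 10737) (nat_lit 0x892982140659)
  (.node .nil (nat_lit 0xc109290c44d4) (nat_lit 40545) (nat_lit 0x8c0e42112199) .nil)) (nat_lit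
  0xc109291262d0) (nat_lit 36304) (nat_lit 0x92017821a483) (.node (.node .nil (nat_lit 0xc10929129454)
  (nat_lit 9105) (nat_lit 0x9c20c8010f13) .nil) (nat_lit 0xc109291412c6) (nat_lit 36608) (nat_lit
  0x92017829c884) .nil)) (nat_lit 0xc1092914e442) (nat_lit 21441) (nat_lit 0x9907080428d3) (.node (.node
  (.node .nil (nat_lit 0xc10929185612) (nat_lit 7761) (nat_lit 0x840d98192243) .nil) (nat_lit 0xc1092918a096)
  (nat_lit 36992) (nat_lit 0x92017800f684) (.node .nil (nat_lit 0xc109291e2604) (nat_lit 21089) (nat_lit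
  0x812a581c0583) .nil)) (nat_lit 0xc109291ed080) (nat_lit 1536) (nat_lit 0x920178089a83) (.node (.node .nil
  (nat_lit 0xc120170293e0) (nat_lit 48513) (nat_lit 0xea0031007b42) .nil) (nat_lit 0xc1201704cac8) (nat_lit
  41073) (nat_lit 0xea0031055c82) .nil))) (nat_lit 0xc1201708dc60) (nat_lit 53664) (nat_lit 0xd98081026564)
  (.node (.node (.node (.node .nil (nat_lit 0xc120170a4f80) (nat_lit 7632) (nat_lit 0xe80a88026564) .nil)
  (nat_lit 0xc120170c16a8) (nat_lit 53680) (nat_lit 0x8d9808026564) (.node .nil (nat_lit 0xc120170e8548)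
  (nat_lit 1937) (nat_lit 0xea003104cac8) .nil)) (nat_lit 0xc120171055c8) (nat_lit 22944) (nat_lit
  0xb48882026564) (.node (.node .nil (nat_lit 0xc12017160ce0) (nat_lit 22929) (nat_lit 0xea0031043c4c) .nil)
  (nat_lit 0xc120171889a8) (nat_lit 13281) (nat_lit 0xea003100f684) .nil)) (nat_lit 0xc120171a1a48) (nat_lit
  17329) (nat_lit 0xea0031008dc6) (.node (.node (.node .nil (nat_lit 0xc120171c4360) (nat_lit 11697) (nat_lit
  0xea003105aa06) .nil) (nat_lit 0xc120171ed080) (nat_lit 7520) (nat_lit 0xf50018026564) .nil) (nat_lit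
  0xc1348800cb25) (nat_lit 44081) (nat_lit 0x8390860c2b09) (.node (.node .nil (nat_lit 0xc13488060b54)
  (nat_lit 51313) (nat_lit 0x8d9808022387) .nil) (nat_lit 0xc1348806c071) (nat_lit 26129) (nat_lit
  0x81b3010e088e) .nil)))) (nat_lit 0xc134880a0963) (nat_lit 12833) (nat_lit 0x89298206920d) (.node (.node
  (.node (.node (.node .nil (nat_lit 0xc134880ac246) (nat_lit 14273) (nat_lit 0x85028b0ab904) .nil) (nat_lit
  0xc134880c0237) (nat_lit 3088) (nat_lit 0x84a9600b540c) (.node .nil (nat_lit 0xc134880cc912) (nat_lit 37024)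
  (nat_lit 0x84a960185612) .nil)) (nat_lit 0xc13488104157) (nat_lit 48656) (nat_lit 0x84a960324486) (.node
  (.node .nil (nat_lit 0xc13488108a72) (nat_lit 21840) (nat_lit 0x84a960214698) .nil) (nat_lit 0xc13488164a03)
  (nat_lit 49888) (nat_lit 0x84a9600b4093) .nil)) (nat_lit 0xc13488168126) (nat_lit 36865) (nat_lit
  0x80a88d0f1302) (.node (.node (.node .nil (nat_lit 0xc134881a4834) (nat_lit 385) (nat_lit 0x88320e078981)
  .nil) (nat_lit 0xc134881a8311) (nat_lit 4593) (nat_lit 0x8419070ba288) .nil) (nat_lit 0xc134881c4360)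
  (nat_lit 13328) (nat_lit 0x84a96039108a) (.node (.node .nil (nat_lit 0xc134881c8845) (nat_lit 30449)
  (nat_lit 0x863a8009810f) .nil) (nat_lit 0xc19070022387) (nat_lit 17729) (nat_lit 0x838419007b42) .nil)))
  (nat_lit 0xc1907004470e) (nat_lit 2752) (nat_lit 0x9d4006200f68) (.node (.node (.node (.node .nil (nat_lit
  0xc19070066489) (nat_lit 53152) (nat_lit 0x8ea003200f68) .nil) (nat_lit 0xc19070086c07) (nat_lit 27904)
  (nat_lit 0xd98081067016) (.node .nil (nat_lit 0xc190700a4f80) (nat_lit 41937) (nat_lit 0x82691101964a)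
  .nil)) (nat_lit 0xc190700c2b09) (nat_lit 13617) (nat_lit 0x80254b03da10) (.node (.node .nil (nat_lit
  0xc190700e088e) (nat_lit 28400) (nat_lit 0x88d015200f68) .nil) (nat_lit 0xc19070102e8a) (nat_lit 17776)
  (nat_lit 0x85e090200f68) .nil)) (nat_lit 0xc19070120d0d) (nat_lit 3473) (nat_lit 0x82f048010f13) (.node
  (.node (.node .nil (nat_lit 0xc19070146984) (nat_lit 28129) (nat_lit 0x80bc12034349) .nil) (nat_lit
  0xc19070164a03) (nat_lit 40864) (nat_lit 0xd4b0040b4093) .nil) (nat_lit 0xc1907018428d) (nat_lit 9697)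
  (nat_lit 0x836602009959) (.node (.node .nil (nat_lit 0xc190701a610a) (nat_lit 30833) (nat_lit
  0x831d4000e21b) .nil) (nat_lit 0xc190701c0583) (nat_lit 13744) (nat_lit 0xc120171ed080) .nil))))) (nat_lit
  0xc190701e2604) (nat_lit 4993) (nat_lit 0x812a5802d503) (.node (.node (.node (.node (.node (.node .nil
  (nat_lit 0xc1c20c003da1) (nat_lit 35472) (nat_lit 0x81036616a818) .nil) (nat_lit 0xc1c20c041572) (nat_lit
  14144) (nat_lit 0x8103663c4c08) (.node .nil (nat_lit 0xc1c20c0428d3) (nat_lit 19040) (nat_lit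
  0x8103662ae410) .nil)) (nat_lit 0xc1c20c0a34c2) (nat_lit 53136) (nat_lit 0x81036624f801) (.node (.node .nil
  (nat_lit 0xc1c20c0e1c11) (nat_lit 20528) (nat_lit 0x8103660e1c11) .nil) (nat_lit 0xc1c20c0e21b0) (nat_lit
  35696) (nat_lit 0x81036618b409) .nil)) (nat_lit 0xc1c20c121992) (nat_lit 6384) (nat_lit 0x81036610cc91)
  (.node (.node (.node .nil (nat_lit 0xc1c20c160ce0) (nat_lit 2673) (nat_lit 0xe140a2043c4c) .nil) (nat_lit
  0xc1c20c163141) (nat_lit 33504) (nat_lit 0x8103663a2881) .nil) (nat_lit 0xc1c20c1810f1) (nat_lit 32496)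
  (nat_lit 0x810366229c88) (.node (.node .nil (nat_lit 0xc1c20c1c0583) (nat_lit 45600) (nat_lit
  0x8103661ed080) .nil) (nat_lit 0xc1c20c1c3822) (nat_lit 3744) (nat_lit 0x810366087898) .nil))) (nat_lit
  0xc20c83058338) (nat_lit 38608) (nat_lit 0x99070806c071) (.node (.node (.node (.node .nil (nat_lit
  0xc20c8305d144) (nat_lit 39104) (nat_lit 0xc1348806c071) .nil) (nat_lit 0xc20c83093168) (nat_lit 22464)
  (nat_lit 0xb0390806c071) (.node .nil (nat_lit 0xc20c83096314) (nat_lit 29825) (nat_lit 0xa98212146984)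
  .nil)) (nat_lit 0xc20c8310a34c) (nat_lit 18656) (nat_lit 0xb1228406c071) (.node (.node .nil (nat_lit
  0xc20c8310f130) (nat_lit 32913) (nat_lit 0xa54b0018a096) .nil) (nat_lit 0xc20c83152074) (nat_lit 30193)
  (nat_lit 0xac281411c382) .nil)) (nat_lit 0xc20c83157208) (nat_lit 52609) (nat_lit 0x8c8384316812) (.node
  (.node (.node .nil (nat_lit 0xc20c83199224) (nat_lit 144) (nat_lit 0xf82402011b8c) .nil) (nat_lit
  0xc20c8319c058) (nat_lit 7360) (nat_lit 0xa0178206c071) .nil) (nat_lit 0xc20c831c111c) (nat_lit 51456)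
  (nat_lit 0x981c8406c071) (.node (.node .nil (nat_lit 0xc20c831c4360) (nat_lit 7249) (nat_lit 0xb8419005aa06)
  .nil) (nat_lit 0xc2181c08a722) (nat_lit 1728) (nat_lit 0x800c75157208) .nil)))) (nat_lit 0xc2181c08e1c1)
  (nat_lit 11504) (nat_lit 0x800c7532b202) (.node (.node (.node (.node (.node .nil (nat_lit 0xc2181c0d80e2)
  (nat_lit 37105) (nat_lit 0xd8502803a152) .nil) (nat_lit 0xc2181c0dc601) (nat_lit 36384) (nat_lit
  0x800c750f1302) (.node .nil (nat_lit 0xc2181c118561) (nat_lit 8065) (nat_lit 0xd85028010f13) .nil)) (nat_lit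
  0xc2181c11c382) (nat_lit 13457) (nat_lit 0xd85028060b54) (.node (.node .nil (nat_lit 0xc2181c14a2a1)
  (nat_lit 32512) (nat_lit 0x800c750ba288) .nil) (nat_lit 0xc2181c14e442) (nat_lit 577) (nat_lit
  0xd850280428d3) .nil)) (nat_lit 0xc2181c192243) (nat_lit 44368) (nat_lit 0x800c75237180) (.node (.node
  (.node .nil (nat_lit 0xc2181c1964a0) (nat_lit 20145) (nat_lit 0xd85028078981) .nil) (nat_lit 0xc2181c1c0583)
  (nat_lit 16593) (nat_lit 0xd8502802ae41) .nil) (nat_lit 0xc2181c1c4360) (nat_lit 48224) (nat_lit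
  0x800c7539108a) (.node (.node .nil (nat_lit 0xc231220182d5) (nat_lit 8289) (nat_lit 0xaf0480007b42) .nil)
  (nat_lit 0xc2312204cac8) (nat_lit 7121) (nat_lit 0xaa2340055c82) .nil))) (nat_lit 0xc23122088e1c) (nat_lit
  11729) (nat_lit 0x8952c0262d02) (.node (.node (.node (.node .nil (nat_lit 0xc23122090cc9) (nat_lit 20992)
  (nat_lit 0xa69110106869) .nil) (nat_lit 0xc231220c44d4) (nat_lit 47473) (nat_lit 0x8c0e42237180) (.node .nil
  (nat_lit 0xc231220dc601) (nat_lit 16768) (nat_lit 0xe084940f1302) .nil)) (nat_lit 0xc2312210cc91) (nat_lit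
  15073) (nat_lit 0xa54b000a34c2) (.node (.node .nil (nat_lit 0xc23122114e44) (nat_lit 7664) (nat_lit
  0xca9600106869) .nil) (nat_lit 0xc23122140659) (nat_lit 41104) (nat_lit 0xaf0480106869) .nil)) (nat_lit
  0xc2312215848c) (nat_lit 42848) (nat_lit 0x8c8384106869) (.node (.node (.node .nil (nat_lit 0xc2312219c058)
  (nat_lit 41809) (nat_lit 0x831d402c6282) .nil) (nat_lit 0xc231221c8845) (nat_lit 53009) (nat_lit
  0x863a80294542) .nil) (nat_lit 0xc24a6004a515) (nat_lit 37233) (nat_lit 0x8a88d0306701) (.node (.node .nil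
  (nat_lit 0xc24a6004b18a) (nat_lit 12640) (nat_lit 0x98ea0021007b) .nil) (nat_lit 0xc24a600d241a) (nat_lit
  42897) (nat_lit 0x92a580284a51) .nil))))))
def tt3360_24 : T := (.node (.node (.node (.node (.node (.node (.node .nil (nat_lit 0xc24a60112199) (nat_lit
  43745) (nat_lit 0x900bc12ae410) .nil) (nat_lit 0xc24a60113506) (nat_lit 45665) (nat_lit 0xb0a0510a4f80)
  (.node .nil (nat_lit 0xc24a6015848c) (nat_lit 11953) (nat_lit 0xa06cc01a8311) .nil)) (nat_lit
  0xc24a60159013) (nat_lit 13008) (nat_lit 0xd4b0040a4f80) (.node (.node .nil (nat_lit 0xc24a6018a096)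
  (nat_lit 10064) (nat_lit 0xde090000f684) .nil) (nat_lit 0xc24a6018b409) (nat_lit 30736) (nat_lit
  0x863a8021007b) .nil)) (nat_lit 0xc24a601c0583) (nat_lit 5152) (nat_lit 0xc02f041ed080) (.node (.node (.node
  .nil (nat_lit 0xc24a601c111c) (nat_lit 35360) (nat_lit 0x981c8421007b) .nil) (nat_lit 0xc281450132b2)
  (nat_lit 51728) (nat_lit 0xcc109201ed08) (.node .nil (nat_lit 0xc28145046e30) (nat_lit 46209) (nat_lit
  0xc680a8091856) .nil)) (nat_lit 0xc28145055c82) (nat_lit 13953) (nat_lit 0xc680a8096314) (.node (.node .nil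
  (nat_lit 0xc28145087898) (nat_lit 45264) (nat_lit 0x80bc12320265) .nil) (nat_lit 0xc281450c16a8) (nat_lit
  13729) (nat_lit 0xc680a8114e44) .nil))) (nat_lit 0xc281450d241a) (nat_lit 44608) (nat_lit 0x8c7500320265)
  (.node (.node (.node (.node .nil (nat_lit 0xc28145102e8a) (nat_lit 19713) (nat_lit 0xc680a8017451) .nil)
  (nat_lit 0xc28145111c38) (nat_lit 19249) (nat_lit 0xc680a8010f13) (.node .nil (nat_lit 0xc28145157208)
  (nat_lit 25648) (nat_lit 0x892982320265) .nil)) (nat_lit 0xc28145185612) (nat_lit 9712) (nat_lit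
  0xc8a118055c82) (.node (.node .nil (nat_lit 0xc281451964a0) (nat_lit 46320) (nat_lit 0xc94c1004b18a) .nil)
  (nat_lit 0xc281451c3822) (nat_lit 26352) (nat_lit 0xc58502087898) .nil)) (nat_lit 0xc3039000b067) (nat_lit
  30305) (nat_lit 0x960095007b42) (.node (.node (.node .nil (nat_lit 0xc30390043c4c) (nat_lit 37281) (nat_lit
  0x945850022387) .nil) (nat_lit 0xc30390048c2b) (nat_lit 7585) (nat_lit 0x9423120258c5) .nil) (nat_lit
  0xc30390086c07) (nat_lit 30513) (nat_lit 0x821253146984) (.node (.node .nil (nat_lit 0xc3039008dc60)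
  (nat_lit 27649) (nat_lit 0x8269111412c6) .nil) (nat_lit 0xc303900c504b) (nat_lit 12672) (nat_lit
  0xaa5802118561) .nil)))) (nat_lit 0xc303900ce02c) (nat_lit 26992) (nat_lit 0x88320e118561) (.node (.node
  (.node (.node (.node .nil (nat_lit 0xc30390106869) (nat_lit 44208) (nat_lit 0xa2209a118561) .nil) (nat_lit
  0xc3039010d80e) (nat_lit 14433) (nat_lit 0x907083060b54) (.node .nil (nat_lit 0xc30390145425) (nat_lit 1073)
  (nat_lit 0x922846045391) .nil)) (nat_lit 0xc3039014e442) (nat_lit 14672) (nat_lit 0xc2181c118561) (.node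
  (.node .nil (nat_lit 0xc3039018046e) (nat_lit 23905) (nat_lit 0x846245121992) .nil) (nat_lit 0xc3039018b409)
  (nat_lit 48736) (nat_lit 0x863a80118561) .nil)) (nat_lit 0xc303901c3822) (nat_lit 24480) (nat_lit
  0xe60206087898) (.node (.node (.node .nil (nat_lit 0xc303901c8845) (nat_lit 40497) (nat_lit 0x863a80104157)
  .nil) (nat_lit 0xc4134801c436) (nat_lit 51872) (nat_lit 0xb9086004470e) .nil) (nat_lit 0xc4134802e8a2)
  (nat_lit 4129) (nat_lit 0xaa234000149f) (.node (.node .nil (nat_lit 0xc41348032c94) (nat_lit 25408) (nat_lit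
  0xb9086004a515) .nil) (nat_lit 0xc41348086c07) (nat_lit 47808) (nat_lit 0xb90860067016) .nil))) (nat_lit
  0xc4134809a831) (nat_lit 23408) (nat_lit 0xb90860023718) (.node (.node (.node (.node .nil (nat_lit
  0xc413480a84a5) (nat_lit 10384) (nat_lit 0xb9086006920d) .nil) (nat_lit 0xc413480b4093) (nat_lit 27249)
  (nat_lit 0x8031d42a060b) (.node .nil (nat_lit 0xc4134810cc91) (nat_lit 25040) (nat_lit 0xb90860068692)
  .nil)) (nat_lit 0xc413481108a7) (nat_lit 39264) (nat_lit 0xb9086002c19c) (.node (.node .nil (nat_lit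
  0xc41348122433) (nat_lit 9152) (nat_lit 0xb90860066489) .nil) (nat_lit 0xc4134813e005) (nat_lit 14080)
  (nat_lit 0xb90860022387) .nil)) (nat_lit 0xc4134818a096) (nat_lit 10465) (nat_lit 0x88269122114e) (.node
  (.node (.node .nil (nat_lit 0xc413481964a0) (nat_lit 22048) (nat_lit 0xb9086004b18a) .nil) (nat_lit
  0xc413481a4834) (nat_lit 32865) (nat_lit 0x88320e2205d1) .nil) (nat_lit 0xc413481b8c02) (nat_lit 257)
  (nat_lit 0x8a05162032c9) (.node (.node .nil (nat_lit 0xc4413401964a) (nat_lit 53489) (nat_lit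
  0xc88826023718) .nil) (nat_lit 0xc4413402ae41) (nat_lit 26913) (nat_lit 0xc888260710d8) .nil))))) (nat_lit
  0xc44134089a83) (nat_lit 32224) (nat_lit 0xe4218103da10) (.node (.node (.node (.node (.node (.node .nil
  (nat_lit 0xc44134090cc9) (nat_lit 49825) (nat_lit 0xc88826112199) .nil) (nat_lit 0xc441340a34c2) (nat_lit
  8913) (nat_lit 0xc88826140659) (.node .nil (nat_lit 0xc441340ba288) (nat_lit 53392) (nat_lit 0x81b30118046e)
  .nil)) (nat_lit 0xc44134102e8a) (nat_lit 15472) (nat_lit 0x85e09018046e) (.node (.node .nil (nat_lit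
  0xc44134131681) (nat_lit 12433) (nat_lit 0xc88826045391) .nil) (nat_lit 0xc4413418b409) (nat_lit 26960)
  (nat_lit 0x863a8018046e) .nil)) (nat_lit 0xc44134192243) (nat_lit 44912) (nat_lit 0xc48a1118046e) (.node
  (.node (.node .nil (nat_lit 0xc441341a1a48) (nat_lit 27072) (nat_lit 0xa1189118046e) .nil) (nat_lit
  0xc441341b8c02) (nat_lit 14496) (nat_lit 0xe3a800045391) .nil) (nat_lit 0xc4680a0182d5) (nat_lit 9472)
  (nat_lit 0x886072238704) (.node (.node .nil (nat_lit 0xc4680a0293e0) (nat_lit 38336) (nat_lit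
  0x886072318a09) .nil) (nat_lit 0xc4680a081745) (nat_lit 28496) (nat_lit 0x886072371804) .nil))) (nat_lit
  0xc4680a0b0670) (nat_lit 11008) (nat_lit 0x886072251509) (.node (.node (.node (.node .nil (nat_lit
  0xc4680a1007b4) (nat_lit 6865) (nat_lit 0x89a444360388) .nil) (nat_lit 0xc4680a118561) (nat_lit 31296)
  (nat_lit 0x886072360388) (.node .nil (nat_lit 0xc4680a129454) (nat_lit 46576) (nat_lit 0x886072240e85)
  .nil)) (nat_lit 0xc4680a131681) (nat_lit 16929) (nat_lit 0x8c8384332448) (.node (.node .nil (nat_lit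
  0xc4680a1810f1) (nat_lit 5441) (nat_lit 0xa181c81e2604) .nil) (nat_lit 0xc4680a199224) (nat_lit 5520)
  (nat_lit 0x886072011b8c) .nil)) (nat_lit 0xc4680a1a8311) (nat_lit 34513) (nat_lit 0xb405440ba288) (.node
  (.node (.node .nil (nat_lit 0xc4680a1b01c4) (nat_lit 26432) (nat_lit 0x886072309185) .nil) (nat_lit
  0xc48a110160ce) (nat_lit 33088) (nat_lit 0xa0e1060b0670) .nil) (nat_lit 0xc48a11026564) (nat_lit 31440)
  (nat_lit 0xc0d9800b0670) (.node (.node .nil (nat_lit 0xc48a110305aa) (nat_lit 5584) (nat_lit 0x94c1090b0670)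
  .nil) (nat_lit 0xc48a110851a6) (nat_lit 14833) (nat_lit 0x908607246158) .nil)))) (nat_lit 0xc48a11093168)
  (nat_lit 29456) (nat_lit 0xb039080b0670) (.node (.node (.node (.node (.node .nil (nat_lit 0xc48a110a34c2)
  (nat_lit 36689) (nat_lit 0xa0e106140659) .nil) (nat_lit 0xc48a110b540c) (nat_lit 52801) (nat_lit
  0xb0424a04a515) (.node .nil (nat_lit 0xc48a111055c8) (nat_lit 39552) (nat_lit 0xb488820b0670) .nil))
  (nat_lit 0xc48a11113506) (nat_lit 29632) (nat_lit 0xe0900b0b0670) (.node (.node .nil (nat_lit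
  0xc48a111230ac) (nat_lit 6256) (nat_lit 0x80a88d0b0670) .nil) (nat_lit 0xc48a11135062) (nat_lit 36017)
  (nat_lit 0x80c75034200f) .nil)) (nat_lit 0xc48a1118046e) (nat_lit 32192) (nat_lit 0xa4508c0b0670) (.node
  (.node (.node .nil (nat_lit 0xc48a111964a0) (nat_lit 38672) (nat_lit 0xf0480504b18a) .nil) (nat_lit
  0xc48a111a610a) (nat_lit 17361) (nat_lit 0xb4054400e21b) .nil) (nat_lit 0xc48a111b01c4) (nat_lit 1841)
  (nat_lit 0xa4a608104157) (.node (.node .nil (nat_lit 0xc508c400e21b) (nat_lit 34625) (nat_lit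
  0xe41c200b4093) .nil) (nat_lit 0xc508c4023718) (nat_lit 44864) (nat_lit 0x952c01288174) .nil))) (nat_lit
  0xc508c402d503) (nat_lit 26769) (nat_lit 0xe41c20096314) (.node (.node (.node (.node .nil (nat_lit
  0xc508c4084539) (nat_lit 47537) (nat_lit 0xe41c200ac246) .nil) (nat_lit 0xc508c408a722) (nat_lit 53521)
  (nat_lit 0xe41c200182d5) (.node .nil (nat_lit 0xc508c40a7221) (nat_lit 1280) (nat_lit 0xd4468003380b) .nil))
  (nat_lit 0xc508c40a903a) (nat_lit 35457) (nat_lit 0xe41c2003a152) (.node (.node .nil (nat_lit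
  0xc508c410132b) (nat_lit 30160) (nat_lit 0x934888288174) .nil) (nat_lit 0xc508c410f130) (nat_lit 46544)
  (nat_lit 0xc75001102e8a) .nil)) (nat_lit 0xc508c4122433) (nat_lit 9248) (nat_lit 0xd11a02066489) (.node
  (.node (.node .nil (nat_lit 0xc508c412c628) (nat_lit 35168) (nat_lit 0x85028b288174) .nil) (nat_lit
  0xc508c4185612) (nat_lit 49264) (nat_lit 0xd22209055c82) .nil) (nat_lit 0xc508c418b409) (nat_lit 14320)
  (nat_lit 0x863a80288174) (.node (.node .nil (nat_lit 0xc508c41a610a) (nat_lit 52945) (nat_lit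
  0xe41c2000e21b) .nil) (nat_lit 0xc508c41a8311) (nat_lit 28144) (nat_lit 0xc4680a131681) .nil))))))
def tt3360_25 : T := (.node (.node (.node (.node (.node (.node (.node .nil (nat_lit 0xc58502020ab9) (nat_lit
  21696) (nat_lit 0x8384191c4360) .nil) (nat_lit 0xc585020258c5) (nat_lit 23120) (nat_lit 0xc134881c4360)
  (.node .nil (nat_lit 0xc58502082ae4) (nat_lit 13296) (nat_lit 0xc20c831c4360) .nil)) (nat_lit
  0xc58502087898) (nat_lit 15568) (nat_lit 0x80bc121c4360) (.node (.node .nil (nat_lit 0xc585020a205d)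
  (nat_lit 53536) (nat_lit 0xa234051c4360) .nil) (nat_lit 0xc585020a7221) (nat_lit 25521) (nat_lit
  0x8c750013021e) .nil)) (nat_lit 0xc58502103a15) (nat_lit 49376) (nat_lit 0xe0900b032c94) (.node (.node
  (.node .nil (nat_lit 0xc58502106869) (nat_lit 49152) (nat_lit 0xa2209a1c4360) .nil) (nat_lit 0xc585021230ac)
  (nat_lit 32577) (nat_lit 0x90641c0f1302) (.node .nil (nat_lit 0xc585021262d0) (nat_lit 25121) (nat_lit
  0x9253040d241a) .nil)) (nat_lit 0xc585021810f1) (nat_lit 20576) (nat_lit 0xc120171c4360) (.node (.node .nil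
  (nat_lit 0xc5850218428d) (nat_lit 22161) (nat_lit 0x8366021c111c) .nil) (nat_lit 0xc585021a1a48) (nat_lit
  25936) (nat_lit 0xa118911c4360) .nil))) (nat_lit 0xc585021a4834) (nat_lit 14545) (nat_lit 0x88320e174510)
  (.node (.node (.node (.node .nil (nat_lit 0xc6245000cb25) (nat_lit 35520) (nat_lit 0xc0d98013021e) .nil)
  (nat_lit 0xc62450011b8c) (nat_lit 47777) (nat_lit 0xb1d400022387) (.node .nil (nat_lit 0xc6245001d0a9)
  (nat_lit 5104) (nat_lit 0x828b0a2c2461) .nil)) (nat_lit 0xc624500851a6) (nat_lit 24832) (nat_lit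
  0xc3039010d80e) (.node (.node .nil (nat_lit 0xc62450089a83) (nat_lit 22817) (nat_lit 0xa0e106131681) .nil)
  (nat_lit 0xc62450094a2a) (nat_lit 49760) (nat_lit 0x81511a2c2461) .nil)) (nat_lit 0xc6245009810f) (nat_lit
  15889) (nat_lit 0xa2c281113506) (.node (.node (.node .nil (nat_lit 0xc6245010132b) (nat_lit 27776) (nat_lit
  0x9348882c2461) .nil) (nat_lit 0xc6245010d80e) (nat_lit 53408) (nat_lit 0x804a962c2461) .nil) (nat_lit
  0xc624501108a7) (nat_lit 20880) (nat_lit 0xd11a0202c19c) (.node (.node .nil (nat_lit 0xc6245011c382)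
  (nat_lit 23360) (nat_lit 0xc2181c11c382) .nil) (nat_lit 0xc6245018428d) (nat_lit 47665) (nat_lit
  0x836602309185) .nil)))) (nat_lit 0xc624501889a8) (nat_lit 31712) (nat_lit 0x9092982c2461) (.node (.node
  (.node (.node (.node .nil (nat_lit 0xc62450195901) (nat_lit 11776) (nat_lit 0xc1c20c121992) .nil) (nat_lit
  0xc62450199224) (nat_lit 27825) (nat_lit 0xb1228402d503) (.node .nil (nat_lit 0xc680a8007b42) (nat_lit
  52624) (nat_lit 0x888269316812) .nil)) (nat_lit 0xc680a8010f13) (nat_lit 10800) (nat_lit 0x888269174510)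
  (.node (.node .nil (nat_lit 0xc680a8017451) (nat_lit 11121) (nat_lit 0x81b3013e0052) .nil) (nat_lit
  0xc680a8081745) (nat_lit 40704) (nat_lit 0x888269371804) .nil)) (nat_lit 0xc680a8091856) (nat_lit 33729)
  (nat_lit 0xbc120103a152) (.node (.node (.node .nil (nat_lit 0xc680a8096314) (nat_lit 7617) (nat_lit
  0xa98212163141) .nil) (nat_lit 0xc680a8103a15) (nat_lit 15617) (nat_lit 0x9b3010248343) .nil) (nat_lit
  0xc680a8113506) (nat_lit 53248) (nat_lit 0x888269146984) (.node (.node .nil (nat_lit 0xc680a8114e44)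
  (nat_lit 7505) (nat_lit 0xa530421a8311) .nil) (nat_lit 0xc680a8185612) (nat_lit 37456) (nat_lit
  0x888269055c82) .nil))) (nat_lit 0xc680a8192243) (nat_lit 46016) (nat_lit 0x888269237180) (.node (.node
  (.node (.node .nil (nat_lit 0xc680a8195901) (nat_lit 51504) (nat_lit 0x888269121992) .nil) (nat_lit
  0xc75001008dc6) (nat_lit 22384) (nat_lit 0xc134880a0963) (.node .nil (nat_lit 0xc7500100a4f8) (nat_lit
  26625) (nat_lit 0x81b3010c44d4) .nil)) (nat_lit 0xc750010803da) (nat_lit 8945) (nat_lit 0x8031d40dc601)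
  (.node (.node .nil (nat_lit 0xc75001082ae4) (nat_lit 38033) (nat_lit 0x85161408e1c1) .nil) (nat_lit
  0xc75001088e1c) (nat_lit 18528) (nat_lit 0x8516140a0963) .nil)) (nat_lit 0xc7500108a722) (nat_lit 11361)
  (nat_lit 0x8c75000182d5) (.node (.node (.node .nil (nat_lit 0xc750011007b4) (nat_lit 1248) (nat_lit
  0xe072100a0963) .nil) (nat_lit 0xc75001102e8a) (nat_lit 34097) (nat_lit 0x8c8384017451) .nil) (nat_lit
  0xc75001108a72) (nat_lit 28993) (nat_lit 0x80c7500d3085) (.node (.node .nil (nat_lit 0xc7500110a34c)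
  (nat_lit 29969) (nat_lit 0x85e090081745) .nil) (nat_lit 0xc750011889a8) (nat_lit 25921) (nat_lit
  0x8d015100f684) .nil))))) (nat_lit 0xc7500118a096) (nat_lit 49729) (nat_lit 0x88269105d144) (.node (.node
  (.node (.node (.node (.node .nil (nat_lit 0xc805e000e21b) (nat_lit 51969) (nat_lit 0xb039080b4093) .nil)
  (nat_lit 0xc805e003380b) (nat_lit 46112) (nat_lit 0x826911349068) (.node .nil (nat_lit 0xc805e003da10)
  (nat_lit 26257) (nat_lit 0x82691139108a) .nil)) (nat_lit 0xc805e005481d) (nat_lit 45809) (nat_lit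
  0xaa5802112199) (.node (.node .nil (nat_lit 0xc805e005aa06) (nat_lit 42832) (nat_lit 0xc20c83096314) .nil)
  (nat_lit 0xc805e0067016) (nat_lit 4961) (nat_lit 0x98081b237180) .nil)) (nat_lit 0xc805e006920d) (nat_lit
  21520) (nat_lit 0x8b0a05349068) (.node (.node (.node .nil (nat_lit 0xc805e0103a15) (nat_lit 28048) (nat_lit
  0xc84303032c94) .nil) (nat_lit 0xc805e010d80e) (nat_lit 17664) (nat_lit 0x804a96349068) .nil) (nat_lit
  0xc805e013021e) (nat_lit 37713) (nat_lit 0xa96009121992) (.node (.node .nil (nat_lit 0xc805e013e005)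
  (nat_lit 36784) (nat_lit 0xc94c10022387) .nil) (nat_lit 0xc805e0157208) (nat_lit 45360) (nat_lit
  0x892982349068) .nil))) (nat_lit 0xc805e0159013) (nat_lit 13968) (nat_lit 0xc120170a4f80) (.node (.node
  (.node (.node .nil (nat_lit 0xc805e0164a03) (nat_lit 31425) (nat_lit 0xb8419003380b) .nil) (nat_lit
  0xc805e016a818) (nat_lit 42624) (nat_lit 0x882691349068) (.node .nil (nat_lit 0xc8384101c436) (nat_lit
  51649) (nat_lit 0xa800c701ed08) .nil)) (nat_lit 0xc8384102c19c) (nat_lit 30785) (nat_lit 0x88c48a212945)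
  (.node (.node .nil (nat_lit 0xc838410305aa) (nat_lit 28368) (nat_lit 0x94c109223870) .nil) (nat_lit
  0xc8384104470e) (nat_lit 47441) (nat_lit 0x81c84328258c) .nil)) (nat_lit 0xc83841058338) (nat_lit 13521)
  (nat_lit 0x80254b29c884) (.node (.node (.node .nil (nat_lit 0xc83841068692) (nat_lit 45712) (nat_lit
  0xd0018e0dc601) .nil) (nat_lit 0xc838410742a4) (nat_lit 27233) (nat_lit 0xa10c0e08e1c1) .nil) (nat_lit
  0xc838411007b4) (nat_lit 43633) (nat_lit 0x89a44420498b) (.node (.node .nil (nat_lit 0xc8384111c382)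
  (nat_lit 26337) (nat_lit 0x88494c21a483) .nil) (nat_lit 0xc8384112c628) (nat_lit 4913) (nat_lit
  0xa88d010160ce) .nil)))) (nat_lit 0xc8384113021e) (nat_lit 44353) (nat_lit 0xa96009008dc6) (.node (.node
  (.node (.node (.node .nil (nat_lit 0xc838411440ba) (nat_lit 34720) (nat_lit 0x88c48a223870) .nil) (nat_lit
  0xc8384115848c) (nat_lit 41473) (nat_lit 0xa06cc009810f) (.node .nil (nat_lit 0xc83841168126) (nat_lit
  34800) (nat_lit 0xc5850218428d) .nil)) (nat_lit 0xc83841174510) (nat_lit 25297) (nat_lit 0x81458528a84a)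
  (.node (.node .nil (nat_lit 0xc8430300a4f8) (nat_lit 28896) (nat_lit 0xa4a608135062) .nil) (nat_lit
  0xc84303032c94) (nat_lit 16864) (nat_lit 0xe80a8804a515) .nil)) (nat_lit 0xc84303043c4c) (nat_lit 21953)
  (nat_lit 0x94585028258c) (.node (.node (.node .nil (nat_lit 0xc843030498b4) (nat_lit 9761) (nat_lit
  0x981c84246158) .nil) (nat_lit 0xc843030710d8) (nat_lit 46161) (nat_lit 0x8031d43c4c08) .nil) (nat_lit
  0xc8430307b420) (nat_lit 49488) (nat_lit 0xe084940c2b09) (.node (.node .nil (nat_lit 0xc84303111c38)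
  (nat_lit 50288) (nat_lit 0x840d98135062) .nil) (nat_lit 0xc84303129454) (nat_lit 17889) (nat_lit
  0x9c20c8205d14) .nil))) (nat_lit 0xc84303152074) (nat_lit 47712) (nat_lit 0xc48a11135062) (.node (.node
  (.node (.node .nil (nat_lit 0xc8430315848c) (nat_lit 50384) (nat_lit 0x8c8384135062) .nil) (nat_lit
  0xc84303160ce0) (nat_lit 51841) (nat_lit 0xb84190043c4c) (.node .nil (nat_lit 0xc8430316a818) (nat_lit
  34000) (nat_lit 0x882691135062) .nil)) (nat_lit 0xc88826017451) (nat_lit 40256) (nat_lit 0xd9808100527c)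
  (.node (.node .nil (nat_lit 0xc88826023718) (nat_lit 50225) (nat_lit 0xc012a519c058) .nil) (nat_lit
  0xc88826045391) (nat_lit 6720) (nat_lit 0xe4218100527c) .nil)) (nat_lit 0xc888260710d8) (nat_lit 15969)
  (nat_lit 0xc012a503a152) (.node (.node (.node .nil (nat_lit 0xc888261055c8) (nat_lit 40113) (nat_lit
  0xc012a514e442) .nil) (nat_lit 0xc88826112199) (nat_lit 39760) (nat_lit 0x92a58000527c) .nil) (nat_lit
  0xc888261262d0) (nat_lit 42400) (nat_lit 0xde090000527c) (.node (.node .nil (nat_lit 0xc88826131681)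
  (nat_lit 40209) (nat_lit 0xc012a50cc912) .nil) (nat_lit 0xc88826140659) (nat_lit 4753) (nat_lit
  0xc012a50f6840) .nil))))))
def tt3360_26 : T := (.node (.node (.node (.node (.node (.node (.node .nil (nat_lit 0xc88826163141) (nat_lit
  52081) (nat_lit 0xc012a516a818) .nil) (nat_lit 0xc88826174510) (nat_lit 25265) (nat_lit 0xc012a5174510)
  (.node .nil (nat_lit 0xc8a1180046e3) (nat_lit 12993) (nat_lit 0xb03908070447) .nil)) (nat_lit
  0xc8a118021e26) (nat_lit 35265) (nat_lit 0x91104d262d02) (.node (.node .nil (nat_lit 0xc8a1180258c5)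
  (nat_lit 33473) (nat_lit 0x96140a212945) .nil) (nat_lit 0xc8a118051a61) (nat_lit 35217) (nat_lit
  0x80254b371804) .nil)) (nat_lit 0xc8a118055c82) (nat_lit 5184) (nat_lit 0x9036600cc912) (.node (.node (.node
  .nil (nat_lit 0xc8a118070447) (nat_lit 22576) (nat_lit 0x9036602e4105) .nil) (nat_lit 0xc8a1180742a4)
  (nat_lit 46128) (nat_lit 0x90366009810f) (.node .nil (nat_lit 0xc8a1181108a7) (nat_lit 12113) (nat_lit
  0xa2340515094a) .nil)) (nat_lit 0xc8a118114e44) (nat_lit 5265) (nat_lit 0xa53042120d0d) (.node (.node .nil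
  (nat_lit 0xc8a118131681) (nat_lit 38193) (nat_lit 0x841907332448) .nil) (nat_lit 0xc8a118135062) (nat_lit
  31841) (nat_lit 0x831d4034200f) .nil))) (nat_lit 0xc8a1181412c6) (nat_lit 29024) (nat_lit 0x90366029c884)
  (.node (.node (.node (.node .nil (nat_lit 0xc8a118145425) (nat_lit 26577) (nat_lit 0x922846251509) .nil)
  (nat_lit 0xc8a118160ce0) (nat_lit 29281) (nat_lit 0xb30103043c4c) (.node .nil (nat_lit 0xc8a118164a03)
  (nat_lit 50961) (nat_lit 0xb4054403380b) .nil)) (nat_lit 0xc94c1000b067) (nat_lit 19857) (nat_lit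
  0x96009501ed08) (.node (.node .nil (nat_lit 0xc94c10022387) (nat_lit 23936) (nat_lit 0xe80a88041572) .nil)
  (nat_lit 0xc94c100293e0) (nat_lit 50704) (nat_lit 0xca6084041572) .nil)) (nat_lit 0xc94c100401ed) (nat_lit
  609) (nat_lit 0x86cc04112199) (.node (.node (.node .nil (nat_lit 0xc94c1004b18a) (nat_lit 33841) (nat_lit
  0x87210c10cc91) .nil) (nat_lit 0xc94c1006226a) (nat_lit 20113) (nat_lit 0x92a58005481d) .nil) (nat_lit
  0xc94c1006920d) (nat_lit 9521) (nat_lit 0x93488804a515) (.node (.node .nil (nat_lit 0xc94c1010132b) (nat_lit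
  23649) (nat_lit 0x840d9813e005) .nil) (nat_lit 0xc94c1010a34c) (nat_lit 25745) (nat_lit 0x85e090120d0d)
  .nil)))) (nat_lit 0xc94c101230ac) (nat_lit 2977) (nat_lit 0x90641c078981) (.node (.node (.node (.node (.node
  .nil (nat_lit 0xc94c101280cb) (nat_lit 28288) (nat_lit 0xa2c281041572) .nil) (nat_lit 0xc94c101412c6)
  (nat_lit 21889) (nat_lit 0x952c0102c19c) (.node .nil (nat_lit 0xc94c1014a2a1) (nat_lit 6464) (nat_lit
  0xf04805041572) .nil)) (nat_lit 0xc94c10163141) (nat_lit 20401) (nat_lit 0x81458516a818) (.node (.node .nil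
  (nat_lit 0xc94c10168126) (nat_lit 37136) (nat_lit 0xe3a800041572) .nil) (nat_lit 0xca6084009959) (nat_lit
  13360) (nat_lit 0xb20e1000b067) .nil)) (nat_lit 0xca6084010f13) (nat_lit 26817) (nat_lit 0xc0063a146984)
  (.node (.node (.node .nil (nat_lit 0xca608401964a) (nat_lit 11153) (nat_lit 0xc0063a0ab904) .nil) (nat_lit
  0xca6084041572) (nat_lit 41521) (nat_lit 0xc0063a1c8845) .nil) (nat_lit 0xca6084051a61) (nat_lit 22768)
  (nat_lit 0xd4468000b067) (.node (.node .nil (nat_lit 0xca6084058338) (nat_lit 30481) (nat_lit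
  0xc0063a163141) .nil) (nat_lit 0xca6084108a72) (nat_lit 45568) (nat_lit 0xde090000b067) .nil))) (nat_lit
  0xca6084111c38) (nat_lit 48768) (nat_lit 0x840d9800b067) (.node (.node (.node (.node .nil (nat_lit
  0xca6084118561) (nat_lit 32000) (nat_lit 0xc94c1000b067) .nil) (nat_lit 0xca6084140659) (nat_lit 4369)
  (nat_lit 0xc0063a0f6840) (.node .nil (nat_lit 0xca608415094a) (nat_lit 25760) (nat_lit 0xb8419000b067)
  .nil)) (nat_lit 0xca6084159013) (nat_lit 33040) (nat_lit 0xf5001800b067) (.node (.node .nil (nat_lit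
  0xca960000293e) (nat_lit 41712) (nat_lit 0x90641c051a61) .nil) (nat_lit 0xca96000149f0) (nat_lit 35584)
  (nat_lit 0xca6084051a61) .nil)) (nat_lit 0xca96000160ce) (nat_lit 42705) (nat_lit 0xa444130ab904) (.node
  (.node (.node .nil (nat_lit 0xca96000401ed) (nat_lit 20177) (nat_lit 0x86cc04283113) .nil) (nat_lit
  0xca96000428d3) (nat_lit 25809) (nat_lit 0xa0e1060e1c11) .nil) (nat_lit 0xca960005481d) (nat_lit 10113)
  (nat_lit 0xaa580204a515) (.node (.node .nil (nat_lit 0xca9600056123) (nat_lit 41008) (nat_lit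
  0xe08494051a61) .nil) (nat_lit 0xca9600104157) (nat_lit 26513) (nat_lit 0x8ea003205d14) .nil))))) (nat_lit
  0xca9600106869) (nat_lit 4016) (nat_lit 0xa2209a051a61) (.node (.node (.node (.node (.node (.node .nil
  (nat_lit 0xca96001108a7) (nat_lit 3073) (nat_lit 0xa234050cc912) .nil) (nat_lit 0xca9600112199) (nat_lit
  33905) (nat_lit 0x8419072ae410) (.node .nil (nat_lit 0xca96001440ba) (nat_lit 24545) (nat_lit
  0xa69110086c07) .nil)) (nat_lit 0xca9600146984) (nat_lit 34320) (nat_lit 0xe24508051a61) (.node (.node .nil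
  (nat_lit 0xca960015094a) (nat_lit 29984) (nat_lit 0xb84190051a61) .nil) (nat_lit 0xca9600152074) (nat_lit
  43329) (nat_lit 0xac281402d503) .nil)) (nat_lit 0xcb004a003da1) (nat_lit 5505) (nat_lit 0x892982129454)
  (.node (.node (.node .nil (nat_lit 0xcb004a00f684) (nat_lit 43057) (nat_lit 0x9104d20ab904) .nil) (nat_lit
  0xcb004a045391) (nat_lit 7968) (nat_lit 0xa051611b8c02) .nil) (nat_lit 0xcb004a046e30) (nat_lit 6929)
  (nat_lit 0x92a580091856) (.node (.node .nil (nat_lit 0xcb004a0498b4) (nat_lit 48848) (nat_lit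
  0xa05161088e1c) .nil) (nat_lit 0xcb004a04a515) (nat_lit 42096) (nat_lit 0xa051611e2604) .nil))) (nat_lit
  0xcb004a1007b4) (nat_lit 40353) (nat_lit 0x89a444121992) (.node (.node (.node (.node .nil (nat_lit
  0xcb004a103a15) (nat_lit 18321) (nat_lit 0x9b3010008dc6) .nil) (nat_lit 0xcb004a10cc91) (nat_lit 16144)
  (nat_lit 0xa05161068692) (.node .nil (nat_lit 0xcb004a10f130) (nat_lit 38960) (nat_lit 0xa05161102e8a)
  .nil)) (nat_lit 0xcb004a146984) (nat_lit 20416) (nat_lit 0xa0516118a096) (.node (.node .nil (nat_lit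
  0xcb004a14a2a1) (nat_lit 39648) (nat_lit 0xa051610ba288) .nil) (nat_lit 0xcc040d007b42) (nat_lit 848)
  (nat_lit 0x8e1064316812) .nil)) (nat_lit 0xcc040d0132b2) (nat_lit 22129) (nat_lit 0xc24a6004b18a) (.node
  (.node (.node .nil (nat_lit 0xcc040d0149f0) (nat_lit 31488) (nat_lit 0x8e106430851a) .nil) (nat_lit
  0xcc040d0293e0) (nat_lit 20977) (nat_lit 0xc24a6015848c) .nil) (nat_lit 0xcc040d03a152) (nat_lit 45184)
  (nat_lit 0x8e1064306701) (.node (.node .nil (nat_lit 0xcc040d03da10) (nat_lit 8208) (nat_lit 0x8e1064010f13)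
  .nil) (nat_lit 0xcc040d108a72) (nat_lit 18881) (nat_lit 0xc24a600d3085) .nil)))) (nat_lit 0xcc040d10f130)
  (nat_lit 12032) (nat_lit 0x8e1064102e8a) (.node (.node (.node (.node (.node .nil (nat_lit 0xcc040d11c382)
  (nat_lit 47345) (nat_lit 0xc24a601c111c) .nil) (nat_lit 0xcc040d121992) (nat_lit 43601) (nat_lit
  0xc24a6018b409) (.node .nil (nat_lit 0xcc040d1262d0) (nat_lit 31088) (nat_lit 0x8e106421a483) .nil))
  (nat_lit 0xcc040d132b20) (nat_lit 6224) (nat_lit 0x8e1064112199) (.node (.node .nil (nat_lit 0xcc109200cb25)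
  (nat_lit 8992) (nat_lit 0xe4218108dc60) .nil) (nat_lit 0xcc109201262d) (nat_lit 18928) (nat_lit
  0x87210c08dc60) .nil)) (nat_lit 0xcc109201ed08) (nat_lit 44033) (nat_lit 0x87210c20d0d2) (.node (.node
  (.node .nil (nat_lit 0xcc1092026564) (nat_lit 37409) (nat_lit 0x84805e237180) .nil) (nat_lit 0xcc109202ae41)
  (nat_lit 4048) (nat_lit 0xd0018e08dc60) .nil) (nat_lit 0xcc1092034349) (nat_lit 46896) (nat_lit
  0xb3010308dc60) (.node (.node .nil (nat_lit 0xcc109203886c) (nat_lit 4704) (nat_lit 0xa0031d08dc60) .nil)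
  (nat_lit 0xcc1092106869) (nat_lit 13632) (nat_lit 0xa2209a08dc60) .nil))) (nat_lit 0xcc109210a34c) (nat_lit
  38705) (nat_lit 0x85e09022114e) (.node (.node (.node (.node .nil (nat_lit 0xcc1092114e44) (nat_lit 36240)
  (nat_lit 0xd2220908dc60) .nil) (nat_lit 0xcc1092118561) (nat_lit 50449) (nat_lit 0x81511a26a0c4) (.node .nil
  (nat_lit 0xcc1092120d0d) (nat_lit 37824) (nat_lit 0x96009508dc60) .nil)) (nat_lit 0xcc109212c628) (nat_lit
  27729) (nat_lit 0xa691100160ce) (.node (.node .nil (nat_lit 0xcc1092132b20) (nat_lit 33312) (nat_lit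
  0xe6020608dc60) .nil) (nat_lit 0xcc109213e005) (nat_lit 11985) (nat_lit 0xa2209a05d144) .nil)) (nat_lit
  0xcd222000149f) (nat_lit 28464) (nat_lit 0x86cc04093168) (.node (.node (.node .nil (nat_lit 0xcd2220008dc6)
  (nat_lit 35184) (nat_lit 0xc20c83093168) .nil) (nat_lit 0xcd2220009959) (nat_lit 449) (nat_lit
  0x80254b1ed080) .nil) (nat_lit 0xcd2220024c5a) (nat_lit 35104) (nat_lit 0xa44413093168) (.node (.node .nil
  (nat_lit 0xcd22200258c5) (nat_lit 52129) (nat_lit 0x96140a08e1c1) .nil) (nat_lit 0xcd222002c19c) (nat_lit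
  42272) (nat_lit 0x908607093168) .nil))))))
def tt3360_27 : T := (.node (.node (.node (.node (.node (.node (.node .nil (nat_lit 0xcd2220104157) (nat_lit
  42432) (nat_lit 0xc48a11093168) .nil) (nat_lit 0xcd22201055c8) (nat_lit 18336) (nat_lit 0xb48882093168)
  (.node .nil (nat_lit 0xcd222010cc91) (nat_lit 45936) (nat_lit 0xf04805068692) .nil)) (nat_lit
  0xcd222010d80e) (nat_lit 4657) (nat_lit 0x9070830e8548) (.node (.node .nil (nat_lit 0xcd2220120d0d) (nat_lit
  39536) (nat_lit 0x960095093168) .nil) (nat_lit 0xcd2220121992) (nat_lit 31040) (nat_lit 0xe60206093168)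
  .nil)) (nat_lit 0xcd22201280cb) (nat_lit 42737) (nat_lit 0x989142066489) (.node (.node (.node .nil (nat_lit
  0xcd2220129454) (nat_lit 9792) (nat_lit 0xd2c012093168) .nil) (nat_lit 0xd0018e017451) (nat_lit 38545)
  (nat_lit 0xc0e421011b8c) (.node .nil (nat_lit 0xd0018e02ae41) (nat_lit 6513) (nat_lit 0xc0e4210710d8) .nil))
  (nat_lit 0xd0018e03da10) (nat_lit 38465) (nat_lit 0xc0e421060b54) (.node (.node .nil (nat_lit
  0xd0018e046e30) (nat_lit 22832) (nat_lit 0x90c0e40d241a) .nil) (nat_lit 0xd0018e051a61) (nat_lit 16304)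
  (nat_lit 0x90c0e42b0918) .nil))) (nat_lit 0xd0018e07b420) (nat_lit 48816) (nat_lit 0x90c0e40c2b09) (.node
  (.node (.node (.node .nil (nat_lit 0xd0018e08dc60) (nat_lit 2065) (nat_lit 0xc0e4211412c6) .nil) (nat_lit
  0xd0018e09a831) (nat_lit 20800) (nat_lit 0x90c0e4023718) (.node .nil (nat_lit 0xd0018e0b0670) (nat_lit
  51136) (nat_lit 0x90c0e4251509) .nil)) (nat_lit 0xd0018e0dc601) (nat_lit 33120) (nat_lit 0x90c0e40f1302)
  (.node (.node .nil (nat_lit 0xd0018e0e1c11) (nat_lit 6624) (nat_lit 0x90c0e40e1c11) .nil) (nat_lit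
  0xd0018e0f6840) (nat_lit 2992) (nat_lit 0x90c0e4283113) .nil)) (nat_lit 0xd015110160ce) (nat_lit 16481)
  (nat_lit 0xa44413011b8c) (.node (.node (.node .nil (nat_lit 0xd0151102e8a2) (nat_lit 14721) (nat_lit
  0xa54b0000149f) .nil) (nat_lit 0xd0151103886c) (nat_lit 49041) (nat_lit 0xa4508c010f13) .nil) (nat_lit
  0xd0151104cac8) (nat_lit 30241) (nat_lit 0xa0031d055c82) (.node (.node .nil (nat_lit 0xd0151105aa06)
  (nat_lit 6705) (nat_lit 0xa1189104470e) .nil) (nat_lit 0xd0151106226a) (nat_lit 513) (nat_lit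
  0xa0178205481d) .nil)))) (nat_lit 0xd015110742a4) (nat_lit 14561) (nat_lit 0xa10c0e045391) (.node (.node
  (.node (.node (.node .nil (nat_lit 0xd01511082ae4) (nat_lit 40609) (nat_lit 0x85161420498b) .nil) (nat_lit
  0xd01511094a2a) (nat_lit 9457) (nat_lit 0x840d98215207) (.node .nil (nat_lit 0xd015110ac246) (nat_lit 33361)
  (nat_lit 0x85028b205d14) .nil)) (nat_lit 0xd015110ba288) (nat_lit 19025) (nat_lit 0x841907214698) (.node
  (.node .nil (nat_lit 0xd015110ce02c) (nat_lit 49137) (nat_lit 0x804a96251509) .nil) (nat_lit 0xd015110d80e2)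
  (nat_lit 35712) (nat_lit 0xc12017160ce0) .nil)) (nat_lit 0xd015110e088e) (nat_lit 14977) (nat_lit
  0x805e09250196) (.node (.node (.node .nil (nat_lit 0xd015110f6840) (nat_lit 4817) (nat_lit 0x814585241a1a)
  .nil) (nat_lit 0xd028b001964a) (nat_lit 3697) (nat_lit 0x828b0a3540c1) .nil) (nat_lit 0xd028b002d503)
  (nat_lit 31697) (nat_lit 0xa54b001280cb) (.node (.node .nil (nat_lit 0xd028b0034349) (nat_lit 34033)
  (nat_lit 0x900bc127c00a) .nil) (nat_lit 0xd028b004470e) (nat_lit 26688) (nat_lit 0x9d400600a4f8) .nil)))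
  (nat_lit 0xd028b005d144) (nat_lit 39664) (nat_lit 0xc7500100a4f8) (.node (.node (.node (.node .nil (nat_lit
  0xd028b006920d) (nat_lit 27040) (nat_lit 0x8b0a0500a4f8) .nil) (nat_lit 0xd028b0070447) (nat_lit 26737)
  (nat_lit 0xa6084911c382) (.node .nil (nat_lit 0xd028b0081745) (nat_lit 42032) (nat_lit 0xc8430300a4f8)
  .nil)) (nat_lit 0xd028b009810f) (nat_lit 22417) (nat_lit 0xa2c28115094a) (.node (.node .nil (nat_lit
  0xd028b00ac246) (nat_lit 10000) (nat_lit 0xde090000a4f8) .nil) (nat_lit 0xd028b00b540c) (nat_lit 5121)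
  (nat_lit 0xb0424a078981) .nil)) (nat_lit 0xd028b00c504b) (nat_lit 24352) (nat_lit 0xaa580200a4f8) (.node
  (.node (.node .nil (nat_lit 0xd028b00dc601) (nat_lit 22545) (nat_lit 0x94c109230ac2) .nil) (nat_lit
  0xd028b00e8548) (nat_lit 3584) (nat_lit 0xbc120100a4f8) .nil) (nat_lit 0xd028b00f1302) (nat_lit 53169)
  (nat_lit 0x8641c2318a09) (.node (.node .nil (nat_lit 0xd08c480132b2) (nat_lit 3552) (nat_lit 0xa402f001ed08)
  .nil) (nat_lit 0xd08c48022387) (nat_lit 48384) (nat_lit 0xa402f013e005) .nil))))) (nat_lit 0xd08c48031135)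
  (nat_lit 38257) (nat_lit 0xba800c010f13) (.node (.node (.node (.node (.node (.node .nil (nat_lit
  0xd08c48045391) (nat_lit 2112) (nat_lit 0xa402f01b8c02) .nil) (nat_lit 0xd08c48056123) (nat_lit 24816)
  (nat_lit 0xa402f01a610a) (.node .nil (nat_lit 0xd08c48067016) (nat_lit 37953) (nat_lit 0x98081b238704)
  .nil)) (nat_lit 0xd08c480742a4) (nat_lit 34417) (nat_lit 0xa10c0e1a8311) (.node (.node .nil (nat_lit
  0xd08c480851a6) (nat_lit 38001) (nat_lit 0x9086072b0918) .nil) (nat_lit 0xd08c48096314) (nat_lit 34449)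
  (nat_lit 0xa98212120d0d) .nil)) (nat_lit 0xd08c480a7221) (nat_lit 26672) (nat_lit 0xa402f003380b) (.node
  (.node (.node .nil (nat_lit 0xd08c480b4093) (nat_lit 4833) (nat_lit 0x9189142a060b) .nil) (nat_lit
  0xd08c480c0237) (nat_lit 14801) (nat_lit 0x8b0a0530851a) .nil) (nat_lit 0xd08c480d3085) (nat_lit 4305)
  (nat_lit 0xb20e1009810f) (.node (.node .nil (nat_lit 0xd08c480e21b0) (nat_lit 33265) (nat_lit
  0xb30103088e1c) .nil) (nat_lit 0xd08c480f1302) (nat_lit 4209) (nat_lit 0x8a0516318a09) .nil))) (nat_lit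
  0xd11a0200a4f8) (nat_lit 26753) (nat_lit 0x828b0a0c44d4) (.node (.node (.node (.node .nil (nat_lit
  0xd11a02026564) (nat_lit 47456) (nat_lit 0xca96000149f0) .nil) (nat_lit 0xd11a0202c19c) (nat_lit 11888)
  (nat_lit 0x9086070149f0) (.node .nil (nat_lit 0xd11a020401ed) (nat_lit 8864) (nat_lit 0xba800c0149f0) .nil))
  (nat_lit 0xd11a0204a515) (nat_lit 29137) (nat_lit 0x8a88d004470e) (.node (.node .nil (nat_lit
  0xd11a02066489) (nat_lit 4928) (nat_lit 0x8ea0030149f0) .nil) (nat_lit 0xd11a0206c071) (nat_lit 52640)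
  (nat_lit 0xd4b0040149f0) .nil)) (nat_lit 0xd11a02084539) (nat_lit 22017) (nat_lit 0x840d980ac246) (.node
  (.node (.node .nil (nat_lit 0xd11a0208e1c1) (nat_lit 20497) (nat_lit 0x88494c068692) .nil) (nat_lit
  0xd11a020a205d) (nat_lit 45200) (nat_lit 0xa234050149f0) .nil) (nat_lit 0xd11a020a84a5) (nat_lit 3729)
  (nat_lit 0x8206cc0cc912) (.node (.node .nil (nat_lit 0xd11a020c44d4) (nat_lit 17825) (nat_lit
  0x8c0e4202c19c) .nil) (nat_lit 0xd11a020ce02c) (nat_lit 13536) (nat_lit 0x88320e0149f0) .nil)))) (nat_lit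
  0xd11a020e21b0) (nat_lit 37345) (nat_lit 0x8641c2088e1c) (.node (.node (.node (.node (.node .nil (nat_lit
  0xd11a020e8548) (nat_lit 34992) (nat_lit 0xbc12010149f0) .nil) (nat_lit 0xd1614000149f) (nat_lit 42801)
  (nat_lit 0x9a4441011b8c) (.node .nil (nat_lit 0xd16140020ab9) (nat_lit 36064) (nat_lit 0x8384193021e2)
  .nil)) (nat_lit 0xd16140021e26) (nat_lit 18096) (nat_lit 0xca960005481d) (.node (.node .nil (nat_lit
  0xd16140048c2b) (nat_lit 18208) (nat_lit 0x8e42183021e2) .nil) (nat_lit 0xd161400498b4) (nat_lit 30336)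
  (nat_lit 0xc75001088e1c) .nil)) (nat_lit 0xd16140068692) (nat_lit 47968) (nat_lit 0xc2181c0dc601) (.node
  (.node (.node .nil (nat_lit 0xd1614006920d) (nat_lit 31024) (nat_lit 0x8b0a053021e2) .nil) (nat_lit
  0xd16140088e1c) (nat_lit 11281) (nat_lit 0x8952c0120d0d) .nil) (nat_lit 0xd16140089a83) (nat_lit 14928)
  (nat_lit 0xcc040d03da10) (.node (.node .nil (nat_lit 0xd161400a84a5) (nat_lit 17088) (nat_lit
  0xc94c1006920d) .nil) (nat_lit 0xd161400a903a) (nat_lit 8448) (nat_lit 0x805e093021e2) .nil))) (nat_lit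
  0xd161400c0237) (nat_lit 17585) (nat_lit 0x8b0a051055c8) (.node (.node (.node (.node .nil (nat_lit
  0xd161400c16a8) (nat_lit 43552) (nat_lit 0x8d98083021e2) .nil) (nat_lit 0xd161400e088e) (nat_lit 42065)
  (nat_lit 0x805e091b01c4) (.node .nil (nat_lit 0xd161400e1c11) (nat_lit 18289) (nat_lit 0x8145851a1a48)
  .nil)) (nat_lit 0xd22209008dc6) (nat_lit 705) (nat_lit 0x8494c1380b06) (.node (.node .nil (nat_lit
  0xd222090149f0) (nat_lit 19681) (nat_lit 0x900bc12c9406) .nil) (nat_lit 0xd22209041572) (nat_lit 43505)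
  (nat_lit 0xa017821c8845) .nil)) (nat_lit 0xd222090498b4) (nat_lit 6752) (nat_lit 0x8320e1088e1c) (.node
  (.node (.node .nil (nat_lit 0xd22209055c82) (nat_lit 38528) (nat_lit 0x8320e10cc912) .nil) (nat_lit
  0xd2220905d144) (nat_lit 5328) (nat_lit 0x8320e1380b06) .nil) (nat_lit 0xd2220908dc60) (nat_lit 23457)
  (nat_lit 0xa88d011412c6) (.node (.node .nil (nat_lit 0xd22209091856) (nat_lit 33232) (nat_lit
  0x8320e1205d14) .nil) (nat_lit 0xd222090c44d4) (nat_lit 6432) (nat_lit 0x8320e12c9406) .nil))))))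
def tt3360_28 : T := (.node (.node (.node (.node (.node (.node (.node .nil (nat_lit 0xd222090d0d24) (nat_lit
  897) (nat_lit 0xa09a441c0583) .nil) (nat_lit 0xd222090d80e2) (nat_lit 42368) (nat_lit 0x8320e128d308) (.node
  .nil (nat_lit 0xd2c012003da1) (nat_lit 29601) (nat_lit 0xa54b00129454) .nil)) (nat_lit 0xd2c012011b8c)
  (nat_lit 18000) (nat_lit 0x9189140046e3) (.node (.node .nil (nat_lit 0xd2c012043c4c) (nat_lit 43584)
  (nat_lit 0xac28140046e3) .nil) (nat_lit 0xd2c012051a61) (nat_lit 49856) (nat_lit 0xd4b0040046e3) .nil))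
  (nat_lit 0xd2c012081745) (nat_lit 22608) (nat_lit 0xc8a1180046e3) (.node (.node (.node .nil (nat_lit
  0xd2c012082ae4) (nat_lit 28080) (nat_lit 0xde09000046e3) .nil) (nat_lit 0xd2c012090cc9) (nat_lit 18832)
  (nat_lit 0xa691100046e3) (.node .nil (nat_lit 0xd2c012093168) (nat_lit 5233) (nat_lit 0x831d4034c214) .nil))
  (nat_lit 0xd2c0120c16a8) (nat_lit 47328) (nat_lit 0x8d98080046e3) (.node (.node .nil (nat_lit
  0xd2c0120c2b09) (nat_lit 6641) (nat_lit 0xb4054403da10) .nil) (nat_lit 0xd2c0120d0d24) (nat_lit 22080)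
  (nat_lit 0xe3a8000046e3) .nil))) (nat_lit 0xd2c0120d3085) (nat_lit 30129) (nat_lit 0xb20e1005d144) (.node
  (.node (.node (.node .nil (nat_lit 0xd30424007b42) (nat_lit 32432) (nat_lit 0xca96000401ed) .nil) (nat_lit
  0xd30424009959) (nat_lit 39185) (nat_lit 0xe0206c010f13) (.node .nil (nat_lit 0xd304240428d3) (nat_lit
  16032) (nat_lit 0xd11a020401ed) .nil)) (nat_lit 0xd30424045391) (nat_lit 8096) (nat_lit 0xe072100401ed)
  (.node (.node .nil (nat_lit 0xd3042404b18a) (nat_lit 27185) (nat_lit 0xe0206c0f1302) .nil) (nat_lit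
  0xd3042404cac8) (nat_lit 46720) (nat_lit 0xa982120401ed) .nil)) (nat_lit 0xd304240803da) (nat_lit 40321)
  (nat_lit 0xe0206c0dc601) (.node (.node (.node .nil (nat_lit 0xd30424087898) (nat_lit 49792) (nat_lit
  0x80bc120401ed) .nil) (nat_lit 0xd30424089a83) (nat_lit 49024) (nat_lit 0xf8240203da10) .nil) (nat_lit
  0xd3042408e1c1) (nat_lit 1216) (nat_lit 0xc94c100401ed) (.node (.node .nil (nat_lit 0xd304240c2b09) (nat_lit
  19536) (nat_lit 0x9b30100401ed) .nil) (nat_lit 0xd304240cc912) (nat_lit 34433) (nat_lit 0xe0206c089a83)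
  .nil)))) (nat_lit 0xd4006300f684) (nat_lit 12384) (nat_lit 0xd0151105aa06) (.node (.node (.node (.node
  (.node .nil (nat_lit 0xd40063011b8c) (nat_lit 42929) (nat_lit 0xb1d4000803da) .nil) (nat_lit 0xd4006301ed08)
  (nat_lit 40945) (nat_lit 0x99070820d0d2) (.node .nil (nat_lit 0xd40063023718) (nat_lit 25201) (nat_lit
  0xa0178219c058) .nil)) (nat_lit 0xd40063032c94) (nat_lit 42192) (nat_lit 0xd11a0204a515) (.node (.node .nil
  (nat_lit 0xd4006303da10) (nat_lit 28656) (nat_lit 0xd4b004010f13) .nil) (nat_lit 0xd40063087898) (nat_lit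
  10881) (nat_lit 0xa181c8185612) .nil)) (nat_lit 0xd40063088e1c) (nat_lit 32561) (nat_lit 0x8952c030851a)
  (.node (.node (.node .nil (nat_lit 0xd40063096314) (nat_lit 2321) (nat_lit 0xa982121055c8) .nil) (nat_lit
  0xd400630a4f80) (nat_lit 6577) (nat_lit 0xb8419001964a) .nil) (nat_lit 0xd400630ab904) (nat_lit 45089)
  (nat_lit 0x909298294542) (.node (.node .nil (nat_lit 0xd400630ba288) (nat_lit 52209) (nat_lit
  0x989142214698) .nil) (nat_lit 0xd4468000293e) (nat_lit 1969) (nat_lit 0x88d015360388) .nil))) (nat_lit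
  0xd44680009959) (nat_lit 17536) (nat_lit 0xb20e100d80e2) (.node (.node (.node (.node .nil (nat_lit
  0xd4468000b067) (nat_lit 13105) (nat_lit 0x96009528d308) .nil) (nat_lit 0xd44680031135) (nat_lit 4273)
  (nat_lit 0xba800c045391) (.node .nil (nat_lit 0xd4468003380b) (nat_lit 641) (nat_lit 0x8c8384325019) .nil))
  (nat_lit 0xd4468003886c) (nat_lit 40096) (nat_lit 0xa0031d0d80e2) (.node (.node .nil (nat_lit
  0xd4468003a152) (nat_lit 10929) (nat_lit 0x9253042c8099) .nil) (nat_lit 0xd44680091856) (nat_lit 25361)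
  (nat_lit 0xbc120102c19c) .nil)) (nat_lit 0xd44680093168) (nat_lit 49840) (nat_lit 0xb039080d80e2) (.node
  (.node (.node .nil (nat_lit 0xd4468009810f) (nat_lit 17457) (nat_lit 0xa2c2811c111c) .nil) (nat_lit
  0xd4468009a831) (nat_lit 9553) (nat_lit 0x94c1092a1294) .nil) (nat_lit 0xd446800a0963) (nat_lit 42817)
  (nat_lit 0xb8419006920d) (.node (.node .nil (nat_lit 0xd446800a205d) (nat_lit 29553) (nat_lit
  0x8e4218309185) .nil) (nat_lit 0xd446800a903a) (nat_lit 29697) (nat_lit 0xa6911018428d) .nil))))) (nat_lit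
  0xd446800ab904) (nat_lit 5697) (nat_lit 0x9092982e4105) (.node (.node (.node (.node (.node (.node .nil
  (nat_lit 0xd4b0040046e3) (nat_lit 39825) (nat_lit 0xd028b0070447) .nil) (nat_lit 0xd4b004010f13) (nat_lit
  17344) (nat_lit 0xe0900b082ae4) (.node .nil (nat_lit 0xd4b0040149f0) (nat_lit 46529) (nat_lit
  0xd028b0034349) .nil)) (nat_lit 0xd4b004020ab9) (nat_lit 9617) (nat_lit 0xd028b00b540c) (.node (.node .nil
  (nat_lit 0xd4b004024c5a) (nat_lit 30368) (nat_lit 0xa44413082ae4) .nil) (nat_lit 0xd4b0040305aa) (nat_lit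
  15344) (nat_lit 0x94c109082ae4) .nil)) (nat_lit 0xd4b004034349) (nat_lit 6784) (nat_lit 0xb30103082ae4)
  (.node (.node (.node .nil (nat_lit 0xd4b0040803da) (nat_lit 34192) (nat_lit 0xb1d400082ae4) .nil) (nat_lit
  0xd4b004084539) (nat_lit 17921) (nat_lit 0xd028b00ac246) .nil) (nat_lit 0xd4b004090cc9) (nat_lit 35137)
  (nat_lit 0xd028b009810f) (.node (.node .nil (nat_lit 0xd4b004094a2a) (nat_lit 6897) (nat_lit 0xd028b00e8548)
  .nil) (nat_lit 0xd4b0040a0963) (nat_lit 23056) (nat_lit 0xc58502082ae4) .nil))) (nat_lit 0xd4b0040a4f80)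
  (nat_lit 7089) (nat_lit 0xd028b001964a) (.node (.node (.node (.node .nil (nat_lit 0xd4b0040b0670) (nat_lit
  41296) (nat_lit 0xd2c012082ae4) .nil) (nat_lit 0xd4b0040b4093) (nat_lit 27696) (nat_lit 0xf5001802d503)
  (.node .nil (nat_lit 0xd80254003da1) (nat_lit 17521) (nat_lit 0xcd2220129454) .nil)) (nat_lit
  0xd8025401d0a9) (nat_lit 929) (nat_lit 0xcd2220009959) (.node (.node .nil (nat_lit 0xd8025401ed08) (nat_lit
  46656) (nat_lit 0x9423122114e4) .nil) (nat_lit 0xd8025402d503) (nat_lit 51265) (nat_lit 0xcd22201280cb)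
  .nil)) (nat_lit 0xd8025402e8a2) (nat_lit 16832) (nat_lit 0xde090000e21b) (.node (.node (.node .nil (nat_lit
  0xd802540305aa) (nat_lit 6976) (nat_lit 0x94c1092114e4) .nil) (nat_lit 0xd8025403380b) (nat_lit 44496)
  (nat_lit 0x8269112114e4) .nil) (nat_lit 0xd80254048c2b) (nat_lit 39776) (nat_lit 0x8e42182114e4) (.node
  (.node .nil (nat_lit 0xd8025404b18a) (nat_lit 49184) (nat_lit 0x98ea002114e4) .nil) (nat_lit 0xd80254055c82)
  (nat_lit 36448) (nat_lit 0xd222090cc912) .nil)))) (nat_lit 0xd80254056123) (nat_lit 28688) (nat_lit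
  0xc48a111a610a) (.node (.node (.node (.node (.node .nil (nat_lit 0xd80254065928) (nat_lit 8721) (nat_lit
  0xcd222010d80e) .nil) (nat_lit 0xd80254066489) (nat_lit 11040) (nat_lit 0x8ea0032114e4) (.node .nil (nat_lit
  0xd80254078981) (nat_lit 46864) (nat_lit 0xc4680a1a8311) .nil)) (nat_lit 0xd8025407b420) (nat_lit 12256)
  (nat_lit 0xd2c0120c2b09) (.node (.node .nil (nat_lit 0xd85028008dc6) (nat_lit 32064) (nat_lit
  0x8018ea34c214) .nil) (nat_lit 0xd85028010f13) (nat_lit 4224) (nat_lit 0x8018ea174510) .nil)) (nat_lit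
  0xd850280182d5) (nat_lit 23841) (nat_lit 0xaf0480009959) (.node (.node (.node .nil (nat_lit 0xd8502802ae41)
  (nat_lit 9201) (nat_lit 0xa88d010710d8) .nil) (nat_lit 0xd85028032c94) (nat_lit 32961) (nat_lit
  0xa81458078981) .nil) (nat_lit 0xd8502803a152) (nat_lit 24177) (nat_lit 0x831d402c8099) (.node (.node .nil
  (nat_lit 0xd850280428d3) (nat_lit 272) (nat_lit 0x8018ea2ae410) .nil) (nat_lit 0xd8502804a515) (nat_lit
  26640) (nat_lit 0x8018ea1e2604) .nil))) (nat_lit 0xd8502805aa06) (nat_lit 46912) (nat_lit 0x8018ea096314)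
  (.node (.node (.node (.node .nil (nat_lit 0xd85028060b54) (nat_lit 7345) (nat_lit 0x8d98082205d1) .nil)
  (nat_lit 0xd85028068692) (nat_lit 35857) (nat_lit 0xa69110090cc9) (.node .nil (nat_lit 0xd85028078981)
  (nat_lit 11408) (nat_lit 0x8018ea1a8311) .nil)) (nat_lit 0xd9808100293e) (nat_lit 43072) (nat_lit
  0x90641c0293e0) (.node (.node .nil (nat_lit 0xd9808100527c) (nat_lit 27136) (nat_lit 0xa10c0e0293e0) .nil)
  (nat_lit 0xd98081007b42) (nat_lit 33408) (nat_lit 0xcc040d0293e0) .nil)) (nat_lit 0xd98081021e26) (nat_lit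
  481) (nat_lit 0x91104d0cc912) (.node (.node (.node .nil (nat_lit 0xd98081023718) (nat_lit 14369) (nat_lit
  0x84190719c058) .nil) (nat_lit 0xd98081024c5a) (nat_lit 2496) (nat_lit 0xa444130293e0) .nil) (nat_lit
  0xd98081026564) (nat_lit 52161) (nat_lit 0x84805e195901) (.node (.node .nil (nat_lit 0xd98081041572)
  (nat_lit 52673) (nat_lit 0x81511a1c8845) .nil) (nat_lit 0xd98081043c4c) (nat_lit 24624) (nat_lit
  0xac28140293e0) .nil))))))
def tt3360_29 : T := (.node (.node (.node (.node (.node (.node (.node .nil (nat_lit 0xd98081046e30) (nat_lit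
  4689) (nat_lit 0x94c109091856) .nil) (nat_lit 0xd98081060b54) (nat_lit 49056) (nat_lit 0xc4680a0293e0)
  (.node .nil (nat_lit 0xd9808106226a) (nat_lit 41457) (nat_lit 0x98914205481d) .nil)) (nat_lit
  0xd98081065928) (nat_lit 36832) (nat_lit 0x98081b0293e0) (.node (.node .nil (nat_lit 0xd98081067016)
  (nat_lit 16736) (nat_lit 0xf500180293e0) .nil) (nat_lit 0xde090000149f) (nat_lit 25025) (nat_lit
  0x9a4441250196) .nil)) (nat_lit 0xde09000046e3) (nat_lit 16880) (nat_lit 0xc02f041810f1) (.node (.node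
  (.node .nil (nat_lit 0xde090000527c) (nat_lit 29393) (nat_lit 0x9d40062205d1) .nil) (nat_lit 0xde090000a4f8)
  (nat_lit 5377) (nat_lit 0xb301030c44d4) (.node .nil (nat_lit 0xde090000b067) (nat_lit 32928) (nat_lit
  0xc585021810f1) .nil)) (nat_lit 0xde090000e21b) (nat_lit 9361) (nat_lit 0xb405440b4093) (.node (.node .nil
  (nat_lit 0xde090000f684) (nat_lit 5409) (nat_lit 0x9104d22e4105) .nil) (nat_lit 0xde090001262d) (nat_lit
  32592) (nat_lit 0x87210c1810f1) .nil))) (nat_lit 0xde09000132b2) (nat_lit 23713) (nat_lit 0x8641c2390415)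
  (.node (.node (.node (.node .nil (nat_lit 0xde09000160ce) (nat_lit 48640) (nat_lit 0xa0e1061810f1) .nil)
  (nat_lit 0xde0900017451) (nat_lit 43041) (nat_lit 0x8145853e0052) (.node .nil (nat_lit 0xde09000182d5)
  (nat_lit 10128) (nat_lit 0xc4680a1810f1) .nil)) (nat_lit 0xde090001964a) (nat_lit 25393) (nat_lit
  0x8a05163540c1) (.node (.node .nil (nat_lit 0xde090001c436) (nat_lit 25440) (nat_lit 0xe3a80004470e) .nil)
  (nat_lit 0xde090001d0a9) (nat_lit 737) (nat_lit 0x8d0151324486) .nil)) (nat_lit 0xe0095200f684) (nat_lit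
  41841) (nat_lit 0x9104d2226a0c) (.node (.node (.node .nil (nat_lit 0xe0095201262d) (nat_lit 49088) (nat_lit
  0x87210c089a83) .nil) (nat_lit 0xe0095201d0a9) (nat_lit 30688) (nat_lit 0x828b0a0d3085) .nil) (nat_lit
  0xe00952066489) (nat_lit 25873) (nat_lit 0xb12284024c5a) (.node (.node .nil (nat_lit 0xe0095206920d)
  (nat_lit 25793) (nat_lit 0x934888202656) .nil) (nat_lit 0xe009520742a4) (nat_lit 30432) (nat_lit
  0x863a8009810f) .nil)))) (nat_lit 0xe0095207b420) (nat_lit 44064) (nat_lit 0x8390860c2b09) (.node (.node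
  (.node (.node (.node .nil (nat_lit 0xe009520a7221) (nat_lit 30033) (nat_lit 0xa06cc013021e) .nil) (nat_lit
  0xe009520a84a5) (nat_lit 4401) (nat_lit 0x8206cc316812) (.node .nil (nat_lit 0xe009520b540c) (nat_lit 4576)
  (nat_lit 0x8419070ba288) .nil)) (nat_lit 0xe009520ba288) (nat_lit 3201) (nat_lit 0x922846214698) (.node
  (.node .nil (nat_lit 0xe009520c16a8) (nat_lit 48705) (nat_lit 0xa2209a114e44) .nil) (nat_lit 0xe009520ce02c)
  (nat_lit 368) (nat_lit 0x88320e078981) .nil)) (nat_lit 0xe009520d3085) (nat_lit 14256) (nat_lit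
  0x85028b0ab904) (.node (.node (.node .nil (nat_lit 0xe009520dc601) (nat_lit 6609) (nat_lit 0x90641c230ac2)
  .nil) (nat_lit 0xe0206c010f13) (nat_lit 26209) (nat_lit 0xc44134102e8a) .nil) (nat_lit 0xe0206c03da10)
  (nat_lit 39168) (nat_lit 0xe0206c010f13) (.node (.node .nil (nat_lit 0xe0206c045391) (nat_lit 24913)
  (nat_lit 0xc441341b8c02) .nil) (nat_lit 0xe0206c055c82) (nat_lit 52096) (nat_lit 0xe0206c0cc912) .nil)))
  (nat_lit 0xe0206c068692) (nat_lit 40304) (nat_lit 0xe0206c0dc601) (.node (.node (.node (.node .nil (nat_lit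
  0xe0206c078981) (nat_lit 52065) (nat_lit 0xc44134192243) .nil) (nat_lit 0xe0206c089a83) (nat_lit 21761)
  (nat_lit 0xc44134131681) (.node .nil (nat_lit 0xe0206c0a4f80) (nat_lit 53745) (nat_lit 0xc4413401964a)
  .nil)) (nat_lit 0xe0206c0cc912) (nat_lit 44961) (nat_lit 0xc44134089a83) (.node (.node .nil (nat_lit
  0xe0206c0dc601) (nat_lit 27168) (nat_lit 0xe0206c0f1302) .nil) (nat_lit 0xe0206c0e1c11) (nat_lit 40161)
  (nat_lit 0xc441341a1a48) .nil)) (nat_lit 0xe0206c0f1302) (nat_lit 16129) (nat_lit 0xc441340a34c2) (.node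
  (.node (.node .nil (nat_lit 0xe07210008dc6) (nat_lit 47569) (nat_lit 0x8494c1226a0c) .nil) (nat_lit
  0xe072100305aa) (nat_lit 9536) (nat_lit 0x94c1092a1294) .nil) (nat_lit 0xe0721003886c) (nat_lit 50481)
  (nat_lit 0xa4508c02ae41) (.node (.node .nil (nat_lit 0xe072100401ed) (nat_lit 4256) (nat_lit 0xba800c045391)
  .nil) (nat_lit 0xe07210048c2b) (nat_lit 29536) (nat_lit 0x8e4218309185) .nil))))) (nat_lit 0xe07210070447)
  (nat_lit 5680) (nat_lit 0x9092982e4105) (.node (.node (.node (.node (.node (.node .nil (nat_lit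
  0xe07210078981) (nat_lit 48929) (nat_lit 0x846245229c88) .nil) (nat_lit 0xe07210090cc9) (nat_lit 29680)
  (nat_lit 0xa6911018428d) (.node .nil (nat_lit 0xe0721009810f) (nat_lit 10912) (nat_lit 0x9253042c8099)
  .nil)) (nat_lit 0xe072100a0963) (nat_lit 624) (nat_lit 0x8c8384325019) (.node (.node .nil (nat_lit
  0xe072100a84a5) (nat_lit 32481) (nat_lit 0x8206cc24f801) .nil) (nat_lit 0xe072100d0d24) (nat_lit 17440)
  (nat_lit 0xa2c2811c111c) .nil)) (nat_lit 0xe072100d80e2) (nat_lit 13088) (nat_lit 0x96009528d308) (.node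
  (.node (.node .nil (nat_lit 0xe072100e088e) (nat_lit 1952) (nat_lit 0x88d015360388) .nil) (nat_lit
  0xe072100e8548) (nat_lit 4529) (nat_lit 0xa2340504cac8) .nil) (nat_lit 0xe08494007b42) (nat_lit 24145)
  (nat_lit 0xc805e0159013) (.node (.node .nil (nat_lit 0xe0849403380b) (nat_lit 26240) (nat_lit
  0x82691139108a) .nil) (nat_lit 0xe08494034349) (nat_lit 41265) (nat_lit 0xc805e0103a15) .nil))) (nat_lit
  0xe08494051a61) (nat_lit 27808) (nat_lit 0x9070832b0918) (.node (.node (.node (.node .nil (nat_lit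
  0xe08494056123) (nat_lit 52321) (nat_lit 0xc805e0157208) .nil) (nat_lit 0xe0849406226a) (nat_lit 37696)
  (nat_lit 0xa96009121992) (.node .nil (nat_lit 0xe08494065928) (nat_lit 4944) (nat_lit 0x98081b237180) .nil))
  (nat_lit 0xe08494093168) (nat_lit 51952) (nat_lit 0xb039080b4093) (.node (.node .nil (nat_lit
  0xe08494094a2a) (nat_lit 32176) (nat_lit 0x81511a3a2881) .nil) (nat_lit 0xe084940a0963) (nat_lit 34129)
  (nat_lit 0xc805e006920d) .nil)) (nat_lit 0xe084940a7221) (nat_lit 31408) (nat_lit 0xb8419003380b) (.node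
  (.node (.node .nil (nat_lit 0xe084940c2b09) (nat_lit 39217) (nat_lit 0xc805e003da10) .nil) (nat_lit
  0xe084940c504b) (nat_lit 44305) (nat_lit 0xc805e0164a03) .nil) (nat_lit 0xe084940f1302) (nat_lit 9329)
  (nat_lit 0xc805e0067016) (.node (.node .nil (nat_lit 0xe084940f6840) (nat_lit 33072) (nat_lit
  0x934888283113) .nil) (nat_lit 0xe0900b0149f0) (nat_lit 18864) (nat_lit 0xc24a600d3085) .nil)))) (nat_lit
  0xe0900b032c94) (nat_lit 38897) (nat_lit 0xa8145805aa06) (.node (.node (.node (.node (.node .nil (nat_lit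
  0xe0900b046e30) (nat_lit 47153) (nat_lit 0xa4a608091856) .nil) (nat_lit 0xe0900b060b54) (nat_lit 22112)
  (nat_lit 0xc24a6004b18a) (.node .nil (nat_lit 0xe0900b082ae4) (nat_lit 9664) (nat_lit 0xc24a601c0583) .nil))
  (nat_lit 0xe0900b096314) (nat_lit 26193) (nat_lit 0xa98212043c4c) (.node (.node .nil (nat_lit
  0xe0900b0a4f80) (nat_lit 22640) (nat_lit 0xc24a60159013) .nil) (nat_lit 0xe0900b0b0670) (nat_lit 18016)
  (nat_lit 0xc24a6018a096) .nil)) (nat_lit 0xe0900b0c44d4) (nat_lit 42961) (nat_lit 0x8c0e4221b01c) (.node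
  (.node (.node .nil (nat_lit 0xe0900b0d0d24) (nat_lit 16241) (nat_lit 0xa09a440d241a) .nil) (nat_lit
  0xe0900b0e21b0) (nat_lit 27681) (nat_lit 0xa53042088e1c) .nil) (nat_lit 0xe0900b0f6840) (nat_lit 20960)
  (nat_lit 0xc24a6015848c) (.node (.node .nil (nat_lit 0xe1064100293e) (nat_lit 7025) (nat_lit 0x88d015102e8a)
  .nil) (nat_lit 0xe1064102c19c) (nat_lit 23169) (nat_lit 0x88c48a103a15) .nil))) (nat_lit 0xe1064102e8a2)
  (nat_lit 44161) (nat_lit 0x98ea0000149f) (.node (.node (.node (.node .nil (nat_lit 0xe106410498b4) (nat_lit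
  44512) (nat_lit 0x907083088e1c) .nil) (nat_lit 0xe1064104b18a) (nat_lit 30609) (nat_lit 0x88320e10cc91)
  (.node .nil (nat_lit 0xe10641065928) (nat_lit 39249) (nat_lit 0x88269110d80e) .nil)) (nat_lit
  0xe10641067016) (nat_lit 50033) (nat_lit 0x98081b00f684) (.node (.node .nil (nat_lit 0xe106410851a6)
  (nat_lit 39232) (nat_lit 0x88269110d80e) .nil) (nat_lit 0xe10641087898) (nat_lit 53057) (nat_lit
  0x80a88d185612) .nil)) (nat_lit 0xe106410a903a) (nat_lit 46512) (nat_lit 0x805e0918a096) (.node (.node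
  (.node .nil (nat_lit 0xe106410ab904) (nat_lit 23152) (nat_lit 0x88c48a103a15) .nil) (nat_lit 0xe106410cc912)
  (nat_lit 48801) (nat_lit 0x90641c089a83) .nil) (nat_lit 0xe106410ce02c) (nat_lit 30592) (nat_lit
  0x88320e10cc91) (.node (.node .nil (nat_lit 0xe106410e088e) (nat_lit 7008) (nat_lit 0x88d015102e8a) .nil)
  (nat_lit 0xe106410e21b0) (nat_lit 37440) (nat_lit 0x804a9618b409) .nil))))))
def tt3360_30 : T := (.node (.node (.node (.node (.node (.node (.node .nil (nat_lit 0xe140a2023718) (nat_lit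
  44097) (nat_lit 0x863a8019c058) .nil) (nat_lit 0xe140a202ae41) (nat_lit 53584) (nat_lit 0x981c84272211)
  (.node .nil (nat_lit 0xe140a2043c4c) (nat_lit 1344) (nat_lit 0xac2814131681) .nil)) (nat_lit 0xe140a204a515)
  (nat_lit 29840) (nat_lit 0xa118911e2604) (.node (.node .nil (nat_lit 0xe140a2060b54) (nat_lit 30177)
  (nat_lit 0x8d98081262d0) .nil) (nat_lit 0xe140a2081745) (nat_lit 28769) (nat_lit 0x978240087898) .nil))
  (nat_lit 0xe140a2088e1c) (nat_lit 36208) (nat_lit 0x8516143a2881) (.node (.node (.node .nil (nat_lit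
  0xe140a20ab904) (nat_lit 52593) (nat_lit 0x9092980f6840) .nil) (nat_lit 0xe140a20c2b09) (nat_lit 34849)
  (nat_lit 0x9c20c803da10) (.node .nil (nat_lit 0xe140a20e1c11) (nat_lit 41393) (nat_lit 0x85e0901a1a48)
  .nil)) (nat_lit 0xe140a20e8548) (nat_lit 35904) (nat_lit 0xbc1201032c94) (.node (.node .nil (nat_lit
  0xe245080132b2) (nat_lit 46961) (nat_lit 0x863a80390415) .nil) (nat_lit 0xe245080182d5) (nat_lit 19376)
  (nat_lit 0xd40063087898) .nil))) (nat_lit 0xe245080428d3) (nat_lit 51360) (nat_lit 0xd40063011b8c) (.node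
  (.node (.node (.node .nil (nat_lit 0xe245080498b4) (nat_lit 45232) (nat_lit 0xd40063088e1c) .nil) (nat_lit
  0xe24508051a61) (nat_lit 21664) (nat_lit 0xd4006300f684) (.node .nil (nat_lit 0xe2450805aa06) (nat_lit 4544)
  (nat_lit 0xd40063096314) .nil)) (nat_lit 0xe24508082ae4) (nat_lit 12128) (nat_lit 0xd400630a4f80) (.node
  (.node .nil (nat_lit 0xe24508089a83) (nat_lit 1361) (nat_lit 0xac2814131681) .nil) (nat_lit 0xe24508091856)
  (nat_lit 35921) (nat_lit 0xbc1201032c94) .nil)) (nat_lit 0xe2450809a831) (nat_lit 38144) (nat_lit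
  0xd40063023718) (.node (.node (.node .nil (nat_lit 0xe245080d3085) (nat_lit 34897) (nat_lit 0xb20e100d3085)
  .nil) (nat_lit 0xe245080d80e2) (nat_lit 48673) (nat_lit 0x9b3010240e85) .nil) (nat_lit 0xe3a80000149f)
  (nat_lit 51680) (nat_lit 0x86cc0439108a) (.node (.node .nil (nat_lit 0xe3a8000046e3) (nat_lit 12625)
  (nat_lit 0x98ea00070447) .nil) (nat_lit 0xe3a80000527c) (nat_lit 47905) (nat_lit 0x9d400602ae41) .nil))))
  (nat_lit 0xe3a8000401ed) (nat_lit 29216) (nat_lit 0xba800c055c82) (.node (.node (.node (.node (.node .nil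
  (nat_lit 0xe3a800041572) (nat_lit 24208) (nat_lit 0x8390863c4c08) .nil) (nat_lit 0xe3a80004470e) (nat_lit
  14881) (nat_lit 0x81c8431e2604) (.node .nil (nat_lit 0xe3a800045391) (nat_lit 7921) (nat_lit 0x8462451b8c02)
  .nil)) (nat_lit 0xe3a8000803da) (nat_lit 48) (nat_lit 0xb1d4000e088e) (.node (.node .nil (nat_lit
  0xe3a800081745) (nat_lit 19488) (nat_lit 0x88c48a371804) .nil) (nat_lit 0xe3a800084539) (nat_lit 3888)
  (nat_lit 0x96140a29c884) .nil)) (nat_lit 0xe3a8000851a6) (nat_lit 34256) (nat_lit 0xaf048010d80e) (.node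
  (.node (.node .nil (nat_lit 0xe3a8000c0237) (nat_lit 46401) (nat_lit 0x8b0a0514e442) .nil) (nat_lit
  0xe3a8000c16a8) (nat_lit 1312) (nat_lit 0x8d9808324486) .nil) (nat_lit 0xe3a8000c44d4) (nat_lit 7713)
  (nat_lit 0x8c0e4213e005) (.node (.node .nil (nat_lit 0xe3a8000c504b) (nat_lit 16385) (nat_lit
  0x89a444164a03) .nil) (nat_lit 0xe41c2000e21b) (nat_lit 47648) (nat_lit 0x836602309185) .nil))) (nat_lit
  0xe41c200160ce) (nat_lit 22800) (nat_lit 0xa0e106131681) (.node (.node (.node (.node .nil (nat_lit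
  0xe41c200182d5) (nat_lit 50337) (nat_lit 0xaf048000e21b) .nil) (nat_lit 0xe41c20022387) (nat_lit 41873)
  (nat_lit 0x8384192c6282) (.node .nil (nat_lit 0xe41c2002c19c) (nat_lit 52336) (nat_lit 0x908607237180)
  .nil)) (nat_lit 0xe41c20034349) (nat_lit 45824) (nat_lit 0xb3010300f684) (.node (.node .nil (nat_lit
  0xe41c2003a152) (nat_lit 22673) (nat_lit 0x8366022c8099) .nil) (nat_lit 0xe41c200803da) (nat_lit 42481)
  (nat_lit 0xa2209a0dc601) .nil)) (nat_lit 0xe41c2008e1c1) (nat_lit 22320) (nat_lit 0x81458532b202) (.node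
  (.node (.node .nil (nat_lit 0xe41c20096314) (nat_lit 15872) (nat_lit 0xa2c281113506) .nil) (nat_lit
  0xe41c2009810f) (nat_lit 39041) (nat_lit 0xa2c2810d241a) .nil) (nat_lit 0xe41c200a205d) (nat_lit 22289)
  (nat_lit 0x8e421821a483) (.node (.node .nil (nat_lit 0xe41c200ac246) (nat_lit 35681) (nat_lit
  0x85028b2ae410) .nil) (nat_lit 0xe41c200b4093) (nat_lit 21985) (nat_lit 0x85e0902a060b) .nil))))) (nat_lit
  0xe41c200ba288) (nat_lit 28577) (nat_lit 0x8ea003214698) (.node (.node (.node (.node (.node (.node .nil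
  (nat_lit 0xe4218100527c) (nat_lit 3505) (nat_lit 0x9d40062032c9) .nil) (nat_lit 0xe4218101964a) (nat_lit
  14704) (nat_lit 0xa54b0000149f) (.node .nil (nat_lit 0xe4218101c436) (nat_lit 6688) (nat_lit 0xa1189104470e)
  .nil)) (nat_lit 0xe42181021e26) (nat_lit 496) (nat_lit 0xa0178205481d) (.node (.node .nil (nat_lit
  0xe42181024c5a) (nat_lit 5009) (nat_lit 0xb122840c504b) .nil) (nat_lit 0xe4218103886c) (nat_lit 16097)
  (nat_lit 0xa4508c192243) .nil)) (nat_lit 0xe4218103da10) (nat_lit 20033) (nat_lit 0x84624539108a) (.node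
  (.node (.node .nil (nat_lit 0xe42181088e1c) (nat_lit 15041) (nat_lit 0x8952c034200f) .nil) (nat_lit
  0xe4218108dc60) (nat_lit 4800) (nat_lit 0x814585241a1a) .nil) (nat_lit 0xe42181091856) (nat_lit 33344)
  (nat_lit 0x85028b205d14) (.node (.node .nil (nat_lit 0xe42181094a2a) (nat_lit 40401) (nat_lit
  0x9c20c8215207) .nil) (nat_lit 0xe421810a903a) (nat_lit 14960) (nat_lit 0x805e09250196) .nil))) (nat_lit
  0xe421810ac246) (nat_lit 9440) (nat_lit 0x840d98215207) (.node (.node (.node (.node .nil (nat_lit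
  0xe421810b0670) (nat_lit 49120) (nat_lit 0x804a96251509) .nil) (nat_lit 0xe421810b540c) (nat_lit 19008)
  (nat_lit 0x841907214698) (.node .nil (nat_lit 0xe60206003da1) (nat_lit 16465) (nat_lit 0xc10929129454)
  .nil)) (nat_lit 0xe60206009959) (nat_lit 3041) (nat_lit 0xc109291ed080) (.node (.node .nil (nat_lit
  0xe6020600a4f8) (nat_lit 50209) (nat_lit 0xc109290c44d4) .nil) (nat_lit 0xe602060149f0) (nat_lit 28320)
  (nat_lit 0x863a8030851a) .nil)) (nat_lit 0xe60206017451) (nat_lit 10864) (nat_lit 0x909298262d02) (.node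
  (.node (.node .nil (nat_lit 0xe6020601ed08) (nat_lit 33553) (nat_lit 0xc109291e2604) .nil) (nat_lit
  0xe60206087898) (nat_lit 14209) (nat_lit 0xc10929185612) .nil) (nat_lit 0xe6020608dc60) (nat_lit 20912)
  (nat_lit 0x92a580241a1a) (.node (.node .nil (nat_lit 0xe6020608e1c1) (nat_lit 39056) (nat_lit
  0x840d9832b202) .nil) (nat_lit 0xe60206090cc9) (nat_lit 31360) (nat_lit 0xa69110102e8a) .nil)))) (nat_lit
  0xe60206093168) (nat_lit 19121) (nat_lit 0xc109290a34c2) (.node (.node (.node (.node (.node .nil (nat_lit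
  0xe6020609a831) (nat_lit 33985) (nat_lit 0xc1092914e442) .nil) (nat_lit 0xe80a8800b067) (nat_lit 21793)
  (nat_lit 0x96009528a84a) (.node .nil (nat_lit 0xe80a88017451) (nat_lit 15297) (nat_lit 0x80a88d3e0052)
  .nil)) (nat_lit 0xe80a8801c436) (nat_lit 5280) (nat_lit 0xc1907004470e) (.node (.node .nil (nat_lit
  0xe80a88026564) (nat_lit 4001) (nat_lit 0x84805e3a2881) .nil) (nat_lit 0xe80a8802d503) (nat_lit 28161)
  (nat_lit 0xac28141280cb) .nil)) (nat_lit 0xe80a88031135) (nat_lit 6656) (nat_lit 0xc19070120d0d) (.node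
  (.node (.node .nil (nat_lit 0xe80a8803a152) (nat_lit 41584) (nat_lit 0xc190700e088e) .nil) (nat_lit
  0xe80a88041572) (nat_lit 13857) (nat_lit 0xa2209a1c8845) .nil) (nat_lit 0xe80a8804a515) (nat_lit 9376)
  (nat_lit 0xc190701e2604) (.node (.node .nil (nat_lit 0xe80a88056123) (nat_lit 43680) (nat_lit
  0xc190701a610a) .nil) (nat_lit 0xe80a8805d144) (nat_lit 21201) (nat_lit 0xb488820a205d) .nil))) (nat_lit
  0xe80a88067016) (nat_lit 27409) (nat_lit 0x98081b26a0c4) (.node (.node (.node (.node .nil (nat_lit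
  0xe80a8806c071) (nat_lit 36721) (nat_lit 0xb0a0510e088e) .nil) (nat_lit 0xe80a88070447) (nat_lit 23009)
  (nat_lit 0xa6084918a096) (.node .nil (nat_lit 0xe80a8807b420) (nat_lit 23600) (nat_lit 0xc190700c2b09)
  .nil)) (nat_lit 0xe911040046e3) (nat_lit 27889) (nat_lit 0xf08320070447) (.node (.node .nil (nat_lit
  0xe9110400a4f8) (nat_lit 51553) (nat_lit 0xf0832003380b) .nil) (nat_lit 0xe9110400e21b) (nat_lit 22656)
  (nat_lit 0x8366022c8099) .nil)) (nat_lit 0xe91104020ab9) (nat_lit 41856) (nat_lit 0x8384192c6282) (.node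
  (.node (.node .nil (nat_lit 0xe91104024c5a) (nat_lit 18081) (nat_lit 0xf08320032c94) .nil) (nat_lit
  0xe9110402ae41) (nat_lit 53121) (nat_lit 0xf083200710d8) .nil) (nat_lit 0xe9110402e8a2) (nat_lit 32417)
  (nat_lit 0xf0832000149f) (.node (.node .nil (nat_lit 0xe911040428d3) (nat_lit 25905) (nat_lit
  0xf083200160ce) .nil) (nat_lit 0xe91104046e30) (nat_lit 39024) (nat_lit 0xa2c2810d241a) .nil))))))
def tt3360_31 : T := (.node (.node (.node (.node (.node (.node (.node .nil (nat_lit 0xe9110404cac8) (nat_lit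
  5889) (nat_lit 0xf08320055c82) .nil) (nat_lit 0xe9110406226a) (nat_lit 41184) (nat_lit 0xa96009068692)
  (.node .nil (nat_lit 0xe91104066489) (nat_lit 28560) (nat_lit 0x8ea003214698) .nil)) (nat_lit
  0xe91104068692) (nat_lit 37553) (nat_lit 0xf08320067016) (.node (.node .nil (nat_lit 0xe9110406c071)
  (nat_lit 21968) (nat_lit 0x85e0902a060b) .nil) (nat_lit 0xea0031007b42) (nat_lit 37393) (nat_lit
  0xa06cc0159013) .nil)) (nat_lit 0xea0031008dc6) (nat_lit 9649) (nat_lit 0x8494c1316812) (.node (.node (.node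
  .nil (nat_lit 0xea003100f684) (nat_lit 7232) (nat_lit 0xb8419005aa06) .nil) (nat_lit 0xea0031011b8c)
  (nat_lit 34864) (nat_lit 0x9189142c6282) (.node .nil (nat_lit 0xea003101964a) (nat_lit 32896) (nat_lit
  0xa54b0018a096) .nil)) (nat_lit 0xea003101ed08) (nat_lit 53616) (nat_lit 0x94231229c884) (.node (.node .nil
  (nat_lit 0xea0031043c4c) (nat_lit 13201) (nat_lit 0x94585021a483) .nil) (nat_lit 0xea003104b18a) (nat_lit
  53728) (nat_lit 0x98ea00250196) .nil))) (nat_lit 0xea003104cac8) (nat_lit 961) (nat_lit 0xb0a051055c82)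
  (.node (.node (.node (.node .nil (nat_lit 0xea0031055c82) (nat_lit 27856) (nat_lit 0xb122840cc912) .nil)
  (nat_lit 0xea003105aa06) (nat_lit 6337) (nat_lit 0xa1189114e442) (.node .nil (nat_lit 0xea003105d144)
  (nat_lit 41824) (nat_lit 0x85e090380b06) .nil)) (nat_lit 0xecc04000149f) (nat_lit 592) (nat_lit
  0x86cc04112199) (.node (.node .nil (nat_lit 0xecc04000293e) (nat_lit 33) (nat_lit 0x88d015332448) .nil)
  (nat_lit 0xecc040003da1) (nat_lit 20384) (nat_lit 0x81458516a818) .nil)) (nat_lit 0xecc040010f13) (nat_lit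
  20785) (nat_lit 0x90641c2b9041) (.node (.node (.node .nil (nat_lit 0xecc040011b8c) (nat_lit 29953) (nat_lit
  0xb1d4000a205d) .nil) (nat_lit 0xecc04001262d) (nat_lit 33824) (nat_lit 0x87210c10cc91) .nil) (nat_lit
  0xecc0400132b2) (nat_lit 19840) (nat_lit 0x96009501ed08) (.node (.node .nil (nat_lit 0xecc040020ab9)
  (nat_lit 24721) (nat_lit 0xb0a0510b540c) .nil) (nat_lit 0xecc040021e26) (nat_lit 20096) (nat_lit
  0x92a58005481d) .nil)))) (nat_lit 0xecc040022387) (nat_lit 23632) (nat_lit 0x840d9813e005) (.node (.node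
  (.node (.node (.node .nil (nat_lit 0xecc040023718) (nat_lit 21872) (nat_lit 0x952c0102c19c) .nil) (nat_lit
  0xecc0400305aa) (nat_lit 40721) (nat_lit 0x9b301020c44d) (.node .nil (nat_lit 0xecc040031135) (nat_lit
  25728) (nat_lit 0x85e090120d0d) .nil)) (nat_lit 0xecc040032c94) (nat_lit 9504) (nat_lit 0x93488804a515)
  (.node (.node .nil (nat_lit 0xecc04003380b) (nat_lit 23393) (nat_lit 0x89a444325019) .nil) (nat_lit
  0xf0480500a4f8) (nat_lit 51712) (nat_lit 0xa4a608195901) .nil)) (nat_lit 0xf048050132b2) (nat_lit 13073)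
  (nat_lit 0xc2312204cac8) (.node (.node (.node .nil (nat_lit 0xf0480501964a) (nat_lit 20641) (nat_lit
  0xc23122088e1c) .nil) (nat_lit 0xf04805023718) (nat_lit 50929) (nat_lit 0xc2312219c058) .nil) (nat_lit
  0xf048050293e0) (nat_lit 43648) (nat_lit 0x8c7500318a09) (.node (.node .nil (nat_lit 0xf0480503a152)
  (nat_lit 14049) (nat_lit 0xc23122114e44) .nil) (nat_lit 0xf04805041572) (nat_lit 3360) (nat_lit
  0x81b3013c4c08) .nil))) (nat_lit 0xf0480504b18a) (nat_lit 25697) (nat_lit 0xc2312210cc91) (.node (.node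
  (.node (.node .nil (nat_lit 0xf04805058338) (nat_lit 44224) (nat_lit 0x99070824f801) .nil) (nat_lit
  0xf04805068692) (nat_lit 33441) (nat_lit 0xc23122090cc9) (.node .nil (nat_lit 0xf048050710d8) (nat_lit
  15105) (nat_lit 0xc231220182d5) .nil)) (nat_lit 0xf0480507b420) (nat_lit 25552) (nat_lit 0xb1d4000c2b09)
  (.node (.node .nil (nat_lit 0xf0832000149f) (nat_lit 20160) (nat_lit 0x86cc04283113) .nil) (nat_lit
  0xf083200160ce) (nat_lit 15233) (nat_lit 0xa444131a1a48) .nil)) (nat_lit 0xf08320017451) (nat_lit 21169)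
  (nat_lit 0x805e093e0052) (.node (.node (.node .nil (nat_lit 0xf08320024c5a) (nat_lit 42688) (nat_lit
  0xa444130ab904) .nil) (nat_lit 0xf083200258c5) (nat_lit 27985) (nat_lit 0x96140a284a51) .nil) (nat_lit
  0xf08320032c94) (nat_lit 10096) (nat_lit 0xaa580204a515) (.node (.node .nil (nat_lit 0xf0832003380b)
  (nat_lit 43441) (nat_lit 0x8c0e42325019) .nil) (nat_lit 0xf083200428d3) (nat_lit 33888) (nat_lit
  0x8419072ae410) .nil))))) (nat_lit 0xf08320043c4c) (nat_lit 43312) (nat_lit 0xac281402d503) (.node (.node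
  (.node (.node (.node (.node .nil (nat_lit 0xf0832005481d) (nat_lit 42305) (nat_lit 0xaa5802140659) .nil)
  (nat_lit 0xf08320055c82) (nat_lit 3056) (nat_lit 0xa234050cc912) (.node .nil (nat_lit 0xf08320066489)
  (nat_lit 26496) (nat_lit 0x8ea003205d14) .nil)) (nat_lit 0xf08320067016) (nat_lit 24528) (nat_lit
  0xa69110086c07) (.node (.node .nil (nat_lit 0xf08320070447) (nat_lit 16721) (nat_lit 0xa60849185612) .nil)
  (nat_lit 0xf083200710d8) (nat_lit 48160) (nat_lit 0xa88d01067016) .nil)) (nat_lit 0xf210c000293e) (nat_lit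
  5633) (nat_lit 0x88d015230ac2) (.node (.node (.node .nil (nat_lit 0xf210c000cb25) (nat_lit 25504) (nat_lit
  0x8c750013021e) .nil) (nat_lit 0xf210c000e21b) (nat_lit 22144) (nat_lit 0x8366021c111c) .nil) (nat_lit
  0xf210c0010f13) (nat_lit 14528) (nat_lit 0x88320e174510) (.node (.node .nil (nat_lit 0xf210c001262d)
  (nat_lit 40481) (nat_lit 0xa34054089a83) .nil) (nat_lit 0xf210c001c436) (nat_lit 16433) (nat_lit
  0xa800c703da10) .nil))) (nat_lit 0xf210c001ed08) (nat_lit 10833) (nat_lit 0x8b0a0520d0d2) (.node (.node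
  (.node (.node .nil (nat_lit 0xf210c004470e) (nat_lit 48577) (nat_lit 0x81c8432a1294) .nil) (nat_lit
  0xf210c0046e30) (nat_lit 25104) (nat_lit 0x9253040d241a) (.node .nil (nat_lit 0xf210c0048c2b) (nat_lit
  48001) (nat_lit 0xa982120258c5) .nil)) (nat_lit 0xf210c004a515) (nat_lit 5473) (nat_lit 0x8a88d0215207)
  (.node (.node .nil (nat_lit 0xf210c005481d) (nat_lit 32048) (nat_lit 0x8a0516157208) .nil) (nat_lit
  0xf210c0056123) (nat_lit 27520) (nat_lit 0x8516141a610a) .nil)) (nat_lit 0xf210c0058338) (nat_lit 26849)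
  (nat_lit 0x82125329c884) (.node (.node (.node .nil (nat_lit 0xf210c005aa06) (nat_lit 36768) (nat_lit
  0x96140a096314) .nil) (nat_lit 0xf50018003da1) (nat_lit 26881) (nat_lit 0x85028b129454) .nil) (nat_lit
  0xf500180046e3) (nat_lit 41248) (nat_lit 0xc805e0103a15) (.node (.node .nil (nat_lit 0xf50018007b42)
  (nat_lit 34112) (nat_lit 0xc805e006920d) .nil) (nat_lit 0xf50018008dc6) (nat_lit 37201) (nat_lit
  0x8494c113021e) .nil)))) (nat_lit 0xf5001800b067) (nat_lit 20657) (nat_lit 0x96009501964a) (.node (.node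
  (.node (.node (.node .nil (nat_lit 0xf5001800cb25) (nat_lit 36641) (nat_lit 0x839086140659) .nil) (nat_lit
  0xf5001800f684) (nat_lit 40993) (nat_lit 0x9104d206920d) (.node .nil (nat_lit 0xf50018021e26) (nat_lit
  52432) (nat_lit 0xc805e005481d) .nil)) (nat_lit 0xf50018022387) (nat_lit 48112) (nat_lit 0xc805e013e005)
  (.node (.node .nil (nat_lit 0xf500180258c5) (nat_lit 50433) (nat_lit 0x96140a0182d5) .nil) (nat_lit
  0xf50018026564) (nat_lit 3937) (nat_lit 0x84805e131681) .nil)) (nat_lit 0xf500180293e0) (nat_lit 9312)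
  (nat_lit 0xc805e0067016) (.node (.node (.node .nil (nat_lit 0xf5001802ae41) (nat_lit 29152) (nat_lit
  0xc805e010d80e) .nil) (nat_lit 0xf5001802d503) (nat_lit 16545) (nat_lit 0x8516141280cb) .nil) (nat_lit
  0xf5001802e8a2) (nat_lit 29073) (nat_lit 0x97824000149f) (.node (.node .nil (nat_lit 0xf8240200527c)
  (nat_lit 34177) (nat_lit 0x9d4006229c88) .nil) (nat_lit 0xf82402009959) (nat_lit 4288) (nat_lit
  0xb20e1009810f) .nil))) (nat_lit 0xf8240200cb25) (nat_lit 24225) (nat_lit 0x8390863c4c08) (.node (.node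
  (.node (.node .nil (nat_lit 0xf82402011b8c) (nat_lit 65) (nat_lit 0xb1d4000e088e) .nil) (nat_lit
  0xf824020149f0) (nat_lit 14784) (nat_lit 0x8b0a0530851a) (.node .nil (nat_lit 0xf824020182d5) (nat_lit
  34273) (nat_lit 0xaf048010d80e) .nil)) (nat_lit 0xf8240201d0a9) (nat_lit 1329) (nat_lit 0x8d9808324486)
  (.node (.node .nil (nat_lit 0xf82402020ab9) (nat_lit 48977) (nat_lit 0xb488820b540c) .nil) (nat_lit
  0xf824020258c5) (nat_lit 3905) (nat_lit 0x96140a29c884) .nil)) (nat_lit 0xf824020293e0) (nat_lit 4192)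
  (nat_lit 0x8a0516318a09) (.node (.node (.node .nil (nat_lit 0xf8240202c19c) (nat_lit 19505) (nat_lit
  0x88c48a371804) .nil) (nat_lit 0xf82402031135) (nat_lit 29233) (nat_lit 0xba800c055c82) .nil) (nat_lit
  0xf82402034349) (nat_lit 28849) (nat_lit 0x981c8427c00a) (.node (.node .nil (nat_lit 0xf8240203886c)
  (nat_lit 21729) (nat_lit 0xa4508c1b8c02) .nil) (nat_lit 0xf8240203da10) (nat_lit 38240) (nat_lit
  0xba800c010f13) .nil))))))
def tt3360 : T := (.node (.node (.node (.node (.node tt3360_0 (nat_lit 0x80952c284a51) (nat_lit 30624)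
  (nat_lit 0x940a2c08e1c1) tt3360_1) (nat_lit 0x8178242205d1) (nat_lit 46177) (nat_lit 0xb010360e8548) (.node
  tt3360_2 (nat_lit 0x828b0a3540c1) (nat_lit 1873) (nat_lit 0xd8025401d0a9) tt3360_3)) (nat_lit
  0x84190700a4f8) (nat_lit 23520) (nat_lit 0xa4a6081a4834) (.node (.node tt3360_4 (nat_lit 0x85028b129454)
  (nat_lit 15937) (nat_lit 0x9c20c8234c21) tt3360_5) (nat_lit 0x8708321055c8) (nat_lit 25169) (nat_lit
  0xc3039014e442) (.node tt3360_6 (nat_lit 0x88c48a212945) (nat_lit 18849) (nat_lit 0xa691100046e3)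
  tt3360_7))) (nat_lit 0x8a1189202656) (nat_lit 21376) (nat_lit 0x9298210803da) (.node (.node (.node tt3360_8
  (nat_lit 0x8c8384135062) (nat_lit 41024) (nat_lit 0xc62450199224) tt3360_9) (nat_lit 0x904d220182d5)
  (nat_lit 26593) (nat_lit 0xaf048000b067) (.node tt3360_10 (nat_lit 0x9142310a34c2) (nat_lit 11329) (nat_lit
  0xc0d980140659) tt3360_11)) (nat_lit 0x934888243324) (nat_lit 2897) (nat_lit 0x91891420742a) (.node (.node
  tt3360_12 (nat_lit 0x96140a08e1c1) (nat_lit 45008) (nat_lit 0x8c48a132b202) tt3360_13) (nat_lit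
  0x99070824f801) (nat_lit 31328) (nat_lit 0x9511a020c44d) (.node tt3360_14 (nat_lit 0xa01782152074) (nat_lit
  48193) (nat_lit 0xac2814118561) tt3360_15)))) (nat_lit 0xa1189114e442) (nat_lit 3280) (nat_lit
  0x91104d2c6282) (.node (.node (.node (.node tt3360_16 (nat_lit 0xa3122818a096) (nat_lit 45697) (nat_lit
  0x88269131412c) tt3360_17) (nat_lit 0xa58025102e8a) (nat_lit 20609) (nat_lit 0xa209a4017451) (.node
  tt3360_18 (nat_lit 0xa960090498b4) (nat_lit 20624) (nat_lit 0xc23122088e1c) tt3360_19)) (nat_lit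
  0xb0103601ed08) (nat_lit 30209) (nat_lit 0x98212520d0d2) (.node (.node tt3360_20 (nat_lit 0xb30103082ae4)
  (nat_lit 3537) (nat_lit 0x85161422a129) tt3360_21) (nat_lit 0xc0063a05d144) (nat_lit 40737) (nat_lit
  0xb48882023718) (.node tt3360_22 (nat_lit 0xc1092900f684) (nat_lit 52528) (nat_lit 0x92017805aa06)
  tt3360_23))) (nat_lit 0xc24a600d3085) (nat_lit 10592) (nat_lit 0xd446800ab904) (.node (.node (.node
  tt3360_24 (nat_lit 0xc5850200527c) (nat_lit 49968) (nat_lit 0xa10c0e1c4360) tt3360_25) (nat_lit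
  0xc88826157208) (nat_lit 45376) (nat_lit 0x89298200527c) (.node tt3360_26 (nat_lit 0xcd222002d503) (nat_lit
  50897) (nat_lit 0x8c75001280cb) tt3360_27)) (nat_lit 0xd222090cc912) (nat_lit 23585) (nat_lit
  0xb40544089a83) (.node (.node tt3360_28 (nat_lit 0xd9808104470e) (nat_lit 44832) (nat_lit 0x9d40060293e0)
  tt3360_29) (nat_lit 0xe140a2009959) (nat_lit 34880) (nat_lit 0xb20e100d3085) (.node tt3360_30 (nat_lit
  0xe91104048c2b) (nat_lit 22272) (nat_lit 0x8e421821a483) tt3360_31)))))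
theorem tt3360_chk : band (orbChk apT (gensOf cO) 150427290248264 (2 ^ 48) tt3360) (Nat.beq tt3360.size 3360) = true := by
  decide +kernel
theorem tt3360_card : (orbit (stabilizer M24 O0) (trio (unmask 3351624) (unmask 8966165))).ncard = 3360 :=
  orbit_ncard_of_chk acT (trio_rep (a := 3351624) (b := 8966165) (k := 150427290248264) (by decide +kernel)).1 cO_chk stab_O0 (trio_rep (a := 3351624) (b := 8966165) (k := 150427290248264) (by decide +kernel)).2 tt3360_chk

def ts35 : T := (.node (.node (.node (.node (.node (.node .nil (nat_lit 202) (nat_lit 145) (nat_lit 464) .nil)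
  (nat_lit 238) (nat_lit 385) (nat_lit 940) .nil) (nat_lit 282) (nat_lit 160) (nat_lit 1409) (.node .nil
  (nat_lit 464) (nat_lit 65) (nat_lit 2956) .nil)) (nat_lit 500) (nat_lit 513) (nat_lit 2544) (.node (.node
  .nil (nat_lit 600) (nat_lit 449) (nat_lit 3597) .nil) (nat_lit 658) (nat_lit 433) (nat_lit 4061) (.node .nil
  (nat_lit 694) (nat_lit 33) (nat_lit 3489) .nil))) (nat_lit 834) (nat_lit 192) (nat_lit 1391) (.node (.node
  (.node (.node .nil (nat_lit 904) (nat_lit 177) (nat_lit 1409) .nil) (nat_lit 940) (nat_lit 241) (nat_lit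
  2045) .nil) (nat_lit 1105) (nat_lit 368) (nat_lit 940) (.node .nil (nat_lit 1391) (nat_lit 96) (nat_lit
  3783) .nil)) (nat_lit 1409) (nat_lit 81) (nat_lit 694) (.node (.node .nil (nat_lit 1445) (nat_lit 273)
  (nat_lit 202) .nil) (nat_lit 1545) (nat_lit 288) (nat_lit 834) (.node .nil (nat_lit 1847) (nat_lit 480)
  (nat_lit 3625) .nil)))) (nat_lit 2009) (nat_lit 337) (nat_lit 3259) (.node (.node (.node (.node (.node .nil
  (nat_lit 2045) (nat_lit 113) (nat_lit 3783) .nil) (nat_lit 2254) (nat_lit 497) (nat_lit 3625) .nil) (nat_lit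
  2334) (nat_lit 352) (nat_lit 2680) (.node .nil (nat_lit 2362) (nat_lit 465) (nat_lit 2009) .nil)) (nat_lit
  2544) (nat_lit 416) (nat_lit 1445) (.node (.node .nil (nat_lit 2652) (nat_lit 545) (nat_lit 500) .nil)
  (nat_lit 2680) (nat_lit 224) (nat_lit 2045) (.node .nil (nat_lit 2738) (nat_lit 256) (nat_lit 202) .nil)))
  (nat_lit 2956) (nat_lit 16) (nat_lit 3489) (.node (.node (.node (.node .nil (nat_lit 3259) (nat_lit 209)
  (nat_lit 1391) .nil) (nat_lit 3489) (nat_lit 0) (nat_lit 3489) .nil) (nat_lit 3597) (nat_lit 320) (nat_lit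
  3259) (.node .nil (nat_lit 3625) (nat_lit 401) (nat_lit 2738) .nil)) (nat_lit 3783) (nat_lit 48) (nat_lit
  2956) (.node (.node .nil (nat_lit 3863) (nat_lit 529) (nat_lit 658) .nil) (nat_lit 3891) (nat_lit 128)
  (nat_lit 464) (.node .nil (nat_lit 4061) (nat_lit 305) (nat_lit 834) .nil)))))
theorem ts35_chk : band (orbChk apS (gensOf cO) 3489 (4096) ts35) (Nat.beq ts35.size 35) = true := by
  decide +kernel
theorem ts35_card : (orbit (stabilizer M24 O0) (sext (unmask 8388615))).ncard = 35 :=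
  orbit_ncard_of_chk acX (sext_rep (t := 8388615) (k := 3489) (by decide +kernel)).1 cO_chk stab_O0 (sext_rep (t := 8388615) (k := 3489) (by decide +kernel)).2 ts35_chk

def ts840_0 : T := (.node (.node (.node (.node (.node (.node (.node .nil (nat_lit 27) (nat_lit 4032) (nat_lit
  2646) .nil) (nat_lit 39) (nat_lit 2640) (nat_lit 1746) (.node .nil (nat_lit 45) (nat_lit 9681) (nat_lit 657)
  .nil)) (nat_lit 46) (nat_lit 8785) (nat_lit 2594) (.node (.node .nil (nat_lit 53) (nat_lit 5041) (nat_lit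
  380) .nil) (nat_lit 54) (nat_lit 8113) (nat_lit 2511) .nil)) (nat_lit 60) (nat_lit 12801) (nat_lit 401)
  (.node (.node (.node .nil (nat_lit 63) (nat_lit 11873) (nat_lit 2338) .nil) (nat_lit 75) (nat_lit 1152)
  (nat_lit 2316) (.node .nil (nat_lit 83) (nat_lit 11744) (nat_lit 3426) .nil)) (nat_lit 89) (nat_lit 3953)
  (nat_lit 3287) (.node (.node .nil (nat_lit 90) (nat_lit 8416) (nat_lit 1260) .nil) (nat_lit 101) (nat_lit
  11424) (nat_lit 1616) .nil))) (nat_lit 102) (nat_lit 7616) (nat_lit 2152) (.node (.node (.node (.node .nil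
  (nat_lit 108) (nat_lit 10065) (nat_lit 3499) .nil) (nat_lit 111) (nat_lit 8736) (nat_lit 486) (.node .nil
  (nat_lit 116) (nat_lit 13377) (nat_lit 3654) .nil)) (nat_lit 119) (nat_lit 976) (nat_lit 1416) (.node (.node
  .nil (nat_lit 125) (nat_lit 9120) (nat_lit 574) .nil) (nat_lit 126) (nat_lit 8016) (nat_lit 3078) .nil))
  (nat_lit 139) (nat_lit 2929) (nat_lit 3818) (.node (.node (.node .nil (nat_lit 147) (nat_lit 10464) (nat_lit
  3555) .nil) (nat_lit 153) (nat_lit 9441) (nat_lit 1369) .nil) (nat_lit 154) (nat_lit 1728) (nat_lit 1133)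
  (.node (.node .nil (nat_lit 165) (nat_lit 5953) (nat_lit 1224) .nil) (nat_lit 166) (nat_lit 7808) (nat_lit
  2281) .nil)))) (nat_lit 172) (nat_lit 5873) (nat_lit 1061) (.node (.node (.node (.node (.node .nil (nat_lit
  175) (nat_lit 4353) (nat_lit 3222) .nil) (nat_lit 180) (nat_lit 11297) (nat_lit 1992) (.node .nil (nat_lit
  183) (nat_lit 12385) (nat_lit 3963) .nil)) (nat_lit 189) (nat_lit 5792) (nat_lit 703) (.node (.node .nil
  (nat_lit 190) (nat_lit 1649) (nat_lit 3990) .nil) (nat_lit 195) (nat_lit 3617) (nat_lit 317) .nil)) (nat_lit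
  201) (nat_lit 9696) (nat_lit 2319) (.node (.node (.node .nil (nat_lit 209) (nat_lit 1377) (nat_lit 2702)
  .nil) (nat_lit 210) (nat_lit 11345) (nat_lit 573) .nil) (nat_lit 216) (nat_lit 10800) (nat_lit 1263) (.node
  (.node .nil (nat_lit 219) (nat_lit 10240) (nat_lit 2775) .nil) (nat_lit 228) (nat_lit 10384) (nat_lit 2155)
  .nil))) (nat_lit 231) (nat_lit 3632) (nat_lit 1619) (.node (.node (.node (.node .nil (nat_lit 245) (nat_lit
  2944) (nat_lit 1419) .nil) (nat_lit 252) (nat_lit 12193) (nat_lit 2079) (.node .nil (nat_lit 255) (nat_lit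
  8993) (nat_lit 172) .nil)) (nat_lit 267) (nat_lit 2144) (nat_lit 2145) (.node (.node .nil (nat_lit 275)
  (nat_lit 3009) (nat_lit 2737) .nil) (nat_lit 281) (nat_lit 6913) (nat_lit 751) .nil)) (nat_lit 293) (nat_lit
  11521) (nat_lit 894) (.node (.node (.node .nil (nat_lit 294) (nat_lit 11809) (nat_lit 3021) .nil) (nat_lit
  300) (nat_lit 8721) (nat_lit 915) .nil) (nat_lit 303) (nat_lit 5120) (nat_lit 139) (.node (.node .nil
  (nat_lit 308) (nat_lit 11089) (nat_lit 126) .nil) (nat_lit 311) (nat_lit 3024) (nat_lit 1253) .nil)))))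
  (nat_lit 317) (nat_lit 2016) (nat_lit 851) (.node (.node (.node (.node (.node (.node .nil (nat_lit 323)
  (nat_lit 7345) (nat_lit 1675) .nil) (nat_lit 329) (nat_lit 4000) (nat_lit 2275) (.node .nil (nat_lit 330)
  (nat_lit 7089) (nat_lit 1638) .nil)) (nat_lit 337) (nat_lit 10737) (nat_lit 3384) (.node (.node .nil
  (nat_lit 338) (nat_lit 144) (nat_lit 693) .nil) (nat_lit 344) (nat_lit 12224) (nat_lit 1283) .nil)) (nat_lit
  347) (nat_lit 13233) (nat_lit 1382) (.node (.node (.node .nil (nat_lit 356) (nat_lit 10833) (nat_lit 3140)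
  .nil) (nat_lit 359) (nat_lit 4865) (nat_lit 1271) (.node .nil (nat_lit 366) (nat_lit 7873) (nat_lit 1050)
  .nil)) (nat_lit 373) (nat_lit 7728) (nat_lit 1127) (.node (.node .nil (nat_lit 374) (nat_lit 6928) (nat_lit
  2655) .nil) (nat_lit 380) (nat_lit 2865) (nat_lit 4009) .nil))) (nat_lit 383) (nat_lit 9536) (nat_lit 977)
  (.node (.node (.node (.node .nil (nat_lit 387) (nat_lit 1073) (nat_lit 3845) .nil) (nat_lit 393) (nat_lit
  3456) (nat_lit 2146) (.node .nil (nat_lit 394) (nat_lit 9089) (nat_lit 4072) .nil)) (nat_lit 401) (nat_lit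
  11024) (nat_lit 3084) (.node (.node .nil (nat_lit 402) (nat_lit 12976) (nat_lit 564) .nil) (nat_lit 408)
  (nat_lit 10945) (nat_lit 1115) .nil)) (nat_lit 411) (nat_lit 5105) (nat_lit 3304) (.node (.node (.node .nil
  (nat_lit 420) (nat_lit 1120) (nat_lit 2310) .nil) (nat_lit 423) (nat_lit 6849) (nat_lit 3449) .nil) (nat_lit
  430) (nat_lit 8096) (nat_lit 3760) (.node (.node .nil (nat_lit 437) (nat_lit 4736) (nat_lit 1254) .nil)
  (nat_lit 438) (nat_lit 3073) (nat_lit 3705) .nil)))) (nat_lit 444) (nat_lit 12160) (nat_lit 3432) (.node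
  (.node (.node (.node (.node .nil (nat_lit 447) (nat_lit 4193) (nat_lit 3732) .nil) (nat_lit 449) (nat_lit
  7264) (nat_lit 3926) (.node .nil (nat_lit 450) (nat_lit 10960) (nat_lit 366) .nil)) (nat_lit 456) (nat_lit
  2161) (nat_lit 2145) (.node (.node .nil (nat_lit 459) (nat_lit 12544) (nat_lit 2272) .nil) (nat_lit 467)
  (nat_lit 2001) (nat_lit 831) .nil)) (nat_lit 473) (nat_lit 1504) (nat_lit 2872) (.node (.node (.node .nil
  (nat_lit 486) (nat_lit 5568) (nat_lit 2436) .nil) (nat_lit 503) (nat_lit 10497) (nat_lit 323) .nil) (nat_lit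
  510) (nat_lit 1952) (nat_lit 3562) (.node (.node .nil (nat_lit 523) (nat_lit 12833) (nat_lit 2692) .nil)
  (nat_lit 531) (nat_lit 5520) (nat_lit 2530) .nil))) (nat_lit 537) (nat_lit 1392) (nat_lit 3668) (.node
  (.node (.node (.node .nil (nat_lit 538) (nat_lit 5585) (nat_lit 2436) .nil) (nat_lit 549) (nat_lit 10865)
  (nat_lit 166) (.node .nil (nat_lit 550) (nat_lit 97) (nat_lit 2069) .nil)) (nat_lit 556) (nat_lit 2129)
  (nat_lit 75) (.node (.node .nil (nat_lit 559) (nat_lit 12897) (nat_lit 2296) .nil) (nat_lit 564) (nat_lit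
  11392) (nat_lit 3888) .nil)) (nat_lit 573) (nat_lit 8336) (nat_lit 1726) (.node (.node (.node .nil (nat_lit
  574) (nat_lit 6016) (nat_lit 2182) .nil) (nat_lit 579) (nat_lit 5824) (nat_lit 2744) .nil) (nat_lit 585)
  (nat_lit 9521) (nat_lit 3341) (.node (.node .nil (nat_lit 586) (nat_lit 2784) (nat_lit 822) .nil) (nat_lit
  593) (nat_lit 4064) (nat_lit 2400) .nil))))))
def ts840_1 : T := (.node (.node (.node (.node (.node (.node (.node .nil (nat_lit 603) (nat_lit 240) (nat_lit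
  3798) .nil) (nat_lit 612) (nat_lit 10112) (nat_lit 3178) (.node .nil (nat_lit 615) (nat_lit 6176) (nat_lit
  594) .nil)) (nat_lit 621) (nat_lit 625) (nat_lit 3953) (.node (.node .nil (nat_lit 622) (nat_lit 8241)
  (nat_lit 1986) .nil) (nat_lit 629) (nat_lit 11137) (nat_lit 3228) .nil)) (nat_lit 630) (nat_lit 13216)
  (nat_lit 4018) (.node (.node (.node .nil (nat_lit 639) (nat_lit 8352) (nat_lit 1596) .nil) (nat_lit 643)
  (nat_lit 5473) (nat_lit 3293) (.node .nil (nat_lit 649) (nat_lit 2400) (nat_lit 3471) .nil)) (nat_lit 650)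
  (nat_lit 13136) (nat_lit 951) (.node (.node .nil (nat_lit 657) (nat_lit 6529) (nat_lit 1902) .nil) (nat_lit
  664) (nat_lit 11552) (nat_lit 111) .nil))) (nat_lit 667) (nat_lit 2608) (nat_lit 3671) (.node (.node (.node
  (.node .nil (nat_lit 676) (nat_lit 2432) (nat_lit 3307) .nil) (nat_lit 679) (nat_lit 4321) (nat_lit 3745)
  (.node .nil (nat_lit 685) (nat_lit 5409) (nat_lit 1791) .nil)) (nat_lit 693) (nat_lit 65) (nat_lit 1298)
  (.node (.node .nil (nat_lit 700) (nat_lit 13329) (nat_lit 1535) .nil) (nat_lit 703) (nat_lit 3344) (nat_lit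
  1725) .nil)) (nat_lit 705) (nat_lit 336) (nat_lit 2747) (.node (.node (.node .nil (nat_lit 706) (nat_lit
  8288) (nat_lit 1155) .nil) (nat_lit 712) (nat_lit 7104) (nat_lit 821) .nil) (nat_lit 715) (nat_lit 961)
  (nat_lit 778) (.node (.node .nil (nat_lit 720) (nat_lit 13121) (nat_lit 2132) .nil) (nat_lit 723) (nat_lit
  6161) (nat_lit 231) .nil)))) (nat_lit 729) (nat_lit 11472) (nat_lit 3797) (.node (.node (.node (.node (.node
  .nil (nat_lit 741) (nat_lit 6816) (nat_lit 593) .nil) (nat_lit 742) (nat_lit 2304) (nat_lit 3177) (.node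
  .nil (nat_lit 748) (nat_lit 7360) (nat_lit 3039) .nil)) (nat_lit 751) (nat_lit 4128) (nat_lit 1511) (.node
  (.node .nil (nat_lit 756) (nat_lit 6096) (nat_lit 4017) .nil) (nat_lit 759) (nat_lit 4593) (nat_lit 667)
  .nil)) (nat_lit 765) (nat_lit 8177) (nat_lit 2757) (.node (.node (.node .nil (nat_lit 766) (nat_lit 12128)
  (nat_lit 2055) .nil) (nat_lit 771) (nat_lit 4577) (nat_lit 2923) .nil) (nat_lit 777) (nat_lit 3424) (nat_lit
  3171) (.node (.node .nil (nat_lit 778) (nat_lit 481) (nat_lit 2950) .nil) (nat_lit 785) (nat_lit 12304)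
  (nat_lit 2061) .nil))) (nat_lit 786) (nat_lit 10401) (nat_lit 2155) (.node (.node (.node (.node .nil
  (nat_lit 792) (nat_lit 1968) (nat_lit 387) .nil) (nat_lit 795) (nat_lit 6033) (nat_lit 2182) (.node .nil
  (nat_lit 804) (nat_lit 2065) (nat_lit 420) .nil)) (nat_lit 807) (nat_lit 417) (nat_lit 2327) (.node (.node
  .nil (nat_lit 813) (nat_lit 6705) (nat_lit 329) .nil) (nat_lit 814) (nat_lit 2992) (nat_lit 2737) .nil))
  (nat_lit 821) (nat_lit 4289) (nat_lit 676) (.node (.node (.node .nil (nat_lit 822) (nat_lit 1537) (nat_lit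
  2583) .nil) (nat_lit 828) (nat_lit 9232) (nat_lit 2409) .nil) (nat_lit 831) (nat_lit 1088) (nat_lit 1873)
  (.node (.node .nil (nat_lit 833) (nat_lit 9585) (nat_lit 3298) .nil) (nat_lit 840) (nat_lit 10289) (nat_lit
  3087) .nil))))) (nat_lit 843) (nat_lit 6432) (nat_lit 3297) (.node (.node (.node (.node (.node (.node .nil
  (nat_lit 848) (nat_lit 12448) (nat_lit 1719) .nil) (nat_lit 851) (nat_lit 1105) (nat_lit 1873) (.node .nil
  (nat_lit 857) (nat_lit 10192) (nat_lit 3897) .nil)) (nat_lit 869) (nat_lit 2272) (nat_lit 957) (.node (.node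
  .nil (nat_lit 876) (nat_lit 529) (nat_lit 3699) .nil) (nat_lit 879) (nat_lit 2561) (nat_lit 1728) .nil))
  (nat_lit 884) (nat_lit 9472) (nat_lit 3677) (.node (.node (.node .nil (nat_lit 887) (nat_lit 8801) (nat_lit
  1325) .nil) (nat_lit 893) (nat_lit 5296) (nat_lit 2003) .nil) (nat_lit 894) (nat_lit 8640) (nat_lit 2539)
  (.node (.node .nil (nat_lit 897) (nat_lit 2193) (nat_lit 1388) .nil) (nat_lit 898) (nat_lit 9505) (nat_lit
  3551) .nil))) (nat_lit 907) (nat_lit 12993) (nat_lit 3378) (.node (.node (.node (.node .nil (nat_lit 912)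
  (nat_lit 129) (nat_lit 1644) .nil) (nat_lit 915) (nat_lit 5552) (nat_lit 2062) (.node .nil (nat_lit 921)
  (nat_lit 7953) (nat_lit 1665) .nil)) (nat_lit 933) (nat_lit 11840) (nat_lit 828) (.node (.node .nil (nat_lit
  934) (nat_lit 13361) (nat_lit 4003) .nil) (nat_lit 943) (nat_lit 8817) (nat_lit 3918) .nil)) (nat_lit 951)
  (nat_lit 11665) (nat_lit 3235) (.node (.node (.node .nil (nat_lit 957) (nat_lit 1232) (nat_lit 1874) .nil)
  (nat_lit 958) (nat_lit 6448) (nat_lit 2410) .nil) (nat_lit 960) (nat_lit 2176) (nat_lit 1388) (.node (.node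
  .nil (nat_lit 963) (nat_lit 9856) (nat_lit 2900) .nil) (nat_lit 969) (nat_lit 353) (nat_lit 2747) .nil))))
  (nat_lit 977) (nat_lit 6385) (nat_lit 2390) (.node (.node (.node (.node (.node .nil (nat_lit 996) (nat_lit
  7713) (nat_lit 2090) .nil) (nat_lit 999) (nat_lit 9600) (nat_lit 958) (.node .nil (nat_lit 1006) (nat_lit
  12928) (nat_lit 2608) .nil)) (nat_lit 1013) (nat_lit 385) (nat_lit 2858) (.node (.node .nil (nat_lit 1014)
  (nat_lit 4768) (nat_lit 3678) .nil) (nat_lit 1020) (nat_lit 8145) (nat_lit 3015) .nil)) (nat_lit 1023)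
  (nat_lit 3968) (nat_lit 2000) (.node (.node (.node .nil (nat_lit 1035) (nat_lit 8672) (nat_lit 1856) .nil)
  (nat_lit 1043) (nat_lit 5232) (nat_lit 814) .nil) (nat_lit 1049) (nat_lit 9297) (nat_lit 1773) (.node (.node
  .nil (nat_lit 1050) (nat_lit 4785) (nat_lit 3678) .nil) (nat_lit 1061) (nat_lit 3393) (nat_lit 1916) .nil)))
  (nat_lit 1062) (nat_lit 432) (nat_lit 1572) (.node (.node (.node (.node .nil (nat_lit 1068) (nat_lit 1937)
  (nat_lit 1937) .nil) (nat_lit 1071) (nat_lit 13392) (nat_lit 4010) (.node .nil (nat_lit 1076) (nat_lit 6208)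
  (nat_lit 1532) .nil)) (nat_lit 1079) (nat_lit 5761) (nat_lit 3279) (.node (.node .nil (nat_lit 1085)
  (nat_lit 9360) (nat_lit 3186) .nil) (nat_lit 1086) (nat_lit 4880) (nat_lit 586) .nil)) (nat_lit 1091)
  (nat_lit 4257) (nat_lit 649) (.node (.node (.node .nil (nat_lit 1097) (nat_lit 8224) (nat_lit 1986) .nil)
  (nat_lit 1098) (nat_lit 4608) (nat_lit 2554) .nil) (nat_lit 1106) (nat_lit 5969) (nat_lit 393) (.node (.node
  .nil (nat_lit 1112) (nat_lit 8768) (nat_lit 2594) .nil) (nat_lit 1115) (nat_lit 7856) (nat_lit 1050)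
  .nil))))))
def ts840_2 : T := (.node (.node (.node (.node (.node (.node (.node .nil (nat_lit 1127) (nat_lit 4688)
  (nat_lit 2206) .nil) (nat_lit 1133) (nat_lit 928) (nat_lit 3880) (.node .nil (nat_lit 1142) (nat_lit 785)
  (nat_lit 1013) .nil)) (nat_lit 1148) (nat_lit 10224) (nat_lit 712) (.node (.node .nil (nat_lit 1151)
  (nat_lit 3553) (nat_lit 792) .nil) (nat_lit 1155) (nat_lit 5152) (nat_lit 245) .nil)) (nat_lit 1161)
  (nat_lit 12369) (nat_lit 857) (.node (.node (.node .nil (nat_lit 1162) (nat_lit 6720) (nat_lit 2427) .nil)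
  (nat_lit 1169) (nat_lit 9792) (nat_lit 813) (.node .nil (nat_lit 1170) (nat_lit 12145) (nat_lit 2055) .nil))
  (nat_lit 1176) (nat_lit 6625) (nat_lit 89) (.node (.node .nil (nat_lit 1188) (nat_lit 3873) (nat_lit 456)
  .nil) (nat_lit 1191) (nat_lit 6737) (nat_lit 2427) .nil))) (nat_lit 1197) (nat_lit 2848) (nat_lit 4009)
  (.node (.node (.node (.node .nil (nat_lit 1198) (nat_lit 12784) (nat_lit 401) .nil) (nat_lit 1205) (nat_lit
  8128) (nat_lit 3015) (.node .nil (nat_lit 1206) (nat_lit 12433) (nat_lit 2683) .nil)) (nat_lit 1212)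
  (nat_lit 11968) (nat_lit 585) (.node (.node .nil (nat_lit 1217) (nat_lit 1808) (nat_lit 119) .nil) (nat_lit
  1218) (nat_lit 11889) (nat_lit 1085) .nil)) (nat_lit 1224) (nat_lit 3441) (nat_lit 3171) (.node (.node
  (.node .nil (nat_lit 1227) (nat_lit 10416) (nat_lit 1985) .nil) (nat_lit 1232) (nat_lit 7473) (nat_lit 3982)
  .nil) (nat_lit 1235) (nat_lit 11600) (nat_lit 943) (.node (.node .nil (nat_lit 1241) (nat_lit 5745) (nat_lit
  3939) .nil) (nat_lit 1242) (nat_lit 3985) (nat_lit 2000) .nil)))) (nat_lit 1253) (nat_lit 1681) (nat_lit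
  3826) (.node (.node (.node (.node (.node .nil (nat_lit 1254) (nat_lit 2705) (nat_lit 1601) .nil) (nat_lit
  1260) (nat_lit 5264) (nat_lit 275) (.node .nil (nat_lit 1263) (nat_lit 7776) (nat_lit 3883) .nil)) (nat_lit
  1268) (nat_lit 3760) (nat_lit 1405) (.node (.node .nil (nat_lit 1271) (nat_lit 2769) (nat_lit 1345) .nil)
  (nat_lit 1277) (nat_lit 2513) (nat_lit 3359) .nil)) (nat_lit 1278) (nat_lit 1776) (nat_lit 715) (.node
  (.node (.node .nil (nat_lit 1283) (nat_lit 9984) (nat_lit 281) .nil) (nat_lit 1289) (nat_lit 10817) (nat_lit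
  1263) .nil) (nat_lit 1290) (nat_lit 7681) (nat_lit 3164) (.node (.node .nil (nat_lit 1297) (nat_lit 672)
  (nat_lit 705) .nil) (nat_lit 1298) (nat_lit 16) (nat_lit 3321) .nil))) (nat_lit 1304) (nat_lit 6048)
  (nat_lit 2895) (.node (.node (.node (.node .nil (nat_lit 1307) (nat_lit 3728) (nat_lit 1399) .nil) (nat_lit
  1316) (nat_lit 6400) (nat_lit 1995) (.node .nil (nat_lit 1325) (nat_lit 5616) (nat_lit 3653) .nil)) (nat_lit
  1326) (nat_lit 10033) (nat_lit 3616) (.node (.node .nil (nat_lit 1333) (nat_lit 1553) (nat_lit 1406) .nil)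
  (nat_lit 1334) (nat_lit 8368) (nat_lit 1043) .nil)) (nat_lit 1340) (nat_lit 12945) (nat_lit 1427) (.node
  (.node (.node .nil (nat_lit 1343) (nat_lit 11793) (nat_lit 3360) .nil) (nat_lit 1345) (nat_lit 1521)
  (nat_lit 2872) .nil) (nat_lit 1346) (nat_lit 13344) (nat_lit 4003) (.node (.node .nil (nat_lit 1352)
  (nat_lit 80) (nat_lit 2069) .nil) (nat_lit 1360) (nat_lit 3329) (nat_lit 2104) .nil))))) (nat_lit 1363)
  (nat_lit 5137) (nat_lit 139) (.node (.node (.node (.node (.node (.node .nil (nat_lit 1369) (nat_lit 6305)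
  (nat_lit 2261) .nil) (nat_lit 1370) (nat_lit 10705) (nat_lit 102) (.node .nil (nat_lit 1381) (nat_lit 6961)
  (nat_lit 2372) .nil)) (nat_lit 1382) (nat_lit 12112) (nat_lit 1865) (.node (.node .nil (nat_lit 1388)
  (nat_lit 1185) (nat_lit 2473) .nil) (nat_lit 1396) (nat_lit 4481) (nat_lit 2628) .nil)) (nat_lit 1399)
  (nat_lit 2080) (nat_lit 2729) (.node (.node (.node .nil (nat_lit 1405) (nat_lit 2097) (nat_lit 2729) .nil)
  (nat_lit 1406) (nat_lit 832) (nat_lit 807) .nil) (nat_lit 1410) (nat_lit 13313) (nat_lit 2565) (.node (.node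
  .nil (nat_lit 1416) (nat_lit 497) (nat_lit 603) .nil) (nat_lit 1419) (nat_lit 1617) (nat_lit 2792) .nil)))
  (nat_lit 1424) (nat_lit 5377) (nat_lit 438) (.node (.node (.node (.node .nil (nat_lit 1427) (nat_lit 11280)
  (nat_lit 706) .nil) (nat_lit 1433) (nat_lit 7424) (nat_lit 1396) (.node .nil (nat_lit 1434) (nat_lit 10896)
  (nat_lit 2892) .nil)) (nat_lit 1446) (nat_lit 657) (nat_lit 2169) (.node (.node .nil (nat_lit 1452) (nat_lit
  4641) (nat_lit 39) .nil) (nat_lit 1455) (nat_lit 11633) (nat_lit 2196) .nil)) (nat_lit 1463) (nat_lit 10753)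
  (nat_lit 2937) (.node (.node (.node .nil (nat_lit 1469) (nat_lit 849) (nat_lit 807) .nil) (nat_lit 1470)
  (nat_lit 2689) (nat_lit 2964) .nil) (nat_lit 1472) (nat_lit 8048) (nat_lit 4000) (.node (.node .nil (nat_lit
  1475) (nat_lit 12736) (nat_lit 408) .nil) (nat_lit 1481) (nat_lit 5809) (nat_lit 3425) .nil)))) (nat_lit
  1482) (nat_lit 10672) (nat_lit 2070) (.node (.node (.node (.node (.node .nil (nat_lit 1490) (nat_lit 10449)
  (nat_lit 1599) .nil) (nat_lit 1496) (nat_lit 6801) (nat_lit 3681) (.node .nil (nat_lit 1499) (nat_lit 2657)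
  (nat_lit 1746) .nil)) (nat_lit 1508) (nat_lit 6129) (nat_lit 4080) (.node (.node .nil (nat_lit 1511)
  (nat_lit 2336) (nat_lit 2418) .nil) (nat_lit 1518) (nat_lit 11009) (nat_lit 1966) .nil)) (nat_lit 1525)
  (nat_lit 9648) (nat_lit 2730) (.node (.node (.node .nil (nat_lit 1526) (nat_lit 7057) (nat_lit 1091) .nil)
  (nat_lit 1532) (nat_lit 3696) (nat_lit 804) .nil) (nat_lit 1535) (nat_lit 12624) (nat_lit 3356) (.node
  (.node .nil (nat_lit 1539) (nat_lit 6320) (nat_lit 1268) .nil) (nat_lit 1546) (nat_lit 7521) (nat_lit 3972)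
  .nil))) (nat_lit 1553) (nat_lit 6689) (nat_lit 1242) (.node (.node (.node (.node .nil (nat_lit 1554)
  (nat_lit 2321) (nat_lit 3177) .nil) (nat_lit 1560) (nat_lit 8929) (nat_lit 1079) (.node .nil (nat_lit 1563)
  (nat_lit 3120) (nat_lit 154) .nil)) (nat_lit 1572) (nat_lit 208) (nat_lit 550) (.node (.node .nil (nat_lit
  1575) (nat_lit 11920) (nat_lit 3102) .nil) (nat_lit 1582) (nat_lit 8496) (nat_lit 1424) .nil)) (nat_lit
  1589) (nat_lit 12721) (nat_lit 1702) (.node (.node (.node .nil (nat_lit 1590) (nat_lit 3504) (nat_lit 510)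
  .nil) (nat_lit 1596) (nat_lit 5217) (nat_lit 1611) .nil) (nat_lit 1599) (nat_lit 7313) (nat_lit 3832) (.node
  (.node .nil (nat_lit 1601) (nat_lit 1488) (nat_lit 1142) .nil) (nat_lit 1602) (nat_lit 7904) (nat_lit 2638)
  .nil))))))
def ts840_3 : T := (.node (.node (.node (.node (.node (.node (.node .nil (nat_lit 1611) (nat_lit 2977)
  (nat_lit 190) .nil) (nat_lit 1616) (nat_lit 8449) (nat_lit 3040) (.node .nil (nat_lit 1619) (nat_lit 2033)
  (nat_lit 851) .nil)) (nat_lit 1626) (nat_lit 9617) (nat_lit 958) (.node (.node .nil (nat_lit 1637) (nat_lit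
  2961) (nat_lit 2716) .nil) (nat_lit 1638) (nat_lit 4272) (nat_lit 676) .nil)) (nat_lit 1644) (nat_lit 48)
  (nat_lit 1298) (.node (.node (.node .nil (nat_lit 1647) (nat_lit 368) (nat_lit 2858) .nil) (nat_lit 1652)
  (nat_lit 5024) (nat_lit 380) (.node .nil (nat_lit 1655) (nat_lit 8273) (nat_lit 303) .nil)) (nat_lit 1661)
  (nat_lit 8465) (nat_lit 2417) (.node (.node .nil (nat_lit 1662) (nat_lit 12592) (nat_lit 1738) .nil)
  (nat_lit 1665) (nat_lit 4848) (nat_lit 1271) .nil))) (nat_lit 1666) (nat_lit 5665) (nat_lit 2525) (.node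
  (.node (.node (.node .nil (nat_lit 1672) (nat_lit 1985) (nat_lit 387) .nil) (nat_lit 1675) (nat_lit 4417)
  (nat_lit 2352) (.node .nil (nat_lit 1680) (nat_lit 400) (nat_lit 2327) .nil)) (nat_lit 1683) (nat_lit 7888)
  (nat_lit 1839) (.node (.node .nil (nat_lit 1689) (nat_lit 8609) (nat_lit 643) .nil) (nat_lit 1690) (nat_lit
  4304) (nat_lit 3745) .nil)) (nat_lit 1701) (nat_lit 12481) (nat_lit 786) (.node (.node (.node .nil (nat_lit
  1702) (nat_lit 10881) (nat_lit 2977) .nil) (nat_lit 1708) (nat_lit 6657) (nat_lit 1023) .nil) (nat_lit 1711)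
  (nat_lit 10913) (nat_lit 2892) (.node (.node .nil (nat_lit 1719) (nat_lit 10352) (nat_lit 4037) .nil)
  (nat_lit 1725) (nat_lit 1856) (nat_lit 2163) .nil)))) (nat_lit 1726) (nat_lit 5200) (nat_lit 1611) (.node
  (.node (.node (.node (.node .nil (nat_lit 1728) (nat_lit 1409) (nat_lit 3668) .nil) (nat_lit 1737) (nat_lit
  10305) (nat_lit 3769) (.node .nil (nat_lit 1738) (nat_lit 10641) (nat_lit 1546) .nil)) (nat_lit 1745)
  (nat_lit 7392) (nat_lit 1965) (.node (.node .nil (nat_lit 1746) (nat_lit 1456) (nat_lit 2453) .nil) (nat_lit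
  1752) (nat_lit 11857) (nat_lit 3513) .nil)) (nat_lit 1755) (nat_lit 6752) (nat_lit 27) (.node (.node (.node
  .nil (nat_lit 1764) (nat_lit 7152) (nat_lit 679) .nil) (nat_lit 1773) (nat_lit 6192) (nat_lit 2857) .nil)
  (nat_lit 1774) (nat_lit 1280) (nat_lit 1297) (.node (.node .nil (nat_lit 1781) (nat_lit 945) (nat_lit 3880)
  .nil) (nat_lit 1782) (nat_lit 11984) (nat_lit 383) .nil))) (nat_lit 1788) (nat_lit 10369) (nat_lit 4037)
  (.node (.node (.node (.node .nil (nat_lit 1791) (nat_lit 3088) (nat_lit 2289) .nil) (nat_lit 1793) (nat_lit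
  6272) (nat_lit 1307) (.node .nil (nat_lit 1794) (nat_lit 4208) (nat_lit 2851) .nil)) (nat_lit 1800) (nat_lit
  5712) (nat_lit 3221) (.node (.node .nil (nat_lit 1803) (nat_lit 913) (nat_lit 3718) .nil) (nat_lit 1808)
  (nat_lit 9889) (nat_lit 1496) .nil)) (nat_lit 1817) (nat_lit 2833) (nat_lit 1333) (.node (.node (.node .nil
  (nat_lit 1818) (nat_lit 9345) (nat_lit 3462) .nil) (nat_lit 1829) (nat_lit 6497) (nat_lit 1188) .nil)
  (nat_lit 1830) (nat_lit 704) (nat_lit 969) (.node (.node .nil (nat_lit 1836) (nat_lit 6064) (nat_lit 1151)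
  .nil) (nat_lit 1839) (nat_lit 4816) (nat_lit 2631) .nil))))) (nat_lit 1853) (nat_lit 10144) (nat_lit 2463)
  (.node (.node (.node (.node (.node (.node .nil (nat_lit 1854) (nat_lit 10656) (nat_lit 1959) .nil) (nat_lit
  1856) (nat_lit 5537) (nat_lit 2530) (.node .nil (nat_lit 1859) (nat_lit 10560) (nat_lit 1433) .nil))
  (nat_lit 1865) (nat_lit 9713) (nat_lit 2319) (.node (.node .nil (nat_lit 1866) (nat_lit 6592) (nat_lit 3095)
  .nil) (nat_lit 1873) (nat_lit 561) (nat_lit 2786) .nil)) (nat_lit 1874) (nat_lit 640) (nat_lit 2169) (.node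
  (.node (.node .nil (nat_lit 1880) (nat_lit 5424) (nat_lit 4047) .nil) (nat_lit 1883) (nat_lit 12512)
  (nat_lit 503) .nil) (nat_lit 1892) (nat_lit 5345) (nat_lit 2974) (.node (.node .nil (nat_lit 1895) (nat_lit
  8944) (nat_lit 3443) .nil) (nat_lit 1901) (nat_lit 8160) (nat_lit 2757) .nil))) (nat_lit 1902) (nat_lit
  3889) (nat_lit 960) (.node (.node (.node (.node .nil (nat_lit 1909) (nat_lit 4705) (nat_lit 2206) .nil)
  (nat_lit 1910) (nat_lit 12097) (nat_lit 45) (.node .nil (nat_lit 1916) (nat_lit 1873) (nat_lit 2163) .nil))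
  (nat_lit 1920) (nat_lit 11936) (nat_lit 2848) (.node (.node .nil (nat_lit 1923) (nat_lit 9168) (nat_lit
  1304) .nil) (nat_lit 1930) (nat_lit 4336) (nat_lit 3222) .nil)) (nat_lit 1937) (nat_lit 1041) (nat_lit 876)
  (.node (.node (.node .nil (nat_lit 1938) (nat_lit 7377) (nat_lit 3039) .nil) (nat_lit 1944) (nat_lit 3921)
  (nat_lit 897) .nil) (nat_lit 1947) (nat_lit 10016) (nat_lit 374) (.node (.node .nil (nat_lit 1959) (nat_lit
  7536) (nat_lit 3570) .nil) (nat_lit 1965) (nat_lit 4464) (nat_lit 2628) .nil)))) (nat_lit 1966) (nat_lit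
  7921) (nat_lit 2638) (.node (.node (.node (.node (.node .nil (nat_lit 1983) (nat_lit 12353) (nat_lit 2382)
  .nil) (nat_lit 1985) (nat_lit 7281) (nat_lit 3926) (.node .nil (nat_lit 1986) (nat_lit 5073) (nat_lit 2021)
  .nil)) (nat_lit 1992) (nat_lit 8305) (nat_lit 4027) (.node (.node .nil (nat_lit 1995) (nat_lit 3808)
  (nat_lit 556) .nil) (nat_lit 2000) (nat_lit 2225) (nat_lit 3158) .nil)) (nat_lit 2003) (nat_lit 3041)
  (nat_lit 1253) (.node (.node (.node .nil (nat_lit 2021) (nat_lit 2880) (nat_lit 3440) .nil) (nat_lit 2022)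
  (nat_lit 10577) (nat_lit 1433) .nil) (nat_lit 2028) (nat_lit 3216) (nat_lit 1278) (.node (.node .nil
  (nat_lit 2031) (nat_lit 7441) (nat_lit 1396) .nil) (nat_lit 2039) (nat_lit 11104) (nat_lit 3752) .nil)))
  (nat_lit 2046) (nat_lit 1328) (nat_lit 1830) (.node (.node (.node (.node .nil (nat_lit 2055) (nat_lit 9729)
  (nat_lit 1866) .nil) (nat_lit 2061) (nat_lit 10097) (nat_lit 3860) (.node .nil (nat_lit 2062) (nat_lit 3184)
  (nat_lit 2127) .nil)) (nat_lit 2069) (nat_lit 33) (nat_lit 3321) (.node (.node .nil (nat_lit 2070) (nat_lit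
  7601) (nat_lit 1098) .nil) (nat_lit 2076) (nat_lit 9969) (nat_lit 3092) .nil)) (nat_lit 2079) (nat_lit 9841)
  (nat_lit 1191) (.node (.node (.node .nil (nat_lit 2083) (nat_lit 11377) (nat_lit 1334) .nil) (nat_lit 2089)
  (nat_lit 12177) (nat_lit 3432) .nil) (nat_lit 2090) (nat_lit 4673) (nat_lit 1499) (.node (.node .nil
  (nat_lit 2097) (nat_lit 11312) (nat_lit 2803) .nil) (nat_lit 2098) (nat_lit 6001) (nat_lit 1590) .nil))))))
def ts840_4 : T := (.node (.node (.node (.node (.node (.node (.node .nil (nat_lit 2107) (nat_lit 5680)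
  (nat_lit 3397) .nil) (nat_lit 2117) (nat_lit 6145) (nat_lit 195) (.node .nil (nat_lit 2118) (nat_lit 10081)
  (nat_lit 2160) .nil)) (nat_lit 2124) (nat_lit 10256) (nat_lit 2253) (.node (.node .nil (nat_lit 2127)
  (nat_lit 1760) (nat_lit 1781) .nil) (nat_lit 2132) (nat_lit 11648) (nat_lit 3235) .nil)) (nat_lit 2135)
  (nat_lit 3681) (nat_lit 2928) (.node (.node (.node .nil (nat_lit 2141) (nat_lit 5249) (nat_lit 814) .nil)
  (nat_lit 2145) (nat_lit 1168) (nat_lit 2473) (.node .nil (nat_lit 2146) (nat_lit 1920) (nat_lit 1937) .nil))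
  (nat_lit 2152) (nat_lit 4624) (nat_lit 39) (.node (.node .nil (nat_lit 2155) (nat_lit 7249) (nat_lit 2785)
  .nil) (nat_lit 2160) (nat_lit 6993) (nat_lit 447) .nil))) (nat_lit 2163) (nat_lit 1008) (nat_lit 2673)
  (.node (.node (.node (.node .nil (nat_lit 2169) (nat_lit 321) (nat_lit 338) .nil) (nat_lit 2170) (nat_lit
  6640) (nat_lit 1023) (.node .nil (nat_lit 2181) (nat_lit 12752) (nat_lit 450) .nil)) (nat_lit 2182) (nat_lit
  3521) (nat_lit 510) (.node (.node .nil (nat_lit 2188) (nat_lit 8529) (nat_lit 2464) .nil) (nat_lit 2191)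
  (nat_lit 5281) (nat_lit 275) .nil)) (nat_lit 2196) (nat_lit 8832) (nat_lit 3106) (.node (.node (.node .nil
  (nat_lit 2199) (nat_lit 8752) (nat_lit 538) .nil) (nat_lit 2205) (nat_lit 7648) (nat_lit 1452) .nil)
  (nat_lit 2206) (nat_lit 2672) (nat_lit 2964) (.node (.node .nil (nat_lit 2209) (nat_lit 12336) (nat_lit
  2344) .nil) (nat_lit 2210) (nat_lit 11953) (nat_lit 898) .nil)))) (nat_lit 2216) (nat_lit 10848) (nat_lit
  166) (.node (.node (.node (.node (.node .nil (nat_lit 2219) (nat_lit 4513) (nat_lit 879) .nil) (nat_lit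
  2224) (nat_lit 5936) (nat_lit 1224) (.node .nil (nat_lit 2233) (nat_lit 11904) (nat_lit 3398) .nil))
  (nat_lit 2234) (nat_lit 11504) (nat_lit 894) (.node (.node .nil (nat_lit 2244) (nat_lit 10320) (nat_lit
  3960) .nil) (nat_lit 2253) (nat_lit 7137) (nat_lit 1690) .nil)) (nat_lit 2261) (nat_lit 3745) (nat_lit 1399)
  (.node (.node (.node .nil (nat_lit 2262) (nat_lit 9745) (nat_lit 3524) .nil) (nat_lit 2268) (nat_lit 11712)
  (nat_lit 2838) .nil) (nat_lit 2271) (nat_lit 9633) (nat_lit 3369) (.node (.node .nil (nat_lit 2272) (nat_lit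
  10528) (nat_lit 1938) .nil) (nat_lit 2275) (nat_lit 2240) (nat_lit 2474) .nil))) (nat_lit 2281) (nat_lit
  4753) (nat_lit 1254) (.node (.node (.node (.node .nil (nat_lit 2289) (nat_lit 1713) (nat_lit 1803) .nil)
  (nat_lit 2290) (nat_lit 7584) (nat_lit 1098) (.node .nil (nat_lit 2296) (nat_lit 11184) (nat_lit 1020)
  .nil)) (nat_lit 2299) (nat_lit 9409) (nat_lit 3925) (.node (.node .nil (nat_lit 2309) (nat_lit 11409)
  (nat_lit 3835) .nil) (nat_lit 2310) (nat_lit 576) (nat_lit 3606) .nil)) (nat_lit 2316) (nat_lit 593)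
  (nat_lit 3606) (.node (.node (.node .nil (nat_lit 2319) (nat_lit 6576) (nat_lit 1944) .nil) (nat_lit 2324)
  (nat_lit 12209) (nat_lit 3579) .nil) (nat_lit 2327) (nat_lit 193) (nat_lit 1352) (.node (.node .nil (nat_lit
  2337) (nat_lit 3409) (nat_lit 3207) .nil) (nat_lit 2338) (nat_lit 9329) (nat_lit 1076) .nil))))) (nat_lit
  2344) (nat_lit 10129) (nat_lit 3178) (.node (.node (.node (.node (.node (.node .nil (nat_lit 2347) (nat_lit
  8897) (nat_lit 1241) .nil) (nat_lit 2352) (nat_lit 2497) (nat_lit 3975) (.node .nil (nat_lit 2361) (nat_lit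
  1424) (nat_lit 3242) .nil)) (nat_lit 2372) (nat_lit 4176) (nat_lit 3732) (.node (.node .nil (nat_lit 2375)
  (nat_lit 2353) (nat_lit 2418) .nil) (nat_lit 2381) (nat_lit 11537) (nat_lit 300) .nil)) (nat_lit 2382)
  (nat_lit 10161) (nat_lit 2463) (.node (.node (.node .nil (nat_lit 2389) (nat_lit 689) (nat_lit 705) .nil)
  (nat_lit 2390) (nat_lit 3793) (nat_lit 2674) .nil) (nat_lit 2396) (nat_lit 3825) (nat_lit 556) (.node (.node
  .nil (nat_lit 2399) (nat_lit 12881) (nat_lit 2719) .nil) (nat_lit 2400) (nat_lit 2289) (nat_lit 957) .nil)))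
  (nat_lit 2403) (nat_lit 9217) (nat_lit 2830) (.node (.node (.node (.node .nil (nat_lit 2409) (nat_lit 6112)
  (nat_lit 4080) .nil) (nat_lit 2410) (nat_lit 3856) (nat_lit 456) (.node .nil (nat_lit 2417) (nat_lit 5328)
  (nat_lit 2974) .nil)) (nat_lit 2418) (nat_lit 1264) (nat_lit 1446) (.node (.node .nil (nat_lit 2427)
  (nat_lit 4017) (nat_lit 2275) .nil) (nat_lit 2436) (nat_lit 3201) (nat_lit 2127) .nil)) (nat_lit 2439)
  (nat_lit 12080) (nat_lit 45) (.node (.node (.node .nil (nat_lit 2445) (nat_lit 12272) (nat_lit 1947) .nil)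
  (nat_lit 2453) (nat_lit 768) (nat_lit 1013) .nil) (nat_lit 2454) (nat_lit 11201) (nat_lit 1020) (.node
  (.node .nil (nat_lit 2460) (nat_lit 12416) (nat_lit 2683) .nil) (nat_lit 2463) (nat_lit 7040) (nat_lit 1091)
  .nil)))) (nat_lit 2464) (nat_lit 5392) (nat_lit 1791) (.node (.node (.node (.node (.node .nil (nat_lit 2473)
  (nat_lit 608) (nat_lit 3953) .nil) (nat_lit 2474) (nat_lit 1217) (nat_lit 621) (.node .nil (nat_lit 2488)
  (nat_lit 9664) (nat_lit 657) .nil)) (nat_lit 2501) (nat_lit 7216) (nat_lit 175) (.node (.node .nil (nat_lit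
  2502) (nat_lit 12032) (nat_lit 3735) .nil) (nat_lit 2508) (nat_lit 5888) (nat_lit 2337) .nil)) (nat_lit
  2511) (nat_lit 4976) (nat_lit 1817) (.node (.node (.node .nil (nat_lit 2519) (nat_lit 8481) (nat_lit 3270)
  .nil) (nat_lit 2525) (nat_lit 3248) (nat_lit 1217) .nil) (nat_lit 2526) (nat_lit 13281) (nat_lit 3115)
  (.node (.node .nil (nat_lit 2529) (nat_lit 9264) (nat_lit 2117) .nil) (nat_lit 2530) (nat_lit 3169) (nat_lit
  3514) .nil))) (nat_lit 2536) (nat_lit 9249) (nat_lit 1508) (.node (.node (.node (.node .nil (nat_lit 2539)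
  (nat_lit 5505) (nat_lit 3415) .nil) (nat_lit 2553) (nat_lit 10273) (nat_lit 1764) (.node .nil (nat_lit 2554)
  (nat_lit 2625) (nat_lit 3671) .nil)) (nat_lit 2565) (nat_lit 12577) (nat_lit 3363) (.node (.node .nil
  (nat_lit 2566) (nat_lit 8513) (nat_lit 1424) .nil) (nat_lit 2572) (nat_lit 11680) (nat_lit 3149) .nil))
  (nat_lit 2575) (nat_lit 3777) (nat_lit 1405) (.node (.node (.node .nil (nat_lit 2580) (nat_lit 12529)
  (nat_lit 3619) .nil) (nat_lit 2583) (nat_lit 817) (nat_lit 1680) .nil) (nat_lit 2590) (nat_lit 4528)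
  (nat_lit 3989) (.node (.node .nil (nat_lit 2593) (nat_lit 8881) (nat_lit 3935) .nil) (nat_lit 2594) (nat_lit
  5601) (nat_lit 2028) .nil))))))
def ts840_5 : T := (.node (.node (.node (.node (.node (.node (.node .nil (nat_lit 2603) (nat_lit 9393)
  (nat_lit 1793) .nil) (nat_lit 2608) (nat_lit 11265) (nat_lit 3167) (.node .nil (nat_lit 2611) (nat_lit 4432)
  (nat_lit 3825) .nil)) (nat_lit 2617) (nat_lit 4144) (nat_lit 2375) (.node (.node .nil (nat_lit 2628)
  (nat_lit 2545) (nat_lit 537) .nil) (nat_lit 2631) (nat_lit 2752) (nat_lit 1345) .nil)) (nat_lit 2637)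
  (nat_lit 7568) (nat_lit 759) (.node (.node (.node .nil (nat_lit 2638) (nat_lit 4833) (nat_lit 2631) .nil)
  (nat_lit 2645) (nat_lit 10001) (nat_lit 281) (.node .nil (nat_lit 2646) (nat_lit 2257) (nat_lit 2474) .nil))
  (nat_lit 2655) (nat_lit 4161) (nat_lit 2375) (.node (.node .nil (nat_lit 2656) (nat_lit 8704) (nat_lit 915)
  .nil) (nat_lit 2659) (nat_lit 10048) (nat_lit 3499) .nil))) (nat_lit 2666) (nat_lit 5856) (nat_lit 1061)
  (.node (.node (.node (.node .nil (nat_lit 2673) (nat_lit 512) (nat_lit 3699) .nil) (nat_lit 2674) (nat_lit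
  2112) (nat_lit 75) (.node .nil (nat_lit 2683) (nat_lit 10336) (nat_lit 2501) .nil)) (nat_lit 2692) (nat_lit
  11072) (nat_lit 3064) (.node (.node .nil (nat_lit 2695) (nat_lit 3713) (nat_lit 804) .nil) (nat_lit 2701)
  (nat_lit 6881) (nat_lit 2938) .nil)) (nat_lit 2702) (nat_lit 721) (nat_lit 969) (.node (.node (.node .nil
  (nat_lit 2709) (nat_lit 11569) (nat_lit 2199) .nil) (nat_lit 2716) (nat_lit 1632) (nat_lit 3990) .nil)
  (nat_lit 2719) (nat_lit 11168) (nat_lit 430) (.node (.node .nil (nat_lit 2720) (nat_lit 8657) (nat_lit 2539)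
  .nil) (nat_lit 2723) (nat_lit 4800) (nat_lit 3370) .nil)))) (nat_lit 2729) (nat_lit 1137) (nat_lit 2310)
  (.node (.node (.node (.node (.node .nil (nat_lit 2730) (nat_lit 6480) (nat_lit 1188) .nil) (nat_lit 2737)
  (nat_lit 1664) (nat_lit 3826) (.node .nil (nat_lit 2744) (nat_lit 3376) (nat_lit 1916) .nil)) (nat_lit 2747)
  (nat_lit 161) (nat_lit 693) (.node (.node .nil (nat_lit 2757) (nat_lit 5009) (nat_lit 1197) .nil) (nat_lit
  2758) (nat_lit 6864) (nat_lit 2938) .nil)) (nat_lit 2767) (nat_lit 8977) (nat_lit 3315) (.node (.node (.node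
  .nil (nat_lit 2772) (nat_lit 7409) (nat_lit 1965) .nil) (nat_lit 2775) (nat_lit 7120) (nat_lit 1690) .nil)
  (nat_lit 2781) (nat_lit 8689) (nat_lit 1856) (.node (.node .nil (nat_lit 2782) (nat_lit 6833) (nat_lit 4083)
  .nil) (nat_lit 2785) (nat_lit 4368) (nat_lit 3496) .nil))) (nat_lit 2786) (nat_lit 272) (nat_lit 912) (.node
  (.node (.node (.node .nil (nat_lit 2792) (nat_lit 864) (nat_lit 1062) .nil) (nat_lit 2795) (nat_lit 7504)
  (nat_lit 2590) (.node .nil (nat_lit 2803) (nat_lit 8320) (nat_lit 3696) .nil)) (nat_lit 2809) (nat_lit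
  13200) (nat_lit 2502) (.node (.node .nil (nat_lit 2810) (nat_lit 2417) (nat_lit 3471) .nil) (nat_lit 2820)
  (nat_lit 8209) (nat_lit 3105) .nil)) (nat_lit 2823) (nat_lit 3472) (nat_lit 1068) (.node (.node (.node .nil
  (nat_lit 2830) (nat_lit 6081) (nat_lit 1151) .nil) (nat_lit 2838) (nat_lit 9008) (nat_lit 2508) .nil)
  (nat_lit 2848) (nat_lit 9489) (nat_lit 3677) (.node (.node .nil (nat_lit 2851) (nat_lit 2385) (nat_lit 1774)
  .nil) (nat_lit 2857) (nat_lit 3664) (nat_lit 2928) .nil))))) (nat_lit 2858) (nat_lit 176) (nat_lit 1352)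
  (.node (.node (.node (.node (.node (.node .nil (nat_lit 2865) (nat_lit 11825) (nat_lit 3421) .nil) (nat_lit
  2866) (nat_lit 12769) (nat_lit 1518) (.node .nil (nat_lit 2872) (nat_lit 800) (nat_lit 1680) .nil)) (nat_lit
  2875) (nat_lit 12241) (nat_lit 1283) (.node (.node .nil (nat_lit 2885) (nat_lit 9153) (nat_lit 795) .nil)
  (nat_lit 2892) (nat_lit 7841) (nat_lit 1014) .nil)) (nat_lit 2895) (nat_lit 3536) (nat_lit 792) (.node
  (.node (.node .nil (nat_lit 2900) (nat_lit 6769) (nat_lit 27) .nil) (nat_lit 2903) (nat_lit 12705) (nat_lit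
  2216) .nil) (nat_lit 2910) (nat_lit 7296) (nat_lit 3832) (.node (.node .nil (nat_lit 2913) (nat_lit 7969)
  (nat_lit 359) .nil) (nat_lit 2920) (nat_lit 11777) (nat_lit 394) .nil))) (nat_lit 2923) (nat_lit 2593)
  (nat_lit 2361) (.node (.node (.node (.node .nil (nat_lit 2928) (nat_lit 2048) (nat_lit 420) .nil) (nat_lit
  2931) (nat_lit 10545) (nat_lit 2772) (.node .nil (nat_lit 2937) (nat_lit 7696) (nat_lit 2090) .nil))
  (nat_lit 2938) (nat_lit 4112) (nat_lit 1554) (.node (.node .nil (nat_lit 2949) (nat_lit 13073) (nat_lit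
  2709) .nil) (nat_lit 2950) (nat_lit 225) (nat_lit 550) .nil)) (nat_lit 2959) (nat_lit 1793) (nat_lit 715)
  (.node (.node (.node .nil (nat_lit 2964) (nat_lit 1473) (nat_lit 2453) .nil) (nat_lit 2967) (nat_lit 12848)
  (nat_lit 2039) .nil) (nat_lit 2974) (nat_lit 3056) (nat_lit 3705) (.node (.node .nil (nat_lit 2977) (nat_lit
  7825) (nat_lit 2281) .nil) (nat_lit 2978) (nat_lit 11232) (nat_lit 765) .nil)))) (nat_lit 2987) (nat_lit
  12560) (nat_lit 2931) (.node (.node (.node (.node (.node .nil (nat_lit 2992) (nat_lit 13024) (nat_lit 293)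
  .nil) (nat_lit 3001) (nat_lit 7488) (nat_lit 2219) (.node .nil (nat_lit 3002) (nat_lit 10976) (nat_lit 1683)
  .nil)) (nat_lit 3012) (nat_lit 13056) (nat_lit 2709) (.node (.node .nil (nat_lit 3015) (nat_lit 4992)
  (nat_lit 1197) .nil) (nat_lit 3021) (nat_lit 9136) (nat_lit 795) .nil)) (nat_lit 3022) (nat_lit 9025)
  (nat_lit 3569) (.node (.node (.node .nil (nat_lit 3029) (nat_lit 7760) (nat_lit 1909) .nil) (nat_lit 3030)
  (nat_lit 13040) (nat_lit 2381) .nil) (nat_lit 3036) (nat_lit 10993) (nat_lit 1602) (.node (.node .nil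
  (nat_lit 3039) (nat_lit 4449) (nat_lit 3825) .nil) (nat_lit 3040) (nat_lit 5313) (nat_lit 2003) .nil)))
  (nat_lit 3043) (nat_lit 5088) (nat_lit 3143) (.node (.node (.node (.node .nil (nat_lit 3049) (nat_lit 12609)
  (nat_lit 1854) .nil) (nat_lit 3050) (nat_lit 8625) (nat_lit 3981) (.node .nil (nat_lit 3057) (nat_lit 13105)
  (nat_lit 1235) .nil)) (nat_lit 3058) (nat_lit 9920) (nat_lit 423) (.node (.node .nil (nat_lit 3064) (nat_lit
  8001) (nat_lit 1086) .nil) (nat_lit 3067) (nat_lit 13248) (nat_lit 2089) .nil)) (nat_lit 3077) (nat_lit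
  13184) (nat_lit 3855) (.node (.node (.node .nil (nat_lit 3078) (nat_lit 4897) (nat_lit 586) .nil) (nat_lit
  3084) (nat_lit 7936) (nat_lit 1665) .nil) (nat_lit 3087) (nat_lit 7169) (nat_lit 679) (.node (.node .nil
  (nat_lit 3092) (nat_lit 6896) (nat_lit 751) .nil) (nat_lit 3095) (nat_lit 3936) (nat_lit 3287) .nil))))))
def ts840_6 : T := (.node (.node (.node (.node (.node (.node (.node .nil (nat_lit 3102) (nat_lit 9424)
  (nat_lit 1369) .nil) (nat_lit 3105) (nat_lit 5056) (nat_lit 2021) (.node .nil (nat_lit 3106) (nat_lit 5648)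
  (nat_lit 2525) .nil)) (nat_lit 3112) (nat_lit 7633) (nat_lit 2152) (.node (.node .nil (nat_lit 3115)
  (nat_lit 12401) (nat_lit 219) .nil) (nat_lit 3120) (nat_lit 13296) (nat_lit 2565) .nil)) (nat_lit 3123)
  (nat_lit 2801) (nat_lit 822) (.node (.node (.node .nil (nat_lit 3129) (nat_lit 13153) (nat_lit 2920) .nil)
  (nat_lit 3140) (nat_lit 7792) (nat_lit 437) (.node .nil (nat_lit 3143) (nat_lit 2897) (nat_lit 3440) .nil))
  (nat_lit 3149) (nat_lit 8864) (nat_lit 2107) (.node (.node .nil (nat_lit 3150) (nat_lit 9456) (nat_lit 1539)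
  .nil) (nat_lit 3158) (nat_lit 1200) (nat_lit 621) .nil))) (nat_lit 3164) (nat_lit 4656) (nat_lit 1499)
  (.node (.node (.node (.node .nil (nat_lit 3167) (nat_lit 8256) (nat_lit 3043) .nil) (nat_lit 3168) (nat_lit
  13265) (nat_lit 1983) (.node .nil (nat_lit 3171) (nat_lit 1905) (nat_lit 3852) .nil)) (nat_lit 3177)
  (nat_lit 1249) (nat_lit 1874) (.node (.node .nil (nat_lit 3178) (nat_lit 7025) (nat_lit 4065) .nil) (nat_lit
  3186) (nat_lit 6240) (nat_lit 2695) .nil)) (nat_lit 3192) (nat_lit 9073) (nat_lit 1106) (.node (.node (.node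
  .nil (nat_lit 3195) (nat_lit 5904) (nat_lit 777) .nil) (nat_lit 3204) (nat_lit 11697) (nat_lit 3149) .nil)
  (nat_lit 3207) (nat_lit 1888) (nat_lit 3852) (.node (.node .nil (nat_lit 3213) (nat_lit 13008) (nat_lit
  2234) .nil) (nat_lit 3214) (nat_lit 8385) (nat_lit 1043) .nil)))) (nat_lit 3221) (nat_lit 3280) (nat_lit
  3284) (.node (.node (.node (.node (.node .nil (nat_lit 3222) (nat_lit 2465) (nat_lit 2046) .nil) (nat_lit
  3228) (nat_lit 8065) (nat_lit 4000) (.node .nil (nat_lit 3232) (nat_lit 13425) (nat_lit 3633) .nil))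
  (nat_lit 3235) (nat_lit 8849) (nat_lit 1666) (.node (.node .nil (nat_lit 3242) (nat_lit 753) (nat_lit 1647)
  .nil) (nat_lit 3249) (nat_lit 7984) (nat_lit 1086) .nil)) (nat_lit 3250) (nat_lit 11456) (nat_lit 2566)
  (.node (.node (.node .nil (nat_lit 3256) (nat_lit 8080) (nat_lit 3504) .nil) (nat_lit 3269) (nat_lit 7456)
  (nat_lit 3982) .nil) (nat_lit 3270) (nat_lit 5360) (nat_lit 438) (.node (.node .nil (nat_lit 3279) (nat_lit
  3312) (nat_lit 2104) .nil) (nat_lit 3284) (nat_lit 1825) (nat_lit 119) .nil))) (nat_lit 3287) (nat_lit 2208)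
  (nat_lit 3158) (.node (.node (.node (.node .nil (nat_lit 3293) (nat_lit 3137) (nat_lit 154) .nil) (nat_lit
  3294) (nat_lit 9872) (nat_lit 1496) (.node .nil (nat_lit 3297) (nat_lit 3841) (nat_lit 267) .nil)) (nat_lit
  3298) (nat_lit 6416) (nat_lit 2396) (.node (.node .nil (nat_lit 3304) (nat_lit 2912) (nat_lit 3818) .nil)
  (nat_lit 3307) (nat_lit 1313) (nat_lit 2389) .nil)) (nat_lit 3312) (nat_lit 12816) (nat_lit 2692) (.node
  (.node (.node .nil (nat_lit 3315) (nat_lit 5841) (nat_lit 2744) .nil) (nat_lit 3321) (nat_lit 0) (nat_lit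
  3321) .nil) (nat_lit 3322) (nat_lit 12257) (nat_lit 2645) (.node (.node .nil (nat_lit 3332) (nat_lit 12688)
  (nat_lit 216) .nil) (nat_lit 3335) (nat_lit 12016) (nat_lit 3808) .nil))))) (nat_lit 3341) (nat_lit 6368)
  (nat_lit 2390) (.node (.node (.node (.node (.node (.node .nil (nat_lit 3342) (nat_lit 6512) (nat_lit 1902)
  .nil) (nat_lit 3349) (nat_lit 10720) (nat_lit 3384) (.node .nil (nat_lit 3356) (nat_lit 10689) (nat_lit
  2070) .nil)) (nat_lit 3359) (nat_lit 1360) (nat_lit 2702) (.node (.node .nil (nat_lit 3360) (nat_lit 9104)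
  (nat_lit 2098) .nil) (nat_lit 3363) (nat_lit 10624) (nat_lit 1546) .nil)) (nat_lit 3369) (nat_lit 6465)
  (nat_lit 2410) (.node (.node (.node .nil (nat_lit 3370) (nat_lit 2737) (nat_lit 473) .nil) (nat_lit 3377)
  (nat_lit 6257) (nat_lit 2695) .nil) (nat_lit 3378) (nat_lit 11488) (nat_lit 3050) (.node (.node .nil
  (nat_lit 3384) (nat_lit 7664) (nat_lit 3164) .nil) (nat_lit 3387) (nat_lit 12320) (nat_lit 612) .nil)))
  (nat_lit 3397) (nat_lit 3265) (nat_lit 1217) (.node (.node (.node (.node .nil (nat_lit 3398) (nat_lit 9377)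
  (nat_lit 3186) .nil) (nat_lit 3404) (nat_lit 3489) (nat_lit 1068) (.node .nil (nat_lit 3412) (nat_lit 10433)
  (nat_lit 1985) .nil)) (nat_lit 3415) (nat_lit 3152) (nat_lit 3514) (.node (.node .nil (nat_lit 3421)
  (nat_lit 9185) (nat_lit 1836) .nil) (nat_lit 3422) (nat_lit 9312) (nat_lit 1076) .nil)) (nat_lit 3425)
  (nat_lit 3361) (nat_lit 1725) (.node (.node (.node .nil (nat_lit 3426) (nat_lit 9040) (nat_lit 2224) .nil)
  (nat_lit 3432) (nat_lit 9760) (nat_lit 3846) .nil) (nat_lit 3440) (nat_lit 1585) (nat_lit 1469) (.node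
  (.node .nil (nat_lit 3443) (nat_lit 5776) (nat_lit 1360) .nil) (nat_lit 3449) (nat_lit 4096) (nat_lit 742)
  .nil)))) (nat_lit 3450) (nat_lit 10481) (nat_lit 3555) (.node (.node (.node (.node (.node .nil (nat_lit
  3462) (nat_lit 6225) (nat_lit 1532) .nil) (nat_lit 3468) (nat_lit 11216) (nat_lit 1901) (.node .nil (nat_lit
  3471) (nat_lit 1297) (nat_lit 1297) .nil)) (nat_lit 3476) (nat_lit 7552) (nat_lit 771) (.node (.node .nil
  (nat_lit 3479) (nat_lit 12465) (nat_lit 1788) .nil) (nat_lit 3485) (nat_lit 9936) (nat_lit 2701) .nil))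
  (nat_lit 3486) (nat_lit 9777) (nat_lit 1553) (.node (.node (.node .nil (nat_lit 3490) (nat_lit 12960)
  (nat_lit 2097) .nil) (nat_lit 3496) (nat_lit 2480) (nat_lit 3975) .nil) (nat_lit 3499) (nat_lit 6976)
  (nat_lit 447) (.node (.node .nil (nat_lit 3504) (nat_lit 4929) (nat_lit 3123) .nil) (nat_lit 3513) (nat_lit
  9280) (nat_lit 615) .nil))) (nat_lit 3514) (nat_lit 1745) (nat_lit 1133) (.node (.node (.node (.node .nil
  (nat_lit 3524) (nat_lit 6608) (nat_lit 89) .nil) (nat_lit 3527) (nat_lit 6784) (nat_lit 3681) (.node .nil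
  (nat_lit 3533) (nat_lit 11440) (nat_lit 2519) .nil)) (nat_lit 3534) (nat_lit 10592) (nat_lit 2031) (.node
  (.node .nil (nat_lit 3541) (nat_lit 10769) (nat_lit 373) .nil) (nat_lit 3542) (nat_lit 3904) (nat_lit 897)
  .nil)) (nat_lit 3548) (nat_lit 8912) (nat_lit 1079) (.node (.node (.node .nil (nat_lit 3551) (nat_lit 6352)
  (nat_lit 2575) .nil) (nat_lit 3555) (nat_lit 7328) (nat_lit 1675) .nil) (nat_lit 3561) (nat_lit 3600)
  (nat_lit 317) (.node (.node .nil (nat_lit 3562) (nat_lit 1056) (nat_lit 3845) .nil) (nat_lit 3569) (nat_lit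
  5921) (nat_lit 777) .nil))))))
def ts840_7 : T := (.node (.node (.node (.node (.node (.node (.node .nil (nat_lit 3576) (nat_lit 5456)
  (nat_lit 3293) .nil) (nat_lit 3579) (nat_lit 9904) (nat_lit 741) (.node .nil (nat_lit 3588) (nat_lit 2816)
  (nat_lit 1333) .nil)) (nat_lit 3598) (nat_lit 8592) (nat_lit 643) (.node (.node .nil (nat_lit 3605) (nat_lit
  4225) (nat_lit 2851) .nil) (nat_lit 3606) (nat_lit 289) (nat_lit 912) .nil)) (nat_lit 3612) (nat_lit 11729)
  (nat_lit 3022) (.node (.node (.node .nil (nat_lit 3615) (nat_lit 5728) (nat_lit 3939) .nil) (nat_lit 3616)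
  (nat_lit 6945) (nat_lit 2655) (.node .nil (nat_lit 3619) (nat_lit 10513) (nat_lit 748) .nil)) (nat_lit 3633)
  (nat_lit 13168) (nat_lit 63) (.node (.node .nil (nat_lit 3653) (nat_lit 3232) (nat_lit 2959) .nil) (nat_lit
  3654) (nat_lit 12656) (nat_lit 1463) .nil))) (nat_lit 3663) (nat_lit 12865) (nat_lit 3911) (.node (.node
  (.node (.node .nil (nat_lit 3668) (nat_lit 736) (nat_lit 1647) .nil) (nat_lit 3671) (nat_lit 1441) (nat_lit
  3242) (.node .nil (nat_lit 3677) (nat_lit 6337) (nat_lit 1268) .nil)) (nat_lit 3678) (nat_lit 2720) (nat_lit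
  473) (.node (.node .nil (nat_lit 3681) (nat_lit 4048) (nat_lit 869) .nil) (nat_lit 3682) (nat_lit 6561)
  (nat_lit 3542) .nil)) (nat_lit 3688) (nat_lit 993) (nat_lit 1416) (.node (.node (.node .nil (nat_lit 3691)
  (nat_lit 13088) (nat_lit 1235) .nil) (nat_lit 3696) (nat_lit 5185) (nat_lit 1637) .nil) (nat_lit 3699)
  (nat_lit 257) (nat_lit 3798) (.node (.node .nil (nat_lit 3705) (nat_lit 1696) (nat_lit 1803) .nil) (nat_lit
  3717) (nat_lit 9200) (nat_lit 2830) .nil)))) (nat_lit 3718) (nat_lit 449) (nat_lit 1572) (.node (.node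
  (.node (.node (.node .nil (nat_lit 3727) (nat_lit 11152) (nat_lit 3256) .nil) (nat_lit 3732) (nat_lit 2368)
  (nat_lit 1774) (.node .nil (nat_lit 3735) (nat_lit 9569) (nat_lit 1316) .nil)) (nat_lit 3741) (nat_lit
  10784) (nat_lit 3936) (.node (.node .nil (nat_lit 3742) (nat_lit 8961) (nat_lit 1481) .nil) (nat_lit 3745)
  (nat_lit 2449) (nat_lit 3307) .nil)) (nat_lit 3746) (nat_lit 11585) (nat_lit 1112) (.node (.node (.node .nil
  (nat_lit 3752) (nat_lit 8033) (nat_lit 3078) .nil) (nat_lit 3755) (nat_lit 9056) (nat_lit 1106) .nil)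
  (nat_lit 3760) (nat_lit 4944) (nat_lit 3588) (.node (.node .nil (nat_lit 3763) (nat_lit 8561) (nat_lit 1880)
  .nil) (nat_lit 3769) (nat_lit 7184) (nat_lit 1930) .nil))) (nat_lit 3797) (nat_lit 8545) (nat_lit 685)
  (.node (.node (.node (.node .nil (nat_lit 3798) (nat_lit 112) (nat_lit 1644) .nil) (nat_lit 3807) (nat_lit
  11329) (nat_lit 2803) (.node .nil (nat_lit 3808) (nat_lit 9553) (nat_lit 977) .nil)) (nat_lit 3817) (nat_lit
  10608) (nat_lit 1232) (.node (.node .nil (nat_lit 3818) (nat_lit 1600) (nat_lit 2792) .nil) (nat_lit 3825)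
  (nat_lit 2529) (nat_lit 209) .nil)) (nat_lit 3826) (nat_lit 896) (nat_lit 3718) (.node (.node (.node .nil
  (nat_lit 3832) (nat_lit 4400) (nat_lit 2352) .nil) (nat_lit 3835) (nat_lit 8433) (nat_lit 2191) .nil)
  (nat_lit 3845) (nat_lit 544) (nat_lit 2786) (.node (.node .nil (nat_lit 3846) (nat_lit 6672) (nat_lit 1242)
  .nil) (nat_lit 3852) (nat_lit 1024) (nat_lit 876) .nil))))) (nat_lit 3855) (nat_lit 12001) (nat_lit 383)
  (.node (.node (.node (.node (.node (.node .nil (nat_lit 3860) (nat_lit 7008) (nat_lit 1794) .nil) (nat_lit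
  3870) (nat_lit 11361) (nat_lit 639) (.node .nil (nat_lit 3874) (nat_lit 13409) (nat_lit 1006) .nil))
  (nat_lit 3880) (nat_lit 464) (nat_lit 2950) (.node (.node .nil (nat_lit 3883) (nat_lit 4720) (nat_lit 1470)
  .nil) (nat_lit 3888) (nat_lit 8401) (nat_lit 2141) .nil)) (nat_lit 3897) (nat_lit 7072) (nat_lit 1638)
  (.node (.node (.node .nil (nat_lit 3908) (nat_lit 5441) (nat_lit 1563) .nil) (nat_lit 3911) (nat_lit 11121)
  (nat_lit 3752) .nil) (nat_lit 3917) (nat_lit 6544) (nat_lit 3542) (.node (.node .nil (nat_lit 3918) (nat_lit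
  5633) (nat_lit 3653) .nil) (nat_lit 3925) (nat_lit 6289) (nat_lit 1307) .nil))) (nat_lit 3926) (nat_lit
  4385) (nat_lit 3496) (.node (.node (.node (.node .nil (nat_lit 3932) (nat_lit 10177) (nat_lit 1526) .nil)
  (nat_lit 3935) (nat_lit 5697) (nat_lit 3397) (.node .nil (nat_lit 3936) (nat_lit 7745) (nat_lit 1127) .nil))
  (nat_lit 3939) (nat_lit 3297) (nat_lit 3284) (.node (.node .nil (nat_lit 3945) (nat_lit 9809) (nat_lit 1162)
  .nil) (nat_lit 3946) (nat_lit 11248) (nat_lit 2820) .nil)) (nat_lit 3953) (nat_lit 304) (nat_lit 338) (.node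
  (.node (.node .nil (nat_lit 3954) (nat_lit 12912) (nat_lit 3946) .nil) (nat_lit 3960) (nat_lit 7201)
  (nat_lit 1930) .nil) (nat_lit 3963) (nat_lit 10209) (nat_lit 3897) (.node (.node .nil (nat_lit 3972)
  (nat_lit 4545) (nat_lit 3989) .nil) (nat_lit 3975) (nat_lit 1345) (nat_lit 1830) .nil)))) (nat_lit 3981)
  (nat_lit 5488) (nat_lit 3415) (.node (.node (.node (.node (.node .nil (nat_lit 3982) (nat_lit 4496) (nat_lit
  879) .nil) (nat_lit 3989) (nat_lit 2576) (nat_lit 2361) (.node .nil (nat_lit 3990) (nat_lit 881) (nat_lit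
  1062) .nil)) (nat_lit 3996) (nat_lit 11761) (nat_lit 3192) (.node (.node .nil (nat_lit 3999) (nat_lit 12497)
  (nat_lit 1227) .nil) (nat_lit 4000) (nat_lit 4912) (nat_lit 3123) .nil)) (nat_lit 4003) (nat_lit 12641)
  (nat_lit 1370) (.node (.node (.node .nil (nat_lit 4009) (nat_lit 1568) (nat_lit 1469) .nil) (nat_lit 4010)
  (nat_lit 12673) (nat_lit 1463) .nil) (nat_lit 4017) (nat_lit 3568) (nat_lit 467) (.node (.node .nil (nat_lit
  4018) (nat_lit 12049) (nat_lit 1626) .nil) (nat_lit 4024) (nat_lit 4961) (nat_lit 3588) .nil))) (nat_lit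
  4027) (nat_lit 5168) (nat_lit 1637) (.node (.node (.node (.node .nil (nat_lit 4037) (nat_lit 7233) (nat_lit
  175) .nil) (nat_lit 4038) (nat_lit 10928) (nat_lit 1115) (.node .nil (nat_lit 4047) (nat_lit 3105) (nat_lit
  2289) .nil)) (nat_lit 4052) (nat_lit 11617) (nat_lit 943) (.node (.node .nil (nat_lit 4062) (nat_lit 8192)
  (nat_lit 53) .nil) (nat_lit 4065) (nat_lit 4240) (nat_lit 649) .nil)) (nat_lit 4066) (nat_lit 11056)
  (nat_lit 3249) (.node (.node (.node .nil (nat_lit 4072) (nat_lit 5984) (nat_lit 2823) .nil) (nat_lit 4075)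
  (nat_lit 9953) (nat_lit 2701) .nil) (nat_lit 4080) (nat_lit 3585) (nat_lit 467) (.node (.node .nil (nat_lit
  4083) (nat_lit 4081) (nat_lit 2400) .nil) (nat_lit 4090) (nat_lit 12064) (nat_lit 2271) .nil))))))
def ts840 : T := (.node (.node (.node ts840_0 (nat_lit 594) (nat_lit 3649) (nat_lit 1619) ts840_1) (nat_lit
  1124) (nat_lit 12289) (nat_lit 2118) (.node ts840_2 (nat_lit 1608) (nat_lit 8576) (nat_lit 3576) ts840_3))
  (nat_lit 2104) (nat_lit 1841) (nat_lit 3688) (.node (.node ts840_4 (nat_lit 2600) (nat_lit 9824) (nat_lit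
  1191) ts840_5) (nat_lit 3101) (nat_lit 11040) (nat_lit 2913) (.node ts840_6 (nat_lit 3570) (nat_lit 4560)
  (nat_lit 2923) ts840_7)))
theorem ts840_chk : band (orbChk apS (gensOf cO) 3321 (4096) ts840) (Nat.beq ts840.size 840) = true := by
  decide +kernel
theorem ts840_card : (orbit (stabilizer M24 O0) (sext (unmask 573441))).ncard = 840 :=
  orbit_ncard_of_chk acX (sext_rep (t := 573441) (k := 3321) (by decide +kernel)).1 cO_chk stab_O0 (sext_rep (t := 573441) (k := 3321) (by decide +kernel)).2 ts840_chk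

def ts896_0 : T := (.node (.node (.node (.node (.node (.node (.node .nil (nat_lit 15) (nat_lit 7904) (nat_lit
  3347) .nil) (nat_lit 23) (nat_lit 7520) (nat_lit 2429) (.node .nil (nat_lit 29) (nat_lit 10288) (nat_lit
  3787) .nil)) (nat_lit 30) (nat_lit 7121) (nat_lit 3777) (.node (.node .nil (nat_lit 43) (nat_lit 14272)
  (nat_lit 1529) .nil) (nat_lit 51) (nat_lit 12625) (nat_lit 3152) (.node .nil (nat_lit 57) (nat_lit 9857)
  (nat_lit 1038) .nil))) (nat_lit 58) (nat_lit 9360) (nat_lit 2073) (.node (.node (.node .nil (nat_lit 71)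
  (nat_lit 4049) (nat_lit 534) .nil) (nat_lit 77) (nat_lit 12848) (nat_lit 3473) (.node .nil (nat_lit 78)
  (nat_lit 13344) (nat_lit 937) .nil)) (nat_lit 85) (nat_lit 12241) (nat_lit 2469) (.node (.node .nil (nat_lit
  86) (nat_lit 11617) (nat_lit 278) .nil) (nat_lit 92) (nat_lit 5040) (nat_lit 113) .nil))) (nat_lit 95)
  (nat_lit 3665) (nat_lit 507) (.node (.node (.node (.node .nil (nat_lit 99) (nat_lit 4272) (nat_lit 717)
  .nil) (nat_lit 105) (nat_lit 10513) (nat_lit 2100) (.node .nil (nat_lit 106) (nat_lit 13745) (nat_lit 135)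
  .nil)) (nat_lit 113) (nat_lit 2897) (nat_lit 3033) (.node (.node .nil (nat_lit 114) (nat_lit 6065) (nat_lit
  874) .nil) (nat_lit 120) (nat_lit 11361) (nat_lit 2868) .nil)) (nat_lit 135) (nat_lit 11408) (nat_lit 2726)
  (.node (.node (.node .nil (nat_lit 141) (nat_lit 6273) (nat_lit 966) .nil) (nat_lit 142) (nat_lit 11137)
  (nat_lit 2933) (.node .nil (nat_lit 149) (nat_lit 14112) (nat_lit 2430) .nil)) (nat_lit 150) (nat_lit 14081)
  (nat_lit 2200) (.node (.node .nil (nat_lit 156) (nat_lit 12016) (nat_lit 240) .nil) (nat_lit 163) (nat_lit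
  7217) (nat_lit 2532) .nil)))) (nat_lit 169) (nat_lit 1793) (nat_lit 442) (.node (.node (.node (.node (.node
  .nil (nat_lit 170) (nat_lit 11313) (nat_lit 2313) .nil) (nat_lit 177) (nat_lit 4145) (nat_lit 599) (.node
  .nil (nat_lit 178) (nat_lit 10753) (nat_lit 2788) .nil)) (nat_lit 184) (nat_lit 976) (nat_lit 2074) (.node
  (.node .nil (nat_lit 187) (nat_lit 2336) (nat_lit 1570) .nil) (nat_lit 197) (nat_lit 11280) (nat_lit 2596)
  .nil)) (nat_lit 198) (nat_lit 13553) (nat_lit 1186) (.node (.node (.node .nil (nat_lit 204) (nat_lit 5457)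
  (nat_lit 3324) .nil) (nat_lit 207) (nat_lit 11793) (nat_lit 1103) (.node .nil (nat_lit 212) (nat_lit 4353)
  (nat_lit 3857) .nil)) (nat_lit 215) (nat_lit 12368) (nat_lit 2556) (.node (.node .nil (nat_lit 221) (nat_lit
  7681) (nat_lit 4092) .nil) (nat_lit 222) (nat_lit 2017) (nat_lit 1871) .nil))) (nat_lit 225) (nat_lit 13361)
  (nat_lit 3693) (.node (.node (.node (.node .nil (nat_lit 226) (nat_lit 2272) (nat_lit 3318) .nil) (nat_lit
  232) (nat_lit 208) (nat_lit 2880) (.node .nil (nat_lit 235) (nat_lit 10672) (nat_lit 1400) .nil)) (nat_lit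
  240) (nat_lit 8832) (nat_lit 3886) (.node (.node .nil (nat_lit 243) (nat_lit 7089) (nat_lit 1502) .nil)
  (nat_lit 249) (nat_lit 1697) (nat_lit 3456) .nil)) (nat_lit 250) (nat_lit 6897) (nat_lit 1331) (.node (.node
  (.node .nil (nat_lit 263) (nat_lit 10657) (nat_lit 3118) .nil) (nat_lit 269) (nat_lit 5440) (nat_lit 3324)
  (.node .nil (nat_lit 270) (nat_lit 12992) (nat_lit 708) .nil)) (nat_lit 277) (nat_lit 4480) (nat_lit 2194)
  (.node (.node .nil (nat_lit 278) (nat_lit 8448) (nat_lit 1706) .nil) (nat_lit 284) (nat_lit 9073) (nat_lit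
  1904) .nil))))) (nat_lit 287) (nat_lit 2048) (nat_lit 3876) (.node (.node (.node (.node (.node (.node .nil
  (nat_lit 291) (nat_lit 2689) (nat_lit 3666) .nil) (nat_lit 297) (nat_lit 1424) (nat_lit 1046) (.node .nil
  (nat_lit 298) (nat_lit 2193) (nat_lit 3775) .nil)) (nat_lit 305) (nat_lit 13185) (nat_lit 1505) (.node
  (.node .nil (nat_lit 306) (nat_lit 6496) (nat_lit 3648) .nil) (nat_lit 312) (nat_lit 257) (nat_lit 1292)
  .nil)) (nat_lit 315) (nat_lit 13121) (nat_lit 3519) (.node (.node (.node .nil (nat_lit 325) (nat_lit 801)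
  (nat_lit 2983) .nil) (nat_lit 326) (nat_lit 8161) (nat_lit 788) (.node .nil (nat_lit 332) (nat_lit 11329)
  (nat_lit 2890) .nil)) (nat_lit 335) (nat_lit 7057) (nat_lit 1017) (.node (.node .nil (nat_lit 340) (nat_lit
  9137) (nat_lit 2215) .nil) (nat_lit 349) (nat_lit 11489) (nat_lit 2122) .nil))) (nat_lit 350) (nat_lit 3169)
  (nat_lit 249) (.node (.node (.node (.node .nil (nat_lit 353) (nat_lit 5681) (nat_lit 2523) .nil) (nat_lit
  354) (nat_lit 13809) (nat_lit 360) (.node .nil (nat_lit 360) (nat_lit 11713) (nat_lit 2358) .nil)) (nat_lit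
  363) (nat_lit 7744) (nat_lit 1172) (.node (.node .nil (nat_lit 368) (nat_lit 1040) (nat_lit 3778) .nil)
  (nat_lit 371) (nat_lit 9953) (nat_lit 616) .nil)) (nat_lit 377) (nat_lit 10208) (nat_lit 1868) (.node (.node
  (.node .nil (nat_lit 378) (nat_lit 6305) (nat_lit 645) .nil) (nat_lit 389) (nat_lit 6145) (nat_lit 553)
  (.node .nil (nat_lit 390) (nat_lit 1377) (nat_lit 2714) .nil)) (nat_lit 396) (nat_lit 2416) (nat_lit 711)
  (.node (.node .nil (nat_lit 399) (nat_lit 8896) (nat_lit 3327) .nil) (nat_lit 404) (nat_lit 2737) (nat_lit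
  297) .nil)))) (nat_lit 407) (nat_lit 12689) (nat_lit 2458) (.node (.node (.node (.node (.node .nil (nat_lit
  413) (nat_lit 7968) (nat_lit 3879) .nil) (nat_lit 414) (nat_lit 3201) (nat_lit 2423) (.node .nil (nat_lit
  417) (nat_lit 5760) (nat_lit 931) .nil)) (nat_lit 418) (nat_lit 2976) (nat_lit 3483) (.node (.node .nil
  (nat_lit 424) (nat_lit 1921) (nat_lit 184) .nil) (nat_lit 427) (nat_lit 8305) (nat_lit 2059) .nil)) (nat_lit
  432) (nat_lit 5921) (nat_lit 853) (.node (.node (.node .nil (nat_lit 441) (nat_lit 11104) (nat_lit 1997)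
  .nil) (nat_lit 442) (nat_lit 912) (nat_lit 2549) (.node .nil (nat_lit 452) (nat_lit 7921) (nat_lit 3347)
  .nil)) (nat_lit 455) (nat_lit 7185) (nat_lit 1440) (.node (.node .nil (nat_lit 462) (nat_lit 12001) (nat_lit
  1357) .nil) (nat_lit 469) (nat_lit 176) (nat_lit 2067) .nil))) (nat_lit 470) (nat_lit 12144) (nat_lit 1579)
  (.node (.node (.node (.node .nil (nat_lit 476) (nat_lit 9617) (nat_lit 3838) .nil) (nat_lit 479) (nat_lit
  13152) (nat_lit 4005) (.node .nil (nat_lit 480) (nat_lit 12033) (nat_lit 3951) .nil)) (nat_lit 483) (nat_lit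
  10993) (nat_lit 2012) (.node (.node .nil (nat_lit 490) (nat_lit 7601) (nat_lit 1841) .nil) (nat_lit 497)
  (nat_lit 2097) (nat_lit 3183) .nil)) (nat_lit 498) (nat_lit 7104) (nat_lit 3777) (.node (.node (.node .nil
  (nat_lit 504) (nat_lit 3184) (nat_lit 2423) .nil) (nat_lit 507) (nat_lit 2000) (nat_lit 1871) (.node .nil
  (nat_lit 519) (nat_lit 5408) (nat_lit 3751) .nil)) (nat_lit 525) (nat_lit 10144) (nat_lit 2321) (.node
  (.node .nil (nat_lit 526) (nat_lit 10833) (nat_lit 3867) .nil) (nat_lit 533) (nat_lit 5233) (nat_lit 1093)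
  .nil))))))
def ts896_1 : T := (.node (.node (.node (.node (.node (.node (.node .nil (nat_lit 540) (nat_lit 16) (nat_lit
  1265) .nil) (nat_lit 543) (nat_lit 10945) (nat_lit 3099) (.node .nil (nat_lit 547) (nat_lit 13489) (nat_lit
  3466) .nil)) (nat_lit 553) (nat_lit 3648) (nat_lit 507) (.node (.node .nil (nat_lit 554) (nat_lit 577)
  (nat_lit 3431) .nil) (nat_lit 561) (nat_lit 10721) (nat_lit 1593) .nil)) (nat_lit 562) (nat_lit 3905)
  (nat_lit 3722) (.node (.node (.node .nil (nat_lit 568) (nat_lit 5297) (nat_lit 1748) .nil) (nat_lit 571)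
  (nat_lit 8689) (nat_lit 3687) (.node .nil (nat_lit 581) (nat_lit 11969) (nat_lit 2175) .nil)) (nat_lit 582)
  (nat_lit 8513) (nat_lit 204) (.node (.node .nil (nat_lit 588) (nat_lit 4497) (nat_lit 2194) .nil) (nat_lit
  596) (nat_lit 14145) (nat_lit 2943) .nil))) (nat_lit 599) (nat_lit 2400) (nat_lit 3581) (.node (.node (.node
  (.node .nil (nat_lit 605) (nat_lit 1840) (nat_lit 2635) .nil) (nat_lit 606) (nat_lit 12576) (nat_lit 1139)
  (.node .nil (nat_lit 609) (nat_lit 6608) (nat_lit 1743) .nil)) (nat_lit 610) (nat_lit 8704) (nat_lit 2295)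
  (.node (.node .nil (nat_lit 616) (nat_lit 6737) (nat_lit 2798) .nil) (nat_lit 619) (nat_lit 3425) (nat_lit
  605) .nil)) (nat_lit 624) (nat_lit 8657) (nat_lit 2307) (.node (.node (.node .nil (nat_lit 627) (nat_lit
  9089) (nat_lit 432) .nil) (nat_lit 633) (nat_lit 1345) (nat_lit 2542) (.node .nil (nat_lit 634) (nat_lit
  11760) (nat_lit 3225) .nil)) (nat_lit 645) (nat_lit 3793) (nat_lit 497) (.node (.node .nil (nat_lit 646)
  (nat_lit 6529) (nat_lit 2370) .nil) (nat_lit 652) (nat_lit 6624) (nat_lit 1834) .nil)))) (nat_lit 655)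
  (nat_lit 7937) (nat_lit 2479) (.node (.node (.node (.node (.node .nil (nat_lit 660) (nat_lit 673) (nat_lit
  753) .nil) (nat_lit 663) (nat_lit 13072) (nat_lit 3452) (.node .nil (nat_lit 669) (nat_lit 65) (nat_lit 540)
  .nil)) (nat_lit 670) (nat_lit 6208) (nat_lit 1266) (.node (.node .nil (nat_lit 673) (nat_lit 6784) (nat_lit
  1614) .nil) (nat_lit 674) (nat_lit 10416) (nat_lit 2166) .nil)) (nat_lit 680) (nat_lit 12865) (nat_lit 864)
  (.node (.node (.node .nil (nat_lit 683) (nat_lit 5504) (nat_lit 504) .nil) (nat_lit 688) (nat_lit 9441)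
  (nat_lit 141) (.node .nil (nat_lit 691) (nat_lit 10817) (nat_lit 2110) .nil)) (nat_lit 698) (nat_lit 10112)
  (nat_lit 3096) (.node (.node .nil (nat_lit 708) (nat_lit 10305) (nat_lit 3787) .nil) (nat_lit 711) (nat_lit
  1249) (nat_lit 1656) .nil))) (nat_lit 717) (nat_lit 2480) (nat_lit 2448) (.node (.node (.node (.node .nil
  (nat_lit 718) (nat_lit 11601) (nat_lit 1685) .nil) (nat_lit 726) (nat_lit 6256) (nat_lit 966) (.node .nil
  (nat_lit 732) (nat_lit 11088) (nat_lit 1136) .nil)) (nat_lit 735) (nat_lit 13633) (nat_lit 1429) (.node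
  (.node .nil (nat_lit 736) (nat_lit 2544) (nat_lit 2292) .nil) (nat_lit 745) (nat_lit 9185) (nat_lit 3162)
  .nil)) (nat_lit 746) (nat_lit 3025) (nat_lit 1257) (.node (.node (.node .nil (nat_lit 753) (nat_lit 336)
  (nat_lit 1300) .nil) (nat_lit 754) (nat_lit 720) (nat_lit 2860) (.node .nil (nat_lit 760) (nat_lit 12704)
  (nat_lit 3226) .nil)) (nat_lit 763) (nat_lit 13136) (nat_lit 674) (.node (.node .nil (nat_lit 773) (nat_lit
  10561) (nat_lit 1607) .nil) (nat_lit 774) (nat_lit 2032) (nat_lit 368) .nil))))) (nat_lit 780) (nat_lit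
  2448) (nat_lit 1734) (.node (.node (.node (.node (.node (.node .nil (nat_lit 783) (nat_lit 1185) (nat_lit
  3609) .nil) (nat_lit 788) (nat_lit 5137) (nat_lit 1351) (.node .nil (nat_lit 791) (nat_lit 7952) (nat_lit
  3216) .nil)) (nat_lit 798) (nat_lit 13329) (nat_lit 3353) (.node (.node .nil (nat_lit 801) (nat_lit 13473)
  (nat_lit 1083) .nil) (nat_lit 802) (nat_lit 12672) (nat_lit 2458) .nil)) (nat_lit 808) (nat_lit 9521)
  (nat_lit 1238) (.node (.node (.node .nil (nat_lit 816) (nat_lit 11457) (nat_lit 1851) .nil) (nat_lit 819)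
  (nat_lit 3248) (nat_lit 1146) (.node .nil (nat_lit 825) (nat_lit 3744) (nat_lit 972) .nil)) (nat_lit 826)
  (nat_lit 3473) (nat_lit 3941) (.node (.node .nil (nat_lit 836) (nat_lit 7537) (nat_lit 2429) .nil) (nat_lit
  839) (nat_lit 12208) (nat_lit 4042) .nil))) (nat_lit 845) (nat_lit 2497) (nat_lit 2448) (.node (.node (.node
  (.node .nil (nat_lit 846) (nat_lit 4673) (nat_lit 291) .nil) (nat_lit 853) (nat_lit 3505) (nat_lit 2685)
  (.node .nil (nat_lit 854) (nat_lit 1104) (nat_lit 554) .nil)) (nat_lit 860) (nat_lit 6561) (nat_lit 2704)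
  (.node (.node .nil (nat_lit 863) (nat_lit 5536) (nat_lit 2980) .nil) (nat_lit 864) (nat_lit 10081) (nat_lit
  2817) .nil)) (nat_lit 867) (nat_lit 10608) (nat_lit 1824) (.node (.node (.node .nil (nat_lit 873) (nat_lit
  12817) (nat_lit 3052) .nil) (nat_lit 874) (nat_lit 3600) (nat_lit 3758) (.node .nil (nat_lit 882) (nat_lit
  8048) (nat_lit 2752) .nil)) (nat_lit 888) (nat_lit 3808) (nat_lit 3446) (.node (.node .nil (nat_lit 891)
  (nat_lit 6161) (nat_lit 95) .nil) (nat_lit 900) (nat_lit 10385) (nat_lit 243) .nil)))) (nat_lit 909)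
  (nat_lit 4544) (nat_lit 2301) (.node (.node (.node (.node (.node .nil (nat_lit 910) (nat_lit 816) (nat_lit
  1733) .nil) (nat_lit 917) (nat_lit 2257) (nat_lit 1011) (.node .nil (nat_lit 918) (nat_lit 225) (nat_lit
  2880) .nil)) (nat_lit 924) (nat_lit 13424) (nat_lit 1309) (.node (.node .nil (nat_lit 927) (nat_lit 5201)
  (nat_lit 2989) .nil) (nat_lit 928) (nat_lit 6176) (nat_lit 2457) .nil)) (nat_lit 931) (nat_lit 3393)
  (nat_lit 2620) (.node (.node (.node .nil (nat_lit 937) (nat_lit 10768) (nat_lit 23) .nil) (nat_lit 938)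
  (nat_lit 9665) (nat_lit 2769) (.node .nil (nat_lit 945) (nat_lit 4592) (nat_lit 1145) .nil)) (nat_lit 946)
  (nat_lit 11073) (nat_lit 2364) (.node (.node .nil (nat_lit 952) (nat_lit 14257) (nat_lit 354) .nil) (nat_lit
  955) (nat_lit 8928) (nat_lit 975) .nil))) (nat_lit 965) (nat_lit 14208) (nat_lit 4041) (.node (.node (.node
  (.node .nil (nat_lit 966) (nat_lit 3776) (nat_lit 497) .nil) (nat_lit 972) (nat_lit 2065) (nat_lit 3876)
  (.node .nil (nat_lit 975) (nat_lit 5809) (nat_lit 1943) .nil)) (nat_lit 980) (nat_lit 6128) (nat_lit 553)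
  (.node (.node .nil (nat_lit 983) (nat_lit 3265) (nat_lit 1146) .nil) (nat_lit 989) (nat_lit 784) (nat_lit
  2983) .nil)) (nat_lit 993) (nat_lit 9568) (nat_lit 1827) (.node (.node (.node .nil (nat_lit 994) (nat_lit
  11153) (nat_lit 1286) .nil) (nat_lit 1000) (nat_lit 5697) (nat_lit 3416) (.node .nil (nat_lit 1003) (nat_lit
  14193) (nat_lit 1515) .nil)) (nat_lit 1008) (nat_lit 7649) (nat_lit 3765) (.node (.node .nil (nat_lit 1011)
  (nat_lit 1153) (nat_lit 1542) .nil) (nat_lit 1017) (nat_lit 4304) (nat_lit 845) .nil))))))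
def ts896_2 : T := (.node (.node (.node (.node (.node (.node (.node .nil (nat_lit 1037) (nat_lit 1520)
  (nat_lit 989) .nil) (nat_lit 1038) (nat_lit 6656) (nat_lit 3557) (.node .nil (nat_lit 1045) (nat_lit 6096)
  (nat_lit 1971) .nil)) (nat_lit 1046) (nat_lit 737) (nat_lit 2860) (.node (.node .nil (nat_lit 1052) (nat_lit
  11265) (nat_lit 882) .nil) (nat_lit 1059) (nat_lit 528) (nat_lit 3201) .nil)) (nat_lit 1065) (nat_lit 8000)
  (nat_lit 2871) (.node (.node (.node .nil (nat_lit 1066) (nat_lit 9217) (nat_lit 2749) .nil) (nat_lit 1073)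
  (nat_lit 12464) (nat_lit 3929) (.node .nil (nat_lit 1074) (nat_lit 8752) (nat_lit 353) .nil)) (nat_lit 1080)
  (nat_lit 14097) (nat_lit 270) (.node (.node .nil (nat_lit 1083) (nat_lit 10896) (nat_lit 2287) .nil)
  (nat_lit 1093) (nat_lit 3008) (nat_lit 1257) .nil))) (nat_lit 1094) (nat_lit 4449) (nat_lit 1814) (.node
  (.node (.node (.node .nil (nat_lit 1100) (nat_lit 560) (nat_lit 3431) .nil) (nat_lit 1103) (nat_lit 8608)
  (nat_lit 863) (.node .nil (nat_lit 1108) (nat_lit 11296) (nat_lit 2313) .nil)) (nat_lit 1111) (nat_lit 1441)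
  (nat_lit 1046) (.node (.node .nil (nat_lit 1117) (nat_lit 10097) (nat_lit 3144) .nil) (nat_lit 1118)
  (nat_lit 2176) (nat_lit 3775) .nil)) (nat_lit 1121) (nat_lit 9969) (nat_lit 3545) (.node (.node (.node .nil
  (nat_lit 1122) (nat_lit 11872) (nat_lit 571) .nil) (nat_lit 1128) (nat_lit 5857) (nat_lit 3380) (.node .nil
  (nat_lit 1131) (nat_lit 9648) (nat_lit 2997) .nil)) (nat_lit 1136) (nat_lit 7825) (nat_lit 3801) (.node
  (.node .nil (nat_lit 1139) (nat_lit 9696) (nat_lit 4059) .nil) (nat_lit 1145) (nat_lit 2657) (nat_lit 3636)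
  .nil)))) (nat_lit 1146) (nat_lit 1744) (nat_lit 1621) (.node (.node (.node (.node (.node .nil (nat_lit 1157)
  (nat_lit 8992) (nat_lit 1128) .nil) (nat_lit 1158) (nat_lit 769) (nat_lit 3736) (.node .nil (nat_lit 1164)
  (nat_lit 2465) (nat_lit 1734) .nil)) (nat_lit 1172) (nat_lit 4865) (nat_lit 1323) (.node (.node .nil
  (nat_lit 1185) (nat_lit 2769) (nat_lit 1111) .nil) (nat_lit 1186) (nat_lit 11057) (nat_lit 3300) .nil))
  (nat_lit 1192) (nat_lit 240) (nat_lit 1292) (.node (.node (.node .nil (nat_lit 1195) (nat_lit 11344)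
  (nat_lit 2868) .nil) (nat_lit 1200) (nat_lit 14161) (nat_lit 1879) (.node .nil (nat_lit 1203) (nat_lit
  12977) (nat_lit 4068) .nil)) (nat_lit 1209) (nat_lit 8321) (nat_lit 1978) (.node (.node .nil (nat_lit 1210)
  (nat_lit 5280) (nat_lit 1748) .nil) (nat_lit 1220) (nat_lit 10161) (nat_lit 2321) .nil))) (nat_lit 1223)
  (nat_lit 5185) (nat_lit 418) (.node (.node (.node (.node .nil (nat_lit 1229) (nat_lit 9712) (nat_lit 860)
  .nil) (nat_lit 1230) (nat_lit 10353) (nat_lit 335) (.node .nil (nat_lit 1237) (nat_lit 6960) (nat_lit 1842)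
  .nil)) (nat_lit 1238) (nat_lit 6336) (nat_lit 2314) (.node (.node .nil (nat_lit 1244) (nat_lit 12736)
  (nat_lit 3772) .nil) (nat_lit 1248) (nat_lit 8352) (nat_lit 568) .nil)) (nat_lit 1257) (nat_lit 1616)
  (nat_lit 2998) (.node (.node (.node .nil (nat_lit 1258) (nat_lit 5553) (nat_lit 819) .nil) (nat_lit 1265)
  (nat_lit 0) (nat_lit 1265) (.node .nil (nat_lit 1266) (nat_lit 3697) (nat_lit 222) .nil)) (nat_lit 1275)
  (nat_lit 11552) (nat_lit 2158) (.node (.node .nil (nat_lit 1285) (nat_lit 4816) (nat_lit 1412) .nil)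
  (nat_lit 1286) (nat_lit 7889) (nat_lit 2350) .nil))))) (nat_lit 1292) (nat_lit 112) (nat_lit 3082) (.node
  (.node (.node (.node (.node (.node .nil (nat_lit 1295) (nat_lit 6448) (nat_lit 562) .nil) (nat_lit 1300)
  (nat_lit 161) (nat_lit 669) (.node .nil (nat_lit 1303) (nat_lit 9984) (nat_lit 1628) .nil)) (nat_lit 1309)
  (nat_lit 10848) (nat_lit 490) (.node (.node .nil (nat_lit 1310) (nat_lit 14289) (nat_lit 2755) .nil)
  (nat_lit 1313) (nat_lit 12529) (nat_lit 993) .nil)) (nat_lit 1314) (nat_lit 2144) (nat_lit 854) (.node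
  (.node (.node .nil (nat_lit 1320) (nat_lit 4225) (nat_lit 780) .nil) (nat_lit 1323) (nat_lit 2801) (nat_lit
  3007) (.node .nil (nat_lit 1328) (nat_lit 13584) (nat_lit 142) .nil)) (nat_lit 1331) (nat_lit 4192) (nat_lit
  3766) (.node (.node .nil (nat_lit 1338) (nat_lit 8737) (nat_lit 2239) .nil) (nat_lit 1348) (nat_lit 5425)
  (nat_lit 3751) .nil))) (nat_lit 1351) (nat_lit 2945) (nat_lit 1556) (.node (.node (.node (.node .nil
  (nat_lit 1357) (nat_lit 8817) (nat_lit 3658) .nil) (nat_lit 1358) (nat_lit 8033) (nat_lit 1785) (.node .nil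
  (nat_lit 1365) (nat_lit 2529) (nat_lit 3495) .nil)) (nat_lit 1366) (nat_lit 353) (nat_lit 1300) (.node
  (.node .nil (nat_lit 1375) (nat_lit 13792) (nat_lit 360) .nil) (nat_lit 1376) (nat_lit 7329) (nat_lit 3291)
  .nil)) (nat_lit 1379) (nat_lit 9009) (nat_lit 1128) (.node (.node (.node .nil (nat_lit 1385) (nat_lit 1473)
  (nat_lit 3126) .nil) (nat_lit 1386) (nat_lit 12177) (nat_lit 1157) (.node .nil (nat_lit 1393) (nat_lit 2640)
  (nat_lit 3636) .nil)) (nat_lit 1400) (nat_lit 7393) (nat_lit 3894) (.node (.node .nil (nat_lit 1403)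
  (nat_lit 12337) (nat_lit 1925) .nil) (nat_lit 1412) (nat_lit 2784) (nat_lit 3007) .nil)))) (nat_lit 1415)
  (nat_lit 13969) (nat_lit 3994) (.node (.node (.node (.node (.node .nil (nat_lit 1421) (nat_lit 13296)
  (nat_lit 561) .nil) (nat_lit 1422) (nat_lit 3457) (nat_lit 3959) (.node .nil (nat_lit 1429) (nat_lit 11201)
  (nat_lit 1065) .nil)) (nat_lit 1430) (nat_lit 8960) (nat_lit 2151) (.node (.node .nil (nat_lit 1436)
  (nat_lit 12400) (nat_lit 4049) .nil) (nat_lit 1440) (nat_lit 4385) (nat_lit 1365) .nil)) (nat_lit 1443)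
  (nat_lit 12128) (nat_lit 3437) (.node (.node (.node .nil (nat_lit 1449) (nat_lit 5600) (nat_lit 2779) .nil)
  (nat_lit 1457) (nat_lit 1761) (nat_lit 1621) (.node .nil (nat_lit 1458) (nat_lit 9424) (nat_lit 141) .nil))
  (nat_lit 1464) (nat_lit 11440) (nat_lit 1851) (.node (.node .nil (nat_lit 1467) (nat_lit 5153) (nat_lit
  3595) .nil) (nat_lit 1477) (nat_lit 193) (nat_lit 2067) .nil))) (nat_lit 1484) (nat_lit 4465) (nat_lit 2302)
  (.node (.node (.node (.node .nil (nat_lit 1487) (nat_lit 13392) (nat_lit 691) .nil) (nat_lit 1492) (nat_lit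
  7584) (nat_lit 2277) (.node .nil (nat_lit 1495) (nat_lit 2848) (nat_lit 1757) .nil)) (nat_lit 1501) (nat_lit
  11040) (nat_lit 363) (.node (.node .nil (nat_lit 1502) (nat_lit 4321) (nat_lit 845) .nil) (nat_lit 1505)
  (nat_lit 10448) (nat_lit 3567) .nil)) (nat_lit 1506) (nat_lit 5568) (nat_lit 983) (.node (.node (.node .nil
  (nat_lit 1512) (nat_lit 2385) (nat_lit 2690) .nil) (nat_lit 1515) (nat_lit 13313) (nat_lit 561) (.node .nil
  (nat_lit 1520) (nat_lit 7505) (nat_lit 2415) .nil)) (nat_lit 1523) (nat_lit 12561) (nat_lit 476) (.node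
  (.node .nil (nat_lit 1529) (nat_lit 13872) (nat_lit 2433) .nil) (nat_lit 1530) (nat_lit 9024) (nat_lit 1977)
  .nil))))))
def ts896_3 : T := (.node (.node (.node (.node (.node (.node (.node .nil (nat_lit 1542) (nat_lit 592) (nat_lit
  3665) .nil) (nat_lit 1548) (nat_lit 3568) (nat_lit 2535) (.node .nil (nat_lit 1551) (nat_lit 4880) (nat_lit
  2015) .nil)) (nat_lit 1556) (nat_lit 1569) (nat_lit 325) (.node (.node .nil (nat_lit 1559) (nat_lit 961)
  (nat_lit 2550) .nil) (nat_lit 1565) (nat_lit 3537) (nat_lit 424) .nil)) (nat_lit 1566) (nat_lit 8576)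
  (nat_lit 2623) (.node (.node (.node .nil (nat_lit 1569) (nat_lit 12721) (nat_lit 57) .nil) (nat_lit 1570)
  (nat_lit 1200) (nat_lit 1723) (.node .nil (nat_lit 1576) (nat_lit 7153) (nat_lit 212) .nil)) (nat_lit 1579)
  (nat_lit 8977) (nat_lit 2151) (.node (.node .nil (nat_lit 1584) (nat_lit 6241) (nat_lit 825) .nil) (nat_lit
  1587) (nat_lit 10625) (nat_lit 2954) .nil))) (nat_lit 1593) (nat_lit 7424) (nat_lit 3309) (.node (.node
  (.node (.node .nil (nat_lit 1604) (nat_lit 5376) (nat_lit 3795) .nil) (nat_lit 1607) (nat_lit 7297) (nat_lit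
  1484) (.node .nil (nat_lit 1613) (nat_lit 12512) (nat_lit 1885) .nil)) (nat_lit 1614) (nat_lit 4112)
  (nat_lit 2405) (.node (.node .nil (nat_lit 1621) (nat_lit 897) (nat_lit 3711) .nil) (nat_lit 1628) (nat_lit
  6769) (nat_lit 3730) .nil)) (nat_lit 1631) (nat_lit 12160) (nat_lit 1157) (.node (.node (.node .nil (nat_lit
  1632) (nat_lit 1729) (nat_lit 3843) .nil) (nat_lit 1641) (nat_lit 13648) (nat_lit 4023) (.node .nil (nat_lit
  1642) (nat_lit 12080) (nat_lit 399) .nil)) (nat_lit 1649) (nat_lit 2880) (nat_lit 3033) (.node (.node .nil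
  (nat_lit 1650) (nat_lit 13168) (nat_lit 1505) .nil) (nat_lit 1656) (nat_lit 641) (nat_lit 3310) .nil))))
  (nat_lit 1659) (nat_lit 2080) (nat_lit 3183) (.node (.node (.node (.node (.node .nil (nat_lit 1668) (nat_lit
  33) (nat_lit 1265) .nil) (nat_lit 1671) (nat_lit 10177) (nat_lit 3138) (.node .nil (nat_lit 1677) (nat_lit
  10976) (nat_lit 2012) .nil)) (nat_lit 1678) (nat_lit 7200) (nat_lit 2532) (.node (.node .nil (nat_lit 1685)
  (nat_lit 8417) (nat_lit 2033) .nil) (nat_lit 1686) (nat_lit 11217) (nat_lit 3906) .nil)) (nat_lit 1692)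
  (nat_lit 3376) (nat_lit 2620) (.node (.node (.node .nil (nat_lit 1696) (nat_lit 12416) (nat_lit 1720) .nil)
  (nat_lit 1705) (nat_lit 3233) (nat_lit 1632) (.node .nil (nat_lit 1706) (nat_lit 5393) (nat_lit 3795) .nil))
  (nat_lit 1713) (nat_lit 4912) (nat_lit 2904) (.node (.node .nil (nat_lit 1714) (nat_lit 10592) (nat_lit
  1376) .nil) (nat_lit 1720) (nat_lit 9408) (nat_lit 726) .nil))) (nat_lit 1723) (nat_lit 624) (nat_lit 3310)
  (.node (.node (.node (.node .nil (nat_lit 1733) (nat_lit 416) (nat_lit 232) .nil) (nat_lit 1734) (nat_lit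
  1264) (nat_lit 3792) (.node .nil (nat_lit 1743) (nat_lit 4001) (nat_lit 917) .nil)) (nat_lit 1748) (nat_lit
  3057) (nat_lit 2251) (.node (.node .nil (nat_lit 1751) (nat_lit 13729) (nat_lit 120) .nil) (nat_lit 1757)
  (nat_lit 1488) (nat_lit 1158) .nil)) (nat_lit 1758) (nat_lit 9824) (nat_lit 2750) (.node (.node (.node .nil
  (nat_lit 1768) (nat_lit 4160) (nat_lit 396) .nil) (nat_lit 1776) (nat_lit 8640) (nat_lit 1506) (.node .nil
  (nat_lit 1785) (nat_lit 5073) (nat_lit 2650) .nil)) (nat_lit 1786) (nat_lit 12257) (nat_lit 745) (.node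
  (.node .nil (nat_lit 1796) (nat_lit 11024) (nat_lit 4030) .nil) (nat_lit 1799) (nat_lit 2672) (nat_lit 390)
  .nil))))) (nat_lit 1805) (nat_lit 9376) (nat_lit 1584) (.node (.node (.node (.node (.node (.node .nil
  (nat_lit 1813) (nat_lit 6689) (nat_lit 71) .nil) (nat_lit 1814) (nat_lit 2561) (nat_lit 2292) (.node .nil
  (nat_lit 1820) (nat_lit 13713) (nat_lit 170) .nil)) (nat_lit 1823) (nat_lit 4128) (nat_lit 1512) (.node
  (.node .nil (nat_lit 1824) (nat_lit 7344) (nat_lit 1876) .nil) (nat_lit 1827) (nat_lit 6369) (nat_lit 2440)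
  .nil)) (nat_lit 1833) (nat_lit 8112) (nat_lit 3802) (.node (.node (.node .nil (nat_lit 1834) (nat_lit 4016)
  (nat_lit 226) .nil) (nat_lit 1841) (nat_lit 4752) (nat_lit 2740) (.node .nil (nat_lit 1842) (nat_lit 4240)
  (nat_lit 1164) .nil)) (nat_lit 1848) (nat_lit 5872) (nat_lit 826) (.node (.node .nil (nat_lit 1851) (nat_lit
  8256) (nat_lit 3330) .nil) (nat_lit 1862) (nat_lit 13057) (nat_lit 1230) .nil))) (nat_lit 1868) (nat_lit
  6976) (nat_lit 2186) (.node (.node (.node (.node .nil (nat_lit 1871) (nat_lit 1025) (nat_lit 1059) .nil)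
  (nat_lit 1876) (nat_lit 4529) (nat_lit 3965) (.node .nil (nat_lit 1879) (nat_lit 13233) (nat_lit 1998)
  .nil)) (nat_lit 1885) (nat_lit 9553) (nat_lit 3984) (.node (.node .nil (nat_lit 1886) (nat_lit 9585)
  (nat_lit 1827) .nil) (nat_lit 1889) (nat_lit 1328) (nat_lit 2542) .nil)) (nat_lit 1890) (nat_lit 12496)
  (nat_lit 2006) (.node (.node (.node .nil (nat_lit 1899) (nat_lit 11648) (nat_lit 3672) .nil) (nat_lit 1904)
  (nat_lit 5905) (nat_lit 3329) (.node .nil (nat_lit 1907) (nat_lit 12449) (nat_lit 1458) .nil)) (nat_lit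
  1913) (nat_lit 1680) (nat_lit 3456) (.node (.node .nil (nat_lit 1914) (nat_lit 14241) (nat_lit 1375) .nil)
  (nat_lit 1925) (nat_lit 9280) (nat_lit 389) .nil)))) (nat_lit 1926) (nat_lit 8545) (nat_lit 3392) (.node
  (.node (.node (.node (.node .nil (nat_lit 1932) (nat_lit 8288) (nat_lit 2059) .nil) (nat_lit 1935) (nat_lit
  6401) (nat_lit 3501) (.node .nil (nat_lit 1943) (nat_lit 3408) (nat_lit 605) .nil)) (nat_lit 1949) (nat_lit
  11745) (nat_lit 1566) (.node (.node .nil (nat_lit 1950) (nat_lit 9329) (nat_lit 3757) .nil) (nat_lit 1953)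
  (nat_lit 7488) (nat_lit 2415) .nil)) (nat_lit 1954) (nat_lit 13249) (nat_lit 3900) (.node (.node (.node .nil
  (nat_lit 1960) (nat_lit 14017) (nat_lit 1890) .nil) (nat_lit 1963) (nat_lit 7808) (nat_lit 3801) (.node .nil
  (nat_lit 1971) (nat_lit 3633) (nat_lit 3132) .nil)) (nat_lit 1977) (nat_lit 5888) (nat_lit 3329) (.node
  (.node .nil (nat_lit 1978) (nat_lit 5265) (nat_lit 3281) .nil) (nat_lit 1988) (nat_lit 14304) (nat_lit 3903)
  .nil))) (nat_lit 1991) (nat_lit 13264) (nat_lit 263) (.node (.node (.node (.node .nil (nat_lit 1997)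
  (nat_lit 7840) (nat_lit 1713) .nil) (nat_lit 1998) (nat_lit 10528) (nat_lit 2185) (.node .nil (nat_lit 2005)
  (nat_lit 11633) (nat_lit 2505) .nil)) (nat_lit 2006) (nat_lit 9489) (nat_lit 378) (.node (.node .nil
  (nat_lit 2012) (nat_lit 7696) (nat_lit 2897) .nil) (nat_lit 2015) (nat_lit 2816) (nat_lit 1385) .nil))
  (nat_lit 2016) (nat_lit 4721) (nat_lit 2229) (.node (.node (.node .nil (nat_lit 2025) (nat_lit 11121)
  (nat_lit 2136) .nil) (nat_lit 2026) (nat_lit 6992) (nat_lit 99) (.node .nil (nat_lit 2033) (nat_lit 5328)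
  (nat_lit 2613) .nil)) (nat_lit 2034) (nat_lit 2864) (nat_lit 1037) (.node (.node .nil (nat_lit 2040)
  (nat_lit 4929) (nat_lit 2904) .nil) (nat_lit 2043) (nat_lit 10272) (nat_lit 3459) .nil))))))
def ts896_4 : T := (.node (.node (.node (.node (.node (.node (.node .nil (nat_lit 2067) (nat_lit 80) (nat_lit
  1668) .nil) (nat_lit 2073) (nat_lit 6225) (nat_lit 2443) (.node .nil (nat_lit 2074) (nat_lit 513) (nat_lit
  312) .nil)) (nat_lit 2085) (nat_lit 993) (nat_lit 2074) (.node (.node .nil (nat_lit 2086) (nat_lit 1584)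
  (nat_lit 910) .nil) (nat_lit 2092) (nat_lit 8721) (nat_lit 2295) .nil)) (nat_lit 2100) (nat_lit 7233)
  (nat_lit 2842) (.node (.node (.node .nil (nat_lit 2103) (nat_lit 9232) (nat_lit 3694) .nil) (nat_lit 2109)
  (nat_lit 8368) (nat_lit 2520) (.node .nil (nat_lit 2110) (nat_lit 7552) (nat_lit 2016) .nil)) (nat_lit 2115)
  (nat_lit 7072) (nat_lit 1502) (.node (.node .nil (nat_lit 2121) (nat_lit 3297) (nat_lit 1457) .nil) (nat_lit
  2122) (nat_lit 8273) (nat_lit 3330) .nil))) (nat_lit 2129) (nat_lit 1136) (nat_lit 1542) (.node (.node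
  (.node (.node .nil (nat_lit 2130) (nat_lit 10800) (nat_lit 2110) .nil) (nat_lit 2136) (nat_lit 7857)
  (nat_lit 1713) (.node .nil (nat_lit 2139) (nat_lit 5953) (nat_lit 3586) .nil)) (nat_lit 2148) (nat_lit 4208)
  (nat_lit 780) (.node (.node .nil (nat_lit 2151) (nat_lit 5840) (nat_lit 3380) .nil) (nat_lit 2157) (nat_lit
  2368) (nat_lit 2690) .nil)) (nat_lit 2158) (nat_lit 8336) (nat_lit 1210) (.node (.node (.node .nil (nat_lit
  2166) (nat_lit 7136) (nat_lit 212) .nil) (nat_lit 2172) (nat_lit 12609) (nat_lit 1229) (.node .nil (nat_lit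
  2175) (nat_lit 8800) (nat_lit 2394) .nil)) (nat_lit 2179) (nat_lit 12801) (nat_lit 1121) (.node (.node .nil
  (nat_lit 2185) (nat_lit 7265) (nat_lit 3135) .nil) (nat_lit 2186) (nat_lit 4257) (nat_lit 1164) .nil))))
  (nat_lit 2193) (nat_lit 12928) (nat_lit 1671) (.node (.node (.node (.node (.node .nil (nat_lit 2194)
  (nat_lit 2593) (nat_lit 1889) .nil) (nat_lit 2200) (nat_lit 12768) (nat_lit 3849) (.node .nil (nat_lit 2203)
  (nat_lit 11505) (nat_lit 1932) .nil)) (nat_lit 2212) (nat_lit 3617) (nat_lit 3758) (.node (.node .nil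
  (nat_lit 2215) (nat_lit 5969) (nat_lit 1565) .nil) (nat_lit 2221) (nat_lit 8433) (nat_lit 3651) .nil))
  (nat_lit 2222) (nat_lit 11841) (nat_lit 1776) (.node (.node (.node .nil (nat_lit 2229) (nat_lit 2721)
  (nat_lit 3502) .nil) (nat_lit 2230) (nat_lit 13441) (nat_lit 1309) (.node .nil (nat_lit 2239) (nat_lit 5664)
  (nat_lit 2523) .nil)) (nat_lit 2241) (nat_lit 8785) (nat_lit 1000) (.node (.node .nil (nat_lit 2242)
  (nat_lit 10576) (nat_lit 3045) .nil) (nat_lit 2248) (nat_lit 9920) (nat_lit 3155) .nil))) (nat_lit 2251)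
  (nat_lit 1633) (nat_lit 2998) (.node (.node (.node (.node .nil (nat_lit 2256) (nat_lit 433) (nat_lit 232)
  .nil) (nat_lit 2259) (nat_lit 9121) (nat_lit 2139) (.node .nil (nat_lit 2266) (nat_lit 10864) (nat_lit 3979)
  .nil)) (nat_lit 2277) (nat_lit 4737) (nat_lit 404) (.node (.node .nil (nat_lit 2278) (nat_lit 2304) (nat_lit
  783) .nil) (nat_lit 2284) (nat_lit 11536) (nat_lit 1209) .nil)) (nat_lit 2287) (nat_lit 7633) (nat_lit 2506)
  (.node (.node (.node .nil (nat_lit 2292) (nat_lit 1313) (nat_lit 660) .nil) (nat_lit 2295) (nat_lit 5649)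
  (nat_lit 2599) (.node .nil (nat_lit 2301) (nat_lit 2625) (nat_lit 633) .nil)) (nat_lit 2302) (nat_lit 2576)
  (nat_lit 1889) (.node (.node .nil (nat_lit 2307) (nat_lit 5585) (nat_lit 983) .nil) (nat_lit 2313) (nat_lit
  8097) (nat_lit 2953) .nil))))) (nat_lit 2314) (nat_lit 3824) (nat_lit 3389) (.node (.node (.node (.node
  (.node (.node .nil (nat_lit 2321) (nat_lit 6913) (nat_lit 2148) .nil) (nat_lit 2322) (nat_lit 11376)
  (nat_lit 2387) (.node .nil (nat_lit 2328) (nat_lit 10016) (nat_lit 3813) .nil)) (nat_lit 2331) (nat_lit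
  10960) (nat_lit 221) (.node (.node .nil (nat_lit 2340) (nat_lit 9776) (nat_lit 609) .nil) (nat_lit 2343)
  (nat_lit 10688) (nat_lit 3161) .nil)) (nat_lit 2349) (nat_lit 929) (nat_lit 2549) (.node (.node (.node .nil
  (nat_lit 2350) (nat_lit 4944) (nat_lit 1495) .nil) (nat_lit 2357) (nat_lit 3104) (nat_lit 3969) (.node .nil
  (nat_lit 2358) (nat_lit 8561) (nat_lit 683) .nil)) (nat_lit 2364) (nat_lit 7776) (nat_lit 1551) (.node
  (.node .nil (nat_lit 2367) (nat_lit 11665) (nat_lit 582) .nil) (nat_lit 2369) (nat_lit 3921) (nat_lit 1118)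
  .nil))) (nat_lit 2370) (nat_lit 3952) (nat_lit 2569) (.node (.node (.node (.node .nil (nat_lit 2376)
  (nat_lit 13104) (nat_lit 3519) .nil) (nat_lit 2384) (nat_lit 12545) (nat_lit 1886) (.node .nil (nat_lit
  2387) (nat_lit 8209) (nat_lit 4077) .nil)) (nat_lit 2393) (nat_lit 6113) (nat_lit 1971) (.node (.node .nil
  (nat_lit 2394) (nat_lit 5713) (nat_lit 3840) .nil) (nat_lit 2405) (nat_lit 2353) (nat_lit 1570) .nil))
  (nat_lit 2412) (nat_lit 4368) (nat_lit 1365) (.node (.node (.node .nil (nat_lit 2415) (nat_lit 4689)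
  (nat_lit 3708) .nil) (nat_lit 2420) (nat_lit 3873) (nat_lit 1314) (.node .nil (nat_lit 2423) (nat_lit 1712)
  (nat_lit 3843) .nil)) (nat_lit 2429) (nat_lit 4704) (nat_lit 2229) (.node (.node .nil (nat_lit 2430)
  (nat_lit 13089) (nat_lit 3452) .nil) (nat_lit 2433) (nat_lit 11825) (nat_lit 3536) .nil)))) (nat_lit 2434)
  (nat_lit 12193) (nat_lit 1379) (.node (.node (.node (.node (.node .nil (nat_lit 2440) (nat_lit 3841)
  (nat_lit 3389) .nil) (nat_lit 2443) (nat_lit 3712) (nat_lit 774) (.node .nil (nat_lit 2448) (nat_lit 1281)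
  (nat_lit 3792) .nil)) (nat_lit 2457) (nat_lit 3680) (nat_lit 222) (.node (.node .nil (nat_lit 2458) (nat_lit
  9760) (nat_lit 3814) .nil) (nat_lit 2469) (nat_lit 9168) (nat_lit 3162) .nil)) (nat_lit 2470) (nat_lit 6833)
  (nat_lit 1823) (.node (.node (.node .nil (nat_lit 2476) (nat_lit 9745) (nat_lit 3905) .nil) (nat_lit 2479)
  (nat_lit 4993) (nat_lit 2034) (.node .nil (nat_lit 2484) (nat_lit 1776) (nat_lit 442) .nil)) (nat_lit 2493)
  (nat_lit 10496) (nat_lit 2100) (.node (.node .nil (nat_lit 2494) (nat_lit 6016) (nat_lit 1548) .nil)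
  (nat_lit 2496) (nat_lit 1648) (nat_lit 2570) .nil))) (nat_lit 2499) (nat_lit 11936) (nat_lit 1074) (.node
  (.node (.node (.node .nil (nat_lit 2505) (nat_lit 8465) (nat_lit 519) .nil) (nat_lit 2506) (nat_lit 4769)
  (nat_lit 2740) (.node .nil (nat_lit 2513) (nat_lit 10240) (nat_lit 2026) .nil)) (nat_lit 2514) (nat_lit
  9265) (nat_lit 2393) (.node (.node .nil (nat_lit 2520) (nat_lit 5312) (nat_lit 3684) .nil) (nat_lit 2523)
  (nat_lit 3329) (nat_lit 2484) .nil)) (nat_lit 2532) (nat_lit 4400) (nat_lit 736) (.node (.node (.node .nil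
  (nat_lit 2535) (nat_lit 1953) (nat_lit 2085) .nil) (nat_lit 2542) (nat_lit 688) (nat_lit 1366) (.node .nil
  (nat_lit 2549) (nat_lit 465) (nat_lit 918) .nil)) (nat_lit 2550) (nat_lit 496) (nat_lit 312) (.node (.node
  .nil (nat_lit 2556) (nat_lit 9313) (nat_lit 891) .nil) (nat_lit 2559) (nat_lit 12273) (nat_lit 3016)
  .nil))))))
def ts896_5 : T := (.node (.node (.node (.node (.node (.node (.node .nil (nat_lit 2569) (nat_lit 2225)
  (nat_lit 2129) .nil) (nat_lit 2570) (nat_lit 848) (nat_lit 2256) (.node .nil (nat_lit 2577) (nat_lit 9680)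
  (nat_lit 646) .nil)) (nat_lit 2578) (nat_lit 2321) (nat_lit 783) (.node (.node .nil (nat_lit 2584) (nat_lit
  7713) (nat_lit 2897) .nil) (nat_lit 2587) (nat_lit 13601) (nat_lit 994) .nil)) (nat_lit 2596) (nat_lit 8065)
  (nat_lit 2752) (.node (.node (.node .nil (nat_lit 2599) (nat_lit 3312) (nat_lit 2484) .nil) (nat_lit 2605)
  (nat_lit 5936) (nat_lit 3586) (.node .nil (nat_lit 2606) (nat_lit 9345) (nat_lit 670) .nil)) (nat_lit 2613)
  (nat_lit 3089) (nat_lit 2496) (.node (.node .nil (nat_lit 2614) (nat_lit 12785) (nat_lit 371) .nil) (nat_lit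
  2620) (nat_lit 1825) (nat_lit 2349) .nil))) (nat_lit 2623) (nat_lit 5521) (nat_lit 414) (.node (.node (.node
  (.node .nil (nat_lit 2625) (nat_lit 11681) (nat_lit 1926) .nil) (nat_lit 2626) (nat_lit 12960) (nat_lit
  4068) (.node .nil (nat_lit 2632) (nat_lit 13376) (nat_lit 2130) .nil)) (nat_lit 2635) (nat_lit 945) (nat_lit
  4056) (.node (.node .nil (nat_lit 2640) (nat_lit 1505) (nat_lit 1158) .nil) (nat_lit 2649) (nat_lit 12432)
  (nat_lit 1458) .nil)) (nat_lit 2650) (nat_lit 2913) (nat_lit 3288) (.node (.node (.node .nil (nat_lit 2661)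
  (nat_lit 11696) (nat_lit 2358) .nil) (nat_lit 2668) (nat_lit 1904) (nat_lit 184) (.node .nil (nat_lit 2671)
  (nat_lit 13776) (nat_lit 3712) .nil)) (nat_lit 2676) (nat_lit 9504) (nat_lit 1238) (.node (.node .nil
  (nat_lit 2679) (nat_lit 6720) (nat_lit 2798) .nil) (nat_lit 2685) (nat_lit 1889) (nat_lit 1559) .nil))))
  (nat_lit 2686) (nat_lit 9633) (nat_lit 3748) (.node (.node (.node (.node (.node .nil (nat_lit 2689) (nat_lit
  13760) (nat_lit 349) .nil) (nat_lit 2690) (nat_lit 1217) (nat_lit 1723) (.node .nil (nat_lit 2696) (nat_lit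
  10033) (nat_lit 3813) .nil)) (nat_lit 2704) (nat_lit 3969) (nat_lit 3336) (.node (.node .nil (nat_lit 2707)
  (nat_lit 6288) (nat_lit 645) .nil) (nat_lit 2713) (nat_lit 6673) (nat_lit 3557) .nil)) (nat_lit 2714)
  (nat_lit 705) (nat_lit 1366) (.node (.node (.node .nil (nat_lit 2726) (nat_lit 8225) (nat_lit 1223) .nil)
  (nat_lit 2732) (nat_lit 11777) (nat_lit 3225) (.node .nil (nat_lit 2735) (nat_lit 12289) (nat_lit 1066)
  .nil)) (nat_lit 2740) (nat_lit 2752) (nat_lit 1111) (.node (.node .nil (nat_lit 2743) (nat_lit 14177)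
  (nat_lit 1991) .nil) (nat_lit 2749) (nat_lit 6049) (nat_lit 3993) .nil))) (nat_lit 2750) (nat_lit 6641)
  (nat_lit 1834) (.node (.node (.node (.node .nil (nat_lit 2752) (nat_lit 5088) (nat_lit 4071) .nil) (nat_lit
  2755) (nat_lit 13889) (nat_lit 2433) (.node .nil (nat_lit 2761) (nat_lit 14129) (nat_lit 479) .nil))
  (nat_lit 2762) (nat_lit 2208) (nat_lit 2129) (.node (.node .nil (nat_lit 2769) (nat_lit 6465) (nat_lit 562)
  .nil) (nat_lit 2770) (nat_lit 7248) (nat_lit 3135) .nil)) (nat_lit 2776) (nat_lit 8080) (nat_lit 2953)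
  (.node (.node (.node .nil (nat_lit 2779) (nat_lit 3280) (nat_lit 1457) .nil) (nat_lit 2788) (nat_lit 7473)
  (nat_lit 846) (.node .nil (nat_lit 2791) (nat_lit 5360) (nat_lit 2357) .nil)) (nat_lit 2797) (nat_lit 5777)
  (nat_lit 931) (.node (.node .nil (nat_lit 2798) (nat_lit 4080) (nat_lit 187) .nil) (nat_lit 2805) (nat_lit
  8880) (nat_lit 2797) .nil))))) (nat_lit 2806) (nat_lit 4561) (nat_lit 2301) (.node (.node (.node (.node
  (.node (.node .nil (nat_lit 2812) (nat_lit 10481) (nat_lit 163) .nil) (nat_lit 2817) (nat_lit 6848) (nat_lit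
  177) (.node .nil (nat_lit 2818) (nat_lit 3552) (nat_lit 3721) .nil)) (nat_lit 2824) (nat_lit 11393) (nat_lit
  2387) (.node (.node .nil (nat_lit 2827) (nat_lit 4624) (nat_lit 1799) .nil) (nat_lit 2832) (nat_lit 9841)
  (nat_lit 2750) .nil)) (nat_lit 2835) (nat_lit 12913) (nat_lit 525) (.node (.node (.node .nil (nat_lit 2842)
  (nat_lit 4417) (nat_lit 736) .nil) (nat_lit 2853) (nat_lit 9104) (nat_lit 2139) (.node .nil (nat_lit 2860)
  (nat_lit 368) (nat_lit 469) .nil)) (nat_lit 2863) (nat_lit 8192) (nat_lit 4077) (.node (.node .nil (nat_lit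
  2868) (nat_lit 8176) (nat_lit 1467) .nil) (nat_lit 2871) (nat_lit 5057) (nat_lit 113) .nil))) (nat_lit 2878)
  (nat_lit 12896) (nat_lit 525) (.node (.node (.node (.node .nil (nat_lit 2880) (nat_lit 97) (nat_lit 1668)
  .nil) (nat_lit 2883) (nat_lit 14033) (nat_lit 3639) (.node .nil (nat_lit 2889) (nat_lit 12320) (nat_lit
  1925) .nil)) (nat_lit 2890) (nat_lit 8129) (nat_lit 3802) (.node (.node .nil (nat_lit 2897) (nat_lit 4833)
  (nat_lit 1412) .nil) (nat_lit 2898) (nat_lit 13025) (nat_lit 3383) .nil)) (nat_lit 2904) (nat_lit 2833)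
  (nat_lit 1385) (.node (.node (.node .nil (nat_lit 2907) (nat_lit 12880) (nat_lit 1117) .nil) (nat_lit 2925)
  (nat_lit 9249) (nat_lit 1045) (.node .nil (nat_lit 2933) (nat_lit 7873) (nat_lit 2040) .nil)) (nat_lit 2940)
  (nat_lit 9905) (nat_lit 1813) (.node (.node .nil (nat_lit 2943) (nat_lit 13200) (nat_lit 3255) .nil)
  (nat_lit 2944) (nat_lit 3888) (nat_lit 3722) .nil)))) (nat_lit 2947) (nat_lit 9041) (nat_lit 1977) (.node
  (.node (.node (.node (.node .nil (nat_lit 2953) (nat_lit 5105) (nat_lit 4071) .nil) (nat_lit 2954) (nat_lit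
  7361) (nat_lit 1876) (.node .nil (nat_lit 2961) (nat_lit 129) (nat_lit 3082) .nil)) (nat_lit 2962) (nat_lit
  10048) (nat_lit 3410) (.node (.node .nil (nat_lit 2968) (nat_lit 10321) (nat_lit 3303) .nil) (nat_lit 2971)
  (nat_lit 13681) (nat_lit 1108) .nil)) (nat_lit 2980) (nat_lit 3216) (nat_lit 1632) (.node (.node (.node .nil
  (nat_lit 2983) (nat_lit 401) (nat_lit 1477) .nil) (nat_lit 2989) (nat_lit 2993) (nat_lit 3483) (.node .nil
  (nat_lit 2990) (nat_lit 6945) (nat_lit 1320) .nil)) (nat_lit 2997) (nat_lit 6432) (nat_lit 2944) (.node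
  (.node .nil (nat_lit 2998) (nat_lit 833) (nat_lit 1733) .nil) (nat_lit 3004) (nat_lit 13408) (nat_lit 526)
  .nil))) (nat_lit 3007) (nat_lit 1456) (nat_lit 3126) (.node (.node (.node (.node .nil (nat_lit 3010)
  (nat_lit 13824) (nat_lit 3592) .nil) (nat_lit 3016) (nat_lit 9200) (nat_lit 2494) (.node .nil (nat_lit 3019)
  (nat_lit 11569) (nat_lit 2158) .nil)) (nat_lit 3024) (nat_lit 11808) (nat_lit 3536) (.node (.node .nil
  (nat_lit 3027) (nat_lit 8768) (nat_lit 1000) .nil) (nat_lit 3033) (nat_lit 1537) (nat_lit 989) .nil))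
  (nat_lit 3045) (nat_lit 7313) (nat_lit 588) (.node (.node (.node .nil (nat_lit 3052) (nat_lit 10001)
  (nat_lit 673) .nil) (nat_lit 3055) (nat_lit 4065) (nat_lit 2578) (.node .nil (nat_lit 3060) (nat_lit 11904)
  (nat_lit 1338) .nil)) (nat_lit 3063) (nat_lit 5984) (nat_lit 2818) (.node (.node .nil (nat_lit 3069)
  (nat_lit 8865) (nat_lit 417) .nil) (nat_lit 3070) (nat_lit 9792) (nat_lit 652) .nil))))))
def ts896_6 : T := (.node (.node (.node (.node (.node (.node (.node .nil (nat_lit 3081) (nat_lit 10881)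
  (nat_lit 3979) .nil) (nat_lit 3082) (nat_lit 48) (nat_lit 540) (.node .nil (nat_lit 3089) (nat_lit 11472)
  (nat_lit 2122) .nil)) (nat_lit 3090) (nat_lit 10193) (nat_lit 1237) (.node (.node .nil (nat_lit 3096)
  (nat_lit 6881) (nat_lit 3211) .nil) (nat_lit 3099) (nat_lit 7664) (nat_lit 4092) .nil)) (nat_lit 3108)
  (nat_lit 8528) (nat_lit 3392) (.node (.node (.node .nil (nat_lit 3111) (nat_lit 6320) (nat_lit 888) .nil)
  (nat_lit 3117) (nat_lit 13040) (nat_lit 1230) (.node .nil (nat_lit 3118) (nat_lit 7376) (nat_lit 2806)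
  .nil)) (nat_lit 3126) (nat_lit 752) (nat_lit 3736) (.node (.node .nil (nat_lit 3132) (nat_lit 1985) (nat_lit
  3831) .nil) (nat_lit 3135) (nat_lit 4432) (nat_lit 1814) .nil))) (nat_lit 3137) (nat_lit 7985) (nat_lit 92)
  (.node (.node (.node (.node .nil (nat_lit 3138) (nat_lit 6928) (nat_lit 1320) .nil) (nat_lit 3144) (nat_lit
  6865) (nat_lit 177) (.node .nil (nat_lit 3152) (nat_lit 9729) (nat_lit 860) .nil)) (nat_lit 3155) (nat_lit
  6705) (nat_lit 3055) (.node (.node .nil (nat_lit 3161) (nat_lit 7409) (nat_lit 945) .nil) (nat_lit 3162)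
  (nat_lit 6001) (nat_lit 2818) .nil)) (nat_lit 3174) (nat_lit 9473) (nat_lit 2707) (.node (.node (.node .nil
  (nat_lit 3180) (nat_lit 4289) (nat_lit 717) .nil) (nat_lit 3183) (nat_lit 1072) (nat_lit 1100) (.node .nil
  (nat_lit 3198) (nat_lit 12640) (nat_lit 2476) .nil)) (nat_lit 3201) (nat_lit 272) (nat_lit 2961) (.node
  (.node .nil (nat_lit 3202) (nat_lit 8672) (nat_lit 1449) .nil) (nat_lit 3208) (nat_lit 13520) (nat_lit 543)
  .nil)))) (nat_lit 3211) (nat_lit 4177) (nat_lit 396) (.node (.node (.node (.node (.node .nil (nat_lit 3216)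
  (nat_lit 5008) (nat_lit 1649) .nil) (nat_lit 3219) (nat_lit 5616) (nat_lit 2121) (.node .nil (nat_lit 3225)
  (nat_lit 8593) (nat_lit 2623) .nil)) (nat_lit 3226) (nat_lit 9809) (nat_lit 652) (.node (.node .nil (nat_lit
  3237) (nat_lit 9296) (nat_lit 891) .nil) (nat_lit 3244) (nat_lit 12064) (nat_lit 2805) .nil)) (nat_lit 3247)
  (nat_lit 10929) (nat_lit 1008) (.node (.node (.node .nil (nat_lit 3252) (nat_lit 13905) (nat_lit 2222) .nil)
  (nat_lit 3255) (nat_lit 10464) (nat_lit 163) (.node .nil (nat_lit 3261) (nat_lit 9888) (nat_lit 1813) .nil))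
  (nat_lit 3262) (nat_lit 1808) (nat_lit 2349) (.node (.node .nil (nat_lit 3264) (nat_lit 4848) (nat_lit 1323)
  .nil) (nat_lit 3267) (nat_lit 11585) (nat_lit 3675) .nil))) (nat_lit 3273) (nat_lit 12352) (nat_lit 3237)
  (.node (.node (.node (.node .nil (nat_lit 3274) (nat_lit 144) (nat_lit 669) .nil) (nat_lit 3281) (nat_lit
  3040) (nat_lit 2251) (.node .nil (nat_lit 3288) (nat_lit 1552) (nat_lit 325) .nil)) (nat_lit 3291) (nat_lit
  4512) (nat_lit 3965) (.node (.node .nil (nat_lit 3300) (nat_lit 7761) (nat_lit 1172) .nil) (nat_lit 3303)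
  (nat_lit 7040) (nat_lit 1017) .nil)) (nat_lit 3309) (nat_lit 4609) (nat_lit 1145) (.node (.node (.node .nil
  (nat_lit 3310) (nat_lit 321) (nat_lit 3274) .nil) (nat_lit 3318) (nat_lit 1168) (nat_lit 3609) (.node .nil
  (nat_lit 3324) (nat_lit 3153) (nat_lit 1913) .nil)) (nat_lit 3327) (nat_lit 5792) (nat_lit 1943) (.node
  (.node .nil (nat_lit 3329) (nat_lit 3488) (nat_lit 2685) .nil) (nat_lit 3330) (nat_lit 5216) (nat_lit 1093)
  .nil))))) (nat_lit 3336) (nat_lit 2240) (nat_lit 1011) (.node (.node (.node (.node (.node (.node .nil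
  (nat_lit 3344) (nat_lit 13840) (nat_lit 1949) .nil) (nat_lit 3347) (nat_lit 4961) (nat_lit 1495) (.node .nil
  (nat_lit 3353) (nat_lit 10737) (nat_lit 3465) .nil)) (nat_lit 3354) (nat_lit 11921) (nat_lit 1338) (.node
  (.node .nil (nat_lit 3365) (nat_lit 10129) (nat_lit 3096) .nil) (nat_lit 3366) (nat_lit 13504) (nat_lit
  3247) .nil)) (nat_lit 3375) (nat_lit 7281) (nat_lit 1094) (.node (.node (.node .nil (nat_lit 3380) (nat_lit
  3440) (nat_lit 3959) .nil) (nat_lit 3383) (nat_lit 10336) (nat_lit 335) (.node .nil (nat_lit 3389) (nat_lit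
  2129) (nat_lit 4085) .nil)) (nat_lit 3390) (nat_lit 11952) (nat_lit 2241) (.node (.node .nil (nat_lit 3392)
  (nat_lit 5489) (nat_lit 350) .nil) (nat_lit 3409) (nat_lit 13280) (nat_lit 2343) .nil))) (nat_lit 3410)
  (nat_lit 6816) (nat_lit 1823) (.node (.node (.node (.node .nil (nat_lit 3416) (nat_lit 3344) (nat_lit 169)
  .nil) (nat_lit 3428) (nat_lit 14049) (nat_lit 802) (.node .nil (nat_lit 3431) (nat_lit 289) (nat_lit 2961)
  .nil)) (nat_lit 3437) (nat_lit 8945) (nat_lit 975) (.node (.node .nil (nat_lit 3438) (nat_lit 12753)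
  (nat_lit 2940) .nil) (nat_lit 3446) (nat_lit 2112) (nat_lit 4085) .nil)) (nat_lit 3452) (nat_lit 10368)
  (nat_lit 2115) (.node (.node (.node .nil (nat_lit 3455) (nat_lit 3760) (nat_lit 1659) .nil) (nat_lit 3456)
  (nat_lit 865) (nat_lit 2256) (.node .nil (nat_lit 3459) (nat_lit 7009) (nat_lit 99) .nil)) (nat_lit 3465)
  (nat_lit 7440) (nat_lit 3528) (.node (.node .nil (nat_lit 3466) (nat_lit 10912) (nat_lit 1008) .nil)
  (nat_lit 3473) (nat_lit 10064) (nat_lit 2470) .nil)))) (nat_lit 3474) (nat_lit 12384) (nat_lit 1950) (.node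
  (.node (.node (.node (.node .nil (nat_lit 3483) (nat_lit 1601) (nat_lit 910) .nil) (nat_lit 3492) (nat_lit
  13857) (nat_lit 2732) (.node .nil (nat_lit 3495) (nat_lit 1296) (nat_lit 660) .nil)) (nat_lit 3501) (nat_lit
  3856) (nat_lit 1314) (.node (.node .nil (nat_lit 3502) (nat_lit 1409) (nat_lit 754) .nil) (nat_lit 3509)
  (nat_lit 12657) (nat_lit 2476) .nil)) (nat_lit 3510) (nat_lit 3729) (nat_lit 287) (.node (.node (.node .nil
  (nat_lit 3516) (nat_lit 6481) (nat_lit 2369) .nil) (nat_lit 3519) (nat_lit 10401) (nat_lit 498) (.node .nil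
  (nat_lit 3521) (nat_lit 10257) (nat_lit 2026) .nil)) (nat_lit 3522) (nat_lit 12481) (nat_lit 3929) (.node
  (.node .nil (nat_lit 3528) (nat_lit 4641) (nat_lit 1799) .nil) (nat_lit 3536) (nat_lit 8625) (nat_lit 1258)
  .nil))) (nat_lit 3539) (nat_lit 10705) (nat_lit 3161) (.node (.node (.node (.node .nil (nat_lit 3545)
  (nat_lit 6752) (nat_lit 3730) .nil) (nat_lit 3546) (nat_lit 13696) (nat_lit 170) (.node .nil (nat_lit 3557)
  (nat_lit 4032) (nat_lit 534) .nil)) (nat_lit 3558) (nat_lit 10640) (nat_lit 3118) (.node (.node .nil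
  (nat_lit 3564) (nat_lit 13008) (nat_lit 2968) .nil) (nat_lit 3567) (nat_lit 7168) (nat_lit 1440) .nil))
  (nat_lit 3572) (nat_lit 12096) (nat_lit 4086) (.node (.node (.node .nil (nat_lit 3575) (nat_lit 13936)
  (nat_lit 462) .nil) (nat_lit 3581) (nat_lit 1232) (nat_lit 1656) (.node .nil (nat_lit 3585) (nat_lit 9536)
  (nat_lit 3984) .nil)) (nat_lit 3586) (nat_lit 3520) (nat_lit 424) (.node (.node .nil (nat_lit 3592) (nat_lit
  11728) (nat_lit 1566) .nil) (nat_lit 3595) (nat_lit 2960) (nat_lit 2086) .nil))))))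
def ts896_7 : T := (.node (.node (.node (.node (.node (.node (.node .nil (nat_lit 3603) (nat_lit 7793)
  (nat_lit 1551) .nil) (nat_lit 3609) (nat_lit 609) (nat_lit 3665) (.node .nil (nat_lit 3621) (nat_lit 14321)
  (nat_lit 4032) .nil)) (nat_lit 3622) (nat_lit 6512) (nat_lit 2370) (.node (.node .nil (nat_lit 3628)
  (nat_lit 7457) (nat_lit 3885) .nil) (nat_lit 3631) (nat_lit 8496) (nat_lit 204) .nil)) (nat_lit 3636)
  (nat_lit 1360) (nat_lit 2714) (.node (.node (.node .nil (nat_lit 3639) (nat_lit 12593) (nat_lit 1139) .nil)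
  (nat_lit 3645) (nat_lit 8144) (nat_lit 788) (.node .nil (nat_lit 3648) (nat_lit 3936) (nat_lit 298) .nil))
  (nat_lit 3651) (nat_lit 5345) (nat_lit 2613) (.node (.node .nil (nat_lit 3657) (nat_lit 5825) (nat_lit 619)
  .nil) (nat_lit 3658) (nat_lit 5728) (nat_lit 1692) .nil))) (nat_lit 3665) (nat_lit 304) (nat_lit 3274)
  (.node (.node (.node (.node .nil (nat_lit 3666) (nat_lit 1392) (nat_lit 754) .nil) (nat_lit 3672) (nat_lit
  8480) (nat_lit 1348) (.node .nil (nat_lit 3675) (nat_lit 8385) (nat_lit 2520) .nil)) (nat_lit 3684) (nat_lit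
  3072) (nat_lit 2496) (.node (.node .nil (nat_lit 3687) (nat_lit 5633) (nat_lit 2121) .nil) (nat_lit 3693)
  (nat_lit 10785) (nat_lit 23) .nil)) (nat_lit 3694) (nat_lit 6081) (nat_lit 2212) (.node (.node (.node .nil
  (nat_lit 3702) (nat_lit 11008) (nat_lit 2584) .nil) (nat_lit 3708) (nat_lit 2704) (nat_lit 3502) (.node .nil
  (nat_lit 3711) (nat_lit 448) (nat_lit 918) .nil)) (nat_lit 3712) (nat_lit 11520) (nat_lit 427) (.node (.node
  .nil (nat_lit 3715) (nat_lit 12113) (nat_lit 955) .nil) (nat_lit 3721) (nat_lit 1936) (nat_lit 2085)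
  .nil)))) (nat_lit 3722) (nat_lit 2161) (nat_lit 854) (.node (.node (.node (.node (.node .nil (nat_lit 3730)
  (nat_lit 4097) (nat_lit 187) .nil) (nat_lit 3736) (nat_lit 384) (nat_lit 1477) (.node .nil (nat_lit 3739)
  (nat_lit 12048) (nat_lit 3069) .nil)) (nat_lit 3748) (nat_lit 6417) (nat_lit 2420) (.node (.node .nil
  (nat_lit 3751) (nat_lit 3136) (nat_lit 1913) .nil) (nat_lit 3757) (nat_lit 6193) (nat_lit 2457) .nil))
  (nat_lit 3758) (nat_lit 1968) (nat_lit 3831) (.node (.node (.node .nil (nat_lit 3765) (nat_lit 4784)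
  (nat_lit 1185) .nil) (nat_lit 3766) (nat_lit 2433) (nat_lit 711) (.node .nil (nat_lit 3772) (nat_lit 9873)
  (nat_lit 2713) .nil)) (nat_lit 3775) (nat_lit 1121) (nat_lit 554) (.node (.node .nil (nat_lit 3777) (nat_lit
  4336) (nat_lit 3857) .nil) (nat_lit 3778) (nat_lit 545) (nat_lit 3201) .nil))) (nat_lit 3787) (nat_lit 7025)
  (nat_lit 3180) (.node (.node (.node (.node .nil (nat_lit 3792) (nat_lit 656) (nat_lit 753) .nil) (nat_lit
  3795) (nat_lit 3121) (nat_lit 3969) (.node .nil (nat_lit 3801) (nat_lit 4897) (nat_lit 2015) .nil)) (nat_lit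
  3802) (nat_lit 5120) (nat_lit 1351) (.node (.node .nil (nat_lit 3813) (nat_lit 6801) (nat_lit 1614) .nil)
  (nat_lit 3814) (nat_lit 6593) (nat_lit 3837) .nil)) (nat_lit 3823) (nat_lit 13921) (nat_lit 3600) (.node
  (.node (.node .nil (nat_lit 3828) (nat_lit 11249) (nat_lit 1358) .nil) (nat_lit 3831) (nat_lit 1008)
  (nat_lit 1059) (.node .nil (nat_lit 3837) (nat_lit 3984) (nat_lit 917) .nil)) (nat_lit 3838) (nat_lit 6384)
  (nat_lit 3501) (.node (.node .nil (nat_lit 3840) (nat_lit 3361) (nat_lit 3262) .nil) (nat_lit 3843) (nat_lit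
  880) (nat_lit 3711) .nil))))) (nat_lit 3849) (nat_lit 9937) (nat_lit 3155) (.node (.node (.node (.node
  (.node (.node .nil (nat_lit 3850) (nat_lit 8400) (nat_lit 2033) .nil) (nat_lit 3857) (nat_lit 2512) (nat_lit
  3495) (.node .nil (nat_lit 3858) (nat_lit 8240) (nat_lit 927) .nil)) (nat_lit 3864) (nat_lit 11184) (nat_lit
  1065) (.node (.node .nil (nat_lit 3867) (nat_lit 7569) (nat_lit 2016) .nil) (nat_lit 3876) (nat_lit 1057)
  (nat_lit 3778) .nil)) (nat_lit 3879) (nat_lit 5025) (nat_lit 1649) (.node (.node (.node .nil (nat_lit 3885)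
  (nat_lit 4656) (nat_lit 291) .nil) (nat_lit 3886) (nat_lit 5745) (nat_lit 1692) (.node .nil (nat_lit 3893)
  (nat_lit 11984) (nat_lit 1357) .nil)) (nat_lit 3894) (nat_lit 4577) (nat_lit 1393) (.node (.node .nil
  (nat_lit 3900) (nat_lit 10545) (nat_lit 3375) .nil) (nat_lit 3903) (nat_lit 13985) (nat_lit 1436) .nil)))
  (nat_lit 3905) (nat_lit 6576) (nat_lit 3837) (.node (.node (.node (.node .nil (nat_lit 3906) (nat_lit 8017)
  (nat_lit 2871) .nil) (nat_lit 3912) (nat_lit 14000) (nat_lit 1907) (.node .nil (nat_lit 3923) (nat_lit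
  12305) (nat_lit 2103) .nil)) (nat_lit 3929) (nat_lit 9456) (nat_lit 2707) (.node (.node .nil (nat_lit 3930)
  (nat_lit 13457) (nat_lit 2266) .nil) (nat_lit 3941) (nat_lit 1872) (nat_lit 1559) .nil)) (nat_lit 3948)
  (nat_lit 6032) (nat_lit 3993) (.node (.node (.node .nil (nat_lit 3951) (nat_lit 8848) (nat_lit 417) .nil)
  (nat_lit 3956) (nat_lit 9152) (nat_lit 3063) (.node .nil (nat_lit 3959) (nat_lit 1857) (nat_lit 2635) .nil))
  (nat_lit 3965) (nat_lit 2608) (nat_lit 633) (.node (.node .nil (nat_lit 3966) (nat_lit 11168) (nat_lit 3137)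
  .nil) (nat_lit 3969) (nat_lit 1665) (nat_lit 2570) .nil)))) (nat_lit 3976) (nat_lit 4976) (nat_lit 2034)
  (.node (.node (.node (.node (.node .nil (nat_lit 3979) (nat_lit 7616) (nat_lit 2506) .nil) (nat_lit 3984)
  (nat_lit 6353) (nat_lit 2314) (.node .nil (nat_lit 3987) (nat_lit 13569) (nat_lit 441) .nil)) (nat_lit 3993)
  (nat_lit 3585) (nat_lit 2535) (.node (.node .nil (nat_lit 3994) (nat_lit 12225) (nat_lit 340) .nil) (nat_lit
  4005) (nat_lit 10433) (nat_lit 2166) .nil)) (nat_lit 4006) (nat_lit 13665) (nat_lit 197) (.node (.node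
  (.node .nil (nat_lit 4012) (nat_lit 13616) (nat_lit 3864) .nil) (nat_lit 4023) (nat_lit 11232) (nat_lit
  1358) (.node .nil (nat_lit 4029) (nat_lit 14064) (nat_lit 760) .nil)) (nat_lit 4030) (nat_lit 7728) (nat_lit
  3264) (.node (.node .nil (nat_lit 4032) (nat_lit 14224) (nat_lit 198) .nil) (nat_lit 4035) (nat_lit 9600)
  (nat_lit 3838) .nil))) (nat_lit 4041) (nat_lit 13537) (nat_lit 1501) (.node (.node (.node (.node .nil
  (nat_lit 4042) (nat_lit 9056) (nat_lit 1904) .nil) (nat_lit 4049) (nat_lit 9393) (nat_lit 1584) (.node .nil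
  (nat_lit 4050) (nat_lit 13953) (nat_lit 3715) .nil)) (nat_lit 4056) (nat_lit 480) (nat_lit 1192) (.node
  (.node .nil (nat_lit 4059) (nat_lit 6544) (nat_lit 2704) .nil) (nat_lit 4068) (nat_lit 10225) (nat_lit 1868)
  .nil)) (nat_lit 4071) (nat_lit 2928) (nat_lit 1556) (.node (.node (.node .nil (nat_lit 4077) (nat_lit 5168)
  (nat_lit 418) .nil) (nat_lit 4078) (nat_lit 11425) (nat_lit 3858) (.node .nil (nat_lit 4085) (nat_lit 1089)
  (nat_lit 1100) .nil)) (nat_lit 4086) (nat_lit 8913) (nat_lit 3327) (.node (.node .nil (nat_lit 4092)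
  (nat_lit 4801) (nat_lit 1185) .nil) (nat_lit 4095) (nat_lit 12945) (nat_lit 3090) .nil))))))
def ts896 : T := (.node (.node (.node ts896_0 (nat_lit 534) (nat_lit 2289) (nat_lit 3318) ts896_1) (nat_lit
  1031) (nat_lit 11889) (nat_lit 2092) (.node ts896_2 (nat_lit 1541) (nat_lit 13216) (nat_lit 105) ts896_3))
  (nat_lit 2059) (nat_lit 5248) (nat_lit 746) (.node (.node ts896_4 (nat_lit 2563) (nat_lit 5472) (nat_lit
  350) ts896_5) (nat_lit 3075) (nat_lit 12832) (nat_lit 2962) (.node ts896_6 (nat_lit 3600) (nat_lit 11856)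
  (nat_lit 624) ts896_7)))
theorem ts896_chk : band (orbChk apS (gensOf cO) 1265 (4096) ts896) (Nat.beq ts896.size 896) = true := by
  decide +kernel
theorem ts896_card : (orbit (stabilizer M24 O0) (sext (unmask 8929281))).ncard = 896 :=
  orbit_ncard_of_chk acX (sext_rep (t := 8929281) (k := 1265) (by decide +kernel)).1 cO_chk stab_O0 (sext_rep (t := 8929281) (k := 1265) (by decide +kernel)).2 ts896_chk


/-- The stabiliser of an octad in the group of the length-24 code has exactly three orbits on the 3795 trios, of sizes 15, 420 and 3360, and exactly three orbits on the 1771 sextets, of sizes 35, 840 and 896. -/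
theorem result (o : Finset Cfsg.GolayPt) (ho : o ∈ Cfsg.octads) : (∃ X₁ ∈ Cfsg.trios, ∃ X₂ ∈ Cfsg.trios, ∃ X₃ ∈ Cfsg.trios, (MulAction.orbit ↥(MulAction.stabilizer Cfsg.M24 o) X₁).ncard = 15 ∧ (MulAction.orbit ↥(MulAction.stabilizer Cfsg.M24 o) X₂).ncard = 420 ∧ (MulAction.orbit ↥(MulAction.stabilizer Cfsg.M24 o) X₃).ncard = 3360 ∧ Cfsg.trios = MulAction.orbit ↥(MulAction.stabilizer Cfsg.M24 o) X₁ ∪ MulAction.orbit ↥(MulAction.stabilizer Cfsg.M24 o) X₂ ∪ MulAction.orbit ↥(MulAction.stabilizer Cfsg.M24 o) X₃) ∧ (∃ Y₁ ∈ Cfsg.sextets, ∃ Y₂ ∈ Cfsg.sextets, ∃ Y₃ ∈ Cfsg.sextets, (MulAction.orbit ↥(MulAction.stabilizer Cfsg.M24 o) Y₁).ncard = 35 ∧ (MulAction.orbit ↥(MulAction.stabilizer Cfsg.M24 o) Y₂).ncard = 840 ∧ (MulAction.orbit ↥(MulAction.stabilizer Cfsg.M24 o) Y₃).ncard = 896 ∧ Cfsg.sextets = MulAction.orbit ↥(MulAction.stabilizer Cfsg.M24 o) Y₁ ∪ MulAction.orbit ↥(MulAction.stabilizer Cfsg.M24 o) Y₂ ∪ MulAction.orbit ↥(MulAction.stabilizer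 Cfsg.M24 o) Y₃) := by
  obtain ⟨g, rfl⟩ := exists_smul_O0 ho
  exact ⟨(three_orbits (fun (g : M24) _ hy => trio_smul hy g.2) (Set.toFinite _)
      (trio_rep (a := 1351424) (b := 8536111) (k := 143212179398400) (by decide +kernel)).1 (trio_rep (a := 2702848) (b := 8683614) (k := 145686870441472) (by decide +kernel)).1 (trio_rep (a := 3351624) (b := 8966165) (k := 150427290248264) (by decide +kernel)).1
      tt15_card tt420_card tt3360_card (by decide) (by rw [ncard_trios]) g),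
    (three_orbits (fun (g : M24) _ hy => sextet_smul hy g.2) (Set.toFinite _)
      (sext_rep (t := 8388615) (k := 3489) (by decide +kernel)).1 (sext_rep (t := 573441) (k := 3321) (by decide +kernel)).1 (sext_rep (t := 8929281) (k := 1265) (by decide +kernel)).1
      ts35_card ts840_card ts896_card (by decide) (by rw [ncard_sextets]) g)⟩

end Cfsg.Agent.S5610
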