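import Cfsg.Statements.S5611
import Cfsg.Agent.M24.Reps

set_option autoImplicit false
open scoped Pointwise
open Cfsg

namespace Cfsg.Agent.S5611

open Cfsg.Agent.M24 Finset MulAction
open scoped symmDiff Pointwise

def to15 : T := (.node (.node (.node (.node .nil (nat_lit 416040) (nat_lit 0) (nat_lit 416040) .nil) (nat_lit
  0x12c628) (nat_lit 16) (nat_lit 416040) (.node .nil (nat_lit 0x149f00) (nat_lit 224) (nat_lit 0x82402f)
  .nil)) (nat_lit 0x2a40e8) (nat_lit 144) (nat_lit 0x453910) (.node (.node .nil (nat_lit 0x2c19c0) (nat_lit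
  97) (nat_lit 0x908607) .nil) (nat_lit 0x3886c0) (nat_lit 129) (nat_lit 0x841907) (.node .nil (nat_lit
  0x436038) (nat_lit 193) (nat_lit 0x6920d0) .nil))) (nat_lit 0x453910) (nat_lit 80) (nat_lit 0x908607) (.node
  (.node (.node .nil (nat_lit 0x51a610) (nat_lit 48) (nat_lit 0x12c628) .nil) (nat_lit 0x6920d0) (nat_lit 112)
  (nat_lit 0x51a610) (.node .nil (nat_lit 0x82402f) (nat_lit 160) (nat_lit 0x2c19c0) .nil)) (nat_lit 0x841907)
  (nat_lit 65) (nat_lit 0x12c628) (.node (.node .nil (nat_lit 0x908607) (nat_lit 33) (nat_lit 416040) .nil)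
  (nat_lit 0xa800c7) (nat_lit 176) (nat_lit 0x6920d0) (.node .nil (nat_lit 0xc12017) (nat_lit 208) (nat_lit
  0x3886c0) .nil))))
theorem to15_chk : band (orbChk act (gensOf cS) 416040 (2 ^ 24) to15) (Nat.beq to15.size 15) = true := by
  decide +kernel
theorem to15_card : (orbit (stabilizer M24 S0) (unmask 416040)).ncard = 15 :=
  orbit_ncard_of_chk acSM trivial cS_chk stab_S0 (oct_rep (m := 416040) (by decide +kernel)).2 to15_chk

def to360_0 : T := (.node (.node (.node (.node (.node (.node (.node (.node .nil (nat_lit 10558) (nat_lit 0)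
  (nat_lit 10558) .nil) (nat_lit 18147) (nat_lit 5185) (nat_lit 0x2e4105) .nil) (nat_lit 36294) (nat_lit 2736)
  (nat_lit 0x21007b) (.node (.node .nil (nat_lit 42232) (nat_lit 1489) (nat_lit 0x212945) .nil) (nat_lit
  52005) (nat_lit 3664) (nat_lit 806987) .nil)) (nat_lit 57883) (nat_lit 672) (nat_lit 0x3c4c08) (.node (.node
  (.node .nil (nat_lit 69395) (nat_lit 497) (nat_lit 0x46e300) .nil) (nat_lit 75309) (nat_lit 2977) (nat_lit
  0x670160) .nil) (nat_lit 84464) (nat_lit 2384) (nat_lit 0x159013) (.node (.node .nil (nat_lit 90318)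
  (nat_lit 4768) (nat_lit 0x258c50) .nil) (nat_lit 99029) (nat_lit 2417) (nat_lit 0x462825) .nil))) (nat_lit
  115766) (nat_lit 4544) (nat_lit 0x349068) (.node (.node (.node (.node .nil (nat_lit 126216) (nat_lit 2321)
  (nat_lit 0x498b40) .nil) (nat_lit 138790) (nat_lit 2849) (nat_lit 0x24c5a0) .nil) (nat_lit 145176) (nat_lit
  2480) (nat_lit 0x904d22) (.node (.node .nil (nat_lit 153797) (nat_lit 2721) (nat_lit 689317) .nil) (nat_lit
  168928) (nat_lit 5248) (nat_lit 0x81511a) .nil)) (nat_lit 185603) (nat_lit 2993) (nat_lit 675712) (.node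
  (.node (.node .nil (nat_lit 201013) (nat_lit 320) (nat_lit 0x989142) .nil) (nat_lit 210955) (nat_lit 5473)
  (nat_lit 0x43c4c0) .nil) (nat_lit 252432) (nat_lit 1249) (nat_lit 0x4cac80) (.node .nil (nat_lit 262637)
  (nat_lit 2529) (nat_lit 0x320265) .nil)))) (nat_lit 272595) (nat_lit 129) (nat_lit 0x13e005) (.node (.node
  (.node (.node (.node .nil (nat_lit 280334) (nat_lit 4608) (nat_lit 0x244866) .nil) (nat_lit 290352) (nat_lit
  1632) (nat_lit 0x145425) .nil) (nat_lit 298027) (nat_lit 4305) (nat_lit 0x32c940) (.node (.node .nil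
  (nat_lit 304405) (nat_lit 3408) (nat_lit 0x18046e) .nil) (nat_lit 314056) (nat_lit 4673) (nat_lit 0x1c8845)
  .nil)) (nat_lit 337856) (nat_lit 5424) (nat_lit 115766) (.node (.node (.node .nil (nat_lit 346141) (nat_lit
  4656) (nat_lit 0x1c8845) .nil) (nat_lit 352547) (nat_lit 977) (nat_lit 0x7b4200) .nil) (nat_lit 361272)
  (nat_lit 3825) (nat_lit 0x742a40) (.node (.node .nil (nat_lit 371206) (nat_lit 1921) (nat_lit 0x55c820)
  .nil) (nat_lit 421910) (nat_lit 4032) (nat_lit 0xb40544) .nil))) (nat_lit 430605) (nat_lit 512) (nat_lit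
  0x88494c) (.node (.node (.node (.node .nil (nat_lit 463064) (nat_lit 608) (nat_lit 0x918914) .nil) (nat_lit
  504864) (nat_lit 5281) (nat_lit 0x710d80) .nil) (nat_lit 530245) (nat_lit 721) (nat_lit 0x860721) (.node
  (.node .nil (nat_lit 545190) (nat_lit 176) (nat_lit 0xa53042) .nil) (nat_lit 555160) (nat_lit 2049) (nat_lit
  0x89a444) .nil)) (nat_lit 563843) (nat_lit 1776) (nat_lit 0xa96009) (.node (.node (.node .nil (nat_lit
  580704) (nat_lit 5696) (nat_lit 0x843039) .nil) (nat_lit 596054) (nat_lit 3489) (nat_lit 0xc0e421) .nil)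
  (nat_lit 602472) (nat_lit 832) (nat_lit 0x80bc12) (.node .nil (nat_lit 628112) (nat_lit 2608) (nat_lit
  0x91a02a) .nil))))) (nat_lit 657763) (nat_lit 3985) (nat_lit 0xa2c281) (.node (.node (.node (.node (.node
  (.node .nil (nat_lit 663645) (nat_lit 3200) (nat_lit 0x182d50) .nil) (nat_lit 675712) (nat_lit 1824)
  (nat_lit 352547) .nil) (nat_lit 689317) (nat_lit 1600) (nat_lit 602472) (.node (.node .nil (nat_lit 705094)
  (nat_lit 4433) (nat_lit 0x8c48a1) .nil) (nat_lit 722544) (nat_lit 2657) (nat_lit 0xe42181) .nil)) (nat_lit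
  737427) (nat_lit 5664) (nat_lit 0x3da100) (.node (.node (.node .nil (nat_lit 762504) (nat_lit 3744) (nat_lit
  126216) .nil) (nat_lit 792232) (nat_lit 1184) (nat_lit 0x817824) .nil) (nat_lit 806987) (nat_lit 2272)
  (nat_lit 0xac2814) (.node (.node .nil (nat_lit 832080) (nat_lit 2240) (nat_lit 0x90641c) .nil) (nat_lit
  864389) (nat_lit 2032) (nat_lit 0x89a444) .nil))) (nat_lit 919694) (nat_lit 1472) (nat_lit 0x212945) (.node
  (.node (.node (.node .nil (nat_lit 926128) (nat_lit 2865) (nat_lit 0xb12284) .nil) (nat_lit 951624) (nat_lit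
  16) (nat_lit 10558) .nil) (nat_lit 0xf6840) (nat_lit 4577) (nat_lit 0xd98081) (.node (.node .nil (nat_lit
  0x10132b) (nat_lit 1553) (nat_lit 0x265640) .nil) (nat_lit 0x103a15) (nat_lit 4720) (nat_lit 0x9a4441)
  .nil)) (nat_lit 0x1055c8) (nat_lit 1393) (nat_lit 530245) (.node (.node (.node .nil (nat_lit 0x10d80e)
  (nat_lit 5456) (nat_lit 0xa60849) .nil) (nat_lit 0x10f130) (nat_lit 3840) (nat_lit 0x96140a) .nil) (nat_lit
  0x111c38) (nat_lit 1889) (nat_lit 0x60b540) (.node .nil (nat_lit 0x113506) (nat_lit 2353) (nat_lit 0x415720)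
  .nil)))) (nat_lit 0x11b8c0) (nat_lit 2880) (nat_lit 0x838419) (.node (.node (.node (.node (.node .nil
  (nat_lit 0x120d0d) (nat_lit 5104) (nat_lit 657763) .nil) (nat_lit 0x122433) (nat_lit 2689) (nat_lit
  0x237180) .nil) (nat_lit 0x1262d0) (nat_lit 3313) (nat_lit 864389) (.node (.node .nil (nat_lit 0x1280cb)
  (nat_lit 4113) (nat_lit 153797) .nil) (nat_lit 0x13021e) (nat_lit 4288) (nat_lit 0x32c940) .nil)) (nat_lit
  0x132b20) (nat_lit 4368) (nat_lit 185603) (.node (.node (.node .nil (nat_lit 0x13e005) (nat_lit 48) (nat_lit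
  951624) .nil) (nat_lit 0x1412c6) (nat_lit 1649) (nat_lit 0x145425) .nil) (nat_lit 0x145425) (nat_lit 864)
  (nat_lit 0x8e1064) (.node .nil (nat_lit 0x157208) (nat_lit 2912) (nat_lit 0x86cc04) .nil))) (nat_lit
  0x159013) (nat_lit 1361) (nat_lit 0x527c00) (.node (.node (.node (.node .nil (nat_lit 0x160ce0) (nat_lit
  640) (nat_lit 201013) .nil) (nat_lit 0x164a03) (nat_lit 5168) (nat_lit 0x2e4105) .nil) (nat_lit 0x168126)
  (nat_lit 3760) (nat_lit 0x22114e) (.node (.node .nil (nat_lit 0x16a818) (nat_lit 4225) (nat_lit 0x11b8c0)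
  .nil) (nat_lit 0x174510) (nat_lit 4897) (nat_lit 0x583380) .nil)) (nat_lit 0x18046e) (nat_lit 2096) (nat_lit
  0x223870) (.node (.node (.node .nil (nat_lit 0x182d50) (nat_lit 1953) (nat_lit 0x81b301) .nil) (nat_lit
  0x18428d) (nat_lit 881) (nat_lit 0x8e1064) .nil) (nat_lit 0x1889a8) (nat_lit 913) (nat_lit 0xa09a44) (.node
  .nil (nat_lit 0x18a096) (nat_lit 1201) (nat_lit 0x817824) .nil)))))) (nat_lit 0x192243) (nat_lit 3376)
  (nat_lit 0x2ae410) (.node (.node (.node (.node (.node (.node (.node .nil (nat_lit 0x1964a0) (nat_lit 5409)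
  (nat_lit 0xe91104) .nil) (nat_lit 0x19c058) (nat_lit 4257) (nat_lit 0xc83841) .nil) (nat_lit 0x1a1a48)
  (nat_lit 5392) (nat_lit 0x826911) (.node (.node .nil (nat_lit 0x1c0583) (nat_lit 3056) (nat_lit 0x2b2026)
  .nil) (nat_lit 0x1c4360) (nat_lit 5057) (nat_lit 0xbc1201) .nil)) (nat_lit 0x1c8845) (nat_lit 3297) (nat_lit
  0x929821) (.node (.node (.node .nil (nat_lit 0x1d0a90) (nat_lit 112) (nat_lit 0x13e005) .nil) (nat_lit
  0x1ed080) (nat_lit 4912) (nat_lit 0x87210c) .nil) (nat_lit 0x200f68) (nat_lit 4736) (nat_lit 0x405833)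
  (.node (.node .nil (nat_lit 0x202656) (nat_lit 1841) (nat_lit 352547) .nil) (nat_lit 0x20498b) (nat_lit
  5328) (nat_lit 0x6d0803) .nil))) (nat_lit 0x2060b5) (nat_lit 3073) (nat_lit 0x2b2026) (.node (.node (.node
  (.node .nil (nat_lit 0x2082ae) (nat_lit 1504) (nat_lit 0x615848) .nil) (nat_lit 0x20ab90) (nat_lit 3153)
  (nat_lit 371206) .nil) (nat_lit 0x20c44d) (nat_lit 5121) (nat_lit 657763) (.node (.node .nil (nat_lit
  0x21007b) (nat_lit 1616) (nat_lit 0x789810) .nil) (nat_lit 0x212945) (nat_lit 768) (nat_lit 0x488453) .nil))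
  (nat_lit 0x214698) (nat_lit 1904) (nat_lit 0x55c820) (.node (.node (.node .nil (nat_lit 0x21a483) (nat_lit
  576) (nat_lit 0x698428) .nil) (nat_lit 0x21e260) (nat_lit 4592) (nat_lit 0x44d418) .nil) (nat_lit 0x22114e)
  (nat_lit 2336) (nat_lit 0xe00952) (.node .nil (nat_lit 0x223870) (nat_lit 1169) (nat_lit 0x21a483) .nil))))
  (nat_lit 0x229c88) (nat_lit 1120) (nat_lit 0xc10929) (.node (.node (.node (.node (.node .nil (nat_lit
  0x237180) (nat_lit 1585) (nat_lit 0x490686) .nil) (nat_lit 0x240e85) (nat_lit 4944) (nat_lit 0x494065) .nil)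
  (nat_lit 0x244866) (nat_lit 3233) (nat_lit 0x38c023) (.node (.node .nil (nat_lit 0x246158) (nat_lit 3920)
  (nat_lit 0x540c16) .nil) (nat_lit 0x248343) (nat_lit 4320) (nat_lit 0x68401e) .nil)) (nat_lit 0x24c5a0)
  (nat_lit 1696) (nat_lit 0x45102e) (.node (.node (.node .nil (nat_lit 0x250196) (nat_lit 1088) (nat_lit
  0x718046) .nil) (nat_lit 0x2528a8) (nat_lit 1105) (nat_lit 0x718046) .nil) (nat_lit 0x258c50) (nat_lit 3440)
  (nat_lit 0x50803d) (.node .nil (nat_lit 0x2610a3) (nat_lit 753) (nat_lit 0x324486) .nil))) (nat_lit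
  0x265640) (nat_lit 800) (nat_lit 0xc44134) (.node (.node (.node (.node .nil (nat_lit 0x28182d) (nat_lit
  4240) (nat_lit 0xc83841) .nil) (nat_lit 0x283113) (nat_lit 4177) (nat_lit 0x836602) .nil) (nat_lit 0x28d308)
  (nat_lit 5089) (nat_lit 0x8c0e42) (.node (.node .nil (nat_lit 0x293e00) (nat_lit 3472) (nat_lit 0xc0e421)
  .nil) (nat_lit 0x2a060b) (nat_lit 2817) (nat_lit 0x8641c2) .nil)) (nat_lit 0x2ae410) (nat_lit 2081) (nat_lit
  0x892982) (.node (.node (.node .nil (nat_lit 0x2b0918) (nat_lit 3600) (nat_lit 0x50a903) .nil) (nat_lit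
  0x2b2026) (nat_lit 1872) (nat_lit 0x60b540) .nil) (nat_lit 0x2c9406) (nat_lit 2497) (nat_lit 0x904d22)
  (.node .nil (nat_lit 0x2d5030) (nat_lit 4480) (nat_lit 0xd4b004) .nil))))) (nat_lit 0x2e4105) (nat_lit 4065)
  (nat_lit 0x9a02a2) (.node (.node (.node (.node (.node (.node .nil (nat_lit 0x2e8a20) (nat_lit 4993) (nat_lit
  0xb48882) .nil) (nat_lit 0x301c43) (nat_lit 4385) (nat_lit 185603) .nil) (nat_lit 0x305aa0) (nat_lit 3905)
  (nat_lit 0x2c9406) (.node (.node .nil (nat_lit 0x309185) (nat_lit 928) (nat_lit 0xcb004a) .nil) (nat_lit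
  0x311350) (nat_lit 4704) (nat_lit 0xd2c012) .nil)) (nat_lit 0x320265) (nat_lit 1457) (nat_lit 0x2610a3)
  (.node (.node (.node .nil (nat_lit 0x324486) (nat_lit 369) (nat_lit 545190) .nil) (nat_lit 0x32c940)
  (nat_lit 2945) (nat_lit 563843) .nil) (nat_lit 0x332448) (nat_lit 4000) (nat_lit 0x428d30) (.node (.node
  .nil (nat_lit 0x3380b0) (nat_lit 5649) (nat_lit 0x603886) .nil) (nat_lit 0x343490) (nat_lit 3777) (nat_lit
  0x113506) .nil))) (nat_lit 0x349068) (nat_lit 3168) (nat_lit 0xc2181c) (.node (.node (.node (.node .nil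
  (nat_lit 0x360388) (nat_lit 2801) (nat_lit 0x1412c6) .nil) (nat_lit 0x380b06) (nat_lit 1345) (nat_lit
  0x84d222) .nil) (nat_lit 0x382238) (nat_lit 193) (nat_lit 0xa53042) (.node (.node .nil (nat_lit 0x38c023)
  (nat_lit 1969) (nat_lit 0xaa5802) .nil) (nat_lit 0x390415) (nat_lit 4529) (nat_lit 0xc23122) .nil)) (nat_lit
  0x3a1520) (nat_lit 4512) (nat_lit 0xc23122) (.node (.node (.node .nil (nat_lit 0x3c4c08) (nat_lit 337)
  (nat_lit 0x989142) .nil) (nat_lit 0x3da100) (nat_lit 5024) (nat_lit 0x42a40e) .nil) (nat_lit 0x401ed0)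
  (nat_lit 4753) (nat_lit 304405) (.node .nil (nat_lit 0x405833) (nat_lit 3393) (nat_lit 0x2ae410) .nil))))
  (nat_lit 0x40710d) (nat_lit 4049) (nat_lit 722544) (.node (.node (.node (.node (.node .nil (nat_lit
  0x409316) (nat_lit 2785) (nat_lit 290352) .nil) (nat_lit 0x40ba28) (nat_lit 144) (nat_lit 0x805e09) .nil)
  (nat_lit 0x4111c3) (nat_lit 5297) (nat_lit 0x424615) (.node (.node .nil (nat_lit 0x415720) (nat_lit 1328)
  (nat_lit 0x84d222) .nil) (nat_lit 0x419c05) (nat_lit 4017) (nat_lit 0x428d30) .nil)) (nat_lit 0x4200f6)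
  (nat_lit 4465) (nat_lit 0x2060b5) (.node (.node (.node .nil (nat_lit 0x4229c8) (nat_lit 992) (nat_lit 69395)
  .nil) (nat_lit 0x424615) (nat_lit 4209) (nat_lit 926128) .nil) (nat_lit 0x428d30) (nat_lit 2624) (nat_lit
  0x10132b) (.node .nil (nat_lit 0x42a40e) (nat_lit 3809) (nat_lit 84464) .nil))) (nat_lit 0x434906) (nat_lit
  3697) (nat_lit 0x48c2b0) (.node (.node (.node (.node .nil (nat_lit 0x438223) (nat_lit 3537) (nat_lit
  0x664890) .nil) (nat_lit 0x43c4c0) (nat_lit 4641) (nat_lit 0x480995) .nil) (nat_lit 0x443603) (nat_lit 5616)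
  (nat_lit 0xa84624) (.node (.node .nil (nat_lit 0x4470e0) (nat_lit 3552) (nat_lit 0x851614) .nil) (nat_lit
  0x44d418) (nat_lit 3217) (nat_lit 0x182d50) .nil)) (nat_lit 0x45102e) (nat_lit 896) (nat_lit 0xa09a44)
  (.node (.node (.node .nil (nat_lit 0x46011b) (nat_lit 2368) (nat_lit 0x380b06) .nil) (nat_lit 0x462825)
  (nat_lit 1376) (nat_lit 530245) .nil) (nat_lit 0x46e300) (nat_lit 241) (nat_lit 0x1d0a90) (.node .nil
  (nat_lit 0x470e08) (nat_lit 4960) (nat_lit 52005) .nil)))))))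
def to360_1 : T := (.node (.node (.node (.node (.node (.node (.node (.node .nil (nat_lit 0x4820ab) (nat_lit
  4784) (nat_lit 0x293e00) .nil) (nat_lit 0x486648) (nat_lit 2768) (nat_lit 290352) .nil) (nat_lit 0x488453)
  (nat_lit 384) (nat_lit 0x382238) (.node (.node .nil (nat_lit 0x48c2b0) (nat_lit 2289) (nat_lit 0xac2814)
  .nil) (nat_lit 0x490686) (nat_lit 817) (nat_lit 0xc44134) .nil)) (nat_lit 0x494065) (nat_lit 3616) (nat_lit
  832080) (.node (.node (.node .nil (nat_lit 0x498b40) (nat_lit 1296) (nat_lit 57883) .nil) (nat_lit 0x4a5150)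
  (nat_lit 1408) (nat_lit 0x942312) .nil) (nat_lit 0x4b18a0) (nat_lit 97) (nat_lit 0xe08494) (.node (.node
  .nil (nat_lit 0x4c0878) (nat_lit 5520) (nat_lit 0x103a15) .nil) (nat_lit 0x4c2146) (nat_lit 3008) (nat_lit
  0x202656) .nil))) (nat_lit 0x4cac80) (nat_lit 625) (nat_lit 0x918914) (.node (.node (.node (.node .nil
  (nat_lit 0x4d4188) (nat_lit 3136) (nat_lit 371206) .nil) (nat_lit 0x5024c5) (nat_lit 657) (nat_lit 201013)
  .nil) (nat_lit 0x504b18) (nat_lit 3633) (nat_lit 832080) (.node (.node .nil (nat_lit 0x506226) (nat_lit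
  1536) (nat_lit 0x265640) .nil) (nat_lit 0x50803d) (nat_lit 2113) (nat_lit 0x223870) .nil)) (nat_lit
  0x50a903) (nat_lit 2225) (nat_lit 252432) (.node (.node (.node .nil (nat_lit 0x5102e8) (nat_lit 2208)
  (nat_lit 252432) .nil) (nat_lit 0x51440b) (nat_lit 2449) (nat_lit 0x4a5150) .nil) (nat_lit 0x527c00)
  (nat_lit 704) (nat_lit 0x860721) (.node .nil (nat_lit 0x539108) (nat_lit 5553) (nat_lit 0x401ed0) .nil))))
  (nat_lit 0x540c16) (nat_lit 2512) (nat_lit 0x320265) (.node (.node (.node (.node (.node .nil (nat_lit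
  0x542528) (nat_lit 4192) (nat_lit 138790) .nil) (nat_lit 0x5481d0) (nat_lit 5344) (nat_lit 0x13021e) .nil)
  (nat_lit 0x550305) (nat_lit 4833) (nat_lit 0x561230) (.node (.node .nil (nat_lit 0x55c820) (nat_lit 1024)
  (nat_lit 430605) .nil) (nat_lit 0x561230) (nat_lit 3504) (nat_lit 0x925304) .nil)) (nat_lit 0x583380)
  (nat_lit 3569) (nat_lit 0x851614) (.node (.node (.node .nil (nat_lit 0x5a0498) (nat_lit 5377) (nat_lit
  0x8031d4) .nil) (nat_lit 0x5aa060) (nat_lit 3872) (nat_lit 145176) .nil) (nat_lit 0x5d1440) (nat_lit 3264)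
  (nat_lit 0x82a234) (.node .nil (nat_lit 0x6011b8) (nat_lit 3025) (nat_lit 0x202656) .nil))) (nat_lit
  0x603886) (nat_lit 4976) (nat_lit 0xe10641) (.node (.node (.node (.node .nil (nat_lit 0x60b540) (nat_lit
  1009) (nat_lit 69395) .nil) (nat_lit 0x615848) (nat_lit 785) (nat_lit 0x488453) .nil) (nat_lit 0x6226a0)
  (nat_lit 1985) (nat_lit 0x250196) (.node (.node .nil (nat_lit 0x626043) (nat_lit 2464) (nat_lit 0x6c0710)
  .nil) (nat_lit 0x628258) (nat_lit 273) (nat_lit 272595) .nil)) (nat_lit 0x63008d) (nat_lit 2304) (nat_lit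
  0x498b40) (.node (.node (.node .nil (nat_lit 0x641055) (nat_lit 4081) (nat_lit 0x122433) .nil) (nat_lit
  0x659280) (nat_lit 3937) (nat_lit 0x540c16) .nil) (nat_lit 0x664890) (nat_lit 2177) (nat_lit 0x18a096)
  (.node .nil (nat_lit 0x670160) (nat_lit 1809) (nat_lit 0x700293) .nil))))) (nat_lit 0x68401e) (nat_lit 2961)
  (nat_lit 0x886072) (.node (.node (.node (.node (.node (.node .nil (nat_lit 0x686920) (nat_lit 5745) (nat_lit
  0xa98212) .nil) (nat_lit 0x68a205) (nat_lit 2929) (nat_lit 0x870832) .nil) (nat_lit 0x698428) (nat_lit 288)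
  (nat_lit 0x40ba28) (.node (.node .nil (nat_lit 0x6c0710) (nat_lit 1425) (nat_lit 0x942312) .nil) (nat_lit
  0x6d0803) (nat_lit 4272) (nat_lit 0x68a205) .nil)) (nat_lit 0x6e3008) (nat_lit 5680) (nat_lit 0xc02f04)
  (.node (.node (.node .nil (nat_lit 0x700293) (nat_lit 960) (nat_lit 0x7b4200) .nil) (nat_lit 0x704470)
  (nat_lit 4816) (nat_lit 0x561230) .nil) (nat_lit 0x70e088) (nat_lit 4801) (nat_lit 596054) (.node (.node
  .nil (nat_lit 0x710d80) (nat_lit 4161) (nat_lit 0x409316) .nil) (nat_lit 0x718046) (nat_lit 544) (nat_lit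
  0x628258) .nil))) (nat_lit 0x742a40) (nat_lit 2401) (nat_lit 0x159013) (.node (.node (.node (.node .nil
  (nat_lit 0x789810) (nat_lit 849) (nat_lit 0x80bc12) .nil) (nat_lit 0x7b4200) (nat_lit 480) (nat_lit
  0x46e300) .nil) (nat_lit 0x8018ea) (nat_lit 5440) (nat_lit 0xa11891) (.node (.node .nil (nat_lit 0x8031d4)
  (nat_lit 4353) (nat_lit 75309) .nil) (nat_lit 0x805e09) (nat_lit 65) (nat_lit 951624) .nil)) (nat_lit
  0x80952c) (nat_lit 5537) (nat_lit 0x200f68) (.node (.node (.node .nil (nat_lit 0x80bc12) (nat_lit 416)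
  (nat_lit 0xb004a9) .nil) (nat_lit 0x81511a) (nat_lit 4145) (nat_lit 0x486648) .nil) (nat_lit 0x817824)
  (nat_lit 593) (nat_lit 0x698428) (.node .nil (nat_lit 0x81b301) (nat_lit 1056) (nat_lit 0x88c48a) .nil))))
  (nat_lit 0x8206cc) (nat_lit 3792) (nat_lit 84464) (.node (.node (.node (.node (.node .nil (nat_lit 0x826911)
  (nat_lit 4448) (nat_lit 0x1c0583) .nil) (nat_lit 0x828b0a) (nat_lit 5505) (nat_lit 314056) .nil) (nat_lit
  0x82a234) (nat_lit 2001) (nat_lit 0x2528a8) (.node (.node .nil (nat_lit 0x8320e1) (nat_lit 3729) (nat_lit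
  0x63008d) .nil) (nat_lit 0x836602) (nat_lit 2832) (nat_lit 0x24c5a0) .nil)) (nat_lit 0x838419) (nat_lit
  1728) (nat_lit 0x1889a8) (.node (.node (.node .nil (nat_lit 0x843039) (nat_lit 5137) (nat_lit 0x332448)
  .nil) (nat_lit 0x8494c1) (nat_lit 5216) (nat_lit 0x8900bc) .nil) (nat_lit 0x84d222) (nat_lit 689) (nat_lit
  0x3c4c08) (.node .nil (nat_lit 0x851614) (nat_lit 2192) (nat_lit 0x90c0e4) .nil))) (nat_lit 0x860721)
  (nat_lit 352) (nat_lit 545190) (.node (.node (.node (.node .nil (nat_lit 0x8641c2) (nat_lit 1681) (nat_lit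
  0x18428d) .nil) (nat_lit 0x86cc04) (nat_lit 1745) (nat_lit 0x1889a8) .nil) (nat_lit 0x870832) (nat_lit 1760)
  (nat_lit 0x309185) (.node (.node .nil (nat_lit 0x87210c) (nat_lit 3585) (nat_lit 0x5102e8) .nil) (nat_lit
  0x882691) (nat_lit 4929) (nat_lit 0x87210c) .nil)) (nat_lit 0x88494c) (nat_lit 256) (nat_lit 272595) (.node
  (.node (.node .nil (nat_lit 0x886072) (nat_lit 1793) (nat_lit 0xa96009) .nil) (nat_lit 0x888269) (nat_lit
  3328) (nat_lit 555160) .nil) (nat_lit 0x88c48a) (nat_lit 529) (nat_lit 0x88494c) (.node .nil (nat_lit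
  0x8900bc) (nat_lit 4129) (nat_lit 0xe0206c) .nil)))))) (nat_lit 0x892982) (nat_lit 1152) (nat_lit 0x21a483)
  (.node (.node (.node (.node (.node (.node (.node .nil (nat_lit 0x89a444) (nat_lit 1137) (nat_lit 0xc10929)
  .nil) (nat_lit 0x8a1189) (nat_lit 2064) (nat_lit 0x892982) .nil) (nat_lit 0x8c0e42) (nat_lit 3953) (nat_lit
  0x94c109) (.node (.node .nil (nat_lit 0x8c48a1) (nat_lit 3041) (nat_lit 0xba800c) .nil) (nat_lit 0x8c8384)
  (nat_lit 5201) (nat_lit 0x940a2c) .nil)) (nat_lit 0x8d0151) (nat_lit 2160) (nat_lit 0x18a096) (.node (.node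
  (.node .nil (nat_lit 0x8e1064) (nat_lit 433) (nat_lit 0xb004a9) .nil) (nat_lit 0x900bc1) (nat_lit 1041)
  (nat_lit 430605) .nil) (nat_lit 0x904d22) (nat_lit 1440) (nat_lit 0x2610a3) (.node (.node .nil (nat_lit
  0x90641c) (nat_lit 1264) (nat_lit 0x160ce0) .nil) (nat_lit 0x90c0e4) (nat_lit 1216) (nat_lit 463064) .nil)))
  (nat_lit 0x9104d2) (nat_lit 5153) (nat_lit 0x40710d) (.node (.node (.node (.node .nil (nat_lit 0x914231)
  (nat_lit 5632) (nat_lit 0x1ed080) .nil) (nat_lit 0x918914) (nat_lit 305) (nat_lit 0x40ba28) .nil) (nat_lit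
  0x91a02a) (nat_lit 1521) (nat_lit 0x615848) (.node (.node .nil (nat_lit 0x925304) (nat_lit 2145) (nat_lit
  792232) .nil) (nat_lit 0x929821) (nat_lit 2017) (nat_lit 0x229c88) .nil)) (nat_lit 0x940a2c) (nat_lit 4096)
  (nat_lit 153797) (.node (.node (.node .nil (nat_lit 0x942312) (nat_lit 736) (nat_lit 0x324486) .nil)
  (nat_lit 0x94c109) (nat_lit 2544) (nat_lit 919694) .nil) (nat_lit 0x952c01) (nat_lit 2704) (nat_lit 689317)
  (.node .nil (nat_lit 0x96140a) (nat_lit 2433) (nat_lit 0x1055c8) .nil)))) (nat_lit 0x981c84) (nat_lit 5008)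
  (nat_lit 0x8320e1) (.node (.node (.node (.node (.node .nil (nat_lit 0x989142) (nat_lit 161) (nat_lit
  0x805e09) .nil) (nat_lit 0x9a02a2) (nat_lit 2672) (nat_lit 0x237180) .nil) (nat_lit 0x9a4441) (nat_lit 3361)
  (nat_lit 0x8a1189) (.node (.node .nil (nat_lit 0xa01782) (nat_lit 5360) (nat_lit 0xe140a2) .nil) (nat_lit
  0xa05161) (nat_lit 3648) (nat_lit 0xcc1092) .nil)) (nat_lit 0xa09a44) (nat_lit 448) (nat_lit 0xc040d9)
  (.node (.node (.node .nil (nat_lit 0xa11891) (nat_lit 4560) (nat_lit 0xd98081) .nil) (nat_lit 0xa209a4)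
  (nat_lit 2593) (nat_lit 0x2082ae) .nil) (nat_lit 0xa2209a) (nat_lit 5264) (nat_lit 0x710d80) (.node .nil
  (nat_lit 0xa28462) (nat_lit 4400) (nat_lit 0x6011b8) .nil))) (nat_lit 0xa2c281) (nat_lit 2561) (nat_lit
  919694) (.node (.node (.node (.node .nil (nat_lit 0xa34054) (nat_lit 5585) (nat_lit 0x4820ab) .nil) (nat_lit
  0xa4508c) (nat_lit 3425) (nat_lit 0x18046e) .nil) (nat_lit 0xa53042) (nat_lit 80) (nat_lit 0xe08494) (.node
  (.node .nil (nat_lit 0xa60849) (nat_lit 4624) (nat_lit 0x480995) .nil) (nat_lit 0xa84624) (nat_lit 4864)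
  (nat_lit 0x4470e0) .nil)) (nat_lit 0xa88d01) (nat_lit 5568) (nat_lit 0x4820ab) (.node (.node (.node .nil
  (nat_lit 0xa96009) (nat_lit 945) (nat_lit 0xcb004a) .nil) (nat_lit 0xa98212) (nat_lit 5600) (nat_lit
  0x70e088) .nil) (nat_lit 0xaa5802) (nat_lit 1073) (nat_lit 0x88c48a) (.node .nil (nat_lit 0xac012a) (nat_lit
  4849) (nat_lit 0xb0424a) .nil))))) (nat_lit 0xac2814) (nat_lit 1280) (nat_lit 0x5024c5) (.node (.node (.node
  (.node (.node (.node .nil (nat_lit 0xb004a9) (nat_lit 208) (nat_lit 0x4b18a0) .nil) (nat_lit 0xb0424a)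
  (nat_lit 3520) (nat_lit 0x664890) .nil) (nat_lit 0xb0a051) (nat_lit 5728) (nat_lit 0x5a0498) (.node (.node
  .nil (nat_lit 0xb12284) (nat_lit 1713) (nat_lit 0x45102e) .nil) (nat_lit 0xb40544) (nat_lit 2641) (nat_lit
  0x10132b) .nil)) (nat_lit 0xb48882) (nat_lit 3712) (nat_lit 0x63008d) (.node (.node (.node .nil (nat_lit
  0xba800c) (nat_lit 1856) (nat_lit 0x4229c8) .nil) (nat_lit 0xbc1201) (nat_lit 3857) (nat_lit 0x96140a) .nil)
  (nat_lit 0xc0063a) (nat_lit 5072) (nat_lit 0x305aa0) (.node (.node .nil (nat_lit 0xc02f04) (nat_lit 5041)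
  (nat_lit 361272) .nil) (nat_lit 0xc040d9) (nat_lit 224) (nat_lit 0x1d0a90) .nil))) (nat_lit 0xc0a2c2)
  (nat_lit 3104) (nat_lit 0x214698) (.node (.node (.node (.node .nil (nat_lit 0xc0e421) (nat_lit 2128)
  (nat_lit 792232) .nil) (nat_lit 0xc10929) (nat_lit 561) (nat_lit 0x628258) .nil) (nat_lit 0xc1c20c) (nat_lit
  5488) (nat_lit 314056) (.node (.node .nil (nat_lit 0xc2181c) (nat_lit 1936) (nat_lit 0x900bc1) .nil)
  (nat_lit 0xc23122) (nat_lit 3121) (nat_lit 0x214698) .nil)) (nat_lit 0xc44134) (nat_lit 401) (nat_lit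
  0x382238) (.node (.node (.node .nil (nat_lit 0xc4680a) (nat_lit 5313) (nat_lit 0x19c058) .nil) (nat_lit
  0xc48a11) (nat_lit 1664) (nat_lit 0x18428d) .nil) (nat_lit 0xc508c4) (nat_lit 3457) (nat_lit 0x50803d)
  (.node .nil (nat_lit 0xc58502) (nat_lit 2576) (nat_lit 0x2082ae) .nil)))) (nat_lit 0xc75001) (nat_lit 5712)
  (nat_lit 0x8c8384) (.node (.node (.node (.node (.node .nil (nat_lit 0xc83841) (nat_lit 2897) (nat_lit
  0x838419) .nil) (nat_lit 0xca6084) (nat_lit 5233) (nat_lit 0x8900bc) .nil) (nat_lit 0xcb004a) (nat_lit 465)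
  (nat_lit 0xc040d9) (.node (.node .nil (nat_lit 0xcc1092) (nat_lit 2257) (nat_lit 0x90641c) .nil) (nat_lit
  0xd01511) (nat_lit 3889) (nat_lit 145176) .nil)) (nat_lit 0xd11a02) (nat_lit 3968) (nat_lit 0xa2c281) (.node
  (.node (.node .nil (nat_lit 0xd22209) (nat_lit 1233) (nat_lit 463064) .nil) (nat_lit 0xd2c012) (nat_lit
  3345) (nat_lit 555160) .nil) (nat_lit 0xd30424) (nat_lit 4417) (nat_lit 0x6011b8) (.node .nil (nat_lit
  0xd4b004) (nat_lit 3089) (nat_lit 0x111c38) .nil))) (nat_lit 0xd80254) (nat_lit 4688) (nat_lit 0x1262d0)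
  (.node (.node (.node (.node .nil (nat_lit 0xd98081) (nat_lit 3185) (nat_lit 0xc2181c) .nil) (nat_lit
  0xe00952) (nat_lit 1313) (nat_lit 57883) .nil) (nat_lit 0xe0206c) (nat_lit 2753) (nat_lit 0x21007b) (.node
  (.node .nil (nat_lit 0xe08494) (nat_lit 33) (nat_lit 10558) .nil) (nat_lit 0xe10641) (nat_lit 3680) (nat_lit
  0x48c2b0) .nil)) (nat_lit 0xe140a2) (nat_lit 4337) (nat_lit 0x68401e) (.node (.node (.node .nil (nat_lit
  0xe42181) (nat_lit 1568) (nat_lit 0x490686) .nil) (nat_lit 0xe91104) (nat_lit 4496) (nat_lit 0xc0a2c2) .nil)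
  (nat_lit 0xea0031) (nat_lit 4880) (nat_lit 0x583380) (.node .nil (nat_lit 0xf82402) (nat_lit 3248) (nat_lit
  0x6226a0) .nil)))))))
def to360 : T := (.node to360_0 (nat_lit 0x480995) (nat_lit 3281) (nat_lit 0x82a234) to360_1)
theorem to360_chk : band (orbChk act (gensOf cS) 10558 (2 ^ 24) to360) (Nat.beq to360.size 360) = true := by
  decide +kernel
theorem to360_card : (orbit (stabilizer M24 S0) (unmask 10558)).ncard = 360 :=
  orbit_ncard_of_chk acSM trivial cS_chk stab_S0 (oct_rep (m := 10558) (by decide +kernel)).2 to360_chk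

def to384_0 : T := (.node (.node (.node (.node (.node (.node (.node (.node .nil (nat_lit 5279) (nat_lit 0)
  (nat_lit 5279) .nil) (nat_lit 15777) (nat_lit 2800) (nat_lit 0x891423) (.node .nil (nat_lit 21116) (nat_lit
  4304) (nat_lit 0x945850) .nil)) (nat_lit 31554) (nat_lit 784) (nat_lit 0xa44413) (.node (.node .nil (nat_lit
  39257) (nat_lit 4689) (nat_lit 175681) .nil) (nat_lit 45159) (nat_lit 5729) (nat_lit 0x234c21) .nil))
  (nat_lit 63108) (nat_lit 4352) (nat_lit 0x854468) (.node (.node (.node .nil (nat_lit 72588) (nat_lit 5024)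
  (nat_lit 0x81c843) .nil) (nat_lit 78514) (nat_lit 5265) (nat_lit 0x656404) .nil) (nat_lit 95313) (nat_lit
  4049) (nat_lit 0x4b2501) (.node (.node .nil (nat_lit 104010) (nat_lit 5440) (nat_lit 0xa0c838) .nil)
  (nat_lit 118953) (nat_lit 4481) (nat_lit 0x6a0c44) .nil))) (nat_lit 133817) (nat_lit 4832) (nat_lit
  0x195901) (.node (.node (.node (.node .nil (nat_lit 140167) (nat_lit 833) (nat_lit 475812) .nil) (nat_lit
  150618) (nat_lit 4144) (nat_lit 0x340931) .nil) (nat_lit 157028) (nat_lit 368) (nat_lit 267634) (.node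
  (.node .nil (nat_lit 175681) (nat_lit 3248) (nat_lit 542009) .nil) (nat_lit 180636) (nat_lit 3344) (nat_lit
  0x15094a) .nil)) (nat_lit 190626) (nat_lit 625) (nat_lit 0x29c884) (.node (.node (.node .nil (nat_lit
  198058) (nat_lit 3200) (nat_lit 0x219922) .nil) (nat_lit 208020) (nat_lit 3745) (nat_lit 0x41a1a4) .nil)
  (nat_lit 213833) (nat_lit 5521) (nat_lit 0x4e02c1) (.node (.node .nil (nat_lit 231532) (nat_lit 3393)
  (nat_lit 0x6088e1) .nil) (nat_lit 237906) (nat_lit 2496) (nat_lit 0x30851a) .nil)))) (nat_lit 267634)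
  (nat_lit 176) (nat_lit 0xb01036) (.node (.node (.node (.node (.node .nil (nat_lit 277580) (nat_lit 5345)
  (nat_lit 0x118561) .nil) (nat_lit 283537) (nat_lit 1393) (nat_lit 0x1e2604) .nil) (nat_lit 301236) (nat_lit
  1873) (nat_lit 0x30ac24) (.node (.node .nil (nat_lit 307594) (nat_lit 4784) (nat_lit 0xa10c0e) .nil)
  (nat_lit 334433) (nat_lit 3777) (nat_lit 0x768401) .nil)) (nat_lit 351362) (nat_lit 1089) (nat_lit 0x58c504)
  (.node (.node (.node .nil (nat_lit 381252) (nat_lit 4880) (nat_lit 0x84805e) .nil) (nat_lit 396116) (nat_lit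
  257) (nat_lit 0x14a2a1) .nil) (nat_lit 402026) (nat_lit 4657) (nat_lit 0x3540c1) (.node (.node .nil (nat_lit
  418953) (nat_lit 5217) (nat_lit 0x1b01c4) .nil) (nat_lit 427666) (nat_lit 1568) (nat_lit 0x31412c) .nil)))
  (nat_lit 442481) (nat_lit 5152) (nat_lit 0x1c111c) (.node (.node (.node (.node .nil (nat_lit 459847)
  (nat_lit 3889) (nat_lit 0x5241a1) .nil) (nat_lit 475812) (nat_lit 417) (nat_lit 0x7c00a4) .nil) (nat_lit
  493953) (nat_lit 4401) (nat_lit 0x528a84) (.node (.node .nil (nat_lit 525274) (nat_lit 465) (nat_lit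
  0x846245) .nil) (nat_lit 535268) (nat_lit 2129) (nat_lit 0xa58025) .nil)) (nat_lit 542009) (nat_lit 2049)
  (nat_lit 0xaa2340) (.node (.node (.node .nil (nat_lit 551943) (nat_lit 4912) (nat_lit 0x2c2461) .nil)
  (nat_lit 560668) (nat_lit 65) (nat_lit 0x84a960) .nil) (nat_lit 567074) (nat_lit 3712) (nat_lit 0x20742a)
  (.node (.node .nil (nat_lit 582081) (nat_lit 3008) (nat_lit 861210) .nil) (nat_lit 593097) (nat_lit 1649)
  (nat_lit 0xc28145) .nil))))) (nat_lit 608810) (nat_lit 1344) (nat_lit 0x24f801) (.node (.node (.node (.node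
  (.node (.node .nil (nat_lit 615188) (nat_lit 5920) (nat_lit 0x14e442) .nil) (nat_lit 622863) (nat_lit 3681)
  (nat_lit 0xc24a60) .nil) (nat_lit 632881) (nat_lit 1809) (nat_lit 0xe3a800) (.node (.node .nil (nat_lit
  668866) (nat_lit 2208) (nat_lit 0xa12530) .nil) (nat_lit 684577) (nat_lit 3312) (nat_lit 0x8c7500) .nil))
  (nat_lit 692282) (nat_lit 4240) (nat_lit 0xb03908) (.node (.node (.node .nil (nat_lit 702724) (nat_lit 5089)
  (nat_lit 0x818ea0) .nil) (nat_lit 742412) (nat_lit 48) (nat_lit 0x84a960) .nil) (nat_lit 786999) (nat_lit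
  3600) (nat_lit 0x387044) (.node (.node .nil (nat_lit 797449) (nat_lit 5457) (nat_lit 0x978240) .nil)
  (nat_lit 804052) (nat_lit 1297) (nat_lit 0x982125) .nil))) (nat_lit 837906) (nat_lit 5616) (nat_lit
  0x34200f) (.node (.node (.node (.node .nil (nat_lit 843820) (nat_lit 4721) (nat_lit 0xb90860) .nil) (nat_lit
  855332) (nat_lit 4993) (nat_lit 0xf08320) .nil) (nat_lit 861210) (nat_lit 1856) (nat_lit 0x30ac24) (.node
  (.node .nil (nat_lit 884962) (nat_lit 6064) (nat_lit 0x21b01c) .nil) (nat_lit 902657) (nat_lit 2609)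
  (nat_lit 0xde0900) .nil)) (nat_lit 924689) (nat_lit 1280) (nat_lit 0x982125) (.node (.node (.node .nil
  (nat_lit 987906) (nat_lit 1521) (nat_lit 0xd44680) .nil) (nat_lit 0x1007b4) (nat_lit 5857) (nat_lit
  0x243324) .nil) (nat_lit 0x102e8a) (nat_lit 5712) (nat_lit 0x234c21) (.node (.node .nil (nat_lit 0x104157)
  (nat_lit 576) (nat_lit 0x3e0052) .nil) (nat_lit 0x106869) (nat_lit 2193) (nat_lit 0x2b9041) .nil))))
  (nat_lit 0x108a72) (nat_lit 1361) (nat_lit 0x24f801) (.node (.node (.node (.node (.node .nil (nat_lit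
  0x10a34c) (nat_lit 5185) (nat_lit 334433) .nil) (nat_lit 0x10cc91) (nat_lit 208) (nat_lit 0x1f0029) .nil)
  (nat_lit 0x1108a7) (nat_lit 2176) (nat_lit 0x2b9041) (.node (.node .nil (nat_lit 0x112199) (nat_lit 704)
  (nat_lit 0x1b8c02) .nil) (nat_lit 0x114e44) (nat_lit 6016) (nat_lit 442481) .nil)) (nat_lit 0x118561)
  (nat_lit 3985) (nat_lit 0x621b01) (.node (.node (.node .nil (nat_lit 0x11c382) (nat_lit 881) (nat_lit
  0x4c5a04) .nil) (nat_lit 0x121992) (nat_lit 5008) (nat_lit 0xb30103) .nil) (nat_lit 0x1230ac) (nat_lit 1824)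
  (nat_lit 0x831d40) (.node (.node .nil (nat_lit 0x129454) (nat_lit 1712) (nat_lit 0x920178) .nil) (nat_lit
  0x131681) (nat_lit 3217) (nat_lit 0x461584) .nil))) (nat_lit 0x135062) (nat_lit 5665) (nat_lit 0x685481)
  (.node (.node (.node (.node .nil (nat_lit 0x140659) (nat_lit 5649) (nat_lit 0x163141) .nil) (nat_lit
  0x1440ba) (nat_lit 2240) (nat_lit 0x371804) .nil) (nat_lit 0x146984) (nat_lit 5233) (nat_lit 0x199224)
  (.node (.node .nil (nat_lit 0x14a2a1) (nat_lit 112) (nat_lit 742412) .nil) (nat_lit 0x14e442) (nat_lit 4849)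
  (nat_lit 0x195901) .nil)) (nat_lit 0x15094a) (nat_lit 2096) (nat_lit 0x228817) (.node (.node (.node .nil
  (nat_lit 0x152074) (nat_lit 2816) (nat_lit 0x129454) .nil) (nat_lit 0x15848c) (nat_lit 4816) (nat_lit
  231532) .nil) (nat_lit 0x163141) (nat_lit 4512) (nat_lit 0x8a0516) (.node (.node .nil (nat_lit 0x1810f1)
  (nat_lit 5761) (nat_lit 0xa23405) .nil) (nat_lit 0x185612) (nat_lit 3329) (nat_lit 0x8c7500) .nil))))))
  (nat_lit 0x18b409) (nat_lit 1841) (nat_lit 0x831d40) (.node (.node (.node (.node (.node (.node (.node .nil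
  (nat_lit 0x195901) (nat_lit 3424) (nat_lit 0x8ea003) .nil) (nat_lit 0x199224) (nat_lit 3841) (nat_lit
  0xe41c20) .nil) (nat_lit 0x1a4834) (nat_lit 5632) (nat_lit 0x163141) (.node (.node .nil (nat_lit 0x1a610a)
  (nat_lit 2720) (nat_lit 0x262d02) .nil) (nat_lit 0x1a8311) (nat_lit 4064) (nat_lit 0x1a610a) .nil)) (nat_lit
  0x1b01c4) (nat_lit 3808) (nat_lit 237906) (.node (.node (.node .nil (nat_lit 0x1b8c02) (nat_lit 353)
  (nat_lit 0xc0d980) .nil) (nat_lit 0x1c111c) (nat_lit 3761) (nat_lit 0x903660) .nil) (nat_lit 0x1c3822)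
  (nat_lit 5744) (nat_lit 0xa23405) (.node (.node .nil (nat_lit 0x1e2604) (nat_lit 736) (nat_lit 157028) .nil)
  (nat_lit 0x1f0029) (nat_lit 97) (nat_lit 0xf210c0) .nil))) (nat_lit 0x2032c9) (nat_lit 480) (nat_lit
  0xc94c10) (.node (.node (.node (.node .nil (nat_lit 0x205d14) (nat_lit 5137) (nat_lit 567074) .nil) (nat_lit
  0x20742a) (nat_lit 2417) (nat_lit 0x294542) .nil) (nat_lit 0x209631) (nat_lit 2737) (nat_lit 0x262d02)
  (.node (.node .nil (nat_lit 0x20d0d2) (nat_lit 5584) (nat_lit 0xf50018) .nil) (nat_lit 0x2114e4) (nat_lit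
  2529) (nat_lit 0x600527) .nil)) (nat_lit 0x215207) (nat_lit 6080) (nat_lit 0xecc040) (.node (.node (.node
  .nil (nat_lit 0x219922) (nat_lit 1985) (nat_lit 0x60ce02) .nil) (nat_lit 0x21b01c) (nat_lit 5361) (nat_lit
  0x412c62) .nil) (nat_lit 0x2205d1) (nat_lit 1553) (nat_lit 140167) (.node (.node .nil (nat_lit 0x224332)
  (nat_lit 5888) (nat_lit 0x745102) .nil) (nat_lit 0x226a0c) (nat_lit 6000) (nat_lit 0x444d41) .nil))))
  (nat_lit 0x228817) (nat_lit 1185) (nat_lit 190626) (.node (.node (.node (.node (.node .nil (nat_lit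
  0x22a129) (nat_lit 5952) (nat_lit 0x481d0a) .nil) (nat_lit 0x230ac2) (nat_lit 6048) (nat_lit 0x61c111) .nil)
  (nat_lit 0x234c21) (nat_lit 4577) (nat_lit 0x6a8182) (.node (.node .nil (nat_lit 0x238704) (nat_lit 2897)
  (nat_lit 0x440ba2) .nil) (nat_lit 0x241a1a) (nat_lit 5937) (nat_lit 0x14e442) .nil)) (nat_lit 0x243324)
  (nat_lit 4704) (nat_lit 0xc05446) (.node (.node (.node .nil (nat_lit 0x24f801) (nat_lit 721) (nat_lit
  0x1b8c02) .nil) (nat_lit 0x251509) (nat_lit 1696) (nat_lit 0xc88826) .nil) (nat_lit 0x26043c) (nat_lit 5376)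
  (nat_lit 0x501964) (.node (.node .nil (nat_lit 0x262d02) (nat_lit 1633) (nat_lit 0x11c382) .nil) (nat_lit
  0x26a0c4) (nat_lit 3457) (nat_lit 0x1108a7) .nil))) (nat_lit 0x272211) (nat_lit 1072) (nat_lit 0x58c504)
  (.node (.node (.node (.node .nil (nat_lit 0x27c00a) (nat_lit 3105) (nat_lit 0x5848c2) .nil) (nat_lit
  0x280cb2) (nat_lit 3169) (nat_lit 0xa0e106) .nil) (nat_lit 0x28258c) (nat_lit 2017) (nat_lit 0x810366)
  (.node (.node .nil (nat_lit 0x284a51) (nat_lit 2368) (nat_lit 0x5c6011) .nil) (nat_lit 0x288174) (nat_lit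
  5601) (nat_lit 0xa02a23) .nil)) (nat_lit 0x28a84a) (nat_lit 5041) (nat_lit 0x81c843) (.node (.node (.node
  .nil (nat_lit 0x2903a1) (nat_lit 960) (nat_lit 0x49f002) .nil) (nat_lit 0x294542) (nat_lit 1408) (nat_lit
  0x64a032) .nil) (nat_lit 0x29c884) (nat_lit 304) (nat_lit 0x45a049) (.node (.node .nil (nat_lit 0x2a1294)
  (nat_lit 2673) (nat_lit 0x8424a6) .nil) (nat_lit 0x2b9041) (nat_lit 1232) (nat_lit 0xc8a118) .nil)))))
  (nat_lit 0x2c2461) (nat_lit 3488) (nat_lit 0x483434) (.node (.node (.node (.node (.node (.node .nil (nat_lit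
  0x2c6282) (nat_lit 5248) (nat_lit 0x656404) .nil) (nat_lit 0x2c8099) (nat_lit 3953) (nat_lit 0x922846) .nil)
  (nat_lit 0x2d024c) (nat_lit 4272) (nat_lit 0x40e854) (.node (.node .nil (nat_lit 0x3008dc) (nat_lit 4736)
  (nat_lit 0x530851) .nil) (nat_lit 0x3021e2) (nat_lit 5984) (nat_lit 0x631412) .nil)) (nat_lit 0x306701)
  (nat_lit 2577) (nat_lit 987906) (.node (.node (.node .nil (nat_lit 0x30851a) (nat_lit 1473) (nat_lit 31554)
  .nil) (nat_lit 0x30ac24) (nat_lit 1040) (nat_lit 0x421469) .nil) (nat_lit 0x31412c) (nat_lit 848) (nat_lit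
  0x469842) (.node (.node .nil (nat_lit 0x316812) (nat_lit 977) (nat_lit 0x49f002) .nil) (nat_lit 0x318a09)
  (nat_lit 865) (nat_lit 0x469842) .nil))) (nat_lit 0x325019) (nat_lit 2592) (nat_lit 0xde0900) (.node (.node
  (.node (.node .nil (nat_lit 0x32b202) (nat_lit 1664) (nat_lit 0xe24508) .nil) (nat_lit 0x340931) (nat_lit
  2785) (nat_lit 0x32b202) .nil) (nat_lit 0x34200f) (nat_lit 4464) (nat_lit 0x6a0c44) (.node (.node .nil
  (nat_lit 0x34c214) (nat_lit 992) (nat_lit 0x56404c) .nil) (nat_lit 0x350622) (nat_lit 5696) (nat_lit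
  0x62d024) .nil)) (nat_lit 0x3540c1) (nat_lit 3233) (nat_lit 0x5a1007) (.node (.node (.node .nil (nat_lit
  0x371804) (nat_lit 1265) (nat_lit 0x5094a2) .nil) (nat_lit 0x387044) (nat_lit 2304) (nat_lit 0xc62450) .nil)
  (nat_lit 0x39108a) (nat_lit 1792) (nat_lit 0xe3a800) (.node (.node .nil (nat_lit 0x3a2881) (nat_lit 4032)
  (nat_lit 0x4b2501) .nil) (nat_lit 0x3e0052) (nat_lit 289) (nat_lit 0x907083) .nil)))) (nat_lit 0x400a4f)
  (nat_lit 3648) (nat_lit 0x284a51) (.node (.node (.node (.node (.node .nil (nat_lit 0x402371) (nat_lit 1921)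
  (nat_lit 0x272211) .nil) (nat_lit 0x404cac) (nat_lit 5168) (nat_lit 334433) .nil) (nat_lit 0x406592)
  (nat_lit 6112) (nat_lit 0x350622) (.node (.node .nil (nat_lit 0x408789) (nat_lit 529) (nat_lit 396116) .nil)
  (nat_lit 0x40c16a) (nat_lit 3665) (nat_lit 0x284a51) .nil)) (nat_lit 0x40e854) (nat_lit 2945) (nat_lit
  632881) (.node (.node (.node .nil (nat_lit 0x41055c) (nat_lit 2336) (nat_lit 0x108a72) .nil) (nat_lit
  0x412c62) (nat_lit 4080) (nat_lit 0x209631) .nil) (nat_lit 0x416a81) (nat_lit 3936) (nat_lit 902657) (.node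
  (.node .nil (nat_lit 0x41889a) (nat_lit 1600) (nat_lit 0x318a09) .nil) (nat_lit 0x41a1a4) (nat_lit 2433)
  (nat_lit 0x610a34) .nil))) (nat_lit 0x421469) (nat_lit 544) (nat_lit 0x881b30) (.node (.node (.node (.node
  .nil (nat_lit 0x42528a) (nat_lit 2273) (nat_lit 804052) .nil) (nat_lit 0x42b091) (nat_lit 2064) (nat_lit
  0x990708) .nil) (nat_lit 0x433244) (nat_lit 4944) (nat_lit 0x80c750) (.node (.node .nil (nat_lit 0x440ba2)
  (nat_lit 1777) (nat_lit 0x34c214) .nil) (nat_lit 0x44229c) (nat_lit 4177) (nat_lit 0x152074) .nil)) (nat_lit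
  0x444d41) (nat_lit 5056) (nat_lit 786999) (.node (.node (.node .nil (nat_lit 0x448664) (nat_lit 4161)
  (nat_lit 0x340931) .nil) (nat_lit 0x44c087) (nat_lit 5504) (nat_lit 0x2d024c) .nil) (nat_lit 0x4504b1)
  (nat_lit 5121) (nat_lit 0x722114) (.node (.node .nil (nat_lit 0x454252) (nat_lit 1760) (nat_lit 0x34c214)
  .nil) (nat_lit 0x45a049) (nat_lit 144) (nat_lit 560668) .nil)))))))
def to384_1 : T := (.node (.node (.node (.node (.node (.node (.node (.node .nil (nat_lit 0x469842) (nat_lit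
  433) (nat_lit 0x10cc91) .nil) (nat_lit 0x481d0a) (nat_lit 4961) (nat_lit 0x80c750) .nil) (nat_lit 0x483434)
  (nat_lit 2225) (nat_lit 0xa12530) (.node (.node .nil (nat_lit 0x4890cc) (nat_lit 640) (nat_lit 0x812a58)
  .nil) (nat_lit 0x491219) (nat_lit 2321) (nat_lit 0xc62450) .nil)) (nat_lit 0x49f002) (nat_lit 497) (nat_lit
  0xc94c10) (.node (.node (.node .nil (nat_lit 0x4a032c) (nat_lit 1456) (nat_lit 31554) .nil) (nat_lit
  0x4a2a12) (nat_lit 3904) (nat_lit 0x306701) .nil) (nat_lit 0x4ac809) (nat_lit 2289) (nat_lit 0x8a88d0)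
  (.node (.node .nil (nat_lit 0x4b2501) (nat_lit 2705) (nat_lit 0xc30390) .nil) (nat_lit 0x4c5a04) (nat_lit
  448) (nat_lit 0x846245) .nil))) (nat_lit 0x4c9121) (nat_lit 5297) (nat_lit 0xb20e10) (.node (.node (.node
  (.node .nil (nat_lit 0x4e02c1) (nat_lit 4289) (nat_lit 0x960095) .nil) (nat_lit 0x4e4422) (nat_lit 5840)
  (nat_lit 0x243324) .nil) (nat_lit 0x4f8014) (nat_lit 5777) (nat_lit 0xd028b0) (.node (.node .nil (nat_lit
  0x501964) (nat_lit 4097) (nat_lit 0x209631) .nil) (nat_lit 0x50305a) (nat_lit 5280) (nat_lit 0xb20e10)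
  .nil)) (nat_lit 0x5094a2) (nat_lit 672) (nat_lit 0xa31228) (.node (.node (.node .nil (nat_lit 0x50d241)
  (nat_lit 2257) (nat_lit 924689) .nil) (nat_lit 0x515094) (nat_lit 3505) (nat_lit 0x483434) .nil) (nat_lit
  0x520742) (nat_lit 2401) (nat_lit 283537) (.node (.node .nil (nat_lit 0x5241a1) (nat_lit 2560) (nat_lit
  987906) .nil) (nat_lit 0x528a84) (nat_lit 3041) (nat_lit 301236) .nil)))) (nat_lit 0x530851) (nat_lit 3297)
  (nat_lit 0x42b091) (.node (.node (.node (.node (.node .nil (nat_lit 0x541889) (nat_lit 2833) (nat_lit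
  0x129454) .nil) (nat_lit 0x56404c) (nat_lit 512) (nat_lit 396116) .nil) (nat_lit 0x572082) (nat_lit 4256)
  (nat_lit 0x238704) (.node (.node .nil (nat_lit 0x580e21) (nat_lit 4752) (nat_lit 684577) .nil) (nat_lit
  0x5848c2) (nat_lit 1904) (nat_lit 0x272211) .nil)) (nat_lit 0x58c504) (nat_lit 561) (nat_lit 0x881b30)
  (.node (.node (.node .nil (nat_lit 0x590132) (nat_lit 2545) (nat_lit 0xe07210) .nil) (nat_lit 0x59280c)
  (nat_lit 4672) (nat_lit 175681) .nil) (nat_lit 0x5a1007) (nat_lit 2032) (nat_lit 0xaa2340) (.node (.node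
  .nil (nat_lit 0x5c6011) (nat_lit 1376) (nat_lit 0x1e2604) .nil) (nat_lit 0x5c820a) (nat_lit 4321) (nat_lit
  0x945850) .nil))) (nat_lit 0x600527) (nat_lit 1488) (nat_lit 0x681262) (.node (.node (.node (.node .nil
  (nat_lit 0x602c19) (nat_lit 3825) (nat_lit 237906) .nil) (nat_lit 0x6043c4) (nat_lit 2880) (nat_lit
  0x454252) .nil) (nat_lit 0x6088e1) (nat_lit 2113) (nat_lit 0x228817) (.node (.node .nil (nat_lit 0x60ce02)
  (nat_lit 1120) (nat_lit 0x644229) .nil) (nat_lit 0x610a34) (nat_lit 1425) (nat_lit 0x64a032) .nil)) (nat_lit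
  0x61230a) (nat_lit 1968) (nat_lit 0x60ce02) (.node (.node (.node .nil (nat_lit 0x61c111) (nat_lit 5329)
  (nat_lit 0x4a2a12) .nil) (nat_lit 0x621b01) (nat_lit 2657) (nat_lit 427666) .nil) (nat_lit 0x62d024)
  (nat_lit 4561) (nat_lit 0x280cb2) (.node (.node .nil (nat_lit 0x631412) (nat_lit 4976) (nat_lit 0xf08320)
  .nil) (nat_lit 0x6404ca) (nat_lit 1105) (nat_lit 0x104157) .nil))))) (nat_lit 0x644229) (nat_lit 593)
  (nat_lit 0x3e0052) (.node (.node (.node (.node (.node (.node .nil (nat_lit 0x64890c) (nat_lit 2353) (nat_lit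
  0x108a72) .nil) (nat_lit 0x64a032) (nat_lit 752) (nat_lit 0x70160c) .nil) (nat_lit 0x656404) (nat_lit 3857)
  (nat_lit 0x590132) (.node (.node .nil (nat_lit 0x681262) (nat_lit 801) (nat_lit 0xa44413) .nil) (nat_lit
  0x685481) (nat_lit 4529) (nat_lit 0x8a0516) .nil)) (nat_lit 0x6a0c44) (nat_lit 3120) (nat_lit 0x402371)
  (.node (.node (.node .nil (nat_lit 0x6a8182) (nat_lit 3184) (nat_lit 0x61230a) .nil) (nat_lit 0x70160c)
  (nat_lit 385) (nat_lit 267634) .nil) (nat_lit 0x713021) (nat_lit 4496) (nat_lit 0xca9600) (.node (.node .nil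
  (nat_lit 0x72082a) (nat_lit 3968) (nat_lit 0x621b01) .nil) (nat_lit 0x722114) (nat_lit 3696) (nat_lit
  0x520742) .nil))) (nat_lit 0x745102) (nat_lit 4769) (nat_lit 0x185612) (.node (.node (.node (.node .nil
  (nat_lit 0x768401) (nat_lit 2464) (nat_lit 0x4a032c) .nil) (nat_lit 0x780149) (nat_lit 5312) (nat_lit
  0x4a2a12) .nil) (nat_lit 0x7c00a4) (nat_lit 193) (nat_lit 0xb01036) (.node (.node .nil (nat_lit 0x800c75)
  (nat_lit 6128) (nat_lit 0x1810f1) .nil) (nat_lit 0x80254b) (nat_lit 4544) (nat_lit 0x280cb2) .nil)) (nat_lit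
  0x804a96) (nat_lit 4640) (nat_lit 0x3540c1) (.node (.node (.node .nil (nat_lit 0x8063a8) (nat_lit 1936)
  (nat_lit 351362) .nil) (nat_lit 0x8081b3) (nat_lit 2912) (nat_lit 0x39108a) .nil) (nat_lit 0x80a88d)
  (nat_lit 2752) (nat_lit 593097) (.node (.node .nil (nat_lit 0x80c750) (nat_lit 3520) (nat_lit 0x1440ba)
  .nil) (nat_lit 0x810366) (nat_lit 1137) (nat_lit 0x644229) .nil)))) (nat_lit 0x812a58) (nat_lit 321)
  (nat_lit 0x45a049) (.node (.node (.node (.node (.node .nil (nat_lit 0x814585) (nat_lit 2481) (nat_lit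
  0x4a032c) .nil) (nat_lit 0x818ea0) (nat_lit 3633) (nat_lit 0x64890c) .nil) (nat_lit 0x81c843) (nat_lit 3585)
  (nat_lit 0x4ac809) (.node (.node .nil (nat_lit 0x821253) (nat_lit 6033) (nat_lit 418953) .nil) (nat_lit
  0x8254b0) (nat_lit 1440) (nat_lit 0x9511a0) .nil)) (nat_lit 0x82f048) (nat_lit 2769) (nat_lit 593097) (.node
  (.node (.node .nil (nat_lit 0x831d40) (nat_lit 1025) (nat_lit 0x408789) .nil) (nat_lit 0x839086) (nat_lit
  4000) (nat_lit 0xa181c8) .nil) (nat_lit 0x840d98) (nat_lit 3440) (nat_lit 0x1108a7) (.node (.node .nil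
  (nat_lit 0x8424a6) (nat_lit 1585) (nat_lit 0x31412c) .nil) (nat_lit 0x846245) (nat_lit 225) (nat_lit
  0x1f0029) .nil))) (nat_lit 0x84805e) (nat_lit 3473) (nat_lit 0x106869) (.node (.node (.node (.node .nil
  (nat_lit 0x84a960) (nat_lit 16) (nat_lit 5279) .nil) (nat_lit 0x85028b) (nat_lit 608) (nat_lit 0x29c884)
  .nil) (nat_lit 0x854468) (nat_lit 3024) (nat_lit 301236) (.node (.node .nil (nat_lit 0x85e090) (nat_lit
  5809) (nat_lit 0x59280c) .nil) (nat_lit 0x863a80) (nat_lit 3792) (nat_lit 0x814585) .nil)) (nat_lit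
  0x881b30) (nat_lit 272) (nat_lit 0x907083) (.node (.node (.node .nil (nat_lit 0x88320e) (nat_lit 4369)
  (nat_lit 0x854468) .nil) (nat_lit 0x88d015) (nat_lit 3056) (nat_lit 0x9c20c8) .nil) (nat_lit 0x891423)
  (nat_lit 1681) (nat_lit 0xe24508) (.node (.node .nil (nat_lit 0x8952c0) (nat_lit 2849) (nat_lit 0xcc040d)
  .nil) (nat_lit 0x8a0516) (nat_lit 3153) (nat_lit 0x8063a8) .nil)))))) (nat_lit 0x8a2c28) (nat_lit 4017)
  (nat_lit 0xa181c8) (.node (.node (.node (.node (.node (.node (.node .nil (nat_lit 0x8a88d0) (nat_lit 1312)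
  (nat_lit 0x112199) .nil) (nat_lit 0x8b0a05) (nat_lit 4336) (nat_lit 582081) .nil) (nat_lit 0x8bc120)
  (nat_lit 5904) (nat_lit 307594) (.node (.node .nil (nat_lit 0x8c7500) (nat_lit 2081) (nat_lit 0x990708)
  .nil) (nat_lit 0x8d9808) (nat_lit 4112) (nat_lit 0x80a88d) .nil)) (nat_lit 0x8e4218) (nat_lit 3073) (nat_lit
  0x9c20c8) (.node (.node (.node .nil (nat_lit 0x8ea003) (nat_lit 2161) (nat_lit 0x934888) .nil) (nat_lit
  0x903660) (nat_lit 2448) (nat_lit 0x8254b0) .nil) (nat_lit 0x907083) (nat_lit 129) (nat_lit 742412) (.node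
  (.node .nil (nat_lit 0x909298) (nat_lit 2144) (nat_lit 0x934888) .nil) (nat_lit 0x91104d) (nat_lit 1057)
  (nat_lit 0x421469) .nil))) (nat_lit 0x920178) (nat_lit 945) (nat_lit 0x2032c9) (.node (.node (.node (.node
  .nil (nat_lit 0x922846) (nat_lit 2624) (nat_lit 0x2205d1) .nil) (nat_lit 0x92a580) (nat_lit 4592) (nat_lit
  198058) .nil) (nat_lit 0x934888) (nat_lit 1217) (nat_lit 0x4890cc) (.node (.node .nil (nat_lit 0x945850)
  (nat_lit 2993) (nat_lit 0x18b409) .nil) (nat_lit 0x9511a0) (nat_lit 769) (nat_lit 0x70160c) .nil)) (nat_lit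
  0x960095) (nat_lit 2977) (nat_lit 0x1230ac) (.node (.node (.node .nil (nat_lit 0x978240) (nat_lit 4209)
  (nat_lit 0x541889) .nil) (nat_lit 0x98081b) (nat_lit 4129) (nat_lit 0x82f048) .nil) (nat_lit 0x982125)
  (nat_lit 689) (nat_lit 0xa31228) (.node (.node .nil (nat_lit 0x98ea00) (nat_lit 5393) (nat_lit 0x8d9808)
  .nil) (nat_lit 0x990708) (nat_lit 1168) (nat_lit 190626) .nil)))) (nat_lit 0x9b3010) (nat_lit 5073) (nat_lit
  0xc13488) (.node (.node (.node (.node (.node .nil (nat_lit 0x9c20c8) (nat_lit 1889) (nat_lit 0x91104d) .nil)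
  (nat_lit 0x9c8430) (nat_lit 2960) (nat_lit 0x1230ac) .nil) (nat_lit 0x9d4006) (nat_lit 4864) (nat_lit
  0x26a0c4) (.node (.node .nil (nat_lit 0xa0031d) (nat_lit 3088) (nat_lit 0x5848c2) .nil) (nat_lit 0xa02a23)
  (nat_lit 4449) (nat_lit 0x27c00a) .nil)) (nat_lit 0xa06cc0) (nat_lit 5105) (nat_lit 622863) (.node (.node
  (.node .nil (nat_lit 0xa0c838) (nat_lit 4192) (nat_lit 0x541889) .nil) (nat_lit 0xa0e106) (nat_lit 1952)
  (nat_lit 0x6404ca) .nil) (nat_lit 0xa10c0e) (nat_lit 3376) (nat_lit 0x6088e1) (.node (.node .nil (nat_lit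
  0xa12530) (nat_lit 1248) (nat_lit 0x5094a2) .nil) (nat_lit 0xa181c8) (nat_lit 2688) (nat_lit 0x41889a)
  .nil))) (nat_lit 0xa23405) (nat_lit 4609) (nat_lit 198058) (.node (.node (.node (.node .nil (nat_lit
  0xa31228) (nat_lit 336) (nat_lit 0xc0d980) .nil) (nat_lit 0xa402f0) (nat_lit 4928) (nat_lit 0x515094) .nil)
  (nat_lit 0xa44413) (nat_lit 400) (nat_lit 0x7c00a4) (.node (.node .nil (nat_lit 0xa4a608) (nat_lit 3361)
  (nat_lit 0x15094a) .nil) (nat_lit 0xa54b00) (nat_lit 5553) (nat_lit 0x5c820a) .nil)) (nat_lit 0xa58025)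
  (nat_lit 1200) (nat_lit 0x4890cc) (.node (.node (.node .nil (nat_lit 0xa69110) (nat_lit 6096) (nat_lit
  0xd0018e) .nil) (nat_lit 0xa81458) (nat_lit 5681) (nat_lit 0x80254b) .nil) (nat_lit 0xa8b0a0) (nat_lit 4801)
  (nat_lit 0xa10c0e) (.node (.node .nil (nat_lit 0xaa2340) (nat_lit 1153) (nat_lit 0x85028b) .nil) (nat_lit
  0xaf0480) (nat_lit 3728) (nat_lit 0x41a1a4) .nil))))) (nat_lit 0xb01036) (nat_lit 80) (nat_lit 0xf210c0)
  (.node (.node (.node (.node (.node (.node .nil (nat_lit 0xb03908) (nat_lit 2864) (nat_lit 0xc20c83) .nil)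
  (nat_lit 0xb1d400) (nat_lit 5969) (nat_lit 0x481d0a) .nil) (nat_lit 0xb20e10) (nat_lit 3872) (nat_lit
  0x5241a1) (.node (.node .nil (nat_lit 0xb30103) (nat_lit 3569) (nat_lit 0x42528a) .nil) (nat_lit 0xb66020)
  (nat_lit 2929) (nat_lit 0x39108a) .nil)) (nat_lit 0xb84190) (nat_lit 5488) (nat_lit 0x572082) (.node (.node
  (.node .nil (nat_lit 0xb90860) (nat_lit 3280) (nat_lit 0x42b091) .nil) (nat_lit 0xc012a5) (nat_lit 4224)
  (nat_lit 0x8952c0) .nil) (nat_lit 0xc05446) (nat_lit 3265) (nat_lit 542009) (.node (.node .nil (nat_lit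
  0xc0d980) (nat_lit 161) (nat_lit 560668) .nil) (nat_lit 0xc13488) (nat_lit 3617) (nat_lit 0x41055c) .nil)))
  (nat_lit 0xc19070) (nat_lit 3408) (nat_lit 0x909298) (.node (.node (.node (.node .nil (nat_lit 0xc20c83)
  (nat_lit 1744) (nat_lit 0x2903a1) .nil) (nat_lit 0xc24a60) (nat_lit 2384) (nat_lit 283537) .nil) (nat_lit
  0xc28145) (nat_lit 896) (nat_lit 525274) (.node (.node .nil (nat_lit 0xc30390) (nat_lit 1616) (nat_lit
  0x11c382) .nil) (nat_lit 0xc41348) (nat_lit 5792) (nat_lit 0x804a96) .nil)) (nat_lit 0xc62450) (nat_lit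
  1329) (nat_lit 0x112199) (.node (.node (.node .nil (nat_lit 0xc680a8) (nat_lit 5873) (nat_lit 0x3008dc)
  .nil) (nat_lit 0xc805e0) (nat_lit 4433) (nat_lit 0xa0031d) .nil) (nat_lit 0xc84303) (nat_lit 4417) (nat_lit
  0x8e4218) (.node (.node .nil (nat_lit 0xc88826) (nat_lit 928) (nat_lit 0x2032c9) .nil) (nat_lit 0xc8a118)
  (nat_lit 657) (nat_lit 0x812a58) .nil)))) (nat_lit 0xc94c10) (nat_lit 240) (nat_lit 0x14a2a1) (.node (.node
  (.node (.node (.node .nil (nat_lit 0xca9600) (nat_lit 3136) (nat_lit 0x8063a8) .nil) (nat_lit 0xcc040d)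
  (nat_lit 1729) (nat_lit 0x920178) .nil) (nat_lit 0xcd2220) (nat_lit 5568) (nat_lit 63108) (.node (.node .nil
  (nat_lit 0xd0018e) (nat_lit 5537) (nat_lit 21116) .nil) (nat_lit 0xd028b0) (nat_lit 4624) (nat_lit 0x131681)
  .nil)) (nat_lit 0xd08c48) (nat_lit 5825) (nat_lit 39257) (.node (.node (.node .nil (nat_lit 0xd16140)
  (nat_lit 2640) (nat_lit 427666) .nil) (nat_lit 0xd40063) (nat_lit 3921) (nat_lit 0x325019) .nil) (nat_lit
  0xd44680) (nat_lit 816) (nat_lit 475812) (.node (.node .nil (nat_lit 0xd85028) (nat_lit 5200) (nat_lit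
  0x863a80) .nil) (nat_lit 0xde0900) (nat_lit 1536) (nat_lit 140167) .nil))) (nat_lit 0xe07210) (nat_lit 1504)
  (nat_lit 0xd44680) (.node (.node (.node (.node .nil (nat_lit 0xe0900b) (nat_lit 5425) (nat_lit 150618) .nil)
  (nat_lit 0xe24508) (nat_lit 913) (nat_lit 525274) .nil) (nat_lit 0xe3a800) (nat_lit 1008) (nat_lit 0x408789)
  (.node (.node .nil (nat_lit 0xe41c20) (nat_lit 2513) (nat_lit 0x30851a) .nil) (nat_lit 0xe60206) (nat_lit
  3537) (nat_lit 0x1440ba) .nil)) (nat_lit 0xe80a88) (nat_lit 4897) (nat_lit 0x84805e) (.node (.node (.node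
  .nil (nat_lit 0xecc040) (nat_lit 5409) (nat_lit 0x98081b) .nil) (nat_lit 0xf04805) (nat_lit 5473) (nat_lit
  692282) .nil) (nat_lit 0xf08320) (nat_lit 3552) (nat_lit 0x42528a) (.node (.node .nil (nat_lit 0xf210c0)
  (nat_lit 33) (nat_lit 5279) .nil) (nat_lit 0xf50018) (nat_lit 4384) (nat_lit 0x528a84) .nil)))))))
def to384 : T := (.node to384_0 (nat_lit 0x461584) (nat_lit 2000) (nat_lit 0x810366) to384_1)
theorem to384_chk : band (orbChk act (gensOf cS) 5279 (2 ^ 24) to384) (Nat.beq to384.size 384) = true := by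
  decide +kernel
theorem to384_card : (orbit (stabilizer M24 S0) (unmask 5279)).ncard = 384 :=
  orbit_ncard_of_chk acSM trivial cS_chk stab_S0 (oct_rep (m := 5279) (by decide +kernel)).2 to384_chk

def tt15 : T := (.node (.node (.node (.node .nil (nat_lit 0x82402f149f00) (nat_lit 0) (nat_lit 0x82402f149f00)
  .nil) (nat_lit 0x82402f2c19c0) (nat_lit 144) (nat_lit 0xc1201712c628) (.node .nil (nat_lit 0x82402f3886c0)
  (nat_lit 128) (nat_lit 0x9086072c19c0) .nil)) (nat_lit 0x84190712c628) (nat_lit 161) (nat_lit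
  0xc1201712c628) (.node (.node .nil (nat_lit 0x8419072a40e8) (nat_lit 208) (nat_lit 0xa800c712c628) .nil)
  (nat_lit 0x8419073886c0) (nat_lit 32) (nat_lit 0xa800c7149f00) (.node .nil (nat_lit 0x908607065928) (nat_lit
  113) (nat_lit 0xc12017065928) .nil))) (nat_lit 0x9086072a40e8) (nat_lit 225) (nat_lit 0xa800c7065928) (.node
  (.node (.node .nil (nat_lit 0x9086072c19c0) (nat_lit 80) (nat_lit 0xc12017149f00) .nil) (nat_lit
  0xa800c7065928) (nat_lit 193) (nat_lit 0x82402f3886c0) (.node .nil (nat_lit 0xa800c712c628) (nat_lit 176)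
  (nat_lit 0x908607065928) .nil)) (nat_lit 0xa800c7149f00) (nat_lit 16) (nat_lit 0x82402f149f00) (.node (.node
  .nil (nat_lit 0xc12017065928) (nat_lit 64) (nat_lit 0x8419073886c0) .nil) (nat_lit 0xc1201712c628) (nat_lit
  96) (nat_lit 0xc12017065928) (.node .nil (nat_lit 0xc12017149f00) (nat_lit 49) (nat_lit 0xa800c7149f00)
  .nil))))
theorem tt15_chk : band (orbChk apT (gensOf cS) 143212179398400 (2 ^ 48) tt15) (Nat.beq tt15.size 15) = true := by
  decide +kernel
theorem tt15_card : (orbit (stabilizer M24 S0) (trio (unmask 1351424) (unmask 8536111))).ncard = 15 :=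
  orbit_ncard_of_chk acT (trio_rep (a := 1351424) (b := 8536111) (k := 143212179398400) (by decide +kernel)).1 cS_chk stab_S0 (trio_rep (a := 1351424) (b := 8536111) (k := 143212179398400) (by decide +kernel)).2 tt15_chk

def tt180 : T := (.node (.node (.node (.node (.node (.node (.node (.node .nil (nat_lit 0x8018ea2e4105)
  (nat_lit 865) (nat_lit 0x9a02a220c44d) .nil) (nat_lit 0x8031d412c628) (nat_lit 2305) (nat_lit
  0xd2c01201262d) .nil) (nat_lit 0x805e09168126) (nat_lit 2704) (nat_lit 0x8c48a122114e) (.node (.node .nil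
  (nat_lit 0x80952c164a03) (nat_lit 1249) (nat_lit 0xc120171ed080) .nil) (nat_lit 0x80bc122a40e8) (nat_lit
  225) (nat_lit 0xa800c701ed08) .nil)) (nat_lit 0x81511a3886c0) (nat_lit 336) (nat_lit 0xb48882081745) (.node
  (.node (.node .nil (nat_lit 0x8178243886c0) (nat_lit 2480) (nat_lit 0x8494c1380b06) .nil) (nat_lit
  0x81b3012a40e8) (nat_lit 945) (nat_lit 0xa800c710f130) .nil) (nat_lit 0x8206cc38c023) (nat_lit 1728)
  (nat_lit 0x9086070149f0) (.node (.node .nil (nat_lit 0x82402f0527c0) (nat_lit 449) (nat_lit 0x80bc122a40e8)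
  .nil) (nat_lit 0x82402f099590) (nat_lit 144) (nat_lit 0x91a02a2c19c0) .nil))) (nat_lit 0x82402f0cb250)
  (nat_lit 1009) (nat_lit 0x952c012a40e8) (.node (.node (.node (.node .nil (nat_lit 0x82402f11b8c0) (nat_lit
  2496) (nat_lit 0x8384192c19c0) .nil) (nat_lit 0x82402f182d50) (nat_lit 880) (nat_lit 0xc1c20c122433) .nil)
  (nat_lit 0x82402f1d0a90) (nat_lit 2752) (nat_lit 0xc0063a13e005) (.node (.node .nil (nat_lit 0x82402f20ab90)
  (nat_lit 1200) (nat_lit 0x82a2342c19c0) .nil) (nat_lit 0x82402f258c50) (nat_lit 1968) (nat_lit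
  0x8366022c19c0) .nil)) (nat_lit 0x82402f293e00) (nat_lit 257) (nat_lit 0xc58502103a15) (.node (.node (.node
  .nil (nat_lit 0x82402f311350) (nat_lit 2288) (nat_lit 0xd2c01201262d) .nil) (nat_lit 0x82402f343490)
  (nat_lit 33) (nat_lit 0xc48a11113506) .nil) (nat_lit 0x82402f3da100) (nat_lit 1872) (nat_lit 0x9142312c19c0)
  (.node .nil (nat_lit 0x8269113886c0) (nat_lit 417) (nat_lit 0x8419070ba288) .nil)))) (nat_lit
  0x828b0a145425) (nat_lit 1905) (nat_lit 0xc1201704cac8) (.node (.node (.node (.node (.node .nil (nat_lit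
  0x82a2342c19c0) (nat_lit 672) (nat_lit 0xc120171055c8) .nil) (nat_lit 0x8320e1149f00) (nat_lit 193) (nat_lit
  0x886072149f00) .nil) (nat_lit 0x8366022c19c0) (nat_lit 1360) (nat_lit 0xc120171a1a48) (.node (.node .nil
  (nat_lit 0x8384192c19c0) (nat_lit 1841) (nat_lit 0x9086072d5030) .nil) (nat_lit 0x84190700a4f8) (nat_lit
  2017) (nat_lit 0xcc109212c628) .nil)) (nat_lit 0x8419070b0670) (nat_lit 928) (nat_lit 0xa800c710f130) (.node
  (.node (.node .nil (nat_lit 0x8419070ba288) (nat_lit 208) (nat_lit 0xa800c701ed08) .nil) (nat_lit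
  0x8419071262d0) (nat_lit 2449) (nat_lit 0xe009520d3085) .nil) (nat_lit 0x8419071964a0) (nat_lit 2352)
  (nat_lit 0xa800c707b420) (.node (.node .nil (nat_lit 0x84190719c058) (nat_lit 2464) (nat_lit 0xa800c716a818)
  .nil) (nat_lit 0x841907214698) (nat_lit 1329) (nat_lit 0xa1189112c628) .nil))) (nat_lit 0x84190721e260)
  (nat_lit 2096) (nat_lit 0xa800c7132b20) (.node (.node (.node (.node .nil (nat_lit 0x8419072ae410) (nat_lit
  1489) (nat_lit 0x89298212c628) .nil) (nat_lit 0x841907332448) (nat_lit 321) (nat_lit 0xac281412c628) .nil)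
  (nat_lit 0x8419073380b0) (nat_lit 1745) (nat_lit 0x8d015112c628) (.node (.node .nil (nat_lit 0x841907382238)
  (nat_lit 576) (nat_lit 0xa800c7058338) .nil) (nat_lit 0x8430393886c0) (nat_lit 625) (nat_lit 0x841907332448)
  .nil)) (nat_lit 0x8494c1380b06) (nat_lit 1809) (nat_lit 0x84d222120d0d) (.node (.node (.node .nil (nat_lit
  0x84d222120d0d) (nat_lit 1153) (nat_lit 0xc120170293e0) .nil) (nat_lit 0x8516142a40e8) (nat_lit 2641)
  (nat_lit 0xa800c703da10) .nil) (nat_lit 0x86072110d80e) (nat_lit 1761) (nat_lit 0xc1201708dc60) (.node .nil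
  (nat_lit 0x8641c228182d) (nat_lit 1953) (nat_lit 0xa2846218428d) .nil))))) (nat_lit 0x86cc0410132b) (nat_lit
  2401) (nat_lit 0xc120171889a8) (.node (.node (.node (.node (.node (.node .nil (nat_lit 0x8708323886c0)
  (nat_lit 1521) (nat_lit 0x8419070b0670) .nil) (nat_lit 0x87210c3886c0) (nat_lit 960) (nat_lit
  0xbc1201008dc6) .nil) (nat_lit 0x882691065928) (nat_lit 1553) (nat_lit 0x87210c3886c0) (.node (.node .nil
  (nat_lit 0x88494c2610a3) (nat_lit 2273) (nat_lit 0x888269324486) .nil) (nat_lit 0x886072149f00) (nat_lit 80)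
  (nat_lit 0x82402f343490) .nil)) (nat_lit 0x888269324486) (nat_lit 1584) (nat_lit 0x908607087898) (.node
  (.node (.node .nil (nat_lit 0x88c48a320265) (nat_lit 2768) (nat_lit 0x9086072528a8) .nil) (nat_lit
  0x8900bc149f00) (nat_lit 2049) (nat_lit 0xe0206c0b4093) .nil) (nat_lit 0x89298212c628) (nat_lit 897)
  (nat_lit 0xc1c20c122433) (.node (.node .nil (nat_lit 0x89a444065928) (nat_lit 2656) (nat_lit 0x84190700a4f8)
  .nil) (nat_lit 0x8a1189244866) (nat_lit 1472) (nat_lit 0x89298212c628) .nil))) (nat_lit 0x8c0e42309185)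
  (nat_lit 1920) (nat_lit 0xcb004a149f00) (.node (.node (.node (.node .nil (nat_lit 0x8c48a122114e) (nat_lit
  2081) (nat_lit 0xba800c0046e3) .nil) (nat_lit 0x8c8384301c43) (nat_lit 1649) (nat_lit 0x940a2c02d503) .nil)
  (nat_lit 0x8d015112c628) (nat_lit 1088) (nat_lit 0xe10641065928) (.node (.node .nil (nat_lit 0x8e106420498b)
  (nat_lit 2737) (nat_lit 0xb004a90ac246) .nil) (nat_lit 0x900bc12c9406) (nat_lit 2032) (nat_lit
  0xe0206c0b4093) .nil)) (nat_lit 0x904d2206920d) (nat_lit 2784) (nat_lit 0x88494c2610a3) (.node (.node (.node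
  .nil (nat_lit 0x90641c2c19c0) (nat_lit 801) (nat_lit 0x908607093168) .nil) (nat_lit 0x9086070149f0) (nat_lit
  1072) (nat_lit 0xc02f04159013) .nil) (nat_lit 0x9086070710d8) (nat_lit 2145) (nat_lit 0xa98212065928) (.node
  .nil (nat_lit 0x908607087898) (nat_lit 992) (nat_lit 0x952c012a40e8) .nil)))) (nat_lit 0x908607093168)
  (nat_lit 432) (nat_lit 0x80bc122a40e8) (.node (.node (.node (.node (.node .nil (nat_lit 0x9086070e21b0)
  (nat_lit 16) (nat_lit 0xc48a11113506) .nil) (nat_lit 0x9086070f6840) (nat_lit 753) (nat_lit 0xd98081065928)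
  .nil) (nat_lit 0x908607223870) (nat_lit 1424) (nat_lit 0xd0151105aa06) (.node (.node .nil (nat_lit
  0x908607237180) (nat_lit 240) (nat_lit 0xc58502103a15) .nil) (nat_lit 0x908607246158) (nat_lit 1536)
  (nat_lit 0x81b3012a40e8) .nil)) (nat_lit 0x9086072528a8) (nat_lit 2225) (nat_lit 0x882691065928) (.node
  (.node (.node .nil (nat_lit 0x9086072b0918) (nat_lit 2545) (nat_lit 0xc0a2c2065928) .nil) (nat_lit
  0x9086072d5030) (nat_lit 1185) (nat_lit 0xf824020182d5) .nil) (nat_lit 0x90c0e42a060b) (nat_lit 2609)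
  (nat_lit 0x8641c228182d) (.node .nil (nat_lit 0x9104d2065928) (nat_lit 2161) (nat_lit 0x8708323886c0)
  .nil))) (nat_lit 0x9142312c19c0) (nat_lit 1232) (nat_lit 0xc120171ed080) (.node (.node (.node (.node .nil
  (nat_lit 0x9189142a40e8) (nat_lit 1664) (nat_lit 0xa846241280cb) .nil) (nat_lit 0x91a02a2c19c0) (nat_lit 65)
  (nat_lit 0x9086070e21b0) .nil) (nat_lit 0x925304048c2b) (nat_lit 2592) (nat_lit 0x8641c228182d) (.node
  (.node .nil (nat_lit 0x92982104470e) (nat_lit 1569) (nat_lit 0xc120171c4360) .nil) (nat_lit 0x940a2c02d503)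
  (nat_lit 1024) (nat_lit 0xac012a0258c5) .nil)) (nat_lit 0x9423122a40e8) (nat_lit 2256) (nat_lit
  0x888269324486) (.node (.node (.node .nil (nat_lit 0x94c109021e26) (nat_lit 1377) (nat_lit 0xc120171a1a48)
  .nil) (nat_lit 0x952c012a40e8) (nat_lit 544) (nat_lit 0xb0424a0a84a5) .nil) (nat_lit 0x96140a00cb25)
  (nat_lit 272) (nat_lit 0xa209a40c504b) (.node .nil (nat_lit 0x981c84248343) (nat_lit 368) (nat_lit
  0x8320e1149f00) .nil)))))) (nat_lit 0x989142240e85) (nat_lit 2320) (nat_lit 0xa2209a149f00) (.node (.node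
  (.node (.node (.node (.node (.node .nil (nat_lit 0x9a02a220c44d) (nat_lit 464) (nat_lit 0x908607237180)
  .nil) (nat_lit 0x9a44412082ae) (nat_lit 48) (nat_lit 0x9086070e21b0) .nil) (nat_lit 0xa017821c8845) (nat_lit
  704) (nat_lit 0xe140a20a205d) (.node (.node .nil (nat_lit 0xa051610e088e) (nat_lit 2000) (nat_lit
  0xcc109212c628) .nil) (nat_lit 0xa09a441c0583) (nat_lit 1296) (nat_lit 0xc040d9149f00) .nil)) (nat_lit
  0xa1189112c628) (nat_lit 736) (nat_lit 0xd98081065928) (.node (.node (.node .nil (nat_lit 0xa209a40c504b)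
  (nat_lit 129) (nat_lit 0x9a44412082ae) .nil) (nat_lit 0xa2209a149f00) (nat_lit 1616) (nat_lit
  0x82402f0cb250) .nil) (nat_lit 0xa2846218428d) (nat_lit 1344) (nat_lit 0x9086070f6840) (.node (.node .nil
  (nat_lit 0xa2c28118046e) (nat_lit 2064) (nat_lit 0x908607223870) .nil) (nat_lit 0xa34054149f00) (nat_lit
  496) (nat_lit 0x82402f293e00) .nil))) (nat_lit 0xa4508c0a0963) (nat_lit 1824) (nat_lit 0xc508c412c628)
  (.node (.node (.node (.node .nil (nat_lit 0xa5304212c628) (nat_lit 1217) (nat_lit 0x82a2342c19c0) .nil)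
  (nat_lit 0xa608490851a6) (nat_lit 1681) (nat_lit 0xa846241280cb) .nil) (nat_lit 0xa800c701ed08) (nat_lit 97)
  (nat_lit 0x82402f343490) (.node (.node .nil (nat_lit 0xa800c7023718) (nat_lit 833) (nat_lit 0x82402f0527c0)
  .nil) (nat_lit 0xa800c703da10) (nat_lit 1984) (nat_lit 0x94c109021e26) .nil)) (nat_lit 0xa800c7046e30)
  (nat_lit 2513) (nat_lit 0x82402f3da100) (.node (.node (.node .nil (nat_lit 0xa800c7058338) (nat_lit 305)
  (nat_lit 0x82402f099590) .nil) (nat_lit 0xa800c707b420) (nat_lit 1633) (nat_lit 0x82402f0cb250) .nil)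
  (nat_lit 0xa800c710f130) (nat_lit 513) (nat_lit 0x82402f293e00) (.node .nil (nat_lit 0xa800c7111c38)
  (nat_lit 2240) (nat_lit 0x92982104470e) .nil)))) (nat_lit 0xa800c7132b20) (nat_lit 1457) (nat_lit
  0x82402f182d50) (.node (.node (.node (.node (.node .nil (nat_lit 0xa800c7157208) (nat_lit 1857) (nat_lit
  0x82402f20ab90) .nil) (nat_lit 0xa800c716a818) (nat_lit 1792) (nat_lit 0x84d222120d0d) .nil) (nat_lit
  0xa800c7174510) (nat_lit 2625) (nat_lit 0x82402f258c50) (.node (.node .nil (nat_lit 0xa846241280cb) (nat_lit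
  1041) (nat_lit 0xac012a0258c5) .nil) (nat_lit 0xa88d011412c6) (nat_lit 912) (nat_lit 0xa34054149f00) .nil))
  (nat_lit 0xa96009149f00) (nat_lit 1937) (nat_lit 0xcb004a149f00) (.node (.node (.node .nil (nat_lit
  0xa98212065928) (nat_lit 1504) (nat_lit 0x8419070b0670) .nil) (nat_lit 0xaa58020401ed) (nat_lit 2832)
  (nat_lit 0xe42181091856) .nil) (nat_lit 0xac012a0258c5) (nat_lit 561) (nat_lit 0xb0424a0a84a5) (.node .nil
  (nat_lit 0xac281412c628) (nat_lit 161) (nat_lit 0x91a02a2c19c0) .nil))) (nat_lit 0xb004a90ac246) (nat_lit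
  2176) (nat_lit 0x908607246158) (.node (.node (.node (.node .nil (nat_lit 0xb0424a0a84a5) (nat_lit 289)
  (nat_lit 0xa209a40c504b) .nil) (nat_lit 0xb0a051065928) (nat_lit 1713) (nat_lit 0xc4413403380b) .nil)
  (nat_lit 0xb12284065928) (nat_lit 785) (nat_lit 0x8269113886c0) (.node (.node .nil (nat_lit 0xb40544089a83)
  (nat_lit 2576) (nat_lit 0xa96009149f00) .nil) (nat_lit 0xb48882081745) (nat_lit 176) (nat_lit
  0x886072149f00) .nil)) (nat_lit 0xba800c0046e3) (nat_lit 1441) (nat_lit 0x8018ea2e4105) (.node (.node (.node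
  .nil (nat_lit 0xbc1201008dc6) (nat_lit 529) (nat_lit 0x96140a00cb25) .nil) (nat_lit 0xc0063a13e005) (nat_lit
  2193) (nat_lit 0x908607246158) .nil) (nat_lit 0xc02f04159013) (nat_lit 593) (nat_lit 0xa800c7058338) (.node
  .nil (nat_lit 0xc040d9149f00) (nat_lit 721) (nat_lit 0xe140a20a205d) .nil))))) (nat_lit 0xc0a2c2065928)
  (nat_lit 1889) (nat_lit 0xc2312205481d) (.node (.node (.node (.node (.node (.node .nil (nat_lit
  0xc0e42113021e) (nat_lit 2865) (nat_lit 0x9086072b0918) .nil) (nat_lit 0xc10929067016) (nat_lit 2817)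
  (nat_lit 0x8419071964a0) .nil) (nat_lit 0xc120170293e0) (nat_lit 640) (nat_lit 0x81511a3886c0) (.node (.node
  .nil (nat_lit 0xc1201704cac8) (nat_lit 1281) (nat_lit 0xa017821c8845) .nil) (nat_lit 0xc1201708dc60)
  (nat_lit 1104) (nat_lit 0x8430393886c0) .nil)) (nat_lit 0xc120170a4f80) (nat_lit 2385) (nat_lit
  0x8c8384301c43) (.node (.node (.node .nil (nat_lit 0xc120170c16a8) (nat_lit 2848) (nat_lit 0x8178243886c0)
  .nil) (nat_lit 0xc120170e8548) (nat_lit 2689) (nat_lit 0x900bc12c9406) .nil) (nat_lit 0xc120171055c8)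
  (nat_lit 353) (nat_lit 0xb48882081745) (.node (.node .nil (nat_lit 0xc12017160ce0) (nat_lit 2561) (nat_lit
  0x8c0e42309185) .nil) (nat_lit 0xc120171889a8) (nat_lit 1696) (nat_lit 0xc4413403380b) .nil))) (nat_lit
  0xc120171a1a48) (nat_lit 768) (nat_lit 0x8269113886c0) (.node (.node (.node (.node .nil (nat_lit
  0xc120171c4360) (nat_lit 977) (nat_lit 0xbc1201008dc6) .nil) (nat_lit 0xc120171ed080) (nat_lit 689) (nat_lit
  0x981c84248343) .nil) (nat_lit 0xc1c20c122433) (nat_lit 481) (nat_lit 0x908607237180) (.node (.node .nil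
  (nat_lit 0xc2181c056123) (nat_lit 2673) (nat_lit 0x84190700a4f8) .nil) (nat_lit 0xc2312205481d) (nat_lit
  1264) (nat_lit 0xa017821c8845) .nil)) (nat_lit 0xc4413403380b) (nat_lit 1057) (nat_lit 0x841907382238)
  (.node (.node (.node .nil (nat_lit 0xc4680a031135) (nat_lit 2800) (nat_lit 0x989142240e85) .nil) (nat_lit
  0xc48a11113506) (nat_lit 0) (nat_lit 0xc48a11113506) .nil) (nat_lit 0xc508c412c628) (nat_lit 1168) (nat_lit
  0xf824020182d5) (.node .nil (nat_lit 0xc58502103a15) (nat_lit 112) (nat_lit 0x9a44412082ae) .nil))))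
  (nat_lit 0xc7500100293e) (nat_lit 2368) (nat_lit 0x8c8384301c43) (.node (.node (.node (.node (.node .nil
  (nat_lit 0xc8384112c628) (nat_lit 2208) (nat_lit 0x882691065928) .nil) (nat_lit 0xca6084149f00) (nat_lit
  816) (nat_lit 0x82402f0527c0) .nil) (nat_lit 0xcb004a149f00) (nat_lit 1313) (nat_lit 0xc040d9149f00) (.node
  (.node .nil (nat_lit 0xcc109212c628) (nat_lit 1392) (nat_lit 0xb12284065928) .nil) (nat_lit 0xd0151105aa06)
  (nat_lit 848) (nat_lit 0x9a02a220c44d) .nil)) (nat_lit 0xd11a0204a515) (nat_lit 2113) (nat_lit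
  0xa800c7132b20) (.node (.node (.node .nil (nat_lit 0xd2220901c436) (nat_lit 2721) (nat_lit 0x9086070710d8)
  .nil) (nat_lit 0xd2c01201262d) (nat_lit 1601) (nat_lit 0x908607087898) .nil) (nat_lit 0xd3042400e21b)
  (nat_lit 1136) (nat_lit 0xc120170293e0) (.node .nil (nat_lit 0xd4b004010f13) (nat_lit 2432) (nat_lit
  0x8206cc38c023) .nil))) (nat_lit 0xd80254065928) (nat_lit 1121) (nat_lit 0x8430393886c0) (.node (.node
  (.node (.node .nil (nat_lit 0xd98081065928) (nat_lit 400) (nat_lit 0x8419070ba288) .nil) (nat_lit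
  0xe009520d3085) (nat_lit 1777) (nat_lit 0xd3042400e21b) .nil) (nat_lit 0xe0206c0b4093) (nat_lit 1409)
  (nat_lit 0xca6084149f00) (.node (.node .nil (nat_lit 0xe08494065928) (nat_lit 2128) (nat_lit 0x8419072ae410)
  .nil) (nat_lit 0xe10641065928) (nat_lit 608) (nat_lit 0x841907332448) .nil)) (nat_lit 0xe140a20a205d)
  (nat_lit 385) (nat_lit 0x8320e1149f00) (.node (.node (.node .nil (nat_lit 0xe42181091856) (nat_lit 2416)
  (nat_lit 0xb0a051065928) .nil) (nat_lit 0xe911040428d3) (nat_lit 2528) (nat_lit 0xc0a2c2065928) .nil)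
  (nat_lit 0xea00310160ce) (nat_lit 2337) (nat_lit 0xa2209a149f00) (.node .nil (nat_lit 0xf824020182d5)
  (nat_lit 657) (nat_lit 0x81511a3886c0) .nil)))))))
theorem tt180_chk : band (orbChk apT (gensOf cS) 216097270871302 (2 ^ 48) tt180) (Nat.beq tt180.size 180) = true := by
  decide +kernel
theorem tt180_card : (orbit (stabilizer M24 S0) (trio (unmask 1127686) (unmask 12880401))).ncard = 180 :=
  orbit_ncard_of_chk acT (trio_rep (a := 1127686) (b := 12880401) (k := 216097270871302) (by decide +kernel)).1 cS_chk stab_S0 (trio_rep (a := 1127686) (b := 12880401) (k := 216097270871302) (by decide +kernel)).2 tt180_chk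

def tt720_0 : T := (.node (.node (.node (.node (.node (.node (.node (.node .nil (nat_lit 0x8018ea04a515)
  (nat_lit 10272) (nat_lit 0xa1189118046e) .nil) (nat_lit 0x8018ea13e005) (nat_lit 2720) (nat_lit
  0xa118910e8548) .nil) (nat_lit 0x8018ea174510) (nat_lit 3521) (nat_lit 0x87083220c44d) (.node (.node .nil
  (nat_lit 0x8018ea2ae410) (nat_lit 6785) (nat_lit 0x89298220c44d) .nil) (nat_lit 0x8018ea390415) (nat_lit
  832) (nat_lit 0xa1189104470e) .nil)) (nat_lit 0x8018ea3da100) (nat_lit 400) (nat_lit 0xa118911c4360) (.node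
  (.node (.node .nil (nat_lit 0x8031d4048c2b) (nat_lit 3169) (nat_lit 0xcc109201262d) .nil) (nat_lit
  0x8031d4164a03) (nat_lit 2624) (nat_lit 0x9104d22e4105) .nil) (nat_lit 0x8031d42a060b) (nat_lit 10480)
  (nat_lit 0x9104d206920d) (.node (.node .nil (nat_lit 0x8031d42e8a20) (nat_lit 5696) (nat_lit 0x9104d22e8a20)
  .nil) (nat_lit 0x8031d438c023) (nat_lit 5025) (nat_lit 0xaa580201262d) .nil))) (nat_lit 0x8031d43c4c08)
  (nat_lit 7857) (nat_lit 0x98914201262d) (.node (.node (.node (.node .nil (nat_lit 0x805e090e21b0) (nat_lit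
  10128) (nat_lit 0x8c48a1113506) .nil) (nat_lit 0x805e0918a096) (nat_lit 2880) (nat_lit 0x8c48a1332448) .nil)
  (nat_lit 0x805e09250196) (nat_lit 2737) (nat_lit 0xa118910e8548) (.node (.node .nil (nat_lit 0x805e092b2026)
  (nat_lit 913) (nat_lit 0xe140a20e8548) .nil) (nat_lit 0x805e093380b0) (nat_lit 3536) (nat_lit
  0x8c48a1202656) .nil)) (nat_lit 0x805e093da100) (nat_lit 9088) (nat_lit 0x8c48a1311350) (.node (.node (.node
  .nil (nat_lit 0x80952c0428d3) (nat_lit 1600) (nat_lit 0x8018ea390415) .nil) (nat_lit 0x80952c0b4093)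
  (nat_lit 97) (nat_lit 0xca6084159013) .nil) (nat_lit 0x80952c0f6840) (nat_lit 1697) (nat_lit 0xd98081067016)
  (.node .nil (nat_lit 0x80952c1262d0) (nat_lit 5872) (nat_lit 0x8018ea174510) .nil)))) (nat_lit
  0x80952c192243) (nat_lit 9440) (nat_lit 0x8018ea2ae410) (.node (.node (.node (.node (.node .nil (nat_lit
  0x80952c1d0a90) (nat_lit 769) (nat_lit 0xd4b0040b4093) .nil) (nat_lit 0x80bc120401ed) (nat_lit 10608)
  (nat_lit 0xb004a9091856) .nil) (nat_lit 0x80bc1218428d) (nat_lit 7488) (nat_lit 0xb004a90f6840) (.node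
  (.node .nil (nat_lit 0x80bc121c4360) (nat_lit 7056) (nat_lit 0xb004a9067016) .nil) (nat_lit 0x80bc122e4105)
  (nat_lit 9920) (nat_lit 0xb004a903da10) .nil)) (nat_lit 0x80bc12320265) (nat_lit 9057) (nat_lit
  0xd8025401ed08) (.node (.node (.node .nil (nat_lit 0x80bc12360388) (nat_lit 11424) (nat_lit 0xb004a90cb250)
  .nil) (nat_lit 0x81511a0a84a5) (nat_lit 1169) (nat_lit 0xa209a4159013) .nil) (nat_lit 0x81511a160ce0)
  (nat_lit 9568) (nat_lit 0xb48882031135) (.node (.node .nil (nat_lit 0x81511a1c8845) (nat_lit 1553) (nat_lit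
  0x929821250196) .nil) (nat_lit 0x81511a240e85) (nat_lit 7473) (nat_lit 0xa11891168126) .nil))) (nat_lit
  0x81511a2e8a20) (nat_lit 3376) (nat_lit 0xb488820b0670) (.node (.node (.node (.node .nil (nat_lit
  0x81511a320265) (nat_lit 10369) (nat_lit 0x9189142610a3) .nil) (nat_lit 0x8178240e8548) (nat_lit 10433)
  (nat_lit 0x900bc1067016) .nil) (nat_lit 0x8178241280cb) (nat_lit 10304) (nat_lit 0x8494c12b0918) (.node
  (.node .nil (nat_lit 0x8178241c0583) (nat_lit 8960) (nat_lit 0x8494c12b2026) .nil) (nat_lit 0x817824248343)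
  (nat_lit 4641) (nat_lit 0x8031d4164a03) .nil)) (nat_lit 0x8178242a060b) (nat_lit 2385) (nat_lit
  0x8641c2103a15) (.node (.node (.node .nil (nat_lit 0x817824360388) (nat_lit 48) (nat_lit 0x8494c1382238)
  .nil) (nat_lit 0x81b3010e088e) (nat_lit 6849) (nat_lit 0x90c0e4283113) .nil) (nat_lit 0x81b301160ce0)
  (nat_lit 10225) (nat_lit 0x886072309185) (.node .nil (nat_lit 0x81b30118046e) (nat_lit 6833) (nat_lit
  0xa0516118a096) .nil))))) (nat_lit 0x81b301244866) (nat_lit 7809) (nat_lit 0x8031d438c023) (.node (.node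
  (.node (.node (.node (.node .nil (nat_lit 0x81b301324486) (nat_lit 2848) (nat_lit 0x88c48a103a15) .nil)
  (nat_lit 0x81b3013c4c08) (nat_lit 3137) (nat_lit 0x9891422060b5) .nil) (nat_lit 0x8206cc056123) (nat_lit
  11392) (nat_lit 0xd222090149f0) (.node (.node .nil (nat_lit 0x8206cc10f130) (nat_lit 2128) (nat_lit
  0x96140a0149f0) .nil) (nat_lit 0x8206cc159013) (nat_lit 6416) (nat_lit 0xba800c0149f0) .nil)) (nat_lit
  0x8206cc283113) (nat_lit 9825) (nat_lit 0x8366020401ed) (.node (.node (.node .nil (nat_lit 0x8206cc2d5030)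
  (nat_lit 4896) (nat_lit 0xd4b0040149f0) .nil) (nat_lit 0x8206cc3da100) (nat_lit 176) (nat_lit
  0xbc12010149f0) .nil) (nat_lit 0x8269110c16a8) (nat_lit 1345) (nat_lit 0xb405440ba288) (.node (.node .nil
  (nat_lit 0x8269111412c6) (nat_lit 3104) (nat_lit 0xa340541c0583) .nil) (nat_lit 0x82691118046e) (nat_lit
  6800) (nat_lit 0xc1c20c1c0583) .nil))) (nat_lit 0x8269112082ae) (nat_lit 7008) (nat_lit 0x82a2341c0583)
  (.node (.node (.node (.node .nil (nat_lit 0x8269112c9406) (nat_lit 2673) (nat_lit 0x904d220ba288) .nil)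
  (nat_lit 0x826911349068) (nat_lit 1088) (nat_lit 0xc2181c1c0583) .nil) (nat_lit 0x828b0a0d3085) (nat_lit
  1056) (nat_lit 0x89a44420498b) (.node (.node .nil (nat_lit 0x828b0a1964a0) (nat_lit 5201) (nat_lit
  0xe9110404cac8) .nil) (nat_lit 0x828b0a2060b5) (nat_lit 6912) (nat_lit 0x82a23420498b) .nil)) (nat_lit
  0x828b0a2d5030) (nat_lit 4977) (nat_lit 0xf82402031135) (.node (.node (.node .nil (nat_lit 0x828b0a343490)
  (nat_lit 4177) (nat_lit 0xea003104cac8) .nil) (nat_lit 0x828b0a390415) (nat_lit 2961) (nat_lit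
  0xc2312204cac8) .nil) (nat_lit 0x82a2340c504b) (nat_lit 1216) (nat_lit 0xac28141055c8) (.node .nil (nat_lit
  0x82a2341055c8) (nat_lit 11105) (nat_lit 0xd2c012081745) .nil)))) (nat_lit 0x82a2341c0583) (nat_lit 4417)
  (nat_lit 0x9253042528a8) (.node (.node (.node (.node (.node .nil (nat_lit 0x82a23420498b) (nat_lit 4321)
  (nat_lit 0xd015110ac246) .nil) (nat_lit 0x82a234301c43) (nat_lit 5840) (nat_lit 0xea003105aa06) .nil)
  (nat_lit 0x82a2343c4c08) (nat_lit 10464) (nat_lit 0xa982121055c8) (.node (.node .nil (nat_lit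
  0x8320e104470e) (nat_lit 8784) (nat_lit 0xd22209099590) .nil) (nat_lit 0x8320e110d80e) (nat_lit 9024)
  (nat_lit 0xa60849099590) .nil)) (nat_lit 0x8320e128d308) (nat_lit 1921) (nat_lit 0x8c0e4210f130) (.node
  (.node (.node .nil (nat_lit 0x8320e12c9406) (nat_lit 1856) (nat_lit 0xe0206c099590) .nil) (nat_lit
  0x8320e1380b06) (nat_lit 7440) (nat_lit 0x940a2c099590) .nil) (nat_lit 0x8320e13c4c08) (nat_lit 1184)
  (nat_lit 0xb0424a099590) (.node .nil (nat_lit 0x8366020401ed) (nat_lit 7216) (nat_lit 0xd22209091856)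
  .nil))) (nat_lit 0x8366021889a8) (nat_lit 1808) (nat_lit 0xd8025403380b) (.node (.node (.node (.node .nil
  (nat_lit 0x8366021c8845) (nat_lit 10257) (nat_lit 0x929821202656) .nil) (nat_lit 0x83660228182d) (nat_lit
  10144) (nat_lit 0xc8384113021e) .nil) (nat_lit 0x836602309185) (nat_lit 3249) (nat_lit 0xb0a051021e26)
  (.node (.node .nil (nat_lit 0x836602349068) (nat_lit 6656) (nat_lit 0xc2181c192243) .nil) (nat_lit
  0x8384190851a6) (nat_lit 3969) (nat_lit 0xa84624159013) .nil)) (nat_lit 0x8384191412c6) (nat_lit 11072)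
  (nat_lit 0xa340541889a8) (.node (.node (.node .nil (nat_lit 0x8384191c4360) (nat_lit 7600) (nat_lit
  0xe10641067016) .nil) (nat_lit 0x838419244866) (nat_lit 3216) (nat_lit 0x8366021889a8) .nil) (nat_lit
  0x838419305aa0) (nat_lit 7121) (nat_lit 0x9142312c9406) (.node .nil (nat_lit 0x838419380b06) (nat_lit 10848)
  (nat_lit 0x8516141889a8) .nil)))))) (nat_lit 0x843039008dc6) (nat_lit 2784) (nat_lit 0x981c8421007b) (.node
  (.node (.node (.node (.node (.node (.node .nil (nat_lit 0x8430390a4f80) (nat_lit 5120) (nat_lit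
  0x981c84056123) .nil) (nat_lit 0x8430390ac246) (nat_lit 2897) (nat_lit 0x8c48a1332448) .nil) (nat_lit
  0x843039324486) (nat_lit 3888) (nat_lit 0x981c8400e21b) (.node (.node .nil (nat_lit 0x84303932c940) (nat_lit
  10768) (nat_lit 0x981c8421e260) .nil) (nat_lit 0x843039380b06) (nat_lit 464) (nat_lit 0x981c84058338) .nil))
  (nat_lit 0x8494c100293e) (nat_lit 9376) (nat_lit 0x8900bc301c43) (.node (.node (.node .nil (nat_lit
  0x8494c113021e) (nat_lit 3489) (nat_lit 0xa98212120d0d) .nil) (nat_lit 0x8494c1132b20) (nat_lit 10816)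
  (nat_lit 0x8900bc02d503) .nil) (nat_lit 0x8494c12b0918) (nat_lit 7745) (nat_lit 0xc0a2c2120d0d) (.node
  (.node .nil (nat_lit 0x8494c12b2026) (nat_lit 6289) (nat_lit 0xe140a20cb250) .nil) (nat_lit 0x8494c1382238)
  (nat_lit 16) (nat_lit 0x8900bc248343) .nil))) (nat_lit 0x84d2220a205d) (nat_lit 2193) (nat_lit
  0x8320e13c4c08) (.node (.node (.node (.node .nil (nat_lit 0x84d222182d50) (nat_lit 5377) (nat_lit
  0x81b3013c4c08) .nil) (nat_lit 0x84d222212945) (nat_lit 6384) (nat_lit 0xa4508c132b20) .nil) (nat_lit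
  0x84d2222b0918) (nat_lit 1392) (nat_lit 0xa4508c0b0670) (.node (.node .nil (nat_lit 0x84d222332448) (nat_lit
  1312) (nat_lit 0xa4508c192243) .nil) (nat_lit 0x84d222390415) (nat_lit 10801) (nat_lit 0xc231220182d5)
  .nil)) (nat_lit 0x8516140a0963) (nat_lit 1041) (nat_lit 0xa2c281091856) (.node (.node (.node .nil (nat_lit
  0x8516141280cb) (nat_lit 11201) (nat_lit 0xa982120258c5) .nil) (nat_lit 0x8516141889a8) (nat_lit 8673)
  (nat_lit 0xa09a440b4093) .nil) (nat_lit 0x85161420498b) (nat_lit 5984) (nat_lit 0x90c0e4023718) (.node .nil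
  (nat_lit 0x85161432c940) (nat_lit 7200) (nat_lit 0x90c0e4293e00) .nil)))) (nat_lit 0x85161438c023) (nat_lit
  9888) (nat_lit 0x90c0e4010f13) (.node (.node (.node (.node (.node .nil (nat_lit 0x8607210160ce) (nat_lit
  9840) (nat_lit 0xd222090851a6) .nil) (nat_lit 0x860721087898) (nat_lit 6593) (nat_lit 0x89a444360388) .nil)
  (nat_lit 0x860721091856) (nat_lit 8401) (nat_lit 0xc0e421091856) (.node (.node .nil (nat_lit 0x86072111b8c0)
  (nat_lit 6448) (nat_lit 0x8384190851a6) .nil) (nat_lit 0x86072118a096) (nat_lit 129) (nat_lit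
  0x817824360388) .nil)) (nat_lit 0x86072119c058) (nat_lit 3009) (nat_lit 0xc8384101c436) (.node (.node (.node
  .nil (nat_lit 0x8641c201262d) (nat_lit 8832) (nat_lit 0xd2220908dc60) .nil) (nat_lit 0x8641c2103a15)
  (nat_lit 1280) (nat_lit 0x9a4441250196) .nil) (nat_lit 0x8641c2111c38) (nat_lit 1536) (nat_lit
  0x929821250196) (.node .nil (nat_lit 0x8641c2293e00) (nat_lit 4368) (nat_lit 0xc0e4211a1a48) .nil)))
  (nat_lit 0x8641c2382238) (nat_lit 4449) (nat_lit 0xa5304218428d) (.node (.node (.node (.node .nil (nat_lit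
  0x8641c2390415) (nat_lit 4816) (nat_lit 0x805e09250196) .nil) (nat_lit 0x86cc04093168) (nat_lit 7617)
  (nat_lit 0xe10641067016) .nil) (nat_lit 0x86cc04192243) (nat_lit 1936) (nat_lit 0xd11a020401ed) (.node
  (.node .nil (nat_lit 0x86cc0421007b) (nat_lit 9808) (nat_lit 0x8366020401ed) .nil) (nat_lit 0x86cc04283113)
  (nat_lit 3233) (nat_lit 0x8366021889a8) .nil)) (nat_lit 0x86cc04311350) (nat_lit 10624) (nat_lit
  0xd2c0120401ed) (.node (.node (.node .nil (nat_lit 0x86cc04382238) (nat_lit 8337) (nat_lit 0xa530421889a8)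
  .nil) (nat_lit 0x870832081745) (nat_lit 10208) (nat_lit 0x886072309185) .nil) (nat_lit 0x8708321055c8)
  (nat_lit 11216) (nat_lit 0x870832309185) (.node .nil (nat_lit 0x87083218428d) (nat_lit 10353) (nat_lit
  0x8e1064010f13) .nil))))) (nat_lit 0x87083220c44d) (nat_lit 1969) (nat_lit 0x8516140a0963) (.node (.node
  (.node (.node (.node (.node .nil (nat_lit 0x87083228d308) (nat_lit 5361) (nat_lit 0x8c0e42031135) .nil)
  (nat_lit 0x870832309185) (nat_lit 9505) (nat_lit 0x8d0151021e26) .nil) (nat_lit 0x87210c0046e3) (nat_lit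
  6688) (nat_lit 0xd22209008dc6) (.node (.node .nil (nat_lit 0x87210c089a83) (nat_lit 5505) (nat_lit
  0x86cc04283113) .nil) (nat_lit 0x87210c08dc60) (nat_lit 3329) (nat_lit 0xa88d01067016) .nil)) (nat_lit
  0x87210c301c43) (nat_lit 6480) (nat_lit 0xea0031008dc6) (.node (.node (.node .nil (nat_lit 0x87210c305aa0)
  (nat_lit 4721) (nat_lit 0x8269112c9406) .nil) (nat_lit 0x87210c38c023) (nat_lit 1377) (nat_lit
  0xaa580204a515) .nil) (nat_lit 0x88269110d80e) (nat_lit 5633) (nat_lit 0x87210c08dc60) (.node (.node .nil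
  (nat_lit 0x882691168126) (nat_lit 7393) (nat_lit 0x87210c305aa0) .nil) (nat_lit 0x88269122114e) (nat_lit
  7904) (nat_lit 0xe0095206920d) .nil))) (nat_lit 0x882691244866) (nat_lit 2561) (nat_lit 0x87210c38c023)
  (.node (.node (.node (.node .nil (nat_lit 0x88269132c940) (nat_lit 4832) (nat_lit 0xa09a441964a0) .nil)
  (nat_lit 0x882691349068) (nat_lit 864) (nat_lit 0xc2181c1964a0) .nil) (nat_lit 0x88494c07b420) (nat_lit
  2912) (nat_lit 0x80952c0428d3) (.node (.node .nil (nat_lit 0x88494c122433) (nat_lit 3072) (nat_lit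
  0xc1c20c0428d3) .nil) (nat_lit 0x88494c159013) (nat_lit 7520) (nat_lit 0xba800c0428d3) .nil)) (nat_lit
  0x88494c21a483) (nat_lit 8913) (nat_lit 0x888269343490) (.node (.node (.node .nil (nat_lit 0x88494c3380b0)
  (nat_lit 7952) (nat_lit 0xa846240428d3) .nil) (nat_lit 0x88494c343490) (nat_lit 3585) (nat_lit
  0x888269113506) .nil) (nat_lit 0x88607206920d) (nat_lit 5936) (nat_lit 0x88494c343490) (.node .nil (nat_lit
  0x886072120d0d) (nat_lit 10288) (nat_lit 0xc1c20c0a0963) .nil)))) (nat_lit 0x886072229c88) (nat_lit 8496)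
  (nat_lit 0xc109290ac246) (.node (.node (.node (.node (.node .nil (nat_lit 0x886072240e85) (nat_lit 6752)
  (nat_lit 0x828b0a343490) .nil) (nat_lit 0x886072309185) (nat_lit 7649) (nat_lit 0xa96009021e26) .nil)
  (nat_lit 0x886072360388) (nat_lit 8865) (nat_lit 0xa960091412c6) (.node (.node .nil (nat_lit 0x888269067016)
  (nat_lit 6513) (nat_lit 0xa608491964a0) .nil) (nat_lit 0x888269113506) (nat_lit 2016) (nat_lit
  0xa28462087898) .nil)) (nat_lit 0x888269174510) (nat_lit 9296) (nat_lit 0xe10641087898) (.node (.node (.node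
  .nil (nat_lit 0x888269237180) (nat_lit 3777) (nat_lit 0xa6084910f130) .nil) (nat_lit 0x888269250196)
  (nat_lit 9041) (nat_lit 0xa60849099590) .nil) (nat_lit 0x888269343490) (nat_lit 6240) (nat_lit
  0xd30424087898) (.node .nil (nat_lit 0x88c48a031135) (nat_lit 10113) (nat_lit 0x88494c159013) .nil)))
  (nat_lit 0x88c48a103a15) (nat_lit 1568) (nat_lit 0x9a44412528a8) (.node (.node (.node (.node .nil (nat_lit
  0x88c48a132b20) (nat_lit 5313) (nat_lit 0x88494c122433) .nil) (nat_lit 0x88c48a212945) (nat_lit 4400)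
  (nat_lit 0x9253042528a8) .nil) (nat_lit 0x88c48a223870) (nat_lit 4304) (nat_lit 0xd015110ac246) (.node
  (.node .nil (nat_lit 0x88c48a311350) (nat_lit 10449) (nat_lit 0x88494c3380b0) .nil) (nat_lit 0x8900bc02d503)
  (nat_lit 8624) (nat_lit 0xac012a11b8c0) .nil)) (nat_lit 0x8900bc164a03) (nat_lit 4336) (nat_lit
  0xc0063a11b8c0) (.node (.node (.node .nil (nat_lit 0x8900bc248343) (nat_lit 0) (nat_lit 0x8900bc248343)
  .nil) (nat_lit 0x8900bc265640) (nat_lit 9696) (nat_lit 0xc4413411b8c0) .nil) (nat_lit 0x8900bc301c43)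
  (nat_lit 6721) (nat_lit 0xe0206c02d503) (.node .nil (nat_lit 0x8900bc32c940) (nat_lit 11329) (nat_lit
  0xe0206c089a83) .nil)))))))
def tt720_1 : T := (.node (.node (.node (.node (.node (.node (.node (.node .nil (nat_lit 0x892982145425)
  (nat_lit 3089) (nat_lit 0xc1c20c0428d3) .nil) (nat_lit 0x89298220c44d) (nat_lit 4192) (nat_lit
  0x92530421a483) .nil) (nat_lit 0x892982265640) (nat_lit 144) (nat_lit 0xc441341a1a48) (.node (.node .nil
  (nat_lit 0x892982320265) (nat_lit 3024) (nat_lit 0x940a2c21a483) .nil) (nat_lit 0x892982349068) (nat_lit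
  6608) (nat_lit 0xc2181c1c4360) .nil)) (nat_lit 0x89a44410132b) (nat_lit 9664) (nat_lit 0xaa580200a4f8)
  (.node (.node (.node .nil (nat_lit 0x89a444164a03) (nat_lit 6064) (nat_lit 0xd11a0200a4f8) .nil) (nat_lit
  0x89a44420498b) (nat_lit 528) (nat_lit 0x92530400a4f8) .nil) (nat_lit 0x89a4442610a3) (nat_lit 10560)
  (nat_lit 0xe9110400a4f8) (.node (.node .nil (nat_lit 0x89a444305aa0) (nat_lit 4080) (nat_lit 0xc7500100a4f8)
  .nil) (nat_lit 0x89a444360388) (nat_lit 4048) (nat_lit 0xbc120100a4f8) .nil))) (nat_lit 0x8a118901c436)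
  (nat_lit 9073) (nat_lit 0x8206cc159013) (.node (.node (.node (.node .nil (nat_lit 0x8a1189046e30) (nat_lit
  385) (nat_lit 0x8206cc3da100) .nil) (nat_lit 0x8a118905aa06) (nat_lit 6768) (nat_lit 0x89298220c44d) .nil)
  (nat_lit 0x8a1189202656) (nat_lit 10320) (nat_lit 0x89298206920d) (.node (.node .nil (nat_lit
  0x8a118921e260) (nat_lit 3809) (nat_lit 0x8206cc10f130) .nil) (nat_lit 0x8a1189258c50) (nat_lit 304)
  (nat_lit 0x892982265640) .nil)) (nat_lit 0x8c0e42031135) (nat_lit 3120) (nat_lit 0x9891422060b5) (.node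
  (.node (.node .nil (nat_lit 0x8c0e4210f130) (nat_lit 1009) (nat_lit 0x94c109293e00) .nil) (nat_lit
  0x8c0e4213e005) (nat_lit 9985) (nat_lit 0x94c109202656) .nil) (nat_lit 0x8c0e422060b5) (nat_lit 9584)
  (nat_lit 0x828b0a2060b5) (.node .nil (nat_lit 0x8c0e42237180) (nat_lit 353) (nat_lit 0x94c109223870)
  .nil)))) (nat_lit 0x8c0e423380b0) (nat_lit 6033) (nat_lit 0x94c1090b0670) (.node (.node (.node (.node (.node
  .nil (nat_lit 0x8c48a1023718) (nat_lit 11185) (nat_lit 0xba800c0527c0) .nil) (nat_lit 0x8c48a1113506)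
  (nat_lit 7537) (nat_lit 0xba800c0428d3) .nil) (nat_lit 0x8c48a113021e) (nat_lit 2945) (nat_lit
  0xba800c010f13) (.node (.node .nil (nat_lit 0x8c48a1202656) (nat_lit 1984) (nat_lit 0x828b0a0d3085) .nil)
  (nat_lit 0x8c48a1311350) (nat_lit 6433) (nat_lit 0xba800c0149f0) .nil)) (nat_lit 0x8c48a1332448) (nat_lit
  1585) (nat_lit 0xba800c046e30) (.node (.node (.node .nil (nat_lit 0x8c838403380b) (nat_lit 6321) (nat_lit
  0x940a2c283113) .nil) (nat_lit 0x8c8384111c38) (nat_lit 1248) (nat_lit 0x9298210160ce) .nil) (nat_lit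
  0x8c8384122433) (nat_lit 2081) (nat_lit 0x940a2c237180) (.node .nil (nat_lit 0x8c838421007b) (nat_lit 7457)
  (nat_lit 0x940a2c099590) .nil))) (nat_lit 0x8c8384223870) (nat_lit 2608) (nat_lit 0xd015110160ce) (.node
  (.node (.node (.node .nil (nat_lit 0x8c8384332448) (nat_lit 10752) (nat_lit 0xbc12010160ce) .nil) (nat_lit
  0x8d0151021e26) (nat_lit 6816) (nat_lit 0xa0516118a096) .nil) (nat_lit 0x8d015110d80e) (nat_lit 4288)
  (nat_lit 0xa6084918a096) (.node (.node .nil (nat_lit 0x8d01512082ae) (nat_lit 272) (nat_lit 0x86072118a096)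
  .nil) (nat_lit 0x8d0151229c88) (nat_lit 6705) (nat_lit 0xd22209008dc6) .nil)) (nat_lit 0x8d0151305aa0)
  (nat_lit 9872) (nat_lit 0xc7500118a096) (.node (.node (.node .nil (nat_lit 0x8d0151324486) (nat_lit 5040)
  (nat_lit 0x805e0918a096) .nil) (nat_lit 0x8e106400e21b) (nat_lit 7505) (nat_lit 0xb004a90f6840) .nil)
  (nat_lit 0x8e1064010f13) (nat_lit 7792) (nat_lit 0x8031d438c023) (.node .nil (nat_lit 0x8e106401ed08)
  (nat_lit 5392) (nat_lit 0x8031d4048c2b) .nil))))) (nat_lit 0x8e106420ab90) (nat_lit 8432) (nat_lit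
  0x8031d42e8a20) (.node (.node (.node (.node (.node (.node .nil (nat_lit 0x8e1064214698) (nat_lit 9937)
  (nat_lit 0xb004a903da10) .nil) (nat_lit 0x8e106421a483) (nat_lit 4624) (nat_lit 0x8031d4164a03) .nil)
  (nat_lit 0x900bc101c436) (nat_lit 4736) (nat_lit 0xc02f040b4093) (.node (.node .nil (nat_lit 0x900bc1067016)
  (nat_lit 7921) (nat_lit 0xe0095206920d) .nil) (nat_lit 0x900bc107b420) (nat_lit 208) (nat_lit
  0x80952c0b4093) .nil)) (nat_lit 0x900bc12ae410) (nat_lit 8656) (nat_lit 0xa09a440b4093) (.node (.node (.node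
  .nil (nat_lit 0x900bc12b2026) (nat_lit 8081) (nat_lit 0xe140a206920d) .nil) (nat_lit 0x900bc12d5030)
  (nat_lit 752) (nat_lit 0xd4b0040b4093) .nil) (nat_lit 0x904d220182d5) (nat_lit 9616) (nat_lit
  0xc02f0419c058) (.node (.node .nil (nat_lit 0x904d220710d8) (nat_lit 8129) (nat_lit 0x87083228d308) .nil)
  (nat_lit 0x904d220a205d) (nat_lit 3425) (nat_lit 0x8320e128d308) .nil))) (nat_lit 0x904d220ba288) (nat_lit
  1457) (nat_lit 0xc508c4122433) (.node (.node (.node (.node .nil (nat_lit 0x904d220cb250) (nat_lit 11168)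
  (nat_lit 0x90641c2610a3) .nil) (nat_lit 0x904d220d3085) (nat_lit 11440) (nat_lit 0x89a4442610a3) .nil)
  (nat_lit 0x90641c0293e0) (nat_lit 11153) (nat_lit 0xd2c012093168) (.node (.node .nil (nat_lit
  0x90641c089a83) (nat_lit 6864) (nat_lit 0xa96009160ce0) .nil) (nat_lit 0x90641c0a0963) (nat_lit 6577)
  (nat_lit 0xa2c281093168) .nil)) (nat_lit 0x90641c248343) (nat_lit 11376) (nat_lit 0x81b301160ce0) (.node
  (.node (.node .nil (nat_lit 0x90641c2610a3) (nat_lit 9408) (nat_lit 0xe9110400e21b) .nil) (nat_lit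
  0x90641c2e8a20) (nat_lit 5441) (nat_lit 0xb48882093168) .nil) (nat_lit 0x90c0e4010f13) (nat_lit 7312)
  (nat_lit 0xc02f040710d8) (.node .nil (nat_lit 0x90c0e4023718) (nat_lit 3617) (nat_lit 0xd2c0120527c0)
  .nil)))) (nat_lit 0x90c0e403380b) (nat_lit 6128) (nat_lit 0xa88d010710d8) (.node (.node (.node (.node (.node
  .nil (nat_lit 0x90c0e4283113) (nat_lit 4240) (nat_lit 0xf8240200cb25) .nil) (nat_lit 0x90c0e4293e00)
  (nat_lit 4560) (nat_lit 0xc0e4210710d8) .nil) (nat_lit 0x90c0e42b0918) (nat_lit 9552) (nat_lit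
  0xa846240710d8) (.node (.node .nil (nat_lit 0x9104d200cb25) (nat_lit 5713) (nat_lit 0x9104d22e8a20) .nil)
  (nat_lit 0x9104d206920d) (nat_lit 8113) (nat_lit 0xa98212160ce0) .nil)) (nat_lit 0x9104d228182d) (nat_lit
  7136) (nat_lit 0xc8384104470e) (.node (.node (.node .nil (nat_lit 0x9104d228d308) (nat_lit 8000) (nat_lit
  0xc4680a081745) .nil) (nat_lit 0x9104d22e4105) (nat_lit 1425) (nat_lit 0x9a02a2258c50) .nil) (nat_lit
  0x9104d22e8a20) (nat_lit 3393) (nat_lit 0xb488820b0670) (.node .nil (nat_lit 0x914231008dc6) (nat_lit 960)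
  (nat_lit 0xc02f041ed080) .nil))) (nat_lit 0x9142310e088e) (nat_lit 8464) (nat_lit 0xc0063a1ed080) (.node
  (.node (.node (.node .nil (nat_lit 0x9142310e8548) (nat_lit 7425) (nat_lit 0x900bc101c436) .nil) (nat_lit
  0x91423122114e) (nat_lit 4673) (nat_lit 0x9189140046e3) .nil) (nat_lit 0x914231229c88) (nat_lit 1841)
  (nat_lit 0x914231008dc6) (.node (.node .nil (nat_lit 0x9142312c9406) (nat_lit 4496) (nat_lit 0xe0206c010f13)
  .nil) (nat_lit 0x9189140046e3) (nat_lit 2641) (nat_lit 0x9104d22e4105) .nil)) (nat_lit 0x9189140c16a8)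
  (nat_lit 10881) (nat_lit 0xb405440b4093) (.node (.node (.node .nil (nat_lit 0x9189140c504b) (nat_lit 1297)
  (nat_lit 0x9a4441250196) .nil) (nat_lit 0x9189142610a3) (nat_lit 7841) (nat_lit 0x8d0151324486) .nil)
  (nat_lit 0x918914265640) (nat_lit 2096) (nat_lit 0xc441341280cb) (.node .nil (nat_lit 0x9189142a060b)
  (nat_lit 7553) (nat_lit 0x8641c2390415) .nil)))))) (nat_lit 0x91a02a0258c5) (nat_lit 9360) (nat_lit
  0x8d0151229c88) (.node (.node (.node (.node (.node (.node (.node .nil (nat_lit 0x91a02a081745) (nat_lit 289)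
  (nat_lit 0x86072118a096) .nil) (nat_lit 0x91a02a0a4f80) (nat_lit 3713) (nat_lit 0x8c8384122433) .nil)
  (nat_lit 0x91a02a240e85) (nat_lit 9152) (nat_lit 0x942312229c88) (.node (.node .nil (nat_lit 0x91a02a265640)
  (nat_lit 7025) (nat_lit 0x82a2341c0583) .nil) (nat_lit 0x91a02a2e4105) (nat_lit 3264) (nat_lit
  0x914231229c88) .nil)) (nat_lit 0x92530400a4f8) (nat_lit 257) (nat_lit 0xd2c0120c16a8) (.node (.node (.node
  .nil (nat_lit 0x9253040428d3) (nat_lit 7089) (nat_lit 0xe009520c16a8) .nil) (nat_lit 0x92530421007b)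
  (nat_lit 10912) (nat_lit 0x8641c201262d) .nil) (nat_lit 0x92530421a483) (nat_lit 2368) (nat_lit
  0x8641c2103a15) (.node (.node .nil (nat_lit 0x9253042528a8) (nat_lit 2497) (nat_lit 0x8269110c16a8) .nil)
  (nat_lit 0x925304258c50) (nat_lit 3361) (nat_lit 0xa340540c16a8) .nil))) (nat_lit 0x9298210160ce) (nat_lit
  624) (nat_lit 0x8a1189258c50) (.node (.node (.node (.node .nil (nat_lit 0x9298210527c0) (nat_lit 10705)
  (nat_lit 0x886072229c88) .nil) (nat_lit 0x929821202656) (nat_lit 7665) (nat_lit 0xd80254056123) .nil)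
  (nat_lit 0x929821214698) (nat_lit 3281) (nat_lit 0x914231229c88) (.node (.node .nil (nat_lit 0x929821246158)
  (nat_lit 6208) (nat_lit 0x8a118921e260) .nil) (nat_lit 0x929821250196) (nat_lit 784) (nat_lit
  0x8a1189046e30) .nil)) (nat_lit 0x940a2c099590) (nat_lit 4753) (nat_lit 0xc02f040b4093) (.node (.node (.node
  .nil (nat_lit 0x940a2c0b4093) (nat_lit 11088) (nat_lit 0xc0063a0258c5) .nil) (nat_lit 0x940a2c21a483)
  (nat_lit 1681) (nat_lit 0x882691349068) .nil) (nat_lit 0x940a2c237180) (nat_lit 1120) (nat_lit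
  0xc585020258c5) (.node .nil (nat_lit 0x940a2c283113) (nat_lit 3856) (nat_lit 0xf824020258c5) .nil))))
  (nat_lit 0x940a2c2ae410) (nat_lit 9265) (nat_lit 0x892982349068) (.node (.node (.node (.node (.node .nil
  (nat_lit 0x9423120258c5) (nat_lit 7824) (nat_lit 0x8d0151324486) .nil) (nat_lit 0x94231208dc60) (nat_lit
  6352) (nat_lit 0x843039324486) .nil) (nat_lit 0x9423120a84a5) (nat_lit 11249) (nat_lit 0xa209a4157208)
  (.node (.node .nil (nat_lit 0x94231220c44d) (nat_lit 4992) (nat_lit 0x81b301324486) .nil) (nat_lit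
  0x942312229c88) (nat_lit 6497) (nat_lit 0xea0031008dc6) .nil)) (nat_lit 0x94231228182d) (nat_lit 5777)
  (nat_lit 0xa28462157208) (.node (.node (.node .nil (nat_lit 0x94c109091856) (nat_lit 4385) (nat_lit
  0xc0e4211a1a48) .nil) (nat_lit 0x94c1090b0670) (nat_lit 3649) (nat_lit 0xe4218101c436) .nil) (nat_lit
  0x94c109202656) (nat_lit 7377) (nat_lit 0xe08494056123) (.node .nil (nat_lit 0x94c109223870) (nat_lit 161)
  (nat_lit 0xc441341a1a48) .nil))) (nat_lit 0x94c109293e00) (nat_lit 496) (nat_lit 0xc0e4210e088e) (.node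
  (.node (.node (.node .nil (nat_lit 0x94c1092b2026) (nat_lit 10688) (nat_lit 0x9142310e088e) .nil) (nat_lit
  0x952c010293e0) (nat_lit 2144) (nat_lit 0x81511a0a84a5) .nil) (nat_lit 0x952c010851a6) (nat_lit 7969)
  (nat_lit 0xa846240428d3) (.node (.node .nil (nat_lit 0x952c010ac246) (nat_lit 3553) (nat_lit 0x8c48a1202656)
  .nil) (nat_lit 0x952c012082ae) (nat_lit 4529) (nat_lit 0x882691244866) .nil)) (nat_lit 0x952c0122114e)
  (nat_lit 8257) (nat_lit 0xac28140046e3) (.node (.node (.node .nil (nat_lit 0x952c0128d308) (nat_lit 10736)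
  (nat_lit 0xc4680a0a84a5) .nil) (nat_lit 0x96140a0149f0) (nat_lit 1152) (nat_lit 0xa209a4159013) .nil)
  (nat_lit 0x96140a0182d5) (nat_lit 8528) (nat_lit 0xa209a419c058) (.node .nil (nat_lit 0x96140a2060b5)
  (nat_lit 9952) (nat_lit 0xa209a400e21b) .nil))))) (nat_lit 0x96140a20ab90) (nat_lit 5857) (nat_lit
  0xea003105aa06) (.node (.node (.node (.node (.node (.node .nil (nat_lit 0x96140a212945) (nat_lit 1233)
  (nat_lit 0xac28141055c8) .nil) (nat_lit 0x96140a21e260) (nat_lit 8768) (nat_lit 0xa209a4192243) .nil)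
  (nat_lit 0x981c8400e21b) (nat_lit 2176) (nat_lit 0x8320e13c4c08) (.node (.node .nil (nat_lit 0x981c84056123)
  (nat_lit 2929) (nat_lit 0x80952c0428d3) .nil) (nat_lit 0x981c84058338) (nat_lit 225) (nat_lit
  0x80952c0b4093) .nil)) (nat_lit 0x981c8421007b) (nat_lit 1521) (nat_lit 0x80952c1d0a90) (.node (.node (.node
  .nil (nat_lit 0x981c8421e260) (nat_lit 8577) (nat_lit 0x80952c1262d0) .nil) (nat_lit 0x981c84246158)
  (nat_lit 3408) (nat_lit 0x8320e128d308) .nil) (nat_lit 0x98914201262d) (nat_lit 5057) (nat_lit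
  0x805e0918a096) (.node (.node .nil (nat_lit 0x989142046e30) (nat_lit 10993) (nat_lit 0x805e093da100) .nil)
  (nat_lit 0x98914205481d) (nat_lit 2336) (nat_lit 0xa2209a1c8845) .nil))) (nat_lit 0x9891422060b5) (nat_lit
  1761) (nat_lit 0x805e092b2026) (.node (.node (.node (.node .nil (nat_lit 0x989142214698) (nat_lit 5889)
  (nat_lit 0x805e093380b0) .nil) (nat_lit 0x9891422528a8) (nat_lit 11040) (nat_lit 0xa2209a1c4360) .nil)
  (nat_lit 0x9a02a201ed08) (nat_lit 11408) (nat_lit 0xd80254048c2b) (.node (.node .nil (nat_lit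
  0x9a02a204a515) (nat_lit 6401) (nat_lit 0xa4508c132b20) .nil) (nat_lit 0x9a02a205481d) (nat_lit 8288)
  (nat_lit 0xc0063a1c8845) .nil)) (nat_lit 0x9a02a2212945) (nat_lit 2064) (nat_lit 0x940a2c237180) (.node
  (.node (.node .nil (nat_lit 0x9a02a2246158) (nat_lit 1329) (nat_lit 0xa4508c192243) .nil) (nat_lit
  0x9a02a2258c50) (nat_lit 720) (nat_lit 0x8c0e42237180) .nil) (nat_lit 0x9a444100293e) (nat_lit 6225)
  (nat_lit 0x8a118921e260) (.node .nil (nat_lit 0x9a4441058338) (nat_lit 3184) (nat_lit 0xe106410e21b0)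
  .nil)))) (nat_lit 0x9a444105aa06) (nat_lit 10976) (nat_lit 0xd11a020e21b0) (.node (.node (.node (.node
  (.node .nil (nat_lit 0x9a444120ab90) (nat_lit 9425) (nat_lit 0x8a118905aa06) .nil) (nat_lit 0x9a4441250196)
  (nat_lit 641) (nat_lit 0x8a1189258c50) .nil) (nat_lit 0x9a44412528a8) (nat_lit 801) (nat_lit 0x8a1189046e30)
  (.node (.node .nil (nat_lit 0xa0178205481d) (nat_lit 849) (nat_lit 0xa1189104470e) .nil) (nat_lit
  0xa017820a205d) (nat_lit 8064) (nat_lit 0xe140a206920d) .nil)) (nat_lit 0xa017820f6840) (nat_lit 9281)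
  (nat_lit 0xd9808104470e) (.node (.node (.node .nil (nat_lit 0xa0178213e005) (nat_lit 896) (nat_lit
  0xe140a20e8548) .nil) (nat_lit 0xa0178216a818) (nat_lit 6272) (nat_lit 0xe140a20cb250) .nil) (nat_lit
  0xa0178219c058) (nat_lit 7153) (nat_lit 0xc8384104470e) (.node .nil (nat_lit 0xa0516105aa06) (nat_lit 11056)
  (nat_lit 0xcc1092132b20) .nil))) (nat_lit 0xa051610ba288) (nat_lit 9649) (nat_lit 0xc508c410f130) (.node
  (.node (.node (.node .nil (nat_lit 0xa0516113021e) (nat_lit 3152) (nat_lit 0xcc109201262d) .nil) (nat_lit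
  0xa0516116a818) (nat_lit 9713) (nat_lit 0xc4413411b8c0) .nil) (nat_lit 0xa0516118a096) (nat_lit 4225)
  (nat_lit 0x8178242a060b) (.node (.node .nil (nat_lit 0xa051611d0a90) (nat_lit 4913) (nat_lit 0xd4b0040149f0)
  .nil) (nat_lit 0xa09a44056123) (nat_lit 5409) (nat_lit 0x8031d4048c2b) .nil)) (nat_lit 0xa09a440b4093)
  (nat_lit 5969) (nat_lit 0xca6084048c2b) (.node (.node (.node .nil (nat_lit 0xa09a440e21b0) (nat_lit 10193)
  (nat_lit 0xb12284048c2b) .nil) (nat_lit 0xa09a44122433) (nat_lit 5264) (nat_lit 0xc040d905aa06) .nil)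
  (nat_lit 0xa09a44174510) (nat_lit 8304) (nat_lit 0xc040d9168126) (.node .nil (nat_lit 0xa09a441964a0)
  (nat_lit 2752) (nat_lit 0xc040d907b420) .nil)))))))
def tt720_2 : T := (.node (.node (.node (.node (.node (.node (.node (.node .nil (nat_lit 0xa118910ac246)
  (nat_lit 9105) (nat_lit 0x8c48a1311350) .nil) (nat_lit 0xa118910e8548) (nat_lit 1489) (nat_lit
  0x900bc12d5030) .nil) (nat_lit 0xa11891168126) (nat_lit 4768) (nat_lit 0xd98081046e30) (.node (.node .nil
  (nat_lit 0xa1189118046e) (nat_lit 7713) (nat_lit 0xa051611d0a90) .nil) (nat_lit 0xa118911c4360) (nat_lit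
  193) (nat_lit 0xbc12010149f0) .nil)) (nat_lit 0xa209a400e21b) (nat_lit 7361) (nat_lit 0xd015110f6840) (.node
  (.node (.node .nil (nat_lit 0xa209a40cb250) (nat_lit 7185) (nat_lit 0x952c012082ae) .nil) (nat_lit
  0xa209a4157208) (nat_lit 9681) (nat_lit 0x8269112082ae) .nil) (nat_lit 0xa209a4159013) (nat_lit 577)
  (nat_lit 0x8d01512082ae) (.node (.node .nil (nat_lit 0xa209a4192243) (nat_lit 6081) (nat_lit 0xc75001182d50)
  .nil) (nat_lit 0xa209a419c058) (nat_lit 5824) (nat_lit 0xa8462416a818) .nil))) (nat_lit 0xa2209a00cb25)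
  (nat_lit 2240) (nat_lit 0x82a2340c504b) (.node (.node (.node (.node .nil (nat_lit 0xa2209a081745) (nat_lit
  8640) (nat_lit 0x88607206920d) .nil) (nat_lit 0xa2209a08dc60) (nat_lit 5072) (nat_lit 0x8430390ac246) .nil)
  (nat_lit 0xa2209a145425) (nat_lit 10080) (nat_lit 0x8e106400e21b) (.node (.node .nil (nat_lit
  0xa2209a1c4360) (nat_lit 9168) (nat_lit 0x888269067016) .nil) (nat_lit 0xa2209a1c8845) (nat_lit 1265)
  (nat_lit 0x9298210160ce) .nil)) (nat_lit 0xa2846205481d) (nat_lit 8689) (nat_lit 0x85161420498b) (.node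
  (.node (.node .nil (nat_lit 0xa28462087898) (nat_lit 1073) (nat_lit 0x89a44420498b) .nil) (nat_lit
  0xa284620d3085) (nat_lit 8609) (nat_lit 0xd304240cb250) .nil) (nat_lit 0xa28462103a15) (nat_lit 7889)
  (nat_lit 0xd8025407b420) (.node .nil (nat_lit 0xa28462157208) (nat_lit 3440) (nat_lit 0x86cc04192243)
  .nil)))) (nat_lit 0xa284621d0a90) (nat_lit 6193) (nat_lit 0xd4b0040b0670) (.node (.node (.node (.node (.node
  .nil (nat_lit 0xa2c28100293e) (nat_lit 6049) (nat_lit 0xd015110e088e) .nil) (nat_lit 0xa2c281091856)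
  (nat_lit 513) (nat_lit 0xc0e4210e088e) .nil) (nat_lit 0xa2c281093168) (nat_lit 4033) (nat_lit
  0xe106410e088e) (.node (.node .nil (nat_lit 0xa2c281111c38) (nat_lit 10240) (nat_lit 0x929821202656) .nil)
  (nat_lit 0xa2c281113506) (nat_lit 10416) (nat_lit 0xa28462103a15) .nil)) (nat_lit 0xa2c281182d50) (nat_lit
  8032) (nat_lit 0xa09a44122433) (.node (.node (.node .nil (nat_lit 0xa34054048c2b) (nat_lit 9793) (nat_lit
  0x85161432c940) .nil) (nat_lit 0xa34054089a83) (nat_lit 7632) (nat_lit 0xa96009021e26) .nil) (nat_lit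
  0xa340540c16a8) (nat_lit 1889) (nat_lit 0xb4054403da10) (.node .nil (nat_lit 0xa3405410132b) (nat_lit 3745)
  (nat_lit 0x918914265640) .nil))) (nat_lit 0xa340541889a8) (nat_lit 9200) (nat_lit 0xa8462403380b) (.node
  (.node (.node (.node .nil (nat_lit 0xa340541c0583) (nat_lit 1744) (nat_lit 0x805e092b2026) .nil) (nat_lit
  0xa4508c010f13) (nat_lit 8720) (nat_lit 0xc508c4023718) .nil) (nat_lit 0xa4508c0b0670) (nat_lit 705)
  (nat_lit 0xe4218103da10) (.node (.node .nil (nat_lit 0xa4508c122433) (nat_lit 11297) (nat_lit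
  0xc48a1118046e) .nil) (nat_lit 0xa4508c132b20) (nat_lit 3920) (nat_lit 0xc508c402d503) .nil)) (nat_lit
  0xa4508c182d50) (nat_lit 1440) (nat_lit 0xc508c4122433) (.node (.node (.node .nil (nat_lit 0xa4508c192243)
  (nat_lit 656) (nat_lit 0xc508c410132b) .nil) (nat_lit 0xa5304200cb25) (nat_lit 8449) (nat_lit
  0x8031d42e8a20) .nil) (nat_lit 0xa530420a4f80) (nat_lit 4609) (nat_lit 0x8c8384223870) (.node .nil (nat_lit
  0xa530420a84a5) (nat_lit 9777) (nat_lit 0xa209a40cb250) .nil))))) (nat_lit 0xa53042120d0d) (nat_lit 8240)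
  (nat_lit 0xe084940a0963) (.node (.node (.node (.node (.node (.node .nil (nat_lit 0xa5304218428d) (nat_lit
  2512) (nat_lit 0xe084940f6840) .nil) (nat_lit 0xa530421889a8) (nat_lit 5600) (nat_lit 0xe0849403380b) .nil)
  (nat_lit 0xa6084901c436) (nat_lit 9328) (nat_lit 0x836602349068) (.node (.node .nil (nat_lit 0xa60849099590)
  (nat_lit 6337) (nat_lit 0xc02f041280cb) .nil) (nat_lit 0xa6084910f130) (nat_lit 2113) (nat_lit
  0xc441341280cb) .nil)) (nat_lit 0xa60849113506) (nat_lit 4545) (nat_lit 0xac28141280cb) (.node (.node (.node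
  .nil (nat_lit 0xa6084918a096) (nat_lit 2432) (nat_lit 0x84d222332448) .nil) (nat_lit 0xa608491964a0)
  (nat_lit 4000) (nat_lit 0xb0424a07b420) .nil) (nat_lit 0xa8462403380b) (nat_lit 6545) (nat_lit
  0xac012a103a15) (.node (.node .nil (nat_lit 0xa846240428d3) (nat_lit 5168) (nat_lit 0x828b0a390415) .nil)
  (nat_lit 0xa846240710d8) (nat_lit 6881) (nat_lit 0xac012a03da10) .nil))) (nat_lit 0xa8462411b8c0) (nat_lit
  11504) (nat_lit 0x838419380b06) (.node (.node (.node (.node .nil (nat_lit 0xa84624159013) (nat_lit 2225)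
  (nat_lit 0xac012a0182d5) .nil) (nat_lit 0xa8462416a818) (nat_lit 3472) (nat_lit 0xa98212120d0d) .nil)
  (nat_lit 0xa88d010160ce) (nat_lit 5664) (nat_lit 0x925304258c50) (.node (.node .nil (nat_lit 0xa88d01067016)
  (nat_lit 1872) (nat_lit 0xb4054403da10) .nil) (nat_lit 0xa88d010710d8) (nat_lit 3728) (nat_lit
  0x918914265640) .nil)) (nat_lit 0xa88d011262d0) (nat_lit 2001) (nat_lit 0x828b0a0d3085) (.node (.node (.node
  .nil (nat_lit 0xa88d0113021e) (nat_lit 5185) (nat_lit 0x828b0a390415) .nil) (nat_lit 0xa88d01157208)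
  (nat_lit 9601) (nat_lit 0x828b0a2060b5) .nil) (nat_lit 0xa96009008dc6) (nat_lit 11457) (nat_lit
  0xcb004a00cb25) (.node .nil (nat_lit 0xa96009021e26) (nat_lit 4865) (nat_lit 0xcb004a103a15) .nil))))
  (nat_lit 0xa960090293e0) (nat_lit 10593) (nat_lit 0xcb004a10f130) (.node (.node (.node (.node (.node .nil
  (nat_lit 0xa960091412c6) (nat_lit 6160) (nat_lit 0xa3405410132b) .nil) (nat_lit 0xa96009160ce0) (nat_lit
  4256) (nat_lit 0xb0424a031135) .nil) (nat_lit 0xa96009168126) (nat_lit 7328) (nat_lit 0x91423122114e) (.node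
  (.node .nil (nat_lit 0xa982120258c5) (nat_lit 9488) (nat_lit 0x8d0151021e26) .nil) (nat_lit 0xa982120401ed)
  (nat_lit 10640) (nat_lit 0x860721091856) .nil)) (nat_lit 0xa982121055c8) (nat_lit 8017) (nat_lit
  0xc4680a081745) (.node (.node (.node .nil (nat_lit 0xa98212120d0d) (nat_lit 1952) (nat_lit 0x8516140a0963)
  .nil) (nat_lit 0xa98212145425) (nat_lit 10336) (nat_lit 0x8e1064010f13) .nil) (nat_lit 0xa98212160ce0)
  (nat_lit 5344) (nat_lit 0x8c0e42031135) (.node .nil (nat_lit 0xaa580200a4f8) (nat_lit 6993) (nat_lit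
  0x88c48a212945) .nil))) (nat_lit 0xaa580201262d) (nat_lit 2865) (nat_lit 0x88c48a103a15) (.node (.node
  (.node (.node .nil (nat_lit 0xaa58020182d5) (nat_lit 11360) (nat_lit 0xe42181021e26) .nil) (nat_lit
  0xaa580204a515) (nat_lit 688) (nat_lit 0xe4218103da10) .nil) (nat_lit 0xaa58020527c0) (nat_lit 3632)
  (nat_lit 0xe4218101c436) (.node (.node .nil (nat_lit 0xaa5802058338) (nat_lit 6176) (nat_lit 0xe421810b0670)
  .nil) (nat_lit 0xac012a0182d5) (nat_lit 1201) (nat_lit 0xb0424a099590) .nil)) (nat_lit 0xac012a03da10)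
  (nat_lit 4273) (nat_lit 0xb0424a031135) (.node (.node (.node .nil (nat_lit 0xac012a103a15) (nat_lit 4017)
  (nat_lit 0xb0424a07b420) .nil) (nat_lit 0xac012a11b8c0) (nat_lit 5921) (nat_lit 0xb0424a0e21b0) .nil)
  (nat_lit 0xac012a1262d0) (nat_lit 11136) (nat_lit 0x888269174510) (.node .nil (nat_lit 0xac012a13e005)
  (nat_lit 10000) (nat_lit 0x9142310e8548) .nil)))))) (nat_lit 0xac28140046e3) (nat_lit 5521) (nat_lit
  0x91a02a2e4105) (.node (.node (.node (.node (.node (.node (.node .nil (nat_lit 0xac28140293e0) (nat_lit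
  5680) (nat_lit 0x81511a2e8a20) .nil) (nat_lit 0xac281402d503) (nat_lit 6113) (nat_lit 0x91a02a0a4f80) .nil)
  (nat_lit 0xac281410132b) (nat_lit 8880) (nat_lit 0xaa5802058338) (.node (.node .nil (nat_lit 0xac28141055c8)
  (nat_lit 609) (nat_lit 0x91a02a081745) .nil) (nat_lit 0xac28141280cb) (nat_lit 2576) (nat_lit
  0x84d2222b0918) .nil)) (nat_lit 0xb004a903da10) (nat_lit 7345) (nat_lit 0x91423122114e) (.node (.node (.node
  .nil (nat_lit 0xb004a905aa06) (nat_lit 7776) (nat_lit 0x94231220c44d) .nil) (nat_lit 0xb004a9067016)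
  (nat_lit 4464) (nat_lit 0xb4054400e21b) .nil) (nat_lit 0xb004a9091856) (nat_lit 8352) (nat_lit
  0xb0a05104470e) (.node (.node .nil (nat_lit 0xb004a90cb250) (nat_lit 10545) (nat_lit 0x952c0122114e) .nil)
  (nat_lit 0xb004a90f6840) (nat_lit 4785) (nat_lit 0xd98081046e30) .nil))) (nat_lit 0xb0424a031135) (nat_lit
  2417) (nat_lit 0x9189140c504b) (.node (.node (.node (.node .nil (nat_lit 0xb0424a04a515) (nat_lit 9520)
  (nat_lit 0x81b30118046e) .nil) (nat_lit 0xb0424a07b420) (nat_lit 2257) (nat_lit 0x82a2340c504b) .nil)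
  (nat_lit 0xb0424a099590) (nat_lit 592) (nat_lit 0x91a02a081745) (.node (.node .nil (nat_lit 0xb0424a0d3085)
  (nat_lit 10673) (nat_lit 0xd304240c504b) .nil) (nat_lit 0xb0424a0e21b0) (nat_lit 3568) (nat_lit
  0x888269113506) .nil)) (nat_lit 0xb0a051021e26) (nat_lit 1825) (nat_lit 0xd8025403380b) (.node (.node (.node
  .nil (nat_lit 0xb0a05104470e) (nat_lit 5617) (nat_lit 0xe0849403380b) .nil) (nat_lit 0xb0a0510851a6)
  (nat_lit 9217) (nat_lit 0xa8462403380b) .nil) (nat_lit 0xb0a0510a4f80) (nat_lit 8176) (nat_lit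
  0xa09a44056123) (.node .nil (nat_lit 0xb0a0510c16a8) (nat_lit 7280) (nat_lit 0x817824248343) .nil))))
  (nat_lit 0xb0a0510e088e) (nat_lit 8817) (nat_lit 0x90c0e403380b) (.node (.node (.node (.node (.node .nil
  (nat_lit 0xb1228402d503) (nat_lit 6528) (nat_lit 0xac012a103a15) .nil) (nat_lit 0xb12284048c2b) (nat_lit
  7585) (nat_lit 0x88269132c940) .nil) (nat_lit 0xb1228408dc60) (nat_lit 928) (nat_lit 0x843039380b06) (.node
  (.node .nil (nat_lit 0xb122840a0963) (nat_lit 6304) (nat_lit 0x940a2c283113) .nil) (nat_lit 0xb122840c504b)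
  (nat_lit 10944) (nat_lit 0xac281410132b) .nil)) (nat_lit 0xb122840e8548) (nat_lit 10833) (nat_lit
  0x900bc12ae410) (.node (.node (.node .nil (nat_lit 0xb4054400e21b) (nat_lit 2529) (nat_lit 0xe084940f6840)
  .nil) (nat_lit 0xb4054403380b) (nat_lit 10961) (nat_lit 0xac281410132b) .nil) (nat_lit 0xb4054403da10)
  (nat_lit 992) (nat_lit 0x94c109293e00) (.node .nil (nat_lit 0xb40544087898) (nat_lit 11233) (nat_lit
  0x89a44410132b) .nil))) (nat_lit 0xb405440b4093) (nat_lit 8705) (nat_lit 0xca608410132b) (.node (.node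
  (.node (.node .nil (nat_lit 0xb405440ba288) (nat_lit 673) (nat_lit 0xc508c410132b) .nil) (nat_lit
  0xb4888201262d) (nat_lit 8369) (nat_lit 0x88269110d80e) .nil) (nat_lit 0xb48882023718) (nat_lit 10401)
  (nat_lit 0xea00310527c0) (.node (.node .nil (nat_lit 0xb48882031135) (nat_lit 6897) (nat_lit 0x8d015110d80e)
  .nil) (nat_lit 0xb48882093168) (nat_lit 3201) (nat_lit 0xe106410e21b0) .nil)) (nat_lit 0xb488820a205d)
  (nat_lit 8144) (nat_lit 0x84d222182d50) (.node (.node (.node .nil (nat_lit 0xb488820b0670) (nat_lit 1904)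
  (nat_lit 0x8c0e4210f130) .nil) (nat_lit 0xba800c010f13) (nat_lit 1617) (nat_lit 0x8018ea390415) .nil)
  (nat_lit 0xba800c0149f0) (nat_lit 3952) (nat_lit 0xa84624159013) (.node .nil (nat_lit 0xba800c0428d3)
  (nat_lit 4801) (nat_lit 0x8018ea13e005) .nil))))) (nat_lit 0xba800c046e30) (nat_lit 817) (nat_lit
  0x8018ea3da100) (.node (.node (.node (.node (.node (.node .nil (nat_lit 0xba800c0527c0) (nat_lit 9457)
  (nat_lit 0x8018ea2ae410) .nil) (nat_lit 0xba800c056123) (nat_lit 7104) (nat_lit 0x9142312c9406) .nil)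
  (nat_lit 0xbc120100293e) (nat_lit 10897) (nat_lit 0x96140a21e260) (.node (.node .nil (nat_lit
  0xbc120100a4f8) (nat_lit 2289) (nat_lit 0x96140a212945) .nil) (nat_lit 0xbc12010149f0) (nat_lit 80) (nat_lit
  0xca6084159013) .nil)) (nat_lit 0xbc12010160ce) (nat_lit 8561) (nat_lit 0x96140a20ab90) (.node (.node (.node
  .nil (nat_lit 0xbc120101c436) (nat_lit 10721) (nat_lit 0x96140a0182d5) .nil) (nat_lit 0xbc120101ed08)
  (nat_lit 5952) (nat_lit 0xca6084048c2b) .nil) (nat_lit 0xc0063a0258c5) (nat_lit 9233) (nat_lit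
  0xd11a020a84a5) (.node (.node .nil (nat_lit 0xc0063a0d3085) (nat_lit 5809) (nat_lit 0xd30424089a83) .nil)
  (nat_lit 0xc0063a0f6840) (nat_lit 9345) (nat_lit 0xd98081021e26) .nil))) (nat_lit 0xc0063a11b8c0) (nat_lit
  2465) (nat_lit 0x9a02a2246158) (.node (.node (.node (.node .nil (nat_lit 0xc0063a1c8845) (nat_lit 5568)
  (nat_lit 0xc585020a205d) .nil) (nat_lit 0xc0063a1ed080) (nat_lit 5729) (nat_lit 0x981c84246158) .nil)
  (nat_lit 0xc02f040710d8) (nat_lit 4656) (nat_lit 0x9189140046e3) (.node (.node .nil (nat_lit 0xc02f040b4093)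
  (nat_lit 2688) (nat_lit 0xc2181c0046e3) .nil) (nat_lit 0xc02f040c504b) (nat_lit 5425) (nat_lit
  0x9a4441058338) .nil)) (nat_lit 0xc02f041280cb) (nat_lit 3873) (nat_lit 0xf824020258c5) (.node (.node (.node
  .nil (nat_lit 0xc02f0419c058) (nat_lit 6944) (nat_lit 0xe911040046e3) .nil) (nat_lit 0xc02f041ed080)
  (nat_lit 481) (nat_lit 0x981c84058338) .nil) (nat_lit 0xc040d9021e26) (nat_lit 7696) (nat_lit
  0xa051611d0a90) (.node .nil (nat_lit 0xc040d905aa06) (nat_lit 3056) (nat_lit 0xc231221d0a90) .nil))))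
  (nat_lit 0xc040d907b420) (nat_lit 1504) (nat_lit 0x80952c1d0a90) (.node (.node (.node (.node (.node .nil
  (nat_lit 0xc040d9113506) (nat_lit 8896) (nat_lit 0xa284621d0a90) .nil) (nat_lit 0xc040d9132b20) (nat_lit
  5761) (nat_lit 0x904d220a205d) .nil) (nat_lit 0xc040d9168126) (nat_lit 5585) (nat_lit 0xc585020a205d) (.node
  (.node .nil (nat_lit 0xc0a2c2031135) (nat_lit 4145) (nat_lit 0x98914205481d) .nil) (nat_lit 0xc0a2c205481d)
  (nat_lit 1649) (nat_lit 0xa0178205481d) .nil)) (nat_lit 0xc0a2c2111c38) (nat_lit 5536) (nat_lit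
  0x929821214698) (.node (.node (.node .nil (nat_lit 0xc0a2c2120d0d) (nat_lit 4945) (nat_lit 0xf824020293e0)
  .nil) (nat_lit 0xc0a2c2145425) (nat_lit 2993) (nat_lit 0xc0a2c205481d) .nil) (nat_lit 0xc0a2c2174510)
  (nat_lit 10865) (nat_lit 0xa2846205481d) (.node .nil (nat_lit 0xc0e4210710d8) (nat_lit 2593) (nat_lit
  0x84d2222b0918) .nil))) (nat_lit 0xc0e421091856) (nat_lit 5649) (nat_lit 0xc0e4211412c6) (.node (.node
  (.node (.node .nil (nat_lit 0xc0e4210e088e) (nat_lit 240) (nat_lit 0xd2c0120c16a8) .nil) (nat_lit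
  0xc0e4211412c6) (nat_lit 3344) (nat_lit 0xa340540c16a8) .nil) (nat_lit 0xc0e4211a1a48) (nat_lit 2480)
  (nat_lit 0x8269110c16a8) (.node (.node .nil (nat_lit 0xc0e4211d0a90) (nat_lit 7072) (nat_lit 0xe009520c16a8)
  .nil) (nat_lit 0xc109290ac246) (nat_lit 5792) (nat_lit 0xd30424089a83) .nil)) (nat_lit 0xc109290cb250)
  (nat_lit 9536) (nat_lit 0x90641c089a83) (.node (.node (.node .nil (nat_lit 0xc109291262d0) (nat_lit 11312)
  (nat_lit 0xe0206c089a83) .nil) (nat_lit 0xc109291412c6) (nat_lit 5329) (nat_lit 0x892982145425) .nil)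
  (nat_lit 0xc1092918a096) (nat_lit 10928) (nat_lit 0xc44134089a83) (.node .nil (nat_lit 0xc109291ed080)
  (nat_lit 5137) (nat_lit 0x981c84056123) .nil)))))))
def tt720_3 : T := (.node (.node (.node (.node (.node (.node (.node (.node .nil (nat_lit 0xc1c20c0a0963)
  (nat_lit 7728) (nat_lit 0xd3042404cac8) .nil) (nat_lit 0xc1c20c0e21b0) (nat_lit 4160) (nat_lit
  0xea003104cac8) .nil) (nat_lit 0xc1c20c160ce0) (nat_lit 4960) (nat_lit 0xf82402031135) (.node (.node .nil
  (nat_lit 0xc1c20c182d50) (nat_lit 5009) (nat_lit 0x81b301324486) .nil) (nat_lit 0xc1c20c1c0583) (nat_lit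
  4209) (nat_lit 0x92530421a483) .nil)) (nat_lit 0xc2181c0046e3) (nat_lit 1472) (nat_lit 0x900bc12d5030)
  (.node (.node (.node .nil (nat_lit 0xc2181c0527c0) (nat_lit 7408) (nat_lit 0x900bc101c436) .nil) (nat_lit
  0xc2181c192243) (nat_lit 4097) (nat_lit 0xc7500100a4f8) .nil) (nat_lit 0xc2181c1964a0) (nat_lit 432)
  (nat_lit 0x900bc107b420) (.node (.node .nil (nat_lit 0xc2181c1c0583) (nat_lit 545) (nat_lit 0x92530400a4f8)
  .nil) (nat_lit 0xc2181c1c4360) (nat_lit 4065) (nat_lit 0xbc120100a4f8) .nil))) (nat_lit 0xc231220182d5)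
  (nat_lit 8593) (nat_lit 0x989142214698) (.node (.node (.node (.node .nil (nat_lit 0xc2312204cac8) (nat_lit
  1632) (nat_lit 0xa0178205481d) .nil) (nat_lit 0xc2312218428d) (nat_lit 11120) (nat_lit 0xa017820f6840) .nil)
  (nat_lit 0xc2312219c058) (nat_lit 8928) (nat_lit 0xa0178216a818) (.node (.node .nil (nat_lit 0xc231221c8845)
  (nat_lit 5553) (nat_lit 0x929821214698) .nil) (nat_lit 0xc231221d0a90) (nat_lit 1712) (nat_lit
  0xa0178213e005) .nil)) (nat_lit 0xc44134089a83) (nat_lit 8848) (nat_lit 0xa960091412c6) (.node (.node (.node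
  .nil (nat_lit 0xc441340ba288) (nat_lit 3937) (nat_lit 0xc508c402d503) .nil) (nat_lit 0xc4413411b8c0)
  (nat_lit 7041) (nat_lit 0x8641c2382238) .nil) (nat_lit 0xc441341280cb) (nat_lit 1137) (nat_lit
  0xc585020258c5) (.node .nil (nat_lit 0xc44134192243) (nat_lit 8096) (nat_lit 0xc109291412c6) .nil))))
  (nat_lit 0xc441341a1a48) (nat_lit 65) (nat_lit 0x8494c1382238) (.node (.node (.node (.node (.node .nil
  (nat_lit 0xc4680a0182d5) (nat_lit 9761) (nat_lit 0xa0178219c058) .nil) (nat_lit 0xc4680a0293e0) (nat_lit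
  10048) (nat_lit 0x81511a240e85) .nil) (nat_lit 0xc4680a081745) (nat_lit 5233) (nat_lit 0x86072119c058)
  (.node (.node .nil (nat_lit 0xc4680a099590) (nat_lit 9633) (nat_lit 0xc02f0419c058) .nil) (nat_lit
  0xc4680a0a84a5) (nat_lit 8545) (nat_lit 0xa209a419c058) .nil)) (nat_lit 0xc4680a0b0670) (nat_lit 10576)
  (nat_lit 0xcb004a10f130) (.node (.node (.node .nil (nat_lit 0xc48a110160ce) (nat_lit 8945) (nat_lit
  0xa0178216a818) .nil) (nat_lit 0xc48a110851a6) (nat_lit 4432) (nat_lit 0xa5304218428d) .nil) (nat_lit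
  0xc48a11093168) (nat_lit 10064) (nat_lit 0x80bc1218428d) (.node .nil (nat_lit 0xc48a111055c8) (nat_lit
  11009) (nat_lit 0xe140a2081745) .nil))) (nat_lit 0xc48a1118046e) (nat_lit 9856) (nat_lit 0xc5850218428d)
  (.node (.node (.node (.node .nil (nat_lit 0xc48a111964a0) (nat_lit 5248) (nat_lit 0xe0095207b420) .nil)
  (nat_lit 0xc508c400e21b) (nat_lit 10784) (nat_lit 0xc231220182d5) .nil) (nat_lit 0xc508c4023718) (nat_lit
  6017) (nat_lit 0xaa58020527c0) (.node (.node .nil (nat_lit 0xc508c402d503) (nat_lit 2208) (nat_lit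
  0xac012a0182d5) .nil) (nat_lit 0xc508c410132b) (nat_lit 321) (nat_lit 0x892982265640) .nil)) (nat_lit
  0xc508c410f130) (nat_lit 6961) (nat_lit 0x8641c2293e00) (.node (.node (.node .nil (nat_lit 0xc508c4122433)
  (nat_lit 737) (nat_lit 0x8c0e42237180) .nil) (nat_lit 0xc585020258c5) (nat_lit 560) (nat_lit 0x8d01512082ae)
  .nil) (nat_lit 0xc58502087898) (nat_lit 7168) (nat_lit 0x952c012082ae) (.node .nil (nat_lit 0xc585020a205d)
  (nat_lit 3297) (nat_lit 0x8320e12c9406) .nil))))) (nat_lit 0xc585021262d0) (nat_lit 8224) (nat_lit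
  0xc83841174510) (.node (.node (.node (.node (.node (.node .nil (nat_lit 0xc5850218428d) (nat_lit 7265)
  (nat_lit 0x8e106421a483) .nil) (nat_lit 0xc585021a1a48) (nat_lit 8977) (nat_lit 0x8494c12b2026) .nil)
  (nat_lit 0xc75001008dc6) (nat_lit 10032) (nat_lit 0x8c838421007b) (.node (.node .nil (nat_lit
  0xc7500100a4f8) (nat_lit 2304) (nat_lit 0x8c8384111c38) .nil) (nat_lit 0xc7500118046e) (nat_lit 4592)
  (nat_lit 0x8c8384223870) .nil)) (nat_lit 0xc75001182d50) (nat_lit 3696) (nat_lit 0x8c8384122433) (.node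
  (.node (.node .nil (nat_lit 0xc750011889a8) (nat_lit 8193) (nat_lit 0xa09a44056123) .nil) (nat_lit
  0xc7500118a096) (nat_lit 7297) (nat_lit 0x817824248343) .nil) (nat_lit 0xc8384101c436) (nat_lit 1664)
  (nat_lit 0x882691349068) (.node (.node .nil (nat_lit 0xc8384104470e) (nat_lit 4512) (nat_lit 0x882691244866)
  .nil) (nat_lit 0xc83841058338) (nat_lit 6465) (nat_lit 0x8384190851a6) .nil))) (nat_lit 0xc8384113021e)
  (nat_lit 7568) (nat_lit 0x88269132c940) (.node (.node (.node (.node .nil (nat_lit 0xc83841168126) (nat_lit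
  9745) (nat_lit 0x838419305aa0) .nil) (nat_lit 0xc83841174510) (nat_lit 5473) (nat_lit 0x838419244866) .nil)
  (nat_lit 0xca6084010f13) (nat_lit 9393) (nat_lit 0x8900bc301c43) (.node (.node .nil (nat_lit 0xca6084048c2b)
  (nat_lit 3600) (nat_lit 0xd2c0120527c0) .nil) (nat_lit 0xca6084058338) (nat_lit 10384) (nat_lit
  0xea00310527c0) .nil)) (nat_lit 0xca608410132b) (nat_lit 6000) (nat_lit 0xaa58020527c0) (.node (.node (.node
  .nil (nat_lit 0xca6084111c38) (nat_lit 6929) (nat_lit 0x8900bc164a03) .nil) (nat_lit 0xca6084159013)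
  (nat_lit 33) (nat_lit 0x8900bc248343) .nil) (nat_lit 0xcb004a00cb25) (nat_lit 10656) (nat_lit
  0xd304240c504b) (.node .nil (nat_lit 0xcb004a046e30) (nat_lit 8048) (nat_lit 0xcb004a145425) .nil))))
  (nat_lit 0xcb004a04a515) (nat_lit 7232) (nat_lit 0xc7500118046e) (.node (.node (.node (.node (.node .nil
  (nat_lit 0xcb004a103a15) (nat_lit 2769) (nat_lit 0xc040d907b420) .nil) (nat_lit 0xcb004a10f130) (nat_lit
  8321) (nat_lit 0xc040d9168126) .nil) (nat_lit 0xcb004a145425) (nat_lit 5281) (nat_lit 0xc040d905aa06) (.node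
  (.node .nil (nat_lit 0xcc109200cb25) (nat_lit 8209) (nat_lit 0x90641c2e8a20) .nil) (nat_lit 0xcc109201262d)
  (nat_lit 1776) (nat_lit 0xb1228408dc60) .nil)) (nat_lit 0xcc109201ed08) (nat_lit 10176) (nat_lit
  0xb12284048c2b) (.node (.node (.node .nil (nat_lit 0xcc1092120d0d) (nat_lit 8992) (nat_lit 0xb122840a0963)
  .nil) (nat_lit 0xcc1092132b20) (nat_lit 9184) (nat_lit 0xb1228402d503) .nil) (nat_lit 0xcc109213e005)
  (nat_lit 11488) (nat_lit 0xb122840e8548) (.node .nil (nat_lit 0xd015110160ce) (nat_lit 1408) (nat_lit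
  0x9a02a2258c50) .nil))) (nat_lit 0xd0151104cac8) (nat_lit 8481) (nat_lit 0xe140a2023718) (.node (.node
  (.node (.node .nil (nat_lit 0xd015110ac246) (nat_lit 2448) (nat_lit 0x9a02a2246158) .nil) (nat_lit
  0xd015110ba288) (nat_lit 8737) (nat_lit 0xc508c4023718) .nil) (nat_lit 0xd015110e088e) (nat_lit 3664)
  (nat_lit 0x9a02a2212945) (.node (.node .nil (nat_lit 0xd015110f6840) (nat_lit 4689) (nat_lit 0xd98081023718)
  .nil) (nat_lit 0xd11a0200a4f8) (nat_lit 3681) (nat_lit 0x9a02a2212945) .nil)) (nat_lit 0xd11a020401ed)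
  (nat_lit 1024) (nat_lit 0xa2c281091856) (.node (.node (.node .nil (nat_lit 0xd11a020a205d) (nat_lit 10017)
  (nat_lit 0x8320e1380b06) .nil) (nat_lit 0xd11a020a84a5) (nat_lit 6560) (nat_lit 0xa2c281093168) .nil)
  (nat_lit 0xd11a020e21b0) (nat_lit 9009) (nat_lit 0xb122840a0963) (.node .nil (nat_lit 0xd11a020e8548)
  (nat_lit 8752) (nat_lit 0xa2c28100293e) .nil)))))) (nat_lit 0xd22209008dc6) (nat_lit 4112) (nat_lit
  0xd4b0040a4f80) (.node (.node (.node (.node (.node (.node (.node .nil (nat_lit 0xd222090149f0) (nat_lit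
  10497) (nat_lit 0x904d220710d8) .nil) (nat_lit 0xd222090851a6) (nat_lit 7248) (nat_lit 0xa530420a4f80) .nil)
  (nat_lit 0xd2220908dc60) (nat_lit 6145) (nat_lit 0xa88d010710d8) (.node (.node .nil (nat_lit 0xd22209091856)
  (nat_lit 4577) (nat_lit 0xc0e4210710d8) .nil) (nat_lit 0xd22209099590) (nat_lit 6096) (nat_lit
  0x91a02a0a4f80) .nil)) (nat_lit 0xd2c0120401ed) (nat_lit 8384) (nat_lit 0xc0e421091856) (.node (.node (.node
  .nil (nat_lit 0xd2c0120527c0) (nat_lit 2033) (nat_lit 0xa28462087898) .nil) (nat_lit 0xd2c012081745)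
  (nat_lit 9249) (nat_lit 0x860721087898) .nil) (nat_lit 0xd2c012093168) (nat_lit 9313) (nat_lit
  0xe10641087898) (.node (.node .nil (nat_lit 0xd2c0120c16a8) (nat_lit 112) (nat_lit 0x817824360388) .nil)
  (nat_lit 0xd2c0120d3085) (nat_lit 6257) (nat_lit 0xd30424087898) .nil))) (nat_lit 0xd304240428d3) (nat_lit
  11345) (nat_lit 0x8c0e4213e005) (.node (.node (.node (.node .nil (nat_lit 0xd3042404cac8) (nat_lit 4928)
  (nat_lit 0xf824020293e0) .nil) (nat_lit 0xd30424087898) (nat_lit 3824) (nat_lit 0x952c010293e0) .nil)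
  (nat_lit 0xd30424089a83) (nat_lit 3457) (nat_lit 0x86cc04192243) (.node (.node .nil (nat_lit 0xd304240c504b)
  (nat_lit 8416) (nat_lit 0xac28140293e0) .nil) (nat_lit 0xd304240cb250) (nat_lit 5905) (nat_lit
  0x952c010ac246) .nil)) (nat_lit 0xd4b0040046e3) (nat_lit 7680) (nat_lit 0x8206cc2d5030) (.node (.node (.node
  .nil (nat_lit 0xd4b0040149f0) (nat_lit 2801) (nat_lit 0x8641c2111c38) .nil) (nat_lit 0xd4b0040a0963)
  (nat_lit 11280) (nat_lit 0x8206cc283113) .nil) (nat_lit 0xd4b0040a4f80) (nat_lit 2321) (nat_lit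
  0x8c8384111c38) (.node .nil (nat_lit 0xd4b0040b0670) (nat_lit 3792) (nat_lit 0x8206cc10f130) .nil))))
  (nat_lit 0xd4b0040b4093) (nat_lit 368) (nat_lit 0x8206cc3da100) (.node (.node (.node (.node (.node .nil
  (nat_lit 0xd8025401ed08) (nat_lit 6369) (nat_lit 0x843039324486) .nil) (nat_lit 0xd8025402d503) (nat_lit
  7937) (nat_lit 0x8430390a4f80) .nil) (nat_lit 0xd8025403380b) (nat_lit 945) (nat_lit 0x843039380b06) (.node
  (.node .nil (nat_lit 0xd80254048c2b) (nat_lit 10512) (nat_lit 0xc585021262d0) .nil) (nat_lit 0xd80254056123)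
  (nat_lit 4881) (nat_lit 0x843039008dc6) .nil)) (nat_lit 0xd8025407b420) (nat_lit 5089) (nat_lit
  0x8430390ac246) (.node (.node (.node .nil (nat_lit 0xd9808100293e) (nat_lit 1105) (nat_lit 0xc2181c1c0583)
  .nil) (nat_lit 0xd98081021e26) (nat_lit 6673) (nat_lit 0xc2181c192243) .nil) (nat_lit 0xd98081023718)
  (nat_lit 2656) (nat_lit 0x904d220ba288) (.node .nil (nat_lit 0xd9808104470e) (nat_lit 6625) (nat_lit
  0xc2181c1c4360) .nil))) (nat_lit 0xd98081046e30) (nat_lit 2705) (nat_lit 0xc2181c0046e3) (.node (.node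
  (.node (.node .nil (nat_lit 0xd98081067016) (nat_lit 881) (nat_lit 0xc2181c1964a0) .nil) (nat_lit
  0xe0095201262d) (nat_lit 3905) (nat_lit 0x981c8400e21b) .nil) (nat_lit 0xe0095206920d) (nat_lit 5104)
  (nat_lit 0x88494c07b420) (.node (.node .nil (nat_lit 0xe0095207b420) (nat_lit 3040) (nat_lit 0x80952c0f6840)
  .nil) (nat_lit 0xe009520a84a5) (nat_lit 9969) (nat_lit 0xa209a400e21b) .nil)) (nat_lit 0xe009520ba288)
  (nat_lit 8160) (nat_lit 0x8e106401ed08) (.node (.node (.node .nil (nat_lit 0xe009520c16a8) (nat_lit 4481)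
  (nat_lit 0xb4054400e21b) .nil) (nat_lit 0xe0206c010f13) (nat_lit 2544) (nat_lit 0x87210c38c023) .nil)
  (nat_lit 0xe0206c02d503) (nat_lit 4129) (nat_lit 0xd4b0040a4f80) (.node .nil (nat_lit 0xe0206c03da10)
  (nat_lit 11472) (nat_lit 0x94c1092b2026) .nil))))) (nat_lit 0xe0206c089a83) (nat_lit 9904) (nat_lit
  0xa96009168126) (.node (.node (.node (.node (.node (.node .nil (nat_lit 0xe0206c099590) (nat_lit 977)
  (nat_lit 0xc02f041ed080) .nil) (nat_lit 0xe0206c0a4f80) (nat_lit 9728) (nat_lit 0xba800c056123) .nil)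
  (nat_lit 0xe0849403380b) (nat_lit 3312) (nat_lit 0xa88d01067016) (.node (.node .nil (nat_lit 0xe08494056123)
  (nat_lit 4704) (nat_lit 0x8269112c9406) .nil) (nat_lit 0xe08494093168) (nat_lit 11025) (nat_lit
  0xe1064100293e) .nil)) (nat_lit 0xe084940a0963) (nat_lit 5488) (nat_lit 0x86cc04283113) (.node (.node (.node
  .nil (nat_lit 0xe084940c504b) (nat_lit 8800) (nat_lit 0xac281402d503) .nil) (nat_lit 0xe084940f6840)
  (nat_lit 1360) (nat_lit 0xaa580204a515) .nil) (nat_lit 0xe1064100293e) (nat_lit 9136) (nat_lit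
  0x87210c301c43) (.node (.node .nil (nat_lit 0xe10641067016) (nat_lit 4849) (nat_lit 0xa09a441964a0) .nil)
  (nat_lit 0xe106410851a6) (nat_lit 10528) (nat_lit 0xa53042120d0d) .nil))) (nat_lit 0xe10641087898) (nat_lit
  6641) (nat_lit 0x89a444305aa0) (.node (.node (.node (.node .nil (nat_lit 0xe106410e088e) (nat_lit 2272)
  (nat_lit 0x96140a212945) .nil) (nat_lit 0xe106410e21b0) (nat_lit 1793) (nat_lit 0xb1228408dc60) .nil)
  (nat_lit 0xe140a2023718) (nat_lit 5744) (nat_lit 0x904d220a205d) (.node (.node .nil (nat_lit 0xe140a204a515)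
  (nat_lit 9472) (nat_lit 0x82691118046e) .nil) (nat_lit 0xe140a206920d) (nat_lit 5296) (nat_lit
  0x88494c122433) .nil)) (nat_lit 0xe140a2081745) (nat_lit 9121) (nat_lit 0x86072111b8c0) (.node (.node (.node
  .nil (nat_lit 0xe140a20cb250) (nat_lit 3841) (nat_lit 0x952c010293e0) .nil) (nat_lit 0xe140a20e8548)
  (nat_lit 449) (nat_lit 0x900bc107b420) .nil) (nat_lit 0xe4218101c436) (nat_lit 2048) (nat_lit
  0x826911349068) (.node .nil (nat_lit 0xe42181021e26) (nat_lit 10161) (nat_lit 0xc8384113021e) .nil))))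
  (nat_lit 0xe4218103da10) (nat_lit 336) (nat_lit 0x94c109223870) (.node (.node (.node (.node (.node .nil
  (nat_lit 0xe4218108dc60) (nat_lit 7985) (nat_lit 0xa88d0113021e) .nil) (nat_lit 0xe421810ac246) (nat_lit
  5153) (nat_lit 0x8c48a113021e) .nil) (nat_lit 0xe421810b0670) (nat_lit 3760) (nat_lit 0xa6084910f130) (.node
  (.node .nil (nat_lit 0xe911040046e3) (nat_lit 4353) (nat_lit 0xc0063a11b8c0) .nil) (nat_lit 0xe9110400a4f8)
  (nat_lit 8272) (nat_lit 0xc0a2c2111c38) .nil)) (nat_lit 0xe9110400e21b) (nat_lit 6736) (nat_lit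
  0xc0a2c2031135) (.node (.node (.node .nil (nat_lit 0xe91104046e30) (nat_lit 5216) (nat_lit 0xc0a2c2145425)
  .nil) (nat_lit 0xe91104048c2b) (nat_lit 8513) (nat_lit 0xc0063a0d3085) .nil) (nat_lit 0xe9110404cac8)
  (nat_lit 2976) (nat_lit 0xc0a2c205481d) (.node .nil (nat_lit 0xea0031008dc6) (nat_lit 3985) (nat_lit
  0xa2209a00cb25) .nil))) (nat_lit 0xea003101ed08) (nat_lit 11264) (nat_lit 0xa34054048c2b) (.node (.node
  (.node (.node .nil (nat_lit 0xea003104470e) (nat_lit 5456) (nat_lit 0x838419244866) .nil) (nat_lit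
  0xea003104cac8) (nat_lit 2353) (nat_lit 0xa2209a1c8845) .nil) (nat_lit 0xea00310527c0) (nat_lit 7873)
  (nat_lit 0xa2209a08dc60) (.node (.node .nil (nat_lit 0xea003105aa06) (nat_lit 3504) (nat_lit 0x87083220c44d)
  .nil) (nat_lit 0xf8240200cb25) (nat_lit 2400) (nat_lit 0x9189140c504b) .nil)) (nat_lit 0xf824020149f0)
  (nat_lit 10096) (nat_lit 0x88494c159013) (.node (.node (.node .nil (nat_lit 0xf824020258c5) (nat_lit 2161)
  (nat_lit 0x81511a0a84a5) .nil) (nat_lit 0xf824020293e0) (nat_lit 2816) (nat_lit 0x81511a1c8845) .nil)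
  (nat_lit 0xf82402031135) (nat_lit 2833) (nat_lit 0x81511a1c8845) (.node .nil (nat_lit 0xf8240203da10)
  (nat_lit 6976) (nat_lit 0x94c109091856) .nil)))))))
def tt720 : T := (.node (.node tt720_0 (nat_lit 0x89298206920d) (nat_lit 7761) (nat_lit 0xc1c20c160ce0)
  tt720_1) (nat_lit 0xa1189104470e) (nat_lit 417) (nat_lit 0xa118911c4360) (.node tt720_2 (nat_lit
  0xc1c20c0428d3) (nat_lit 1729) (nat_lit 0xa0178213e005) tt720_3))
theorem tt720_chk : band (orbChk apT (gensOf cS) 150636249514819 (2 ^ 48) tt720) (Nat.beq tt720.size 720) = true := by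
  decide +kernel
theorem tt720_card : (orbit (stabilizer M24 S0) (trio (unmask 2392899) (unmask 8978620))).ncard = 720 :=
  orbit_ncard_of_chk acT (trio_rep (a := 2392899) (b := 8978620) (k := 150636249514819) (by decide +kernel)).1 cS_chk stab_S0 (trio_rep (a := 2392899) (b := 8978620) (k := 150636249514819) (by decide +kernel)).2 tt720_chk

def tt2880_0 : T := (.node (.node (.node (.node (.node (.node (.node (.node .nil (nat_lit 0x800c7504b18a)
  (nat_lit 8497) (nat_lit 0xcc1092114e44) .nil) (nat_lit 0x800c750ba288) (nat_lit 24528) (nat_lit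
  0xe6020601ed08) .nil) (nat_lit 0x800c750f1302) (nat_lit 5552) (nat_lit 0xa0e1061810f1) (.node (.node .nil
  (nat_lit 0x800c7511c382) (nat_lit 37953) (nat_lit 0x9104d222a129) .nil) (nat_lit 0x800c75157208) (nat_lit
  32577) (nat_lit 0x804a9622a129) .nil)) (nat_lit 0x800c751a610a) (nat_lit 39056) (nat_lit 0xc1c20c1810f1)
  (.node (.node (.node .nil (nat_lit 0x800c751ed080) (nat_lit 14465) (nat_lit 0x981c8422a129) .nil) (nat_lit
  0x800c75237180) (nat_lit 29105) (nat_lit 0x94585022a129) .nil) (nat_lit 0x800c7527c00a) (nat_lit 38465)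
  (nat_lit 0x85161422a129) (.node (.node .nil (nat_lit 0x800c7528d308) (nat_lit 7009) (nat_lit 0x8c0e4222a129)
  .nil) (nat_lit 0x800c752c6282) (nat_lit 42480) (nat_lit 0x828b0a1810f1) .nil))) (nat_lit 0x800c7532b202)
  (nat_lit 30785) (nat_lit 0xd80254055c82) (.node (.node (.node (.node .nil (nat_lit 0x800c75360388) (nat_lit
  2960) (nat_lit 0xa4a6081810f1) .nil) (nat_lit 0x800c7539108a) (nat_lit 12497) (nat_lit 0xc054461d0a90) .nil)
  (nat_lit 0x800c753da100) (nat_lit 35680) (nat_lit 0xa54b001810f1) (.node (.node .nil (nat_lit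
  0x8018ea096314) (nat_lit 26081) (nat_lit 0xcd2220121992) .nil) (nat_lit 0x8018ea0dc601) (nat_lit 19473)
  (nat_lit 0xde09000132b2) .nil)) (nat_lit 0x8018ea1a8311) (nat_lit 15329) (nat_lit 0x863a8020c44d) (.node
  (.node (.node .nil (nat_lit 0x8018ea1e2604) (nat_lit 2129) (nat_lit 0x9511a020c44d) .nil) (nat_lit
  0x8018ea238704) (nat_lit 40752) (nat_lit 0xa118911e2604) .nil) (nat_lit 0x8018ea272211) (nat_lit 32464)
  (nat_lit 0xa1189106226a) (.node .nil (nat_lit 0x8018ea306701) (nat_lit 9905) (nat_lit 0xd028b00f1302)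
  .nil)))) (nat_lit 0x8018ea34c214) (nat_lit 39041) (nat_lit 0xc303901c3822) (.node (.node (.node (.node
  (.node .nil (nat_lit 0x80254b03da10) (nat_lit 5313) (nat_lit 0xb01036034349) .nil) (nat_lit 0x80254b0498b4)
  (nat_lit 44257) (nat_lit 0xcc1092034349) .nil) (nat_lit 0x80254b0742a4) (nat_lit 33473) (nat_lit
  0x80bc12034349) (.node (.node .nil (nat_lit 0x80254b199224) (nat_lit 44080) (nat_lit 0x82f048280cb2) .nil)
  (nat_lit 0x80254b1a4834) (nat_lit 9920) (nat_lit 0xc1c20c163141) .nil)) (nat_lit 0x80254b1d0a90) (nat_lit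
  43713) (nat_lit 0xd4b004034349) (.node (.node (.node .nil (nat_lit 0x80254b1ed080) (nat_lit 15745) (nat_lit
  0x981c84034349) .nil) (nat_lit 0x80254b29c884) (nat_lit 16224) (nat_lit 0x925304280cb2) .nil) (nat_lit
  0x80254b2a1294) (nat_lit 41793) (nat_lit 0x8424a6034349) (.node (.node .nil (nat_lit 0x80254b2d5030)
  (nat_lit 4609) (nat_lit 0xf82402034349) .nil) (nat_lit 0x80254b2e8a20) (nat_lit 16961) (nat_lit
  0xb48882034349) .nil))) (nat_lit 0x80254b305aa0) (nat_lit 35872) (nat_lit 0xc7500110a34c) (.node (.node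
  (.node (.node .nil (nat_lit 0x80254b3380b0) (nat_lit 35328) (nat_lit 0x846245280cb2) .nil) (nat_lit
  0x80254b34c214) (nat_lit 10416) (nat_lit 0x81b301280cb2) .nil) (nat_lit 0x80254b371804) (nat_lit 16625)
  (nat_lit 0xac2814034349) (.node (.node .nil (nat_lit 0x8031d4094a2a) (nat_lit 16704) (nat_lit
  0x9104d224f801) .nil) (nat_lit 0x8031d40dc601) (nat_lit 577) (nat_lit 0xde090001262d) .nil)) (nat_lit
  0x8031d41b8c02) (nat_lit 18705) (nat_lit 0xc0d98001262d) (.node (.node (.node .nil (nat_lit 0x8031d41f0029)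
  (nat_lit 2753) (nat_lit 0xf210c001262d) .nil) (nat_lit 0x8031d4234c21) (nat_lit 43936) (nat_lit
  0x9104d2226a0c) .nil) (nat_lit 0x8031d427c00a) (nat_lit 33872) (nat_lit 0x9104d20a7221) (.node .nil (nat_lit
  0x8031d4318a09) (nat_lit 18880) (nat_lit 0x9104d2243324) .nil))))) (nat_lit 0x8031d4350622) (nat_lit 20896)
  (nat_lit 0x9104d20c2b09) (.node (.node (.node (.node (.node (.node .nil (nat_lit 0x804a9607b420) (nat_lit
  20593) (nat_lit 0x8212530ce02c) .nil) (nat_lit 0x804a96093168) (nat_lit 31072) (nat_lit 0x80bc123540c1)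
  .nil) (nat_lit 0x804a960e8548) (nat_lit 29984) (nat_lit 0xca960000293e) (.node (.node .nil (nat_lit
  0x804a96118561) (nat_lit 833) (nat_lit 0x9104d20ce02c) .nil) (nat_lit 0x804a96163141) (nat_lit 15120)
  (nat_lit 0x8a05163540c1) .nil)) (nat_lit 0x804a9618b409) (nat_lit 41969) (nat_lit 0x831d400ce02c) (.node
  (.node (.node .nil (nat_lit 0x804a961f0029) (nat_lit 22368) (nat_lit 0xc0063a0ab904) .nil) (nat_lit
  0x804a9622a129) (nat_lit 21537) (nat_lit 0xd015110ce02c) .nil) (nat_lit 0x804a96251509) (nat_lit 27809)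
  (nat_lit 0xa118910ce02c) (.node (.node .nil (nat_lit 0x804a962b9041) (nat_lit 19057) (nat_lit
  0xc20c830ce02c) .nil) (nat_lit 0x804a962c2461) (nat_lit 3376) (nat_lit 0x828b0a3540c1) .nil))) (nat_lit
  0x804a96332448) (nat_lit 14384) (nat_lit 0x88320e3540c1) (.node (.node (.node (.node .nil (nat_lit
  0x804a96349068) (nat_lit 12432) (nat_lit 0xc2181c08a722) .nil) (nat_lit 0x804a963a1520) (nat_lit 20465)
  (nat_lit 0xa017820ce02c) .nil) (nat_lit 0x804a963da100) (nat_lit 11041) (nat_lit 0xd11a020ce02c) (.node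
  (.node .nil (nat_lit 0x805e0903a152) (nat_lit 44481) (nat_lit 0xb010360e8548) .nil) (nat_lit 0x805e090d80e2)
  (nat_lit 14496) (nat_lit 0x8c48a121b01c) .nil)) (nat_lit 0x805e09152074) (nat_lit 38416) (nat_lit
  0x8c48a1129454) (.node (.node (.node .nil (nat_lit 0x805e091b01c4) (nat_lit 17281) (nat_lit 0xc012a50e8548)
  .nil) (nat_lit 0x805e0926a0c4) (nat_lit 33760) (nat_lit 0x8c48a132b202) .nil) (nat_lit 0x805e09288174)
  (nat_lit 43137) (nat_lit 0xa02a230e8548) (.node .nil (nat_lit 0x805e093021e2) (nat_lit 25952) (nat_lit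
  0x8c48a110a34c) .nil)))) (nat_lit 0x805e093e0052) (nat_lit 23184) (nat_lit 0x8c48a101964a) (.node (.node
  (.node (.node (.node .nil (nat_lit 0x8063a8070447) (nat_lit 22657) (nat_lit 0x80bc122d024c) .nil) (nat_lit
  0x8063a8091856) (nat_lit 4400) (nat_lit 0xb0a051055c82) .nil) (nat_lit 0x8063a80e1c11) (nat_lit 39457)
  (nat_lit 0x92a5802d024c) (.node (.node .nil (nat_lit 0x8063a8129454) (nat_lit 7776) (nat_lit 0x920178055c82)
  .nil) (nat_lit 0x8063a8159013) (nat_lit 22752) (nat_lit 0xba800c055c82) .nil)) (nat_lit 0x8063a81b8c02)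
  (nat_lit 30768) (nat_lit 0xd80254055c82) (.node (.node (.node .nil (nat_lit 0x8063a81c8845) (nat_lit 30369)
  (nat_lit 0x9298212d024c) .nil) (nat_lit 0x8063a8228817) (nat_lit 28977) (nat_lit 0xd0151102e8a2) .nil)
  (nat_lit 0x8063a8258c50) (nat_lit 4337) (nat_lit 0x8254b02d024c) (.node .nil (nat_lit 0x8063a82b9041)
  (nat_lit 39680) (nat_lit 0xc8a118055c82) .nil))) (nat_lit 0x8063a82c9406) (nat_lit 6753) (nat_lit
  0x904d222d024c) (.node (.node (.node (.node .nil (nat_lit 0x8063a8301c43) (nat_lit 10928) (nat_lit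
  0xea0031055c82) .nil) (nat_lit 0x8063a8371804) (nat_lit 12321) (nat_lit 0x8269112d024c) .nil) (nat_lit
  0x8063a8390415) (nat_lit 35697) (nat_lit 0xc2312210cc91) (.node (.node .nil (nat_lit 0x8063a83e0052)
  (nat_lit 6097) (nat_lit 0x9070832d024c) .nil) (nat_lit 0x8081b3043c4c) (nat_lit 21488) (nat_lit
  0x800c7539108a) .nil)) (nat_lit 0x8081b30b540c) (nat_lit 43681) (nat_lit 0xc805e0159013) (.node (.node
  (.node .nil (nat_lit 0x8081b30f6840) (nat_lit 39872) (nat_lit 0xc24a6004a515) .nil) (nat_lit 0x8081b3114e44)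
  (nat_lit 10080) (nat_lit 0xc02f0406c071) .nil) (nat_lit 0x8081b3157208) (nat_lit 17680) (nat_lit
  0x86cc0439108a) (.node .nil (nat_lit 0x8081b31a1a48) (nat_lit 15969) (nat_lit 0x8494c1226a0c) .nil))))))
  (nat_lit 0x8081b31e2604) (nat_lit 43361) (nat_lit 0x9511a0226a0c) (.node (.node (.node (.node (.node (.node
  (.node .nil (nat_lit 0x8081b3226a0c) (nat_lit 44592) (nat_lit 0x82a23439108a) .nil) (nat_lit 0x8081b3265640)
  (nat_lit 25840) (nat_lit 0xc4413402ae41) .nil) (nat_lit 0x8081b3293e00) (nat_lit 45040) (nat_lit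
  0xc0e421060b54) (.node (.node .nil (nat_lit 0x8081b32d024c) (nat_lit 45872) (nat_lit 0x86072139108a) .nil)
  (nat_lit 0x8081b3332448) (nat_lit 28209) (nat_lit 0x9c8430226a0c) .nil)) (nat_lit 0x8081b3371804) (nat_lit
  21792) (nat_lit 0xc28145046e30) (.node (.node (.node .nil (nat_lit 0x8081b3387044) (nat_lit 24513) (nat_lit
  0x891423226a0c) .nil) (nat_lit 0x8081b33c4c08) (nat_lit 18896) (nat_lit 0x80c75039108a) .nil) (nat_lit
  0x80952c230ac2) (nat_lit 4144) (nat_lit 0x8018ea1e2604) (.node (.node .nil (nat_lit 0x80952c272211) (nat_lit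
  40177) (nat_lit 0x88d015200f68) .nil) (nat_lit 0x80952c284a51) (nat_lit 31649) (nat_lit 0x8ea003200f68)
  .nil))) (nat_lit 0x80952c2c6282) (nat_lit 25264) (nat_lit 0x8018ea1a8311) (.node (.node (.node (.node .nil
  (nat_lit 0x80952c316812) (nat_lit 36864) (nat_lit 0x8018ea096314) .nil) (nat_lit 0x80952c3540c1) (nat_lit
  17808) (nat_lit 0x8018ea306701) .nil) (nat_lit 0x80952c3a2881) (nat_lit 24385) (nat_lit 0x839086200f68)
  (.node (.node .nil (nat_lit 0x80952c3e0052) (nat_lit 30288) (nat_lit 0x8018ea0dc601) .nil) (nat_lit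
  0x80a88d041572) (nat_lit 28705) (nat_lit 0xcc109203886c) .nil)) (nat_lit 0x80a88d0b0670) (nat_lit 37392)
  (nat_lit 0xe60206090cc9) (.node (.node (.node .nil (nat_lit 0x80a88d0f1302) (nat_lit 24001) (nat_lit
  0xd4468003886c) .nil) (nat_lit 0x80a88d135062) (nat_lit 17649) (nat_lit 0x94231203886c) .nil) (nat_lit
  0x80a88d174510) (nat_lit 39104) (nat_lit 0xe07210090cc9) (.node .nil (nat_lit 0x80a88d185612) (nat_lit
  12689) (nat_lit 0x8c750003886c) .nil)))) (nat_lit 0x80a88d1c4360) (nat_lit 41888) (nat_lit 0xf08320067016)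
  (.node (.node (.node (.node (.node .nil (nat_lit 0x80a88d224332) (nat_lit 12065) (nat_lit 0xd0151103886c)
  .nil) (nat_lit 0x80a88d265640) (nat_lit 32848) (nat_lit 0xc44134090cc9) .nil) (nat_lit 0x80a88d294542)
  (nat_lit 16512) (nat_lit 0x925304090cc9) (.node (.node .nil (nat_lit 0x80a88d2d5030) (nat_lit 26257)
  (nat_lit 0xf8240203886c) .nil) (nat_lit 0x80a88d311350) (nat_lit 29553) (nat_lit 0xb8419003886c) .nil))
  (nat_lit 0x80a88d350622) (nat_lit 43632) (nat_lit 0x942312090cc9) (.node (.node (.node .nil (nat_lit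
  0x80a88d3a1520) (nat_lit 14529) (nat_lit 0xa0178203886c) .nil) (nat_lit 0x80a88d3e0052) (nat_lit 17440)
  (nat_lit 0x84d222090cc9) .nil) (nat_lit 0x80bc12034349) (nat_lit 22449) (nat_lit 0xb0103601ed08) (.node .nil
  (nat_lit 0x80bc120742a4) (nat_lit 25105) (nat_lit 0x82125301ed08) .nil))) (nat_lit 0x80bc121b01c4) (nat_lit
  13825) (nat_lit 0xc012a501ed08) (.node (.node (.node (.node .nil (nat_lit 0x80bc121f0029) (nat_lit 29200)
  (nat_lit 0xb004a90ab904) .nil) (nat_lit 0x80bc122903a1) (nat_lit 24545) (nat_lit 0xe6020601ed08) .nil)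
  (nat_lit 0x80bc122d024c) (nat_lit 13329) (nat_lit 0xd4006301ed08) (.node (.node .nil (nat_lit
  0x80bc1231412c) (nat_lit 21105) (nat_lit 0x96009501ed08) .nil) (nat_lit 0x80bc123540c1) (nat_lit 20224)
  (nat_lit 0xb004a9007b42) .nil)) (nat_lit 0x80c75003380b) (nat_lit 25441) (nat_lit 0xb010360c2b09) (.node
  (.node (.node .nil (nat_lit 0x80c7500d3085) (nat_lit 41104) (nat_lit 0x89a4441440ba) .nil) (nat_lit
  0x80c7500e088e) (nat_lit 27585) (nat_lit 0x90c0e40c2b09) .nil) (nat_lit 0x80c7501108a7) (nat_lit 20913)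
  (nat_lit 0x9104d20c2b09) (.node .nil (nat_lit 0x80c7501230ac) (nat_lit 5505) (nat_lit 0xd2c0120c2b09)
  .nil))))) (nat_lit 0x80c7501c3822) (nat_lit 7041) (nat_lit 0xb1d4000c2b09) (.node (.node (.node (.node
  (.node (.node .nil (nat_lit 0x80c7501f0029) (nat_lit 31057) (nat_lit 0xf210c001c436) .nil) (nat_lit
  0x80c7502528a8) (nat_lit 26816) (nat_lit 0xaa23401440ba) .nil) (nat_lit 0x80c7502610a3) (nat_lit 29937)
  (nat_lit 0xc190700c2b09) (.node (.node .nil (nat_lit 0x80c75028182d) (nat_lit 9728) (nat_lit 0xc838411440ba)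
  .nil) (nat_lit 0x80c7502b2026) (nat_lit 929) (nat_lit 0xe140a20c2b09) .nil)) (nat_lit 0x80c75034200f)
  (nat_lit 27201) (nat_lit 0xe084940c2b09) (.node (.node (.node .nil (nat_lit 0x80c750371804) (nat_lit 26736)
  (nat_lit 0xc281451440ba) .nil) (nat_lit 0x80c75039108a) (nat_lit 10657) (nat_lit 0xc054460c2b09) .nil)
  (nat_lit 0x80c7503a2881) (nat_lit 32017) (nat_lit 0x8390860c2b09) (.node (.node .nil (nat_lit
  0x810366066489) (nat_lit 23345) (nat_lit 0x80bc121b01c4) .nil) (nat_lit 0x810366087898) (nat_lit 42225)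
  (nat_lit 0x89a444121992) .nil))) (nat_lit 0x8103660e1c11) (nat_lit 28577) (nat_lit 0x92a580091856) (.node
  (.node (.node (.node .nil (nat_lit 0x81036610cc91) (nat_lit 26128) (nat_lit 0xc02f041f0029) .nil) (nat_lit
  0x81036616a818) (nat_lit 20033) (nat_lit 0x8a051611b8c0) .nil) (nat_lit 0x81036618b409) (nat_lit 32032)
  (nat_lit 0x8a2c2820d0d2) (.node (.node .nil (nat_lit 0x8103661ed080) (nat_lit 27216) (nat_lit
  0x87210c20d0d2) .nil) (nat_lit 0x810366229c88) (nat_lit 13920) (nat_lit 0xc109291e2604) .nil)) (nat_lit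
  0x81036624f801) (nat_lit 944) (nat_lit 0xcc040d132b20) (.node (.node (.node .nil (nat_lit 0x8103662ae410)
  (nat_lit 42736) (nat_lit 0x8b0a0520d0d2) .nil) (nat_lit 0x8103662c8099) (nat_lit 5520) (nat_lit
  0x86072120d0d2) .nil) (nat_lit 0x810366325019) (nat_lit 560) (nat_lit 0xde090001262d) (.node .nil (nat_lit
  0x810366343490) (nat_lit 38321) (nat_lit 0x8a88d0113506) .nil)))) (nat_lit 0x8103663a2881) (nat_lit 11216)
  (nat_lit 0x940a2c20d0d2) (.node (.node (.node (.node (.node .nil (nat_lit 0x8103663c4c08) (nat_lit 20928)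
  (nat_lit 0x99070820d0d2) .nil) (nat_lit 0x812a5802d503) (nat_lit 43840) (nat_lit 0xac012a10cc91) .nil)
  (nat_lit 0x812a580851a6) (nat_lit 20657) (nat_lit 0xa84624121992) (.node (.node .nil (nat_lit
  0x812a580a84a5) (nat_lit 20497) (nat_lit 0xa209a4185612) .nil) (nat_lit 0x812a58145425) (nat_lit 10000)
  (nat_lit 0x8e106410cc91) .nil)) (nat_lit 0x812a58168126) (nat_lit 21585) (nat_lit 0x8a0516305aa0) (.node
  (.node (.node .nil (nat_lit 0x812a581c0583) (nat_lit 16241) (nat_lit 0x925304280cb2) .nil) (nat_lit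
  0x812a581ed080) (nat_lit 6224) (nat_lit 0x87210c10cc91) .nil) (nat_lit 0x812a5824c5a0) (nat_lit 42993)
  (nat_lit 0x8254b0380b06) (.node .nil (nat_lit 0x812a582610a3) (nat_lit 18673) (nat_lit 0x881b30324486)
  .nil))) (nat_lit 0x812a582c9406) (nat_lit 30177) (nat_lit 0x904d222a1294) (.node (.node (.node (.node .nil
  (nat_lit 0x812a582e4105) (nat_lit 43984) (nat_lit 0xa3122810cc91) .nil) (nat_lit 0x812a58309185) (nat_lit
  40033) (nat_lit 0xb84190021e26) .nil) (nat_lit 0x812a58324486) (nat_lit 6129) (nat_lit 0xb20e100851a6)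
  (.node (.node .nil (nat_lit 0x812a5838c023) (nat_lit 4817) (nat_lit 0xaa58021007b4) .nil) (nat_lit
  0x812a583a1520) (nat_lit 32769) (nat_lit 0xa017821a4834) .nil)) (nat_lit 0x81458506226a) (nat_lit 31089)
  (nat_lit 0x80bc123540c1) (.node (.node (.node .nil (nat_lit 0x8145850a903a) (nat_lit 15841) (nat_lit
  0xa06cc0159013) .nil) (nat_lit 0x8145850cb250) (nat_lit 42960) (nat_lit 0x90641c0d80e2) .nil) (nat_lit
  0x814585108a72) (nat_lit 16721) (nat_lit 0x9104d224f801) (.node .nil (nat_lit 0x81458516a818) (nat_lit 8704)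
  (nat_lit 0xe072100d80e2) .nil)))))))
def tt2880_1 : T := (.node (.node (.node (.node (.node (.node (.node (.node .nil (nat_lit 0x8145851c3822)
  (nat_lit 39968) (nat_lit 0xa234050d80e2) .nil) (nat_lit 0x814585223870) (nat_lit 45969) (nat_lit
  0x94585021a483) .nil) (nat_lit 0x814585241a1a) (nat_lit 45617) (nat_lit 0xa1189114e442) (.node (.node .nil
  (nat_lit 0x81458528a84a) (nat_lit 39328) (nat_lit 0x9253040d80e2) .nil) (nat_lit 0x8145852e8a20) (nat_lit
  5409) (nat_lit 0xb48882017451) .nil)) (nat_lit 0x81458532b202) (nat_lit 4417) (nat_lit 0xb0a051055c82)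
  (.node (.node (.node .nil (nat_lit 0x814585349068) (nat_lit 29521) (nat_lit 0x85e090301c43) .nil) (nat_lit
  0x814585382238) (nat_lit 38897) (nat_lit 0xa5304210cc91) .nil) (nat_lit 0x8145853e0052) (nat_lit 24192)
  (nat_lit 0x805e090d80e2) (.node (.node .nil (nat_lit 0x81511a02ae41) (nat_lit 6033) (nat_lit 0xb01036078981)
  .nil) (nat_lit 0x81511a082ae4) (nat_lit 5392) (nat_lit 0xb48882017451) .nil))) (nat_lit 0x81511a14a2a1)
  (nat_lit 31952) (nat_lit 0xb488820b540c) (.node (.node (.node (.node .nil (nat_lit 0x81511a1e2604) (nat_lit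
  35936) (nat_lit 0xb48882026564) .nil) (nat_lit 0x81511a26a0c4) (nat_lit 32416) (nat_lit 0xb488820a7221)
  .nil) (nat_lit 0x81511a2c2461) (nat_lit 16944) (nat_lit 0xb48882034349) (.node (.node .nil (nat_lit
  0x81511a30ac24) (nat_lit 1200) (nat_lit 0xb48882096314) .nil) (nat_lit 0x81511a3a2881) (nat_lit 33424)
  (nat_lit 0xb4888200527c) .nil)) (nat_lit 0x817824068692) (nat_lit 22513) (nat_lit 0x821253146984) (.node
  (.node (.node .nil (nat_lit 0x8178240803da) (nat_lit 30400) (nat_lit 0x8494c1316812) .nil) (nat_lit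
  0x817824140659) (nat_lit 24993) (nat_lit 0x804a96163141) .nil) (nat_lit 0x8178241a8311) (nat_lit 7200)
  (nat_lit 0x8494c11a610a) (.node .nil (nat_lit 0x8178242205d1) (nat_lit 15952) (nat_lit 0x8494c1226a0c)
  .nil)))) (nat_lit 0x8178242c8099) (nat_lit 30256) (nat_lit 0x8494c1224332) (.node (.node (.node (.node
  (.node .nil (nat_lit 0x81782430851a) (nat_lit 36800) (nat_lit 0x8494c1096314) .nil) (nat_lit 0x8178243e0052)
  (nat_lit 37264) (nat_lit 0x8494c1094a2a) .nil) (nat_lit 0x818ea0067016) (nat_lit 36257) (nat_lit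
  0x8212531964a0) (.node (.node .nil (nat_lit 0x818ea00a205d) (nat_lit 28785) (nat_lit 0x8320e1185612) .nil)
  (nat_lit 0x818ea00c504b) (nat_lit 15569) (nat_lit 0x9a44410132b2) .nil)) (nat_lit 0x818ea0104157) (nat_lit
  33889) (nat_lit 0x9104d20a7221) (.node (.node (.node .nil (nat_lit 0x818ea0163141) (nat_lit 4273) (nat_lit
  0x886072131681) .nil) (nat_lit 0x818ea01a610a) (nat_lit 27665) (nat_lit 0x8952c0122433) .nil) (nat_lit
  0x818ea01c111c) (nat_lit 44305) (nat_lit 0x9036600b4093) (.node .nil (nat_lit 0x818ea022114e) (nat_lit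
  26704) (nat_lit 0xe0095201d0a9) .nil))) (nat_lit 0x818ea0246158) (nat_lit 7105) (nat_lit 0x8254b0192243)
  (.node (.node (.node (.node .nil (nat_lit 0x818ea0283113) (nat_lit 44768) (nat_lit 0xf8240201d0a9) .nil)
  (nat_lit 0x818ea02e4105) (nat_lit 39216) (nat_lit 0xb20e1001d0a9) .nil) (nat_lit 0x818ea0325019) (nat_lit
  24801) (nat_lit 0x9142310a34c2) (.node (.node .nil (nat_lit 0x818ea034200f) (nat_lit 30353) (nat_lit
  0x882691135062) .nil) (nat_lit 0x818ea0387044) (nat_lit 33265) (nat_lit 0x8914231262d0) .nil)) (nat_lit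
  0x818ea03e0052) (nat_lit 23313) (nat_lit 0x9070830b0670) (.node (.node (.node .nil (nat_lit 0x81b301024c5a)
  (nat_lit 3201) (nat_lit 0xb0103608e1c1) .nil) (nat_lit 0x81b3010c44d4) (nat_lit 26576) (nat_lit
  0x88c48a152074) .nil) (nat_lit 0x81b3011440ba) (nat_lit 35505) (nat_lit 0x8081b3387044) (.node .nil (nat_lit
  0x81b3011a4834) (nat_lit 43249) (nat_lit 0xa8b0a0104157) .nil))))) (nat_lit 0x81b30126043c) (nat_lit 8801)
  (nat_lit 0x88d0153021e2) (.node (.node (.node (.node (.node (.node .nil (nat_lit 0x81b301280cb2) (nat_lit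
  5569) (nat_lit 0xa0e1061810f1) .nil) (nat_lit 0x81b3013008dc) (nat_lit 44561) (nat_lit 0xb8419000b067) .nil)
  (nat_lit 0x81b3013e0052) (nat_lit 43057) (nat_lit 0x907083288174) (.node (.node .nil (nat_lit
  0x81c843023718) (nat_lit 41153) (nat_lit 0xb010360527c0) .nil) (nat_lit 0x81c8430c16a8) (nat_lit 13009)
  (nat_lit 0xb405440132b2) .nil)) (nat_lit 0x81c8430e21b0) (nat_lit 36273) (nat_lit 0xb12284041572) (.node
  (.node (.node .nil (nat_lit 0x81c8431007b4) (nat_lit 2320) (nat_lit 0xc02f04135062) .nil) (nat_lit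
  0x81c8431230ac) (nat_lit 40193) (nat_lit 0x9423122114e4) .nil) (nat_lit 0x81c8431c111c) (nat_lit 22113)
  (nat_lit 0x903660250196) (.node (.node .nil (nat_lit 0x81c8431e2604) (nat_lit 41729) (nat_lit
  0x9511a0202656) .nil) (nat_lit 0x81c843243324) (nat_lit 29488) (nat_lit 0xc05446132b20) .nil))) (nat_lit
  0x81c84326043c) (nat_lit 38001) (nat_lit 0x8516143021e2) (.node (.node (.node (.node .nil (nat_lit
  0x81c84328258c) (nat_lit 39264) (nat_lit 0x9253042c8099) .nil) (nat_lit 0x81c8432a1294) (nat_lit 10305)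
  (nat_lit 0x8424a6311350) .nil) (nat_lit 0x81c843343490) (nat_lit 30192) (nat_lit 0xd30424007b42) (.node
  (.node .nil (nat_lit 0x81c843360388) (nat_lit 7360) (nat_lit 0x9036602c8099) .nil) (nat_lit 0x81c843382238)
  (nat_lit 10352) (nat_lit 0x8103662c8099) .nil)) (nat_lit 0x81c8433a1520) (nat_lit 1825) (nat_lit
  0xa01782152074) (.node (.node (.node .nil (nat_lit 0x8206cc09a831) (nat_lit 9841) (nat_lit 0xe3a8000401ed)
  .nil) (nat_lit 0x8206cc0cc912) (nat_lit 42624) (nat_lit 0xca96000149f0) .nil) (nat_lit 0x8206cc195901)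
  (nat_lit 15265) (nat_lit 0xca96000401ed) (.node .nil (nat_lit 0x8206cc1c3822) (nat_lit 35888) (nat_lit
  0xa234050149f0) .nil)))) (nat_lit 0x8206cc219922) (nat_lit 9552) (nat_lit 0xe0900b0149f0) (.node (.node
  (.node (.node (.node .nil (nat_lit 0x8206cc24f801) (nat_lit 14256) (nat_lit 0xcc040d0149f0) .nil) (nat_lit
  0x8206cc316812) (nat_lit 2065) (nat_lit 0xb20e100401ed) .nil) (nat_lit 0x8206cc340931) (nat_lit 37409)
  (nat_lit 0xc94c100401ed) (.node (.node .nil (nat_lit 0x82125301ed08) (nat_lit 15201) (nat_lit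
  0xb01036066489) .nil) (nat_lit 0x8212530ce02c) (nat_lit 11889) (nat_lit 0xb90860066489) .nil)) (nat_lit
  0x8212530d0d24) (nat_lit 44544) (nat_lit 0xb8419000b067) (.node (.node (.node .nil (nat_lit 0x821253146984)
  (nat_lit 13217) (nat_lit 0xe00952066489) .nil) (nat_lit 0x82125315848c) (nat_lit 29536) (nat_lit
  0xb8419003886c) .nil) (nat_lit 0x8212531889a8) (nat_lit 21137) (nat_lit 0xa09a44066489) (.node .nil (nat_lit
  0x8212531964a0) (nat_lit 25377) (nat_lit 0xe91104066489) .nil))) (nat_lit 0x82125324c5a0) (nat_lit 26112)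
  (nat_lit 0xb8419002ae41) (.node (.node (.node (.node .nil (nat_lit 0x8212532528a8) (nat_lit 24064) (nat_lit
  0xb8419006226a) .nil) (nat_lit 0x82125328258c) (nat_lit 34385) (nat_lit 0x810366066489) .nil) (nat_lit
  0x82125329c884) (nat_lit 2561) (nat_lit 0xc88826066489) (.node (.node .nil (nat_lit 0x82125330ac24) (nat_lit
  11184) (nat_lit 0xb8419005aa06) .nil) (nat_lit 0x82125331412c) (nat_lit 20992) (nat_lit 0xb8419001262d)
  .nil)) (nat_lit 0x8212533c4c08) (nat_lit 38241) (nat_lit 0x989142066489) (.node (.node (.node .nil (nat_lit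
  0x8212533da100) (nat_lit 36720) (nat_lit 0xb84190051a61) .nil) (nat_lit 0x8254b005aa06) (nat_lit 2112)
  (nat_lit 0x9511a020c44d) .nil) (nat_lit 0x8254b009810f) (nat_lit 14481) (nat_lit 0xc24a60159013) (.node .nil
  (nat_lit 0x8254b00c2b09) (nat_lit 20737) (nat_lit 0x97824028258c) .nil)))))) (nat_lit 0x8254b010a34c)
  (nat_lit 20208) (nat_lit 0x9511a0024c5a) (.node (.node (.node (.node (.node (.node (.node .nil (nat_lit
  0x8254b015094a) (nat_lit 37200) (nat_lit 0x9511a0228817) .nil) (nat_lit 0x8254b0192243) (nat_lit 3713)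
  (nat_lit 0xc75001108a72) .nil) (nat_lit 0x8254b01c8845) (nat_lit 15760) (nat_lit 0x9511a00a205d) (.node
  (.node .nil (nat_lit 0x8254b0212945) (nat_lit 43344) (nat_lit 0x9511a0226a0c) .nil) (nat_lit 0x8254b0248343)
  (nat_lit 28416) (nat_lit 0x9511a002ae41) .nil)) (nat_lit 0x8254b028a84a) (nat_lit 32672) (nat_lit
  0x9511a00ac246) (.node (.node (.node .nil (nat_lit 0x8254b02d024c) (nat_lit 2225) (nat_lit 0xd4006303da10)
  .nil) (nat_lit 0x8254b0318a09) (nat_lit 41712) (nat_lit 0x9511a0202656) .nil) (nat_lit 0x8254b034200f)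
  (nat_lit 40993) (nat_lit 0xc48a11135062) (.node (.node .nil (nat_lit 0x8254b0380b06) (nat_lit 34496)
  (nat_lit 0x9511a0088e1c) .nil) (nat_lit 0x8254b03da100) (nat_lit 30497) (nat_lit 0xd11a0206c071) .nil)))
  (nat_lit 0x82691101964a) (nat_lit 3632) (nat_lit 0xa0c8381c0583) (.node (.node (.node (.node .nil (nat_lit
  0x8269110d80e2) (nat_lit 24288) (nat_lit 0xc24a601c0583) .nil) (nat_lit 0x82691115848c) (nat_lit 35969)
  (nat_lit 0xa444130ba288) .nil) (nat_lit 0x826911199224) (nat_lit 22737) (nat_lit 0xe41c200ba288) (.node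
  (.node .nil (nat_lit 0x8269112114e4) (nat_lit 32065) (nat_lit 0x9458500ba288) .nil) (nat_lit 0x8269112d024c)
  (nat_lit 6608) (nat_lit 0xa312281c0583) .nil)) (nat_lit 0x826911350622) (nat_lit 26368) (nat_lit
  0x812a581c0583) (.node (.node (.node .nil (nat_lit 0x82691139108a) (nat_lit 27937) (nat_lit 0xc054460ba288)
  .nil) (nat_lit 0x828b0a017451) (nat_lit 18416) (nat_lit 0x9c843020498b) .nil) (nat_lit 0x828b0a0c44d4)
  (nat_lit 23808) (nat_lit 0xca9600152074) (.node .nil (nat_lit 0x828b0a152074) (nat_lit 4992) (nat_lit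
  0xcd2220129454) .nil)))) (nat_lit 0x828b0a1810f1) (nat_lit 33376) (nat_lit 0x9b301020498b) (.node (.node
  (.node (.node (.node .nil (nat_lit 0x828b0a2114e4) (nat_lit 29792) (nat_lit 0xc190701e2604) .nil) (nat_lit
  0x828b0a2c2461) (nat_lit 39665) (nat_lit 0xb3010304cac8) .nil) (nat_lit 0x828b0a3540c1) (nat_lit 1712)
  (nat_lit 0x90366020498b) (.node (.node .nil (nat_lit 0x828b0a387044) (nat_lit 31249) (nat_lit
  0x89142304cac8) .nil) (nat_lit 0x82a234055c82) (nat_lit 18528) (nat_lit 0xa580251055c8) .nil)) (nat_lit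
  0x82a234090cc9) (nat_lit 28256) (nat_lit 0xe6020609a831) (.node (.node (.node .nil (nat_lit 0x82a23415094a)
  (nat_lit 30896) (nat_lit 0xcd22201055c8) .nil) (nat_lit 0x82a234195901) (nat_lit 20001) (nat_lit
  0xca9600104157) .nil) (nat_lit 0x82a234251509) (nat_lit 7744) (nat_lit 0xc888261055c8) (.node .nil (nat_lit
  0x82a234294542) (nat_lit 5136) (nat_lit 0x8b0a051055c8) .nil))) (nat_lit 0x82a2343540c1) (nat_lit 14816)
  (nat_lit 0xa02a231055c8) (.node (.node (.node (.node .nil (nat_lit 0x82a23439108a) (nat_lit 37889) (nat_lit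
  0xc054461a8311) .nil) (nat_lit 0x82f048010f13) (nat_lit 40224) (nat_lit 0x840d9838c023) .nil) (nat_lit
  0x82f0480c0237) (nat_lit 32368) (nat_lit 0x840d98387044) (.node (.node .nil (nat_lit 0x82f0480d0d24)
  (nat_lit 41905) (nat_lit 0xf08320067016) .nil) (nat_lit 0x82f0481007b4) (nat_lit 35457) (nat_lit
  0xd2c012090cc9) .nil)) (nat_lit 0x82f0481108a7) (nat_lit 2416) (nat_lit 0x840d982b9041) (.node (.node (.node
  .nil (nat_lit 0x82f0481c0583) (nat_lit 16529) (nat_lit 0x925304090cc9) .nil) (nat_lit 0x82f0481d0a90)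
  (nat_lit 20240) (nat_lit 0x840d9813e005) .nil) (nat_lit 0x82f048240e85) (nat_lit 19280) (nat_lit
  0x840d9832b202) (.node .nil (nat_lit 0x82f048250196) (nat_lit 23585) (nat_lit 0xa69110090cc9) .nil)))))
  (nat_lit 0x82f048280cb2) (nat_lit 36784) (nat_lit 0x840d980ac246) (.node (.node (.node (.node (.node (.node
  .nil (nat_lit 0x82f0482903a1) (nat_lit 21680) (nat_lit 0x840d98320265) .nil) (nat_lit 0x82f048340931)
  (nat_lit 32865) (nat_lit 0xc44134090cc9) .nil) (nat_lit 0x82f048350622) (nat_lit 38753) (nat_lit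
  0x82a234090cc9) (.node (.node .nil (nat_lit 0x82f048380b06) (nat_lit 8832) (nat_lit 0x840d98199224) .nil)
  (nat_lit 0x82f048390415) (nat_lit 45504) (nat_lit 0x840d98215207) .nil)) (nat_lit 0x831d4000e21b) (nat_lit
  24337) (nat_lit 0xb010360f6840) (.node (.node (.node .nil (nat_lit 0x831d400c0237) (nat_lit 5249) (nat_lit
  0xb66020091856) .nil) (nat_lit 0x831d400ce02c) (nat_lit 32401) (nat_lit 0xb90860067016) .nil) (nat_lit
  0x831d401440ba) (nat_lit 32832) (nat_lit 0x8081b3371804) (.node (.node .nil (nat_lit 0x831d4014a2a1)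
  (nat_lit 19905) (nat_lit 0x886072371804) .nil) (nat_lit 0x831d4018428d) (nat_lit 37585) (nat_lit
  0x8e1064316812) .nil))) (nat_lit 0x831d4018a096) (nat_lit 38672) (nat_lit 0x8081b3332448) (.node (.node
  (.node (.node .nil (nat_lit 0x831d402060b5) (nat_lit 36209) (nat_lit 0x9458502b2026) .nil) (nat_lit
  0x831d402082ae) (nat_lit 21985) (nat_lit 0x9b3010244866) .nil) (nat_lit 0x831d402c6282) (nat_lit 26032)
  (nat_lit 0x8081b31a1a48) (.node (.node .nil (nat_lit 0x831d402c8099) (nat_lit 36672) (nat_lit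
  0x8081b3265640) .nil) (nat_lit 0x831d4034200f) (nat_lit 28160) (nat_lit 0x8081b3157208) .nil)) (nat_lit
  0x831d4034c214) (nat_lit 23265) (nat_lit 0xa340541c3822) (.node (.node (.node .nil (nat_lit 0x831d40382238)
  (nat_lit 43521) (nat_lit 0xa530421a4834) .nil) (nat_lit 0x831d4038c023) (nat_lit 18048) (nat_lit
  0x8081b3114e44) .nil) (nat_lit 0x8320e1088e1c) (nat_lit 29041) (nat_lit 0x84a960185612) (.node .nil (nat_lit
  0x8320e10cc912) (nat_lit 4528) (nat_lit 0xc24a60099590) .nil)))) (nat_lit 0x8320e1185612) (nat_lit 18080)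
  (nat_lit 0xb66020099590) (.node (.node (.node (.node (.node .nil (nat_lit 0x8320e11c111c) (nat_lit 9345)
  (nat_lit 0x9036600cc912) .nil) (nat_lit 0x8320e1205d14) (nat_lit 22417) (nat_lit 0x94585008a722) .nil)
  (nat_lit 0x8320e1241a1a) (nat_lit 35920) (nat_lit 0xf0480506226a) (.node (.node .nil (nat_lit
  0x8320e130851a) (nat_lit 23088) (nat_lit 0x846245099590) .nil) (nat_lit 0x8320e134c214) (nat_lit 13041)
  (nat_lit 0x80c7501c3822) .nil)) (nat_lit 0x836602009959) (nat_lit 26192) (nat_lit 0x98081b24c5a0) (.node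
  (.node (.node .nil (nat_lit 0x8366020498b4) (nat_lit 19617) (nat_lit 0x82125330ac24) .nil) (nat_lit
  0x8366021810f1) (nat_lit 40321) (nat_lit 0xa23405108a72) .nil) (nat_lit 0x8366021c111c) (nat_lit 7825)
  (nat_lit 0x903660228817) (.node .nil (nat_lit 0x836602288174) (nat_lit 33648) (nat_lit 0x8b0a0524c5a0)
  .nil))) (nat_lit 0x8366022c8099) (nat_lit 36113) (nat_lit 0x922846209631) (.node (.node (.node (.node .nil
  (nat_lit 0x8366023008dc) (nat_lit 28305) (nat_lit 0xb20e1000b067) .nil) (nat_lit 0x836602340931) (nat_lit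
  40929) (nat_lit 0x800c7532b202) .nil) (nat_lit 0x838419007b42) (nat_lit 23376) (nat_lit 0xa444131889a8)
  (.node (.node .nil (nat_lit 0x838419082ae4) (nat_lit 13409) (nat_lit 0xa58025185612) .nil) (nat_lit
  0x838419146984) (nat_lit 496) (nat_lit 0xe07210070447) .nil)) (nat_lit 0x8384191c3822) (nat_lit 25617)
  (nat_lit 0xb1d4000c0237) (.node (.node (.node .nil (nat_lit 0x838419243324) (nat_lit 11729) (nat_lit
  0x88d015350622) .nil) (nat_lit 0x8384192c6282) (nat_lit 32128) (nat_lit 0x8212531889a8) .nil) (nat_lit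
  0x8384193021e2) (nat_lit 42113) (nat_lit 0x9c8430215207) (.node .nil (nat_lit 0x838419387044) (nat_lit 2672)
  (nat_lit 0xc624501889a8) .nil)))))))
def tt2880_2 : T := (.node (.node (.node (.node (.node (.node (.node (.node .nil (nat_lit 0x839086084539)
  (nat_lit 15584) (nat_lit 0xa181c81c3822) .nil) (nat_lit 0x8390860c2b09) (nat_lit 21056) (nat_lit
  0xa181c8086c07) .nil) (nat_lit 0x839086106869) (nat_lit 13905) (nat_lit 0x9423122b9041) (.node (.node .nil
  (nat_lit 0x839086140659) (nat_lit 25217) (nat_lit 0xa98212163141) .nil) (nat_lit 0x839086182d50) (nat_lit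
  12704) (nat_lit 0xa181c8122433) .nil)) (nat_lit 0x8390861c4360) (nat_lit 35008) (nat_lit 0xa181c8067016)
  (.node (.node (.node .nil (nat_lit 0x839086200f68) (nat_lit 14640) (nat_lit 0xa181c81e2604) .nil) (nat_lit
  0x839086246158) (nat_lit 12576) (nat_lit 0xa181c80a7221) .nil) (nat_lit 0x839086284a51) (nat_lit 45952)
  (nat_lit 0xa181c8021e26) (.node (.node .nil (nat_lit 0x8390862c2461) (nat_lit 24816) (nat_lit
  0xa181c8164a03) .nil) (nat_lit 0x839086306701) (nat_lit 545) (nat_lit 0xb0a0510f1302) .nil))) (nat_lit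
  0x839086340931) (nat_lit 45360) (nat_lit 0xa181c8046e30) (.node (.node (.node (.node .nil (nat_lit
  0x839086382238) (nat_lit 27745) (nat_lit 0xa530421a8311) .nil) (nat_lit 0x8390863c4c08) (nat_lit 33904)
  (nat_lit 0xa181c8185612) .nil) (nat_lit 0x840d9800b067) (nat_lit 37328) (nat_lit 0xa814581108a7) (.node
  (.node .nil (nat_lit 0x840d980a7221) (nat_lit 27985) (nat_lit 0xaf048010a34c) .nil) (nat_lit 0x840d980ac246)
  (nat_lit 25969) (nat_lit 0x8c48a110a34c) .nil)) (nat_lit 0x840d98135062) (nat_lit 25233) (nat_lit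
  0x87083210a34c) (.node (.node (.node .nil (nat_lit 0x840d9813e005) (nat_lit 11601) (nat_lit 0xa4441310a34c)
  .nil) (nat_lit 0x840d98192243) (nat_lit 28400) (nat_lit 0xc413481108a7) .nil) (nat_lit 0x840d98199224)
  (nat_lit 4672) (nat_lit 0x82f0481108a7) (.node .nil (nat_lit 0x840d98215207) (nat_lit 41072) (nat_lit
  0xecc040023718) .nil)))) (nat_lit 0x840d9821e260) (nat_lit 29248) (nat_lit 0xaa23401108a7) (.node (.node
  (.node (.node (.node .nil (nat_lit 0x840d982b2026) (nat_lit 11744) (nat_lit 0x8e42181108a7) .nil) (nat_lit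
  0x840d982b9041) (nat_lit 1232) (nat_lit 0xc8a1181108a7) .nil) (nat_lit 0x840d98320265) (nat_lit 12624)
  (nat_lit 0xa4a6081108a7) (.node (.node .nil (nat_lit 0x840d9832b202) (nat_lit 10945) (nat_lit
  0xea0031055c82) .nil) (nat_lit 0x840d98387044) (nat_lit 21312) (nat_lit 0xc624501108a7) .nil)) (nat_lit
  0x840d9838c023) (nat_lit 29969) (nat_lit 0xaa580210a34c) (.node (.node (.node .nil (nat_lit 0x8424a6009959)
  (nat_lit 41200) (nat_lit 0x98081b2114e4) .nil) (nat_lit 0x8424a6034349) (nat_lit 32081) (nat_lit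
  0x80bc1231412c) .nil) (nat_lit 0x8424a603da10) (nat_lit 31905) (nat_lit 0x82125331412c) (.node .nil (nat_lit
  0x8424a6195901) (nat_lit 31153) (nat_lit 0xca96000428d3) .nil))) (nat_lit 0x8424a619c058) (nat_lit 1969)
  (nat_lit 0xc83841068692) (.node (.node (.node (.node .nil (nat_lit 0x8424a61a1a48) (nat_lit 40769) (nat_lit
  0x8494c131412c) .nil) (nat_lit 0x8424a61a8311) (nat_lit 37312) (nat_lit 0xc48a111a610a) .nil) (nat_lit
  0x8424a6284a51) (nat_lit 40064) (nat_lit 0x828b0a2114e4) (.node (.node .nil (nat_lit 0x8424a628d308)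
  (nat_lit 11009) (nat_lit 0x8c0e4231412c) .nil) (nat_lit 0x8424a62b0918) (nat_lit 19344) (nat_lit
  0x8e42182114e4) .nil)) (nat_lit 0x8424a62b9041) (nat_lit 16784) (nat_lit 0xc8a118164a03) (.node (.node
  (.node .nil (nat_lit 0x8424a6311350) (nat_lit 5488) (nat_lit 0xd2c0120c2b09) .nil) (nat_lit 0x8424a6318a09)
  (nat_lit 11633) (nat_lit 0x88269131412c) .nil) (nat_lit 0x8424a6325019) (nat_lit 26001) (nat_lit
  0xc48a110a34c2) (.node .nil (nat_lit 0x8424a632c940) (nat_lit 42785) (nat_lit 0xc62450089a83) .nil)))))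
  (nat_lit 0x843039114e44) (nat_lit 24049) (nat_lit 0x804a96332448) (.node (.node (.node (.node (.node (.node
  .nil (nat_lit 0x84303911c382) (nat_lit 38689) (nat_lit 0x8081b3332448) .nil) (nat_lit 0x8430391b01c4)
  (nat_lit 42800) (nat_lit 0x981c8403a152) .nil) (nat_lit 0x8430391b8c02) (nat_lit 14448) (nat_lit
  0x981c8422a129) (.node (.node .nil (nat_lit 0x843039230ac2) (nat_lit 11393) (nat_lit 0x881b30332448) .nil)
  (nat_lit 0x843039238704) (nat_lit 36465) (nat_lit 0x88d015332448) .nil)) (nat_lit 0x843039294542) (nat_lit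
  14097) (nat_lit 0xc843030498b4) (.node (.node (.node .nil (nat_lit 0x84303929c884) (nat_lit 8977) (nat_lit
  0xc88826045391) .nil) (nat_lit 0x8462450305aa) (nat_lit 26960) (nat_lit 0xd222090c44d4) .nil) (nat_lit
  0x846245099590) (nat_lit 13664) (nat_lit 0x91a02a0c44d4) (.node (.node .nil (nat_lit 0x8462450a903a)
  (nat_lit 22033) (nat_lit 0xa06cc01f0029) .nil) (nat_lit 0x846245111c38) (nat_lit 18640) (nat_lit
  0x9298210c44d4) .nil))) (nat_lit 0x846245121992) (nat_lit 43425) (nat_lit 0xe0095200f684) (.node (.node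
  (.node (.node .nil (nat_lit 0x8462451889a8) (nat_lit 34609) (nat_lit 0xa09a441f0029) .nil) (nat_lit
  0x8462451b8c02) (nat_lit 44209) (nat_lit 0xc0d9801f0029) .nil) (nat_lit 0x846245219922) (nat_lit 5345)
  (nat_lit 0x8031d41f0029) (.node (.node .nil (nat_lit 0x846245229c88) (nat_lit 3233) (nat_lit 0xe07210008dc6)
  .nil) (nat_lit 0x846245280cb2) (nat_lit 24369) (nat_lit 0xa0e1061f0029) .nil)) (nat_lit 0x8462452b0918)
  (nat_lit 26384) (nat_lit 0xa312280c44d4) (.node (.node (.node .nil (nat_lit 0x84624530851a) (nat_lit 28449)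
  (nat_lit 0xe08494007b42) .nil) (nat_lit 0x8462453380b0) (nat_lit 17104) (nat_lit 0xa02a230c44d4) .nil)
  (nat_lit 0x84624539108a) (nat_lit 21280) (nat_lit 0xe3a8000c44d4) (.node .nil (nat_lit 0x8462453a1520)
  (nat_lit 3568) (nat_lit 0xc231220c44d4) .nil)))) (nat_lit 0x84805e003da1) (nat_lit 19025) (nat_lit
  0xcc1092106869) (.node (.node (.node (.node (.node .nil (nat_lit 0x84805e0a4f80) (nat_lit 21552) (nat_lit
  0xca9600056123) .nil) (nat_lit 0x84805e0a7221) (nat_lit 5617) (nat_lit 0xaf0480106869) .nil) (nat_lit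
  0x84805e131681) (nat_lit 42145) (nat_lit 0xa98212106869) (.node (.node .nil (nat_lit 0x84805e132b20)
  (nat_lit 20608) (nat_lit 0xcd222002d503) .nil) (nat_lit 0x84805e195901) (nat_lit 4721) (nat_lit
  0xca9600106869) .nil)) (nat_lit 0x84805e1964a0) (nat_lit 36305) (nat_lit 0xe91104068692) (.node (.node
  (.node .nil (nat_lit 0x84805e234c21) (nat_lit 37505) (nat_lit 0x851614106869) .nil) (nat_lit 0x84805e237180)
  (nat_lit 1281) (nat_lit 0xa69110106869) .nil) (nat_lit 0x84805e2903a1) (nat_lit 1328) (nat_lit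
  0x8607213008dc) (.node .nil (nat_lit 0x84805e293e00) (nat_lit 0) (nat_lit 0x84805e293e00) .nil))) (nat_lit
  0x84805e305aa0) (nat_lit 41089) (nat_lit 0xc30390106869) (.node (.node (.node (.node .nil (nat_lit
  0x84805e306701) (nat_lit 33057) (nat_lit 0xe084940f1302) .nil) (nat_lit 0x84805e3a1520) (nat_lit 20528)
  (nat_lit 0xc231220dc601) .nil) (nat_lit 0x84805e3a2881) (nat_lit 23441) (nat_lit 0x839086106869) (.node
  (.node .nil (nat_lit 0x8494c1094a2a) (nat_lit 26608) (nat_lit 0x8900bc24f801) .nil) (nat_lit 0x8494c1096314)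
  (nat_lit 26049) (nat_lit 0xcd2220120d0d) .nil)) (nat_lit 0x8494c11a4834) (nat_lit 30816) (nat_lit
  0x8900bc163141) (.node (.node (.node .nil (nat_lit 0x8494c11a610a) (nat_lit 3776) (nat_lit 0x8900bc262d02)
  .nil) (nat_lit 0x8494c1224332) (nat_lit 19441) (nat_lit 0xc19070120d0d) .nil) (nat_lit 0x8494c1226a0c)
  (nat_lit 8721) (nat_lit 0xe072100d80e2) (.node .nil (nat_lit 0x8494c131412c) (nat_lit 30593) (nat_lit
  0x85e090120d0d) .nil)))))) (nat_lit 0x8494c1316812) (nat_lit 19552) (nat_lit 0x8900bc007b42) (.node (.node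
  (.node (.node (.node (.node (.node .nil (nat_lit 0x84a96000149f) (nat_lit 20432) (nat_lit 0xb9086000149f)
  .nil) (nat_lit 0x84a9600b4093) (nat_lit 27792) (nat_lit 0xc24a6000149f) .nil) (nat_lit 0x84a9600b540c)
  (nat_lit 22193) (nat_lit 0xc805e0067016) (.node (.node .nil (nat_lit 0x84a96013021e) (nat_lit 13952)
  (nat_lit 0xcd222000149f) .nil) (nat_lit 0x84a960131681) (nat_lit 9584) (nat_lit 0x8bc12000149f) .nil))
  (nat_lit 0x84a96018428d) (nat_lit 35745) (nat_lit 0x8e1064318a09) (.node (.node (.node .nil (nat_lit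
  0x84a960185612) (nat_lit 18385) (nat_lit 0x8c7500318a09) .nil) (nat_lit 0x84a960214698) (nat_lit 44272)
  (nat_lit 0xaa234000149f) .nil) (nat_lit 0x84a960215207) (nat_lit 7968) (nat_lit 0xecc04000149f) (.node
  (.node .nil (nat_lit 0x84a9602a060b) (nat_lit 20176) (nat_lit 0x97824000149f) .nil) (nat_lit 0x84a9602a1294)
  (nat_lit 800) (nat_lit 0xd1614000149f) .nil))) (nat_lit 0x84a960324486) (nat_lit 20560) (nat_lit
  0x98ea0000149f) (.node (.node (.node (.node .nil (nat_lit 0x84a960325019) (nat_lit 27168) (nat_lit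
  0xde090000149f) .nil) (nat_lit 0x84a960390415) (nat_lit 3585) (nat_lit 0xc231220c44d4) .nil) (nat_lit
  0x84a96039108a) (nat_lit 41936) (nat_lit 0xe3a80000149f) (.node (.node .nil (nat_lit 0x84d222032c94)
  (nat_lit 41600) (nat_lit 0xa4508c118561) .nil) (nat_lit 0x84d222090cc9) (nat_lit 9633) (nat_lit
  0xc281450132b2) .nil)) (nat_lit 0x84d222112199) (nat_lit 29585) (nat_lit 0x8081b33c4c08) (.node (.node
  (.node .nil (nat_lit 0x84d2221b01c4) (nat_lit 22704) (nat_lit 0xa4508c03a152) .nil) (nat_lit 0x84d2222205d1)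
  (nat_lit 27888) (nat_lit 0xa4508c02ae41) .nil) (nat_lit 0x84d22228258c) (nat_lit 31825) (nat_lit
  0x8103663c4c08) (.node .nil (nat_lit 0x84d2223008dc) (nat_lit 24609) (nat_lit 0xc3039000b067) .nil))))
  (nat_lit 0x84d2223a2881) (nat_lit 36352) (nat_lit 0xa4508c108a72) (.node (.node (.node (.node (.node .nil
  (nat_lit 0x85028b026564) (nat_lit 35537) (nat_lit 0x80bc122903a1) .nil) (nat_lit 0x85028b08dc60) (nat_lit
  16352) (nat_lit 0x84303929c884) .nil) (nat_lit 0x85028b0ab904) (nat_lit 26352) (nat_lit 0x80254b29c884)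
  (.node (.node .nil (nat_lit 0x85028b10f130) (nat_lit 14192) (nat_lit 0x96140a29c884) .nil) (nat_lit
  0x85028b129454) (nat_lit 31568) (nat_lit 0x92017829c884) .nil)) (nat_lit 0x85028b182d50) (nat_lit 10433)
  (nat_lit 0x81b301280cb2) (.node (.node (.node .nil (nat_lit 0x85028b1a4834) (nat_lit 880) (nat_lit
  0xc0063a163141) .nil) (nat_lit 0x85028b205d14) (nat_lit 40416) (nat_lit 0xd40063023718) .nil) (nat_lit
  0x85028b223870) (nat_lit 5777) (nat_lit 0x881b3021a483) (.node .nil (nat_lit 0x85028b288174) (nat_lit 11440)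
  (nat_lit 0x86072129c884) .nil))) (nat_lit 0x85028b2ae410) (nat_lit 4960) (nat_lit 0x82125329c884) (.node
  (.node (.node (.node .nil (nat_lit 0x85028b30ac24) (nat_lit 3888) (nat_lit 0x94231229c884) .nil) (nat_lit
  0x85028b32c940) (nat_lit 19873) (nat_lit 0xa12530089a83) .nil) (nat_lit 0x85028b387044) (nat_lit 9088)
  (nat_lit 0xc6245010132b) (.node (.node .nil (nat_lit 0x85028b3a1520) (nat_lit 36592) (nat_lit
  0xc23122140659) .nil) (nat_lit 0x85161402e8a2) (nat_lit 4977) (nat_lit 0x82125329c884) .nil)) (nat_lit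
  0x85161408e1c1) (nat_lit 1520) (nat_lit 0x90c0e40d241a) (.node (.node (.node .nil (nat_lit 0x851614106869)
  (nat_lit 26944) (nat_lit 0x90c0e40e1c11) .nil) (nat_lit 0x8516141a610a) (nat_lit 45072) (nat_lit
  0x90c0e4262d02) .nil) (nat_lit 0x85161422a129) (nat_lit 28032) (nat_lit 0x90c0e4272211) (.node .nil (nat_lit
  0x85161428a84a) (nat_lit 12272) (nat_lit 0x90c0e40f1302) .nil))))) (nat_lit 0x8516143021e2) (nat_lit 27568)
  (nat_lit 0x90c0e40c2b09) (.node (.node (.node (.node (.node (.node .nil (nat_lit 0x8516143a2881) (nat_lit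
  44992) (nat_lit 0x90c0e4241a1a) .nil) (nat_lit 0x854468022387) (nat_lit 1552) (nat_lit 0xd222090498b4) .nil)
  (nat_lit 0x854468089a83) (nat_lit 41825) (nat_lit 0x86cc040132b2) (.node (.node .nil (nat_lit
  0x8544680ab904) (nat_lit 43745) (nat_lit 0x818ea0067016) .nil) (nat_lit 0x854468103a15) (nat_lit 29872)
  (nat_lit 0x9a44410498b4) .nil)) (nat_lit 0x854468121992) (nat_lit 40464) (nat_lit 0xb301030498b4) (.node
  (.node (.node .nil (nat_lit 0x85446818a096) (nat_lit 14080) (nat_lit 0xc843030498b4) .nil) (nat_lit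
  0x8544681a8311) (nat_lit 40336) (nat_lit 0xe106410498b4) .nil) (nat_lit 0x85446820ab90) (nat_lit 4129)
  (nat_lit 0x8254b005aa06) (.node (.node .nil (nat_lit 0x854468228817) (nat_lit 9409) (nat_lit 0x85161402e8a2)
  .nil) (nat_lit 0x854468283113) (nat_lit 4592) (nat_lit 0xf82402034349) .nil))) (nat_lit 0x8544682a1294)
  (nat_lit 14112) (nat_lit 0xd161400498b4) (.node (.node (.node (.node .nil (nat_lit 0x854468309185) (nat_lit
  30448) (nat_lit 0xcb004a0498b4) .nil) (nat_lit 0x85446832b202) (nat_lit 28656) (nat_lit 0xe245080498b4)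
  .nil) (nat_lit 0x854468380b06) (nat_lit 13600) (nat_lit 0x9907080498b4) (.node (.node .nil (nat_lit
  0x8544683a2881) (nat_lit 40864) (nat_lit 0xb0424a0498b4) .nil) (nat_lit 0x85e090021e26) (nat_lit 36881)
  (nat_lit 0x82125324c5a0) .nil)) (nat_lit 0x85e090081745) (nat_lit 5537) (nat_lit 0x86072120d0d2) (.node
  (.node (.node .nil (nat_lit 0x85e0900a0963) (nat_lit 32225) (nat_lit 0xa2c281041572) .nil) (nat_lit
  0x85e09010132b) (nat_lit 36689) (nat_lit 0x8081b3265640) .nil) (nat_lit 0x85e090120d0d) (nat_lit 19793)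
  (nat_lit 0xa444130293e0) (.node .nil (nat_lit 0x85e09018046e) (nat_lit 20848) (nat_lit 0xc8430315848c)
  .nil)))) (nat_lit 0x85e0901a1a48) (nat_lit 30273) (nat_lit 0x8494c1224332) (.node (.node (.node (.node
  (.node .nil (nat_lit 0x85e090200f68) (nat_lit 17024) (nat_lit 0xaa234015848c) .nil) (nat_lit 0x85e09022114e)
  (nat_lit 16817) (nat_lit 0xa691100046e3) .nil) (nat_lit 0x85e09028182d) (nat_lit 40097) (nat_lit
  0xa28462045391) (.node (.node .nil (nat_lit 0x85e0902a060b) (nat_lit 28881) (nat_lit 0x8641c2209631) .nil)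
  (nat_lit 0x85e090301c43) (nat_lit 18849) (nat_lit 0xa402f002d503) .nil)) (nat_lit 0x85e090320265) (nat_lit
  28096) (nat_lit 0xa02a2315848c) (.node (.node (.node .nil (nat_lit 0x85e090380b06) (nat_lit 20768) (nat_lit
  0x881b3015848c) .nil) (nat_lit 0x85e0903a1520) (nat_lit 24224) (nat_lit 0xc2312215848c) .nil) (nat_lit
  0x86072120d0d2) (nat_lit 2849) (nat_lit 0xc19070086c07) (.node .nil (nat_lit 0x86072121b01c) (nat_lit 24736)
  (nat_lit 0xd08c480851a6) .nil))) (nat_lit 0x86072128a84a) (nat_lit 13553) (nat_lit 0x81c843360388) (.node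
  (.node (.node (.node .nil (nat_lit 0x86072129c884) (nat_lit 6112) (nat_lit 0xb20e100851a6) .nil) (nat_lit
  0x8607213008dc) (nat_lit 673) (nat_lit 0xc94c1000b067) .nil) (nat_lit 0x860721316812) (nat_lit 5745)
  (nat_lit 0x800c75360388) (.node (.node .nil (nat_lit 0x860721387044) (nat_lit 32897) (nat_lit
  0x891423360388) .nil) (nat_lit 0x86072139108a) (nat_lit 42881) (nat_lit 0xc0544609a831) .nil)) (nat_lit
  0x863a8001c436) (nat_lit 39888) (nat_lit 0x814585349068) (.node (.node (.node .nil (nat_lit 0x863a80084539)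
  (nat_lit 17041) (nat_lit 0xaa234015848c) .nil) (nat_lit 0x863a8009810f) (nat_lit 36977) (nat_lit
  0xc24a6015848c) .nil) (nat_lit 0x863a80104157) (nat_lit 21729) (nat_lit 0xe009520a7221) (.node .nil (nat_lit
  0x863a80118561) (nat_lit 25888) (nat_lit 0x8145850a903a) .nil)))))))
def tt2880_3 : T := (.node (.node (.node (.node (.node (.node (.node (.node .nil (nat_lit 0x863a8019c058)
  (nat_lit 15920) (nat_lit 0x81458516a818) .nil) (nat_lit 0x863a8020c44d) (nat_lit 8384) (nat_lit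
  0x81458532b202) .nil) (nat_lit 0x863a8021007b) (nat_lit 20785) (nat_lit 0x881b3015848c) (.node (.node .nil
  (nat_lit 0x863a80288174) (nat_lit 10144) (nat_lit 0x8145852e8a20) .nil) (nat_lit 0x863a80294542) (nat_lit
  20865) (nat_lit 0xc8430315848c) .nil)) (nat_lit 0x863a8030851a) (nat_lit 41409) (nat_lit 0xea0031007b42)
  (.node (.node (.node .nil (nat_lit 0x863a8031412c) (nat_lit 43617) (nat_lit 0x82691115848c) .nil) (nat_lit
  0x863a8038c023) (nat_lit 27024) (nat_lit 0x814585108a72) .nil) (nat_lit 0x863a80390415) (nat_lit 24241)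
  (nat_lit 0xc2312215848c) (.node (.node .nil (nat_lit 0x8641c2088e1c) (nat_lit 4704) (nat_lit 0xca9600106869)
  .nil) (nat_lit 0x8641c209a831) (nat_lit 35281) (nat_lit 0xe3a800041572) .nil))) (nat_lit 0x8641c218b409)
  (nat_lit 32304) (nat_lit 0x8a2c28250196) (.node (.node (.node (.node .nil (nat_lit 0x8641c2199224) (nat_lit
  4385) (nat_lit 0xe41c2003a152) .nil) (nat_lit 0x8641c2209631) (nat_lit 18224) (nat_lit 0xd8502802ae41) .nil)
  (nat_lit 0x8641c221b01c) (nat_lit 32496) (nat_lit 0xd08c480a7221) (.node (.node .nil (nat_lit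
  0x8641c230ac24) (nat_lit 42192) (nat_lit 0x98ea00250196) .nil) (nat_lit 0x8641c2318a09) (nat_lit 17953)
  (nat_lit 0xa1253018428d) .nil)) (nat_lit 0x86cc040132b2) (nat_lit 32145) (nat_lit 0x8212531889a8) (.node
  (.node (.node .nil (nat_lit 0x86cc040803da) (nat_lit 15248) (nat_lit 0xca96000401ed) .nil) (nat_lit
  0x86cc04112199) (nat_lit 22976) (nat_lit 0xe072100401ed) .nil) (nat_lit 0x86cc041810f1) (nat_lit 35585)
  (nat_lit 0xa234051889a8) (.node .nil (nat_lit 0x86cc042032c9) (nat_lit 513) (nat_lit 0xe07210070447)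
  .nil)))) (nat_lit 0x86cc042903a1) (nat_lit 2048) (nat_lit 0xb20e100401ed) (.node (.node (.node (.node (.node
  .nil (nat_lit 0x86cc043021e2) (nat_lit 2689) (nat_lit 0xc624501889a8) .nil) (nat_lit 0x86cc0439108a)
  (nat_lit 9824) (nat_lit 0xe3a8000401ed) .nil) (nat_lit 0x87083200f684) (nat_lit 40592) (nat_lit
  0x854468309185) (.node (.node .nil (nat_lit 0x87083208e1c1) (nat_lit 6193) (nat_lit 0x8b0a05041572) .nil)
  (nat_lit 0x87083210a34c) (nat_lit 15297) (nat_lit 0x8a0516051a61) .nil)) (nat_lit 0x87083218b409) (nat_lit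
  9873) (nat_lit 0x831d400c0237) (.node (.node (.node .nil (nat_lit 0x8708322032c9) (nat_lit 2097) (nat_lit
  0x881b30070447) .nil) (nat_lit 0x87083228258c) (nat_lit 39009) (nat_lit 0x8103660e1c11) .nil) (nat_lit
  0x870832306701) (nat_lit 10401) (nat_lit 0x800c750f1302) (.node .nil (nat_lit 0x870832387044) (nat_lit
  36320) (nat_lit 0xc62450094a2a) .nil))) (nat_lit 0x87210c108a72) (nat_lit 11088) (nat_lit 0xcd2220008dc6)
  (.node (.node (.node (.node .nil (nat_lit 0x87210c10cc91) (nat_lit 3216) (nat_lit 0xe07210008dc6) .nil)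
  (nat_lit 0x87210c1810f1) (nat_lit 43824) (nat_lit 0x9b3010008dc6) .nil) (nat_lit 0x87210c185612) (nat_lit
  37552) (nat_lit 0xb66020008dc6) (.node (.node .nil (nat_lit 0x87210c209631) (nat_lit 19329) (nat_lit
  0x88d015262d02) .nil) (nat_lit 0x87210c20d0d2) (nat_lit 16897) (nat_lit 0xa69110086c07) .nil)) (nat_lit
  0x87210c280cb2) (nat_lit 8816) (nat_lit 0x8e4218008dc6) (.node (.node (.node .nil (nat_lit 0x87210c284a51)
  (nat_lit 4305) (nat_lit 0x8ea003205d14) .nil) (nat_lit 0x881b300160ce) (nat_lit 33168) (nat_lit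
  0x907083258c50) .nil) (nat_lit 0x881b30066489) (nat_lit 21872) (nat_lit 0x9070830d0d24) (.node .nil (nat_lit
  0x881b30070447) (nat_lit 1057) (nat_lit 0xa4a608091856) .nil))))) (nat_lit 0x881b301280cb) (nat_lit 33937)
  (nat_lit 0xa4a6080258c5) (.node (.node (.node (.node (.node (.node .nil (nat_lit 0x881b3013e005) (nat_lit
  39776) (nat_lit 0x9070830e8548) .nil) (nat_lit 0x881b3014e442) (nat_lit 41313) (nat_lit 0xa4a608195901)
  .nil) (nat_lit 0x881b3015848c) (nat_lit 12001) (nat_lit 0xa4a6080b4093) (.node (.node .nil (nat_lit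
  0x881b3020c44d) (nat_lit 23953) (nat_lit 0xa4a6080a0963) .nil) (nat_lit 0x881b3021a483) (nat_lit 2977)
  (nat_lit 0xa4a6081810f1) .nil)) (nat_lit 0x881b3026a0c4) (nat_lit 12641) (nat_lit 0xa4a6081108a7) (.node
  (.node (.node .nil (nat_lit 0x881b3027c00a) (nat_lit 23296) (nat_lit 0x9070830b0670) .nil) (nat_lit
  0x881b30324486) (nat_lit 10480) (nat_lit 0x907083088e1c) .nil) (nat_lit 0x881b30332448) (nat_lit 6080)
  (nat_lit 0x9070832d024c) (.node (.node .nil (nat_lit 0x881b3034200f) (nat_lit 45440) (nat_lit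
  0x907083058338) .nil) (nat_lit 0x881b303540c1) (nat_lit 38272) (nat_lit 0x907083200f68) .nil))) (nat_lit
  0x88269103886c) (nat_lit 44417) (nat_lit 0x87210c185612) (.node (.node (.node (.node .nil (nat_lit
  0x88269105d144) (nat_lit 27233) (nat_lit 0x87210c20d0d2) .nil) (nat_lit 0x882691135062) (nat_lit 19505)
  (nat_lit 0x87210c108a72) .nil) (nat_lit 0x88269115094a) (nat_lit 3536) (nat_lit 0xc413481964a0) (.node
  (.node .nil (nat_lit 0x882691219922) (nat_lit 29424) (nat_lit 0xe0900b060b54) .nil) (nat_lit 0x88269127c00a)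
  (nat_lit 30113) (nat_lit 0x87210c209631) .nil)) (nat_lit 0x88269131412c) (nat_lit 6241) (nat_lit
  0x87210c10cc91) (.node (.node (.node .nil (nat_lit 0x882691371804) (nat_lit 8193) (nat_lit 0x87210c284a51)
  .nil) (nat_lit 0x88320e0149f0) (nat_lit 15824) (nat_lit 0xa06cc0159013) .nil) (nat_lit 0x88320e06c071)
  (nat_lit 37216) (nat_lit 0xa06cc01c111c) (.node .nil (nat_lit 0x88320e078981) (nat_lit 8753) (nat_lit
  0x854468283113) .nil)))) (nat_lit 0x88320e10cc91) (nat_lit 22016) (nat_lit 0xa06cc01f0029) (.node (.node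
  (.node (.node (.node .nil (nat_lit 0x88320e118561) (nat_lit 23649) (nat_lit 0x85446818a096) .nil) (nat_lit
  0x88320e160ce0) (nat_lit 40609) (nat_lit 0x854468309185) .nil) (nat_lit 0x88320e174510) (nat_lit 17089)
  (nat_lit 0x854468228817) (.node (.node .nil (nat_lit 0x88320e2205d1) (nat_lit 3073) (nat_lit 0x854468022387)
  .nil) (nat_lit 0x88320e234c21) (nat_lit 40161) (nat_lit 0x854468103a15) .nil)) (nat_lit 0x88320e24c5a0)
  (nat_lit 23009) (nat_lit 0x854468380b06) (.node (.node (.node .nil (nat_lit 0x88320e258c50) (nat_lit 23681)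
  (nat_lit 0x8544682a1294) .nil) (nat_lit 0x88320e32c940) (nat_lit 26176) (nat_lit 0xa06cc0199224) .nil)
  (nat_lit 0x88320e3380b0) (nat_lit 25696) (nat_lit 0xa06cc00c0237) (.node .nil (nat_lit 0x88320e340931)
  (nat_lit 35104) (nat_lit 0xa06cc0058338) .nil))) (nat_lit 0x88320e3540c1) (nat_lit 7857) (nat_lit
  0x85446820ab90) (.node (.node (.node (.node .nil (nat_lit 0x88494c0132b2) (nat_lit 31841) (nat_lit
  0x888269121992) .nil) (nat_lit 0x88494c068692) (nat_lit 31136) (nat_lit 0xca96000428d3) .nil) (nat_lit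
  0x88494c131681) (nat_lit 31728) (nat_lit 0x8bc1200428d3) (.node (.node .nil (nat_lit 0x88494c14a2a1)
  (nat_lit 12768) (nat_lit 0xf083200428d3) .nil) (nat_lit 0x88494c209631) (nat_lit 23233) (nat_lit
  0x888269262d02) .nil)) (nat_lit 0x88494c272211) (nat_lit 35857) (nat_lit 0x888269205d14) (.node (.node
  (.node .nil (nat_lit 0x88494c32b202) (nat_lit 38160) (nat_lit 0xe245080428d3) .nil) (nat_lit 0x88494c350622)
  (nat_lit 39953) (nat_lit 0x888269032c94) .nil) (nat_lit 0x886072011b8c) (nat_lit 24017) (nat_lit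
  0xa96009121992) (.node .nil (nat_lit 0x886072078981) (nat_lit 9953) (nat_lit 0xa96009041572) .nil))))))
  (nat_lit 0x886072131681) (nat_lit 2193) (nat_lit 0xa96009108a72) (.node (.node (.node (.node (.node (.node
  (.node .nil (nat_lit 0x88607215848c) (nat_lit 34096) (nat_lit 0xc8430303886c) .nil) (nat_lit 0x886072238704)
  (nat_lit 15856) (nat_lit 0x8b0a05343490) .nil) (nat_lit 0x886072251509) (nat_lit 27520) (nat_lit
  0xc88826034349) (.node (.node .nil (nat_lit 0x886072318a09) (nat_lit 40721) (nat_lit 0xa960091007b4) .nil)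
  (nat_lit 0x886072371804) (nat_lit 11361) (nat_lit 0xa96009060b54) .nil)) (nat_lit 0x888269032c94) (nat_lit
  29616) (nat_lit 0xe60206087898) (.node (.node (.node .nil (nat_lit 0x888269055c82) (nat_lit 34544) (nat_lit
  0xa58025087898) .nil) (nat_lit 0x888269121992) (nat_lit 20944) (nat_lit 0xb30103087898) .nil) (nat_lit
  0x888269146984) (nat_lit 37968) (nat_lit 0xf08320070447) (.node (.node .nil (nat_lit 0x888269205d14)
  (nat_lit 24897) (nat_lit 0xa6084908a722) .nil) (nat_lit 0x888269262d02) (nat_lit 13760) (nat_lit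
  0x978240087898) .nil))) (nat_lit 0x888269316812) (nat_lit 45760) (nat_lit 0x810366087898) (.node (.node
  (.node (.node .nil (nat_lit 0x888269371804) (nat_lit 19761) (nat_lit 0xa60849096314) .nil) (nat_lit
  0x88c48a051a61) (nat_lit 35392) (nat_lit 0x88d0152528a8) .nil) (nat_lit 0x88c48a060b54) (nat_lit 19984)
  (nat_lit 0xca9600104157) (.node (.node .nil (nat_lit 0x88c48a152074) (nat_lit 16384) (nat_lit
  0xc84303129454) .nil) (nat_lit 0x88c48a163141) (nat_lit 41569) (nat_lit 0x88494c131681) .nil)) (nat_lit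
  0x88c48a243324) (nat_lit 37872) (nat_lit 0xc054461a8311) (.node (.node (.node .nil (nat_lit 0x88c48a272211)
  (nat_lit 34257) (nat_lit 0x88494c209631) .nil) (nat_lit 0x88c48a340931) (nat_lit 37424) (nat_lit
  0x80c7502528a8) .nil) (nat_lit 0x88c48a371804) (nat_lit 43553) (nat_lit 0x88494c272211) (.node .nil (nat_lit
  0x88d0150305aa) (nat_lit 38401) (nat_lit 0x8a2c28159013) .nil)))) (nat_lit 0x88d0150527c0) (nat_lit 14144)
  (nat_lit 0x9c20c801c436) (.node (.node (.node (.node (.node .nil (nat_lit 0x88d01506226a) (nat_lit 22784)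
  (nat_lit 0x9c20c8205d14) .nil) (nat_lit 0x88d015102e8a) (nat_lit 40049) (nat_lit 0x8a2c2805d144) .nil)
  (nat_lit 0x88d015132b20) (nat_lit 10544) (nat_lit 0x9c20c802d503) (.node (.node .nil (nat_lit
  0x88d01515094a) (nat_lit 13632) (nat_lit 0x9c20c8228817) .nil) (nat_lit 0x88d015160ce0) (nat_lit 45777)
  (nat_lit 0x8a2c28309185) .nil)) (nat_lit 0x88d015200f68) (nat_lit 29888) (nat_lit 0x9c20c8238704) (.node
  (.node (.node .nil (nat_lit 0x88d015230ac2) (nat_lit 42449) (nat_lit 0x8a2c28311350) .nil) (nat_lit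
  0x88d0152528a8) (nat_lit 24417) (nat_lit 0x8a2c28045391) .nil) (nat_lit 0x88d015262d02) (nat_lit 10976)
  (nat_lit 0x9c20c803da10) (.node .nil (nat_lit 0x88d0153021e2) (nat_lit 4640) (nat_lit 0x9c20c800cb25)
  .nil))) (nat_lit 0x88d015332448) (nat_lit 25601) (nat_lit 0x8a2c2834c214) (.node (.node (.node (.node .nil
  (nat_lit 0x88d015350622) (nat_lit 6288) (nat_lit 0x9c20c8010f13) .nil) (nat_lit 0x88d015360388) (nat_lit
  41248) (nat_lit 0x9c20c8209631) .nil) (nat_lit 0x8900bc007b42) (nat_lit 11137) (nat_lit 0xe0206c0dc601)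
  (.node (.node .nil (nat_lit 0x8900bc02ae41) (nat_lit 25681) (nat_lit 0xe0206c078981) .nil) (nat_lit
  0x8900bc14e442) (nat_lit 26225) (nat_lit 0xe0206c068692) .nil)) (nat_lit 0x8900bc163141) (nat_lit 20016)
  (nat_lit 0x8a051611b8c0) (.node (.node (.node .nil (nat_lit 0x8900bc24f801) (nat_lit 16400) (nat_lit
  0xcc040d11b8c0) .nil) (nat_lit 0x8900bc262d02) (nat_lit 1920) (nat_lit 0x8e421811b8c0) .nil) (nat_lit
  0x8900bc306701) (nat_lit 31264) (nat_lit 0xa0031d11b8c0) (.node .nil (nat_lit 0x8900bc32b202) (nat_lit 7153)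
  (nat_lit 0xe0206c055c82) .nil))))) (nat_lit 0x89142302c19c) (nat_lit 29825) (nat_lit 0xe24508082ae4) (.node
  (.node (.node (.node (.node (.node .nil (nat_lit 0x89142304cac8) (nat_lit 20337) (nat_lit 0xe245080132b2)
  .nil) (nat_lit 0x891423060b54) (nat_lit 26785) (nat_lit 0xe24508091856) .nil) (nat_lit 0x89142310a34c)
  (nat_lit 33344) (nat_lit 0xa8b0a0024c5a) (.node (.node .nil (nat_lit 0x8914231262d0) (nat_lit 22256)
  (nat_lit 0xa8b0a0174510) .nil) (nat_lit 0x891423146984) (nat_lit 38177) (nat_lit 0xe245080428d3) .nil))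
  (nat_lit 0x89142316a818) (nat_lit 9713) (nat_lit 0xe245080c0237) (.node (.node (.node .nil (nat_lit
  0x89142320ab90) (nat_lit 35808) (nat_lit 0xa8b0a0060b54) .nil) (nat_lit 0x891423226a0c) (nat_lit 14736)
  (nat_lit 0xa8b0a013021e) .nil) (nat_lit 0x891423246158) (nat_lit 28673) (nat_lit 0xe245080498b4) (.node
  (.node .nil (nat_lit 0x89142326a0c4) (nat_lit 18993) (nat_lit 0xe245080cb250) .nil) (nat_lit 0x8914233008dc)
  (nat_lit 14033) (nat_lit 0xe2450800b067) .nil))) (nat_lit 0x89142332c940) (nat_lit 36049) (nat_lit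
  0xe24508089a83) (.node (.node (.node (.node .nil (nat_lit 0x89142334c214) (nat_lit 9665) (nat_lit
  0xe245080182d5) .nil) (nat_lit 0x891423360388) (nat_lit 21841) (nat_lit 0xe2450809a831) .nil) (nat_lit
  0x89298200527c) (nat_lit 45121) (nat_lit 0xc1c20c121992) (.node (.node .nil (nat_lit 0x89298206c071)
  (nat_lit 2161) (nat_lit 0xc1c20c041572) .nil) (nat_lit 0x892982129454) (nat_lit 34464) (nat_lit
  0x92017821a483) .nil)) (nat_lit 0x892982140659) (nat_lit 9937) (nat_lit 0xc1c20c163141) (.node (.node (.node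
  .nil (nat_lit 0x892982209631) (nat_lit 39073) (nat_lit 0xc1c20c1810f1) .nil) (nat_lit 0x89298226043c)
  (nat_lit 33504) (nat_lit 0x8e421821a483) .nil) (nat_lit 0x892982325019) (nat_lit 15361) (nat_lit
  0xc1c20c0a34c2) (.node .nil (nat_lit 0x89298234c214) (nat_lit 5760) (nat_lit 0x881b3021a483) .nil))))
  (nat_lit 0x8952c000293e) (nat_lit 5041) (nat_lit 0xcc040d121992) (.node (.node (.node (.node (.node .nil
  (nat_lit 0x8952c0048c2b) (nat_lit 3969) (nat_lit 0xcc040d0132b2) .nil) (nat_lit 0x8952c004a515) (nat_lit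
  961) (nat_lit 0xcc040d132b20) .nil) (nat_lit 0x8952c0120d0d) (nat_lit 18129) (nat_lit 0xcc040d0293e0) (.node
  (.node .nil (nat_lit 0x8952c0122433) (nat_lit 17249) (nat_lit 0xcc040d108a72) .nil) (nat_lit 0x8952c0168126)
  (nat_lit 8433) (nat_lit 0xcc040d03a152) .nil)) (nat_lit 0x8952c016a818) (nat_lit 16417) (nat_lit
  0xcc040d11b8c0) (.node (.node (.node .nil (nat_lit 0x8952c0228817) (nat_lit 41441) (nat_lit 0xcc040d02e8a2)
  .nil) (nat_lit 0x8952c022a129) (nat_lit 38512) (nat_lit 0x85e090320265) .nil) (nat_lit 0x8952c026043c)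
  (nat_lit 39280) (nat_lit 0x85e0902a060b) (.node .nil (nat_lit 0x8952c0262d02) (nat_lit 40496) (nat_lit
  0x85e0901a1a48) .nil))) (nat_lit 0x8952c030851a) (nat_lit 10368) (nat_lit 0x85e090081745) (.node (.node
  (.node (.node .nil (nat_lit 0x8952c030ac24) (nat_lit 19313) (nat_lit 0xcc040d1262d0) .nil) (nat_lit
  0x8952c0340931) (nat_lit 14273) (nat_lit 0xcc040d0149f0) .nil) (nat_lit 0x8952c034200f) (nat_lit 44032)
  (nat_lit 0x85e09010132b) (.node (.node .nil (nat_lit 0x89a444020ab9) (nat_lit 8033) (nat_lit 0xc10929185612)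
  .nil) (nat_lit 0x89a444045391) (nat_lit 13937) (nat_lit 0xc109291e2604) .nil)) (nat_lit 0x89a444121992)
  (nat_lit 32961) (nat_lit 0xc1092900f684) (.node (.node (.node .nil (nat_lit 0x89a4441440ba) (nat_lit 30992)
  (nat_lit 0xc8430300a4f8) .nil) (nat_lit 0x89a444224332) (nat_lit 3937) (nat_lit 0xc10929129454) .nil)
  (nat_lit 0x89a444241a1a) (nat_lit 17665) (nat_lit 0xc1092914e442) (.node .nil (nat_lit 0x89a444325019)
  (nat_lit 30689) (nat_lit 0xc109290a34c2) .nil)))))))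
def tt2880_4 : T := (.node (.node (.node (.node (.node (.node (.node (.node .nil (nat_lit 0x8a051601d0a9)
  (nat_lit 33745) (nat_lit 0x8063a8159013) .nil) (nat_lit 0x8a051604cac8) (nat_lit 40561) (nat_lit
  0x8063a81c8845) .nil) (nat_lit 0x8a0516051a61) (nat_lit 8369) (nat_lit 0x8063a8091856) (.node (.node .nil
  (nat_lit 0x8a0516106869) (nat_lit 45153) (nat_lit 0x8063a82b9041) .nil) (nat_lit 0x8a051611b8c0) (nat_lit
  11425) (nat_lit 0x8063a83e0052) .nil)) (nat_lit 0x8a051614a2a1) (nat_lit 21249) (nat_lit 0x8063a8371804)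
  (.node (.node (.node .nil (nat_lit 0x8a0516157208) (nat_lit 5200) (nat_lit 0x86cc043021e2) .nil) (nat_lit
  0x8a05162032c9) (nat_lit 32912) (nat_lit 0xc94c1006920d) .nil) (nat_lit 0x8a051621e260) (nat_lit 14241)
  (nat_lit 0x8063a8129454) (.node (.node .nil (nat_lit 0x8a051624f801) (nat_lit 40913) (nat_lit
  0x8063a81b8c02) .nil) (nat_lit 0x8a05162528a8) (nat_lit 40624) (nat_lit 0x8e42183021e2) .nil))) (nat_lit
  0x8a0516305aa0) (nat_lit 12561) (nat_lit 0x8063a82c9406) (.node (.node (.node (.node .nil (nat_lit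
  0x8a0516318a09) (nat_lit 37984) (nat_lit 0x8516143021e2) .nil) (nat_lit 0x8a0516349068) (nat_lit 19265)
  (nat_lit 0x8063a8301c43) .nil) (nat_lit 0x8a05163540c1) (nat_lit 8257) (nat_lit 0x8063a8258c50) (.node
  (.node .nil (nat_lit 0x8a1189108a72) (nat_lit 23857) (nat_lit 0x8206cc24f801) .nil) (nat_lit 0x8a1189114e44)
  (nat_lit 4033) (nat_lit 0x8206cc316812) .nil)) (nat_lit 0x8a118914e442) (nat_lit 25185) (nat_lit
  0x8206cc195901) (.node (.node (.node .nil (nat_lit 0x8a1189152074) (nat_lit 42976) (nat_lit 0x892982129454)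
  .nil) (nat_lit 0x8a118930ac24) (nat_lit 10800) (nat_lit 0x89298234c214) .nil) (nat_lit 0x8a1189316812)
  (nat_lit 44369) (nat_lit 0x8206cc340931) (.node .nil (nat_lit 0x8a118934c214) (nat_lit 43585) (nat_lit
  0x8206cc1c3822) .nil)))) (nat_lit 0x8a1189350622) (nat_lit 17713) (nat_lit 0x8206cc09a831) (.node (.node
  (.node (.node (.node .nil (nat_lit 0x8a2c280182d5) (nat_lit 17584) (nat_lit 0xe60206003da1) .nil) (nat_lit
  0x8a2c28045391) (nat_lit 14657) (nat_lit 0xa181c81e2604) .nil) (nat_lit 0x8a2c2805d144) (nat_lit 29760)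
  (nat_lit 0x84805e003da1) (.node (.node .nil (nat_lit 0x8a2c28104157) (nat_lit 12593) (nat_lit
  0xa181c80a7221) .nil) (nat_lit 0x8a2c2811c382) (nat_lit 12721) (nat_lit 0xa181c8122433) .nil)) (nat_lit
  0x8a2c281412c6) (nat_lit 35472) (nat_lit 0xa34054003da1) (.node (.node (.node .nil (nat_lit 0x8a2c28159013)
  (nat_lit 27952) (nat_lit 0xba800c003da1) .nil) (nat_lit 0x8a2c2820d0d2) (nat_lit 21073) (nat_lit
  0xa181c8086c07) .nil) (nat_lit 0x8a2c28215207) (nat_lit 44833) (nat_lit 0xa181c8103a15) (.node .nil (nat_lit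
  0x8a2c28248343) (nat_lit 24833) (nat_lit 0xa181c8164a03) .nil))) (nat_lit 0x8a2c28250196) (nat_lit 21265)
  (nat_lit 0xa181c80e1c11) (.node (.node (.node (.node .nil (nat_lit 0x8a2c28309185) (nat_lit 42256) (nat_lit
  0xcb004a003da1) .nil) (nat_lit 0x8a2c28311350) (nat_lit 33281) (nat_lit 0xa181c81a4834) .nil) (nat_lit
  0x8a2c2834c214) (nat_lit 15601) (nat_lit 0xa181c81c3822) (.node (.node .nil (nat_lit 0x8a2c283540c1)
  (nat_lit 45377) (nat_lit 0xa181c8046e30) .nil) (nat_lit 0x8a88d001262d) (nat_lit 21761) (nat_lit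
  0x80a88d185612) .nil)) (nat_lit 0x8a88d004470e) (nat_lit 45312) (nat_lit 0xca9600112199) (.node (.node
  (.node .nil (nat_lit 0x8a88d0056123) (nat_lit 39169) (nat_lit 0x80a88d041572) .nil) (nat_lit 0x8a88d010132b)
  (nat_lit 42177) (nat_lit 0x80a88d265640) .nil) (nat_lit 0x8a88d0113506) (nat_lit 27873) (nat_lit
  0x80a88d3e0052) (.node .nil (nat_lit 0x8a88d0145425) (nat_lit 24273) (nat_lit 0x80a88d3a1520) .nil)))))
  (nat_lit 0x8a88d0157208) (nat_lit 20881) (nat_lit 0x80a88d224332) (.node (.node (.node (.node (.node (.node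
  .nil (nat_lit 0x8a88d020742a) (nat_lit 26801) (nat_lit 0x80a88d294542) .nil) (nat_lit 0x8a88d0215207)
  (nat_lit 25472) (nat_lit 0xecc040021e26) .nil) (nat_lit 0x8a88d0243324) (nat_lit 16672) (nat_lit
  0xc05446112199) (.node (.node .nil (nat_lit 0x8a88d0251509) (nat_lit 6992) (nat_lit 0xc88826112199) .nil)
  (nat_lit 0x8a88d0306701) (nat_lit 32512) (nat_lit 0xa09a44112199) .nil)) (nat_lit 0x8a88d031412c) (nat_lit
  44913) (nat_lit 0x80a88d174510) (.node (.node (.node .nil (nat_lit 0x8a88d034200f) (nat_lit 28129) (nat_lit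
  0x80a88d135062) .nil) (nat_lit 0x8a88d0350622) (nat_lit 12368) (nat_lit 0x8c0e42112199) .nil) (nat_lit
  0x8b0a0500a4f8) (nat_lit 11953) (nat_lit 0xc680a8185612) (.node (.node .nil (nat_lit 0x8b0a05041572)
  (nat_lit 3184) (nat_lit 0xb0103608e1c1) .nil) (nat_lit 0x8b0a0504b18a) (nat_lit 25936) (nat_lit
  0xa10c0e08e1c1) .nil))) (nat_lit 0x8b0a051055c8) (nat_lit 2657) (nat_lit 0xc680a8081745) (.node (.node
  (.node (.node .nil (nat_lit 0x8b0a0510f130) (nat_lit 9680) (nat_lit 0x96140a08e1c1) .nil) (nat_lit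
  0x8b0a051440ba) (nat_lit 15633) (nat_lit 0xc680a8010f13) .nil) (nat_lit 0x8b0a0514e442) (nat_lit 32641)
  (nat_lit 0xc680a8195901) (.node (.node .nil (nat_lit 0x8b0a0520742a) (nat_lit 10896) (nat_lit
  0xe41c2008e1c1) .nil) (nat_lit 0x8b0a0520d0d2) (nat_lit 33985) (nat_lit 0xc680a8086c07) .nil)) (nat_lit
  0x8b0a05246158) (nat_lit 22960) (nat_lit 0xa3122808e1c1) (.node (.node (.node .nil (nat_lit 0x8b0a0524c5a0)
  (nat_lit 22672) (nat_lit 0xb20e1008e1c1) .nil) (nat_lit 0x8b0a053021e2) (nat_lit 12833) (nat_lit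
  0xc680a8182d50) .nil) (nat_lit 0x8b0a0530851a) (nat_lit 2992) (nat_lit 0x85161408e1c1) (.node .nil (nat_lit
  0x8b0a05343490) (nat_lit 8672) (nat_lit 0xd3042408e1c1) .nil)))) (nat_lit 0x8b0a05349068) (nat_lit 31553)
  (nat_lit 0xc680a8096314) (.node (.node (.node (.node (.node .nil (nat_lit 0x8bc12000149f) (nat_lit 5089)
  (nat_lit 0xe80a88026564) .nil) (nat_lit 0x8bc1200428d3) (nat_lit 20800) (nat_lit 0xc24a6004b18a) .nil)
  (nat_lit 0x8bc120043c4c) (nat_lit 15520) (nat_lit 0x800c7504b18a) (.node (.node .nil (nat_lit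
  0x8bc120102e8a) (nat_lit 4913) (nat_lit 0xe80a8805d144) .nil) (nat_lit 0x8bc120103a15) (nat_lit 14048)
  (nat_lit 0x9a444104b18a) .nil)) (nat_lit 0x8bc120140659) (nat_lit 28080) (nat_lit 0xe1064104b18a) (.node
  (.node (.node .nil (nat_lit 0x8bc1201412c6) (nat_lit 720) (nat_lit 0xa3405404b18a) .nil) (nat_lit
  0x8bc120202656) (nat_lit 30385) (nat_lit 0xe80a88056123) .nil) (nat_lit 0x8bc1202032c9) (nat_lit 97)
  (nat_lit 0xe80a88070447) (.node .nil (nat_lit 0x8bc120240e85) (nat_lit 42720) (nat_lit 0xb20e1004b18a)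
  .nil))) (nat_lit 0x8bc120241a1a) (nat_lit 16305) (nat_lit 0xe80a88031135) (.node (.node (.node (.node .nil
  (nat_lit 0x8bc1203008dc) (nat_lit 33856) (nat_lit 0xa8462404b18a) .nil) (nat_lit 0x8bc120301c43) (nat_lit
  34912) (nat_lit 0xea003104b18a) .nil) (nat_lit 0x8bc12034200f) (nat_lit 28736) (nat_lit 0x91423104b18a)
  (.node (.node .nil (nat_lit 0x8bc120343490) (nat_lit 6561) (nat_lit 0xe80a8806c071) .nil) (nat_lit
  0x8c0e4201d0a9) (nat_lit 24304) (nat_lit 0x8d98082060b5) .nil)) (nat_lit 0x8c0e4202c19c) (nat_lit 31296)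
  (nat_lit 0xca960015094a) (.node (.node (.node .nil (nat_lit 0x8c0e42112199) (nat_lit 6640) (nat_lit
  0xc413481b8c02) .nil) (nat_lit 0x8c0e421230ac) (nat_lit 32193) (nat_lit 0x94c1092114e4) .nil) (nat_lit
  0x8c0e4221b01c) (nat_lit 45456) (nat_lit 0xd08c480f1302) (.node .nil (nat_lit 0x8c0e4222a129) (nat_lit 3664)
  (nat_lit 0x9782402060b5) .nil)))))) (nat_lit 0x8c0e4231412c) (nat_lit 5873) (nat_lit 0x94c109032c94) (.node
  (.node (.node (.node (.node (.node (.node .nil (nat_lit 0x8c0e42325019) (nat_lit 27072) (nat_lit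
  0xde090001964a) .nil) (nat_lit 0x8c48a101964a) (nat_lit 13728) (nat_lit 0xa0c8380d3085) .nil) (nat_lit
  0x8c48a103a152) (nat_lit 28353) (nat_lit 0xba800c041572) (.node (.node .nil (nat_lit 0x8c48a110a34c)
  (nat_lit 15888) (nat_lit 0xf08320024c5a) .nil) (nat_lit 0x8c48a1129454) (nat_lit 27969) (nat_lit
  0xba800c003da1) .nil)) (nat_lit 0x8c48a121b01c) (nat_lit 7921) (nat_lit 0xba800c045391) (.node (.node (.node
  .nil (nat_lit 0x8c48a1238704) (nat_lit 38592) (nat_lit 0xb20e100d3085) .nil) (nat_lit 0x8c48a130851a)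
  (nat_lit 40513) (nat_lit 0xba800c007b42) .nil) (nat_lit 0x8c48a132b202) (nat_lit 22769) (nat_lit
  0xba800c055c82) (.node (.node .nil (nat_lit 0x8c75000182d5) (nat_lit 3824) (nat_lit 0x8424a619c058) .nil)
  (nat_lit 0x8c7500020ab9) (nat_lit 34769) (nat_lit 0x99070826a0c4) .nil))) (nat_lit 0x8c750003886c) (nat_lit
  6833) (nat_lit 0x990708067016) (.node (.node (.node (.node .nil (nat_lit 0x8c7500108a72) (nat_lit 12417)
  (nat_lit 0x99070824f801) .nil) (nat_lit 0x8c75001108a7) (nat_lit 27088) (nat_lit 0x8424a62b9041) .nil)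
  (nat_lit 0x8c75001280cb) (nat_lit 30128) (nat_lit 0x8424a62b0918) (.node (.node .nil (nat_lit
  0x8c750013021e) (nat_lit 17057) (nat_lit 0x990708228817) .nil) (nat_lit 0x8c75002082ae) (nat_lit 6337)
  (nat_lit 0x990708244866) .nil)) (nat_lit 0x8c750021007b) (nat_lit 13617) (nat_lit 0x9907080498b4) (.node
  (.node (.node .nil (nat_lit 0x8c7500228817) (nat_lit 29009) (nat_lit 0x99070802e8a2) .nil) (nat_lit
  0x8c7500230ac2) (nat_lit 39393) (nat_lit 0x990708223870) .nil) (nat_lit 0x8c75003008dc) (nat_lit 3329)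
  (nat_lit 0x99070800b067) (.node .nil (nat_lit 0x8c7500318a09) (nat_lit 10288) (nat_lit 0x8424a6311350)
  .nil)))) (nat_lit 0x8c7500320265) (nat_lit 3521) (nat_lit 0x9907082610a3) (.node (.node (.node (.node (.node
  .nil (nat_lit 0x8c75003380b0) (nat_lit 13489) (nat_lit 0x99070806c071) .nil) (nat_lit 0x8c8384017451)
  (nat_lit 11233) (nat_lit 0x940a2c20d0d2) .nil) (nat_lit 0x8c8384024c5a) (nat_lit 15088) (nat_lit
  0xca96000160ce) (.node (.node .nil (nat_lit 0x8c8384106869) (nat_lit 44224) (nat_lit 0xf083200160ce) .nil)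
  (nat_lit 0x8c8384135062) (nat_lit 40273) (nat_lit 0x940a2c03a152) .nil)) (nat_lit 0x8c838420742a) (nat_lit
  39825) (nat_lit 0x940a2c294542) (.node (.node (.node .nil (nat_lit 0x8c8384234c21) (nat_lit 29681) (nat_lit
  0x940a2c017451) .nil) (nat_lit 0x8c8384316812) (nat_lit 42368) (nat_lit 0x881b300160ce) .nil) (nat_lit
  0x8c8384325019) (nat_lit 38960) (nat_lit 0xde09000160ce) (.node .nil (nat_lit 0x8d015100f684) (nat_lit
  23632) (nat_lit 0x85446818a096) .nil))) (nat_lit 0x8d015102e8a2) (nat_lit 16320) (nat_lit 0xc24a6018a096)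
  (.node (.node (.node (.node .nil (nat_lit 0x8d0151102e8a) (nat_lit 34960) (nat_lit 0xc4134818a096) .nil)
  (nat_lit 0x8d01511230ac) (nat_lit 44848) (nat_lit 0x831d4018a096) .nil) (nat_lit 0x8d015120742a) (nat_lit
  1569) (nat_lit 0xd222090498b4) (.node (.node .nil (nat_lit 0x8d0151226a0c) (nat_lit 22576) (nat_lit
  0xa3122818a096) .nil) (nat_lit 0x8d015130ac24) (nat_lit 19920) (nat_lit 0xa54b0018a096) .nil)) (nat_lit
  0x8d015132b202) (nat_lit 40705) (nat_lit 0xd22209055c82) (.node (.node (.node .nil (nat_lit 0x8d98080046e3)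
  (nat_lit 36992) (nat_lit 0x80a88d2d5030) .nil) (nat_lit 0x8d9808022387) (nat_lit 26433) (nat_lit
  0xd08c480742a4) .nil) (nat_lit 0x8d9808026564) (nat_lit 9041) (nat_lit 0xd08c48067016) (.node .nil (nat_lit
  0x8d98081007b4) (nat_lit 28112) (nat_lit 0x80a88d135062) .nil))))) (nat_lit 0x8d9808104157) (nat_lit 27856)
  (nat_lit 0x80a88d3e0052) (.node (.node (.node (.node (.node (.node .nil (nat_lit 0x8d9808122433) (nat_lit
  24256) (nat_lit 0x80a88d3a1520) .nil) (nat_lit 0x8d98081262d0) (nat_lit 24465) (nat_lit 0xd08c480d3085)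
  .nil) (nat_lit 0x8d9808202656) (nat_lit 34928) (nat_lit 0x80a88d0f1302) (.node (.node .nil (nat_lit
  0x8d98082060b5) (nat_lit 14561) (nat_lit 0xd08c48045391) .nil) (nat_lit 0x8d98082205d1) (nat_lit 30625)
  (nat_lit 0xd08c48022387) .nil)) (nat_lit 0x8d9808224332) (nat_lit 26289) (nat_lit 0xd08c48031135) (.node
  (.node (.node .nil (nat_lit 0x8d98083021e2) (nat_lit 26321) (nat_lit 0xd08c480e21b0) .nil) (nat_lit
  0x8d9808306701) (nat_lit 39920) (nat_lit 0x80a88d311350) .nil) (nat_lit 0x8d9808320265) (nat_lit 33233)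
  (nat_lit 0xd08c48096314) (.node (.node .nil (nat_lit 0x8d9808324486) (nat_lit 21744) (nat_lit
  0x80a88d185612) .nil) (nat_lit 0x8e1064102e8a) (nat_lit 37681) (nat_lit 0xb004a905d144) .nil))) (nat_lit
  0x8e106410cc91) (nat_lit 5328) (nat_lit 0x8031d41f0029) (.node (.node (.node (.node .nil (nat_lit
  0x8e1064112199) (nat_lit 29360) (nat_lit 0x8031d41b8c02) .nil) (nat_lit 0x8e106411c382) (nat_lit 42672)
  (nat_lit 0x8031d427c00a) .nil) (nat_lit 0x8e1064306701) (nat_lit 29568) (nat_lit 0x8031d4318a09) (.node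
  (.node .nil (nat_lit 0x8e106430851a) (nat_lit 1136) (nat_lit 0x8031d40dc601) .nil) (nat_lit 0x8e1064316812)
  (nat_lit 27008) (nat_lit 0x8031d4094a2a) .nil)) (nat_lit 0x8e1064318a09) (nat_lit 24753) (nat_lit
  0xb004a9096314) (.node (.node (.node .nil (nat_lit 0x8e4218003da1) (nat_lit 29905) (nat_lit 0x9c20c8238704)
  .nil) (nat_lit 0x8e4218008dc6) (nat_lit 4657) (nat_lit 0x9c20c800cb25) .nil) (nat_lit 0x8e421800b067)
  (nat_lit 40481) (nat_lit 0x9c20c8234c21) (.node .nil (nat_lit 0x8e42181108a7) (nat_lit 6305) (nat_lit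
  0x9c20c8010f13) .nil)))) (nat_lit 0x8e4218113506) (nat_lit 13649) (nat_lit 0x9c20c8228817) (.node (.node
  (.node (.node (.node .nil (nat_lit 0x8e4218118561) (nat_lit 14161) (nat_lit 0x9c20c801c436) .nil) (nat_lit
  0x8e421811b8c0) (nat_lit 976) (nat_lit 0x838419146984) .nil) (nat_lit 0x8e42182114e4) (nat_lit 10993)
  (nat_lit 0x9c20c803da10) (.node (.node .nil (nat_lit 0x8e4218212945) (nat_lit 11504) (nat_lit
  0xa31228146984) .nil) (nat_lit 0x8e4218219922) (nat_lit 176) (nat_lit 0xe0900b0b0670) .nil)) (nat_lit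
  0x8e421821a483) (nat_lit 22496) (nat_lit 0x821253146984) (.node (.node (.node .nil (nat_lit 0x8e4218301c43)
  (nat_lit 10561) (nat_lit 0x9c20c802d503) .nil) (nat_lit 0x8e42183021e2) (nat_lit 30465) (nat_lit
  0x9c20c8215207) .nil) (nat_lit 0x8e4218309185) (nat_lit 38800) (nat_lit 0xcb004a146984) (.node .nil (nat_lit
  0x8e421830ac24) (nat_lit 4048) (nat_lit 0xa98212146984) .nil))) (nat_lit 0x8ea00300527c) (nat_lit 38993)
  (nat_lit 0x9348882c2461) (.node (.node (.node (.node .nil (nat_lit 0x8ea003011b8c) (nat_lit 44513) (nat_lit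
  0x934888283113) .nil) (nat_lit 0x8ea0030149f0) (nat_lit 11281) (nat_lit 0x934888041572) .nil) (nat_lit
  0x8ea0031007b4) (nat_lit 25825) (nat_lit 0x934888243324) (.node (.node .nil (nat_lit 0x8ea0031055c8)
  (nat_lit 19121) (nat_lit 0x934888081745) .nil) (nat_lit 0x8ea003111c38) (nat_lit 26865) (nat_lit
  0x9348880c0237) .nil)) (nat_lit 0x8ea003114e44) (nat_lit 26097) (nat_lit 0x934888202656) (.node (.node
  (.node .nil (nat_lit 0x8ea003200f68) (nat_lit 20720) (nat_lit 0x97824028258c) .nil) (nat_lit 0x8ea003205d14)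
  (nat_lit 2208) (nat_lit 0xd4006303da10) .nil) (nat_lit 0x8ea0032114e4) (nat_lit 44496) (nat_lit
  0xc19070164a03) (.node .nil (nat_lit 0x8ea003214698) (nat_lit 31185) (nat_lit 0x934888209631) .nil)))))))
def tt2880_5 : T := (.node (.node (.node (.node (.node (.node (.node (.node .nil (nat_lit 0x8ea003305aa0)
  (nat_lit 3696) (nat_lit 0xc75001108a72) .nil) (nat_lit 0x8ea003311350) (nat_lit 45633) (nat_lit
  0x934888288174) .nil) (nat_lit 0x8ea00331412c) (nat_lit 37633) (nat_lit 0x93488804a515) (.node (.node .nil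
  (nat_lit 0x900bc10a903a) (nat_lit 33520) (nat_lit 0xb039080b4093) .nil) (nat_lit 0x900bc10b540c) (nat_lit
  30673) (nat_lit 0xc805e006920d) .nil)) (nat_lit 0x900bc10ce02c) (nat_lit 37185) (nat_lit 0xb9086006920d)
  (.node (.node (.node .nil (nat_lit 0x900bc10d241a) (nat_lit 30208) (nat_lit 0xc413480b4093) .nil) (nat_lit
  0x900bc120742a) (nat_lit 40576) (nat_lit 0xe41c200b4093) .nil) (nat_lit 0x900bc121b01c) (nat_lit 42865)
  (nat_lit 0xb8419006920d) (.node (.node .nil (nat_lit 0x900bc126043c) (nat_lit 11984) (nat_lit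
  0xa4a6080b4093) .nil) (nat_lit 0x900bc127c00a) (nat_lit 44288) (nat_lit 0x9036600b4093) .nil))) (nat_lit
  0x90366002c19c) (nat_lit 33153) (nat_lit 0xd2c012082ae4) (.node (.node (.node (.node .nil (nat_lit
  0x90366005481d) (nat_lit 25776) (nat_lit 0x8254b01c8845) .nil) (nat_lit 0x903660078981) (nat_lit 24160)
  (nat_lit 0x8254b009810f) .nil) (nat_lit 0x90366009810f) (nat_lit 16337) (nat_lit 0xc24a6018a096) (.node
  (.node .nil (nat_lit 0x9036600b4093) (nat_lit 37281) (nat_lit 0xca6084108a72) .nil) (nat_lit 0x9036600cc912)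
  (nat_lit 4945) (nat_lit 0x98ea00251509) .nil)) (nat_lit 0x9036600e088e) (nat_lit 45936) (nat_lit
  0x8254b0212945) (.node (.node (.node .nil (nat_lit 0x90366020498b) (nat_lit 865) (nat_lit 0xd028b00ac246)
  .nil) (nat_lit 0x903660228817) (nat_lit 4112) (nat_lit 0x8254b005aa06) .nil) (nat_lit 0x903660250196)
  (nat_lit 12945) (nat_lit 0x8a88d0251509) (.node .nil (nat_lit 0x90366027c00a) (nat_lit 7088) (nat_lit
  0x8254b0192243) .nil)))) (nat_lit 0x90366029c884) (nat_lit 23201) (nat_lit 0xc888261262d0) (.node (.node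
  (.node (.node (.node .nil (nat_lit 0x9036602b0918) (nat_lit 4320) (nat_lit 0x8254b02d024c) .nil) (nat_lit
  0x9036602c8099) (nat_lit 3873) (nat_lit 0x922846251509) .nil) (nat_lit 0x9036602e4105) (nat_lit 18337)
  (nat_lit 0x9a02a2251509) (.node (.node .nil (nat_lit 0x904d222032c9) (nat_lit 45600) (nat_lit
  0xc94c1010a34c) .nil) (nat_lit 0x904d2221b01c) (nat_lit 33216) (nat_lit 0xd08c48096314) .nil)) (nat_lit
  0x904d2226a0c4) (nat_lit 21329) (nat_lit 0xc624501108a7) (.node (.node (.node .nil (nat_lit 0x904d22272211)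
  (nat_lit 12977) (nat_lit 0x800c7528d308) .nil) (nat_lit 0x904d222a1294) (nat_lit 19377) (nat_lit
  0x8424a628d308) .nil) (nat_lit 0x904d222b9041) (nat_lit 20096) (nat_lit 0xc8a118114e44) (.node .nil (nat_lit
  0x904d222c8099) (nat_lit 40208) (nat_lit 0x80c7502610a3) .nil))) (nat_lit 0x904d222d024c) (nat_lit 3504)
  (nat_lit 0x9907082610a3) (.node (.node (.node (.node .nil (nat_lit 0x90641c051a61) (nat_lit 41169) (nat_lit
  0x804a96093168) .nil) (nat_lit 0x90641c078981) (nat_lit 42513) (nat_lit 0xa44413093168) .nil) (nat_lit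
  0x90641c0d80e2) (nat_lit 34449) (nat_lit 0xf04805068692) (.node (.node .nil (nat_lit 0x90641c0f1302)
  (nat_lit 13521) (nat_lit 0xd44680093168) .nil) (nat_lit 0x90641c219922) (nat_lit 26448) (nat_lit
  0xe0900b096314) .nil)) (nat_lit 0x90641c230ac2) (nat_lit 33633) (nat_lit 0xb20e10093168) (.node (.node
  (.node .nil (nat_lit 0x90641c2903a1) (nat_lit 19824) (nat_lit 0xa0031d160ce0) .nil) (nat_lit 0x90641c2b9041)
  (nat_lit 5713) (nat_lit 0xc20c83093168) .nil) (nat_lit 0x90708303886c) (nat_lit 21424) (nat_lit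
  0xaf0480009959) (.node .nil (nat_lit 0x907083058338) (nat_lit 40896) (nat_lit 0xaf048010d80e) .nil)))))
  (nat_lit 0x907083060b54) (nat_lit 27841) (nat_lit 0xe009520b540c) (.node (.node (.node (.node (.node (.node
  .nil (nat_lit 0x907083088e1c) (nat_lit 5600) (nat_lit 0xaf0480106869) .nil) (nat_lit 0x9070830b0670)
  (nat_lit 13809) (nat_lit 0xe421810b540c) .nil) (nat_lit 0x9070830d0d24) (nat_lit 12785) (nat_lit
  0xf083200428d3) (.node (.node .nil (nat_lit 0x9070830e8548) (nat_lit 29440) (nat_lit 0xaf048000293e) .nil)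
  (nat_lit 0x907083200f68) (nat_lit 27825) (nat_lit 0xd028b00b540c) .nil)) (nat_lit 0x907083238704) (nat_lit
  24096) (nat_lit 0xaf0480103a15) (.node (.node (.node .nil (nat_lit 0x907083258c50) (nat_lit 22096) (nat_lit
  0xaf0480007b42) .nil) (nat_lit 0x90708326043c) (nat_lit 45537) (nat_lit 0xc48a110b540c) .nil) (nat_lit
  0x907083288174) (nat_lit 34577) (nat_lit 0xa02a230b540c) (.node (.node .nil (nat_lit 0x9070832b0918)
  (nat_lit 41265) (nat_lit 0xc0a2c20b540c) .nil) (nat_lit 0x9070832d024c) (nat_lit 3137) (nat_lit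
  0xd400630b540c) .nil))) (nat_lit 0x9070832e8a20) (nat_lit 31969) (nat_lit 0xb488820b540c) (.node (.node
  (.node (.node .nil (nat_lit 0x909298026564) (nat_lit 10753) (nat_lit 0xd2c012043c4c) .nil) (nat_lit
  0x909298056123) (nat_lit 32529) (nat_lit 0x8081b3043c4c) .nil) (nat_lit 0x909298070447) (nat_lit 13457)
  (nat_lit 0xa98212043c4c) (.node (.node .nil (nat_lit 0x909298086c07) (nat_lit 25537) (nat_lit
  0x8bc120043c4c) .nil) (nat_lit 0x9092980a0963) (nat_lit 5905) (nat_lit 0xa2c281043c4c) .nil)) (nat_lit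
  0x9092980d0d24) (nat_lit 18192) (nat_lit 0x93488800b067) (.node (.node (.node .nil (nat_lit 0x9092980f6840)
  (nat_lit 37616) (nat_lit 0x93488804a515) .nil) (nat_lit 0x909298212945) (nat_lit 22129) (nat_lit
  0xb84190043c4c) .nil) (nat_lit 0x909298234c21) (nat_lit 3297) (nat_lit 0x914231043c4c) (.node .nil (nat_lit
  0x909298244866) (nat_lit 43088) (nat_lit 0x93488808a722) .nil)))) (nat_lit 0x909298262d02) (nat_lit 45552)
  (nat_lit 0x9348880cb250) (.node (.node (.node (.node (.node .nil (nat_lit 0x909298294542) (nat_lit 19104)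
  (nat_lit 0x934888081745) .nil) (nat_lit 0x9092982b2026) (nat_lit 26848) (nat_lit 0x9348880c0237) .nil)
  (nat_lit 0x9092982c2461) (nat_lit 34129) (nat_lit 0xb30103043c4c) (.node (.node .nil (nat_lit
  0x9092982e4105) (nat_lit 31168) (nat_lit 0x934888209631) .nil) (nat_lit 0x90c0e40c2b09) (nat_lit 17185)
  (nat_lit 0x97824028182d) .nil)) (nat_lit 0x90c0e40d241a) (nat_lit 768) (nat_lit 0xc843030710d8) (.node
  (.node (.node .nil (nat_lit 0x90c0e40e1c11) (nat_lit 16640) (nat_lit 0x9821250710d8) .nil) (nat_lit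
  0x90c0e40f1302) (nat_lit 6593) (nat_lit 0xd4468003a152) .nil) (nat_lit 0x90c0e4241a1a) (nat_lit 39344)
  (nat_lit 0xf048050710d8) (.node .nil (nat_lit 0x90c0e4251509) (nat_lit 44672) (nat_lit 0xc888260710d8)
  .nil))) (nat_lit 0x90c0e4262d02) (nat_lit 39489) (nat_lit 0xc6245011c382) (.node (.node (.node (.node .nil
  (nat_lit 0x90c0e4272211) (nat_lit 17569) (nat_lit 0x80c75028182d) .nil) (nat_lit 0x9104d20a7221) (nat_lit
  22848) (nat_lit 0x8c75003380b0) .nil) (nat_lit 0x9104d20ab904) (nat_lit 34337) (nat_lit 0x818ea03e0052)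
  (.node (.node .nil (nat_lit 0x9104d20c2b09) (nat_lit 12080) (nat_lit 0xc41348086c07) .nil) (nat_lit
  0x9104d20ce02c) (nat_lit 417) (nat_lit 0xb90860068692) .nil)) (nat_lit 0x9104d2226a0c) (nat_lit 36544)
  (nat_lit 0x88320e3380b0) (.node (.node (.node .nil (nat_lit 0x9104d222a129) (nat_lit 27456) (nat_lit
  0x8462453380b0) .nil) (nat_lit 0x9104d2243324) (nat_lit 10640) (nat_lit 0xc054460c2b09) .nil) (nat_lit
  0x9104d224f801) (nat_lit 9185) (nat_lit 0xa402f01b8c02) (.node .nil (nat_lit 0x91104d02e8a2) (nat_lit 3905)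
  (nat_lit 0x94231229c884) .nil)))))) (nat_lit 0x91104d046e30) (nat_lit 19425) (nat_lit 0x804a963da100) (.node
  (.node (.node (.node (.node (.node (.node .nil (nat_lit 0x91104d068692) (nat_lit 4065) (nat_lit
  0xa98212146984) .nil) (nat_lit 0x91104d08a722) (nat_lit 19937) (nat_lit 0xa54b0018a096) .nil) (nat_lit
  0x91104d0a4f80) (nat_lit 44944) (nat_lit 0x8a88d0056123) (.node (.node .nil (nat_lit 0x91104d0cc912)
  (nat_lit 38560) (nat_lit 0x8a88d034200f) .nil) (nat_lit 0x91104d0e21b0) (nat_lit 38304) (nat_lit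
  0x8a88d0113506) .nil)) (nat_lit 0x91104d20ab90) (nat_lit 11201) (nat_lit 0xb8419005aa06) (.node (.node
  (.node .nil (nat_lit 0x91104d224332) (nat_lit 32800) (nat_lit 0x8a88d001262d) .nil) (nat_lit 0x91104d24c5a0)
  (nat_lit 31697) (nat_lit 0x85e090380b06) .nil) (nat_lit 0x91104d262d02) (nat_lit 20305) (nat_lit
  0xac281411c382) (.node (.node .nil (nat_lit 0x91104d280cb2) (nat_lit 42833) (nat_lit 0xa0e1061d0a90) .nil)
  (nat_lit 0x91104d2ae410) (nat_lit 10817) (nat_lit 0x89298234c214) .nil))) (nat_lit 0x91104d2c6282) (nat_lit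
  32753) (nat_lit 0x9d400620ab90) (.node (.node (.node (.node .nil (nat_lit 0x91104d2e8a20) (nat_lit 1217)
  (nat_lit 0xb48882096314) .nil) (nat_lit 0x914231043c4c) (nat_lit 1665) (nat_lit 0x804a96118561) .nil)
  (nat_lit 0x91423104b18a) (nat_lit 18065) (nat_lit 0x8081b3114e44) (.node (.node .nil (nat_lit
  0x9142310a34c2) (nat_lit 14976) (nat_lit 0xa125301ed080) .nil) (nat_lit 0x9142310ab904) (nat_lit 25760)
  (nat_lit 0x80254b1ed080) .nil)) (nat_lit 0x914231262d02) (nat_lit 11616) (nat_lit 0x812a581ed080) (.node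
  (.node (.node .nil (nat_lit 0x91423126a0c4) (nat_lit 30320) (nat_lit 0xa02a231ed080) .nil) (nat_lit
  0x91423128258c) (nat_lit 36897) (nat_lit 0x81036610cc91) .nil) (nat_lit 0x91423128a84a) (nat_lit 4513)
  (nat_lit 0x81c8431007b4) (.node .nil (nat_lit 0x91891406226a) (nat_lit 11248) (nat_lit 0xcd22201280cb)
  .nil)))) (nat_lit 0x918914066489) (nat_lit 38928) (nat_lit 0xe072100d0d24) (.node (.node (.node (.node
  (.node .nil (nat_lit 0x9189140a34c2) (nat_lit 29696) (nat_lit 0xa125301280cb) .nil) (nat_lit 0x9189140a7221)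
  (nat_lit 40384) (nat_lit 0x8c75001280cb) .nil) (nat_lit 0x9189142032c9) (nat_lit 43121) (nat_lit
  0xb84190070447) (.node (.node .nil (nat_lit 0x91891420742a) (nat_lit 38209) (nat_lit 0x960095294542) .nil)
  (nat_lit 0x9189142c2461) (nat_lit 15024) (nat_lit 0xa54b001280cb) .nil)) (nat_lit 0x9189142c6282) (nat_lit
  38977) (nat_lit 0x9d40062205d1) (.node (.node (.node .nil (nat_lit 0x91a02a045391) (nat_lit 14672) (nat_lit
  0x9d4006229c88) .nil) (nat_lit 0x91a02a060b54) (nat_lit 32289) (nat_lit 0x8a051614a2a1) .nil) (nat_lit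
  0x91a02a0c44d4) (nat_lit 7440) (nat_lit 0xc84303152074) (.node .nil (nat_lit 0x91a02a0e1c11) (nat_lit 10448)
  (nat_lit 0x982125229c88) .nil))) (nat_lit 0x91a02a205d14) (nat_lit 15169) (nat_lit 0x96009508a722) (.node
  (.node (.node (.node .nil (nat_lit 0x91a02a2205d1) (nat_lit 6256) (nat_lit 0x846245229c88) .nil) (nat_lit
  0x91a02a284a51) (nat_lit 23456) (nat_lit 0x810366229c88) .nil) (nat_lit 0x91a02a2a1294) (nat_lit 44337)
  (nat_lit 0x8424a61a8311) (.node (.node .nil (nat_lit 0x92017800f684) (nat_lit 1313) (nat_lit 0xd2c0120d0d24)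
  .nil) (nat_lit 0x920178055c82) (nat_lit 4097) (nat_lit 0x8708322032c9) .nil)) (nat_lit 0x92017805aa06)
  (nat_lit 26064) (nat_lit 0xcd2220121992) (.node (.node (.node .nil (nat_lit 0x920178086c07) (nat_lit 225)
  (nat_lit 0x8bc1202032c9) .nil) (nat_lit 0x920178089a83) (nat_lit 1025) (nat_lit 0x86cc042032c9) .nil)
  (nat_lit 0x9201780d3085) (nat_lit 42208) (nat_lit 0x89a444121992) (.node .nil (nat_lit 0x9201780dc601)
  (nat_lit 33825) (nat_lit 0xde090001c436) .nil))))) (nat_lit 0x920178215207) (nat_lit 45905) (nat_lit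
  0x9189142032c9) (.node (.node (.node (.node (.node (.node .nil (nat_lit 0x92017821a483) (nat_lit 23409)
  (nat_lit 0x9c84302032c9) .nil) (nat_lit 0x920178240e85) (nat_lit 37920) (nat_lit 0xa4a608121992) .nil)
  (nat_lit 0x92017824f801) (nat_lit 5024) (nat_lit 0xcc040d121992) (.node (.node .nil (nat_lit 0x920178293e00)
  (nat_lit 37457) (nat_lit 0xc585021a4834) .nil) (nat_lit 0x92017829c884) (nat_lit 20640) (nat_lit
  0xa84624121992) .nil)) (nat_lit 0x9201782c6282) (nat_lit 4753) (nat_lit 0x9d40062032c9) (.node (.node (.node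
  .nil (nat_lit 0x9201782c9406) (nat_lit 11120) (nat_lit 0xe0206c0dc601) .nil) (nat_lit 0x92284601d0a9)
  (nat_lit 38625) (nat_lit 0x94231201d0a9) .nil) (nat_lit 0x922846045391) (nat_lit 26721) (nat_lit
  0xe0095201d0a9) (.node (.node .nil (nat_lit 0x922846058338) (nat_lit 592) (nat_lit 0xcd222010d80e) .nil)
  (nat_lit 0x922846084539) (nat_lit 34737) (nat_lit 0xaa234001d0a9) .nil))) (nat_lit 0x922846099590) (nat_lit
  11648) (nat_lit 0x91a02a2205d1) (.node (.node (.node (.node .nil (nat_lit 0x9228460c16a8) (nat_lit 26016)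
  (nat_lit 0x8178242205d1) .nil) (nat_lit 0x9228460dc601) (nat_lit 11024) (nat_lit 0xd11a020ce02c) .nil)
  (nat_lit 0x922846209631) (nat_lit 25248) (nat_lit 0xd8502805aa06) (.node (.node .nil (nat_lit
  0x922846214698) (nat_lit 5952) (nat_lit 0x88320e2205d1) .nil) (nat_lit 0x92284624c5a0) (nat_lit 32096)
  (nat_lit 0x98ea002205d1) .nil)) (nat_lit 0x922846251509) (nat_lit 1984) (nat_lit 0xc88826157208) (.node
  (.node (.node .nil (nat_lit 0x92284628d308) (nat_lit 35249) (nat_lit 0x8c0e4201d0a9) .nil) (nat_lit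
  0x9228462903a1) (nat_lit 42704) (nat_lit 0x940a2c2205d1) .nil) (nat_lit 0x9228462c8099) (nat_lit 38336)
  (nat_lit 0x84d2222205d1) (.node .nil (nat_lit 0x9228462d5030) (nat_lit 34160) (nat_lit 0xd4b004094a2a)
  .nil)))) (nat_lit 0x925304090cc9) (nat_lit 9073) (nat_lit 0xc281450c16a8) (.node (.node (.node (.node (.node
  .nil (nat_lit 0x92530409a831) (nat_lit 39441) (nat_lit 0xe3a8000c16a8) .nil) (nat_lit 0x9253040d241a)
  (nat_lit 16929) (nat_lit 0xd161400c16a8) .nil) (nat_lit 0x9253040d80e2) (nat_lit 28913) (nat_lit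
  0xf0480503a152) (.node (.node .nil (nat_lit 0x925304280cb2) (nat_lit 8896) (nat_lit 0x8641c2088e1c) .nil)
  (nat_lit 0x92530428a84a) (nat_lit 8320) (nat_lit 0x8641c2199224) .nil)) (nat_lit 0x9253042c2461) (nat_lit
  28544) (nat_lit 0x8641c2318a09) (.node (.node (.node .nil (nat_lit 0x9253042c8099) (nat_lit 28864) (nat_lit
  0x8641c2209631) .nil) (nat_lit 0x9298210803da) (nat_lit 6273) (nat_lit 0x846245229c88) .nil) (nat_lit
  0x929821096314) (nat_lit 36064) (nat_lit 0x8a118914e442) (.node .nil (nat_lit 0x9298210c44d4) (nat_lit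
  10465) (nat_lit 0x982125229c88) .nil))) (nat_lit 0x9298210d241a) (nat_lit 19136) (nat_lit 0x8a118930ac24)
  (.node (.node (.node (.node .nil (nat_lit 0x92982128258c) (nat_lit 23473) (nat_lit 0x810366229c88) .nil)
  (nat_lit 0x929821294542) (nat_lit 7457) (nat_lit 0xc84303152074) .nil) (nat_lit 0x9298212c6282) (nat_lit
  14689) (nat_lit 0x9d4006229c88) (.node (.node .nil (nat_lit 0x9298212d024c) (nat_lit 19521) (nat_lit
  0xd40063096314) .nil) (nat_lit 0x92a58000527c) (nat_lit 22929) (nat_lit 0xd2c012011b8c) .nil)) (nat_lit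
  0x92a580051a61) (nat_lit 34945) (nat_lit 0x886072011b8c) (.node (.node (.node .nil (nat_lit 0x92a58005481d)
  (nat_lit 27136) (nat_lit 0xe072100305aa) .nil) (nat_lit 0x92a580091856) (nat_lit 17968) (nat_lit
  0xb0a0510305aa) .nil) (nat_lit 0x92a580094a2a) (nat_lit 6929) (nat_lit 0xecc040011b8c) (.node .nil (nat_lit
  0x92a5800c0237) (nat_lit 28016) (nat_lit 0xc48a110305aa) .nil)))))))
def tt2880_6 : T := (.node (.node (.node (.node (.node (.node (.node (.node .nil (nat_lit 0x92a58021007b)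
  (nat_lit 37520) (nat_lit 0x8462450305aa) .nil) (nat_lit 0x92a580215207) (nat_lit 31984) (nat_lit
  0xecc0400305aa) .nil) (nat_lit 0x92a580241a1a) (nat_lit 29632) (nat_lit 0xf048050305aa) (.node (.node .nil
  (nat_lit 0x92a580244866) (nat_lit 8561) (nat_lit 0xc62450011b8c) .nil) (nat_lit 0x92a58028182d) (nat_lit
  42497) (nat_lit 0xa28462011b8c) .nil)) (nat_lit 0x92a580284a51) (nat_lit 24560) (nat_lit 0xa09a440305aa)
  (.node (.node (.node .nil (nat_lit 0x92a5802d024c) (nat_lit 29073) (nat_lit 0xd40063011b8c) .nil) (nat_lit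
  0x92a5802d5030) (nat_lit 27776) (nat_lit 0xd4b0040305aa) .nil) (nat_lit 0x93488800b067) (nat_lit 10176)
  (nat_lit 0xa81458078981) (.node (.node .nil (nat_lit 0x934888041572) (nat_lit 6016) (nat_lit 0xb01036078981)
  .nil) (nat_lit 0x93488804a515) (nat_lit 27040) (nat_lit 0xe07210078981) .nil))) (nat_lit 0x934888081745)
  (nat_lit 10785) (nat_lit 0x860721316812) (.node (.node (.node (.node .nil (nat_lit 0x93488808a722) (nat_lit
  34672) (nat_lit 0xd80254078981) .nil) (nat_lit 0x9348880c0237) (nat_lit 16577) (nat_lit 0xb66020010f13)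
  .nil) (nat_lit 0x9348880cb250) (nat_lit 41361) (nat_lit 0x952c01224332) (.node (.node .nil (nat_lit
  0x934888202656) (nat_lit 16016) (nat_lit 0x88320e078981) .nil) (nat_lit 0x934888209631) (nat_lit 20273)
  (nat_lit 0x914231262d02) .nil)) (nat_lit 0x934888243324) (nat_lit 15792) (nat_lit 0xc05446078981) (.node
  (.node (.node .nil (nat_lit 0x934888248343) (nat_lit 35073) (nat_lit 0xa12530164a03) .nil) (nat_lit
  0x934888283113) (nat_lit 37792) (nat_lit 0xf8240200527c) .nil) (nat_lit 0x934888288174) (nat_lit 41584)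
  (nat_lit 0xa84624078981) (.node .nil (nat_lit 0x9348882c2461) (nat_lit 28529) (nat_lit 0xb30103046e30)
  .nil)))) (nat_lit 0x9348882c9406) (nat_lit 22161) (nat_lit 0x904d22272211) (.node (.node (.node (.node
  (.node .nil (nat_lit 0x940a2c017451) (nat_lit 18960) (nat_lit 0x9c84300258c5) .nil) (nat_lit 0x940a2c03a152)
  (nat_lit 30017) (nat_lit 0x8a0516349068) .nil) (nat_lit 0x940a2c08e1c1) (nat_lit 40848) (nat_lit
  0xf083200258c5) (.node (.node .nil (nat_lit 0x940a2c0a34c2) (nat_lit 39905) (nat_lit 0x814585349068) .nil)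
  (nat_lit 0x940a2c20d0d2) (nat_lit 5984) (nat_lit 0xf500180258c5) .nil)) (nat_lit 0x940a2c2205d1) (nat_lit
  33920) (nat_lit 0xa4a6080258c5) (.node (.node (.node .nil (nat_lit 0x940a2c294542) (nat_lit 29473) (nat_lit
  0xc84303032c94) .nil) (nat_lit 0x940a2c2b9041) (nat_lit 41376) (nat_lit 0xc8a1180258c5) .nil) (nat_lit
  0x94231201d0a9) (nat_lit 28177) (nat_lit 0x8081b3157208) (.node .nil (nat_lit 0x94231203886c) (nat_lit 9777)
  (nat_lit 0x8a0516157208) .nil))) (nat_lit 0x942312090cc9) (nat_lit 36017) (nat_lit 0xc28145157208) (.node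
  (.node (.node (.node .nil (nat_lit 0x9423120b540c) (nat_lit 31456) (nat_lit 0x84a960324486) .nil) (nat_lit
  0x9423122114e4) (nat_lit 29920) (nat_lit 0xc190700c2b09) .nil) (nat_lit 0x942312234c21) (nat_lit 11472)
  (nat_lit 0x812a58324486) (.node (.node .nil (nat_lit 0x94231229c884) (nat_lit 2001) (nat_lit 0xc88826157208)
  .nil) (nat_lit 0x9423122b9041) (nat_lit 7585) (nat_lit 0xc20c83157208) .nil)) (nat_lit 0x94585001262d)
  (nat_lit 45729) (nat_lit 0x804a9618b409) (.node (.node (.node .nil (nat_lit 0x945850022387) (nat_lit 38192)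
  (nat_lit 0x960095294542) .nil) (nat_lit 0x9458500305aa) (nat_lit 15136) (nat_lit 0x960095219922) .nil)
  (nat_lit 0x94585008a722) (nat_lit 13168) (nat_lit 0x96009520742a) (.node .nil (nat_lit 0x94585009810f)
  (nat_lit 35377) (nat_lit 0xc24a6018b409) .nil))))) (nat_lit 0x9458500a84a5) (nat_lit 34352) (nat_lit
  0x960095093168) (.node (.node (.node (.node (.node (.node .nil (nat_lit 0x9458500ba288) (nat_lit 21088)
  (nat_lit 0x96009501ed08) .nil) (nat_lit 0x9458502082ae) (nat_lit 15152) (nat_lit 0x96009508a722) .nil)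
  (nat_lit 0x94585021a483) (nat_lit 43489) (nat_lit 0xa402f018b409) (.node (.node .nil (nat_lit
  0x94585022a129) (nat_lit 18448) (nat_lit 0x96009521e260) .nil) (nat_lit 0x945850238704) (nat_lit 42929)
  (nat_lit 0xa3405418b409) .nil)) (nat_lit 0x94585028258c) (nat_lit 41761) (nat_lit 0x81036618b409) (.node
  (.node (.node .nil (nat_lit 0x9458502903a1) (nat_lit 37664) (nat_lit 0x960095200f68) .nil) (nat_lit
  0x9458502a060b) (nat_lit 28224) (nat_lit 0x96009501964a) .nil) (nat_lit 0x9458502b2026) (nat_lit 25328)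
  (nat_lit 0x960095094a2a) (.node (.node .nil (nat_lit 0x94c1090132b2) (nat_lit 20672) (nat_lit
  0xb1d4000e088e) .nil) (nat_lit 0x94c109032c94) (nat_lit 3024) (nat_lit 0xe072100e088e) .nil))) (nat_lit
  0x94c109082ae4) (nat_lit 44113) (nat_lit 0xa580251a1a48) (.node (.node (.node (.node .nil (nat_lit
  0x94c1090a34c2) (nat_lit 30976) (nat_lit 0xa125300e088e) .nil) (nat_lit 0x94c1092114e4) (nat_lit 21168)
  (nat_lit 0xc190700e088e) .nil) (nat_lit 0x94c109230ac2) (nat_lit 21217) (nat_lit 0xa125301a1a48) (.node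
  (.node .nil (nat_lit 0x94c109280cb2) (nat_lit 38016) (nat_lit 0x80c7500e088e) .nil) (nat_lit 0x94c1092a1294)
  (nat_lit 45409) (nat_lit 0x8424a61a1a48) .nil)) (nat_lit 0x9511a000e21b) (nat_lit 42688) (nat_lit
  0x8390863c4c08) (.node (.node (.node .nil (nat_lit 0x9511a0024c5a) (nat_lit 11569) (nat_lit 0x87083208e1c1)
  .nil) (nat_lit 0x9511a002ae41) (nat_lit 17873) (nat_lit 0x886072078981) .nil) (nat_lit 0x9511a0086c07)
  (nat_lit 31745) (nat_lit 0x8bc1200428d3) (.node .nil (nat_lit 0x9511a0088e1c) (nat_lit 23424) (nat_lit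
  0x839086106869) .nil)))) (nat_lit 0x9511a00a205d) (nat_lit 8625) (nat_lit 0x8320e10cc912) (.node (.node
  (.node (.node (.node .nil (nat_lit 0x9511a00ac246) (nat_lit 21600) (nat_lit 0x839086246158) .nil) (nat_lit
  0x9511a0202656) (nat_lit 32000) (nat_lit 0x8390860c2b09) .nil) (nat_lit 0x9511a020c44d) (nat_lit 1072)
  (nat_lit 0x839086306701) (.node (.node .nil (nat_lit 0x9511a0226a0c) (nat_lit 35233) (nat_lit
  0x8269110d80e2) .nil) (nat_lit 0x9511a0228817) (nat_lit 26513) (nat_lit 0x8d015102e8a2) .nil)) (nat_lit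
  0x9511a0284a51) (nat_lit 19777) (nat_lit 0x8ea0030149f0) (.node (.node (.node .nil (nat_lit 0x9511a028a84a)
  (nat_lit 43216) (nat_lit 0x8390861c4360) .nil) (nat_lit 0x9511a02a060b) (nat_lit 36080) (nat_lit
  0x839086140659) .nil) (nat_lit 0x9511a02ae410) (nat_lit 4209) (nat_lit 0x89298206c071) (.node .nil (nat_lit
  0x952c0100527c) (nat_lit 6497) (nat_lit 0x804a962c2461) .nil))) (nat_lit 0x952c0102c19c) (nat_lit 7185)
  (nat_lit 0xa44413082ae4) (.node (.node (.node (.node .nil (nat_lit 0x952c010803da) (nat_lit 35345) (nat_lit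
  0x846245280cb2) .nil) (nat_lit 0x952c010a903a) (nat_lit 10672) (nat_lit 0xb039080a84a5) .nil) (nat_lit
  0x952c0120d0d2) (nat_lit 42592) (nat_lit 0xf50018007b42) (.node (.node .nil (nat_lit 0x952c01224332)
  (nat_lit 31392) (nat_lit 0x812a580a84a5) .nil) (nat_lit 0x952c01288174) (nat_lit 17121) (nat_lit
  0xa02a230c44d4) .nil)) (nat_lit 0x952c012a1294) (nat_lit 42944) (nat_lit 0xd161400a84a5) (.node (.node
  (.node .nil (nat_lit 0x960095007b42) (nat_lit 45697) (nat_lit 0xe009520dc601) .nil) (nat_lit 0x96009501964a)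
  (nat_lit 17745) (nat_lit 0xa982121230ac) .nil) (nat_lit 0x96009501ed08) (nat_lit 12240) (nat_lit
  0xe07210048c2b) (.node .nil (nat_lit 0x96009508a722) (nat_lit 8288) (nat_lit 0xc48a111b01c4) .nil))))))
  (nat_lit 0x96009508dc60) (nat_lit 42913) (nat_lit 0xa88d011230ac) (.node (.node (.node (.node (.node (.node
  (.node .nil (nat_lit 0x960095093168) (nat_lit 23328) (nat_lit 0x80bc121b01c4) .nil) (nat_lit 0x960095094a2a)
  (nat_lit 15376) (nat_lit 0xc0063a1b01c4) .nil) (nat_lit 0x960095200f68) (nat_lit 27105) (nat_lit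
  0xc94c101230ac) (.node (.node .nil (nat_lit 0x96009520742a) (nat_lit 7120) (nat_lit 0xe41c2000e21b) .nil)
  (nat_lit 0x960095219922) (nat_lit 8272) (nat_lit 0xe0900b046e30) .nil)) (nat_lit 0x96009521e260) (nat_lit
  10337) (nat_lit 0x80c7501230ac) (.node (.node (.node .nil (nat_lit 0x96009528a84a) (nat_lit 33680) (nat_lit
  0x84d2221b01c4) .nil) (nat_lit 0x96009528d308) (nat_lit 41841) (nat_lit 0x8c0e421230ac) .nil) (nat_lit
  0x960095293e00) (nat_lit 39296) (nat_lit 0xc0e4211b01c4) (.node (.node .nil (nat_lit 0x960095294542)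
  (nat_lit 27712) (nat_lit 0x805e091b01c4) .nil) (nat_lit 0x96140a082ae4) (nat_lit 18545) (nat_lit
  0xa580251055c8) .nil))) (nat_lit 0x96140a08e1c1) (nat_lit 5153) (nat_lit 0x8b0a051055c8) (.node (.node
  (.node (.node .nil (nat_lit 0x96140a096314) (nat_lit 30913) (nat_lit 0xcd22201055c8) .nil) (nat_lit
  0x96140a09a831) (nat_lit 36432) (nat_lit 0xa209a418b409) .nil) (nat_lit 0x96140a284a51) (nat_lit 29857)
  (nat_lit 0x8ea0031055c8) (.node (.node .nil (nat_lit 0x96140a288174) (nat_lit 14833) (nat_lit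
  0xa02a231055c8) .nil) (nat_lit 0x96140a2903a1) (nat_lit 28273) (nat_lit 0xe6020609a831) .nil)) (nat_lit
  0x96140a29c884) (nat_lit 7761) (nat_lit 0xc888261055c8) (.node (.node (.node .nil (nat_lit 0x97824000149f)
  (nat_lit 11553) (nat_lit 0xa98212026564) .nil) (nat_lit 0x97824000293e) (nat_lit 23841) (nat_lit
  0x8a051621e260) .nil) (nat_lit 0x978240003da1) (nat_lit 25921) (nat_lit 0x886072238704) (.node .nil (nat_lit
  0x978240084539) (nat_lit 2928) (nat_lit 0xe1064102c19c) .nil)))) (nat_lit 0x9782400851a6) (nat_lit 10881)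
  (nat_lit 0xa8462403a152) (.node (.node (.node (.node (.node .nil (nat_lit 0x978240086c07) (nat_lit 23904)
  (nat_lit 0xd11a0202c19c) .nil) (nat_lit 0x978240087898) (nat_lit 7489) (nat_lit 0x89a444224332) .nil)
  (nat_lit 0x97824020498b) (nat_lit 42336) (nat_lit 0x90366002c19c) (.node (.node .nil (nat_lit
  0x978240205d14) (nat_lit 29953) (nat_lit 0xa3405408a722) .nil) (nat_lit 0x9782402060b5) (nat_lit 1857)
  (nat_lit 0x80c7502b2026) .nil)) (nat_lit 0x97824020742a) (nat_lit 8448) (nat_lit 0xe41c2002c19c) (.node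
  (.node (.node .nil (nat_lit 0x978240280cb2) (nat_lit 27617) (nat_lit 0xa0e1060b0670) .nil) (nat_lit
  0x97824028182d) (nat_lit 9457) (nat_lit 0xa28462096314) .nil) (nat_lit 0x97824028258c) (nat_lit 11968)
  (nat_lit 0xbc120102c19c) (.node .nil (nat_lit 0x978240283113) (nat_lit 18144) (nat_lit 0xf8240202c19c)
  .nil))) (nat_lit 0x98081b00f684) (nat_lit 45424) (nat_lit 0x8544683a2881) (.node (.node (.node (.node .nil
  (nat_lit 0x98081b026564) (nat_lit 2144) (nat_lit 0xc1c20c041572) .nil) (nat_lit 0x98081b0293e0) (nat_lit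
  30049) (nat_lit 0x82f048240e85) .nil) (nat_lit 0x98081b0527c0) (nat_lit 32448) (nat_lit 0xc4134801c436)
  (.node (.node .nil (nat_lit 0x98081b05d144) (nat_lit 34528) (nat_lit 0x84805e3a2881) .nil) (nat_lit
  0x98081b0742a4) (nat_lit 32688) (nat_lit 0xc0063a05d144) .nil)) (nat_lit 0x98081b07b420) (nat_lit 35360)
  (nat_lit 0x80952c3a2881) (.node (.node (.node .nil (nat_lit 0x98081b2114e4) (nat_lit 31121) (nat_lit
  0x82f0481d0a90) .nil) (nat_lit 0x98081b21e260) (nat_lit 19664) (nat_lit 0x8103663a2881) .nil) (nat_lit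
  0x98081b237180) (nat_lit 35904) (nat_lit 0xc5850200527c) (.node .nil (nat_lit 0x98081b238704) (nat_lit
  46064) (nat_lit 0x8516143a2881) .nil))))) (nat_lit 0x98081b243324) (nat_lit 5360) (nat_lit 0xc05446058338)
  (.node (.node (.node (.node (.node (.node .nil (nat_lit 0x98081b24c5a0) (nat_lit 16129) (nat_lit
  0x82f048380b06) .nil) (nat_lit 0x98081b265640) (nat_lit 22048) (nat_lit 0xc4413401964a) .nil) (nat_lit
  0x98081b26a0c4) (nat_lit 4689) (nat_lit 0x82f0481108a7) (.node (.node .nil (nat_lit 0x981c84034349) (nat_lit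
  8608) (nat_lit 0x8320e10cc912) .nil) (nat_lit 0x981c8403a152) (nat_lit 34112) (nat_lit 0x8320e130851a)
  .nil)) (nat_lit 0x981c8406226a) (nat_lit 28337) (nat_lit 0x80952c3540c1) (.node (.node (.node .nil (nat_lit
  0x981c8406c071) (nat_lit 16976) (nat_lit 0x8320e11c111c) .nil) (nat_lit 0x981c84224332) (nat_lit 36145)
  (nat_lit 0x80952c2c6282) .nil) (nat_lit 0x981c8422a129) (nat_lit 7889) (nat_lit 0x80952c230ac2) (.node
  (.node .nil (nat_lit 0x981c84272211) (nat_lit 41521) (nat_lit 0x80952c284a51) .nil) (nat_lit 0x981c8427c00a)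
  (nat_lit 28768) (nat_lit 0x8320e1185612) .nil))) (nat_lit 0x98212501964a) (nat_lit 22593) (nat_lit
  0xa3122818a096) (.node (.node (.node (.node .nil (nat_lit 0x982125024c5a) (nat_lit 15344) (nat_lit
  0xc1c20c0a34c2) .nil) (nat_lit 0x98212503da10) (nat_lit 29345) (nat_lit 0xa31228104157) .nil) (nat_lit
  0x98212504cac8) (nat_lit 39585) (nat_lit 0xa312281c8845) (.node (.node .nil (nat_lit 0x982125055c82)
  (nat_lit 43264) (nat_lit 0xa580250a34c2) .nil) (nat_lit 0x982125068692) (nat_lit 11521) (nat_lit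
  0xa31228146984) .nil)) (nat_lit 0x9821250710d8) (nat_lit 9153) (nat_lit 0xa312280cc912) (.node (.node (.node
  .nil (nat_lit 0x98212520d0d2) (nat_lit 18176) (nat_lit 0xf5001800cb25) .nil) (nat_lit 0x982125214698)
  (nat_lit 44001) (nat_lit 0xa3122810cc91) .nil) (nat_lit 0x982125229c88) (nat_lit 5585) (nat_lit
  0xa31228008dc6) (.node .nil (nat_lit 0x982125230ac2) (nat_lit 45216) (nat_lit 0x940a2c0a34c2) .nil))))
  (nat_lit 0x982125241a1a) (nat_lit 27345) (nat_lit 0xa3122814e442) (.node (.node (.node (.node (.node .nil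
  (nat_lit 0x982125258c50) (nat_lit 26401) (nat_lit 0xa312280c44d4) .nil) (nat_lit 0x982125265640) (nat_lit
  6625) (nat_lit 0xa312281c0583) .nil) (nat_lit 0x98212527c00a) (nat_lit 24784) (nat_lit 0x9142310a34c2)
  (.node (.node .nil (nat_lit 0x989142020ab9) (nat_lit 24960) (nat_lit 0xa2209a195901) .nil) (nat_lit
  0x989142032c94) (nat_lit 34209) (nat_lit 0x805e093e0052) .nil)) (nat_lit 0x989142066489) (nat_lit 27729)
  (nat_lit 0x805e091b01c4) (.node (.node (.node .nil (nat_lit 0x9891420742a4) (nat_lit 18720) (nat_lit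
  0xa2209a05d144) .nil) (nat_lit 0x989142226a0c) (nat_lit 24209) (nat_lit 0x805e090d80e2) .nil) (nat_lit
  0x989142234c21) (nat_lit 44785) (nat_lit 0x805e09152074) (.node .nil (nat_lit 0x98914226043c) (nat_lit
  31488) (nat_lit 0xa2209a0dc601) .nil))) (nat_lit 0x989142272211) (nat_lit 42640) (nat_lit 0xa2209a051a61)
  (.node (.node (.node (.node .nil (nat_lit 0x98ea0000149f) (nat_lit 11872) (nat_lit 0xb90860066489) .nil)
  (nat_lit 0x98ea000305aa) (nat_lit 35201) (nat_lit 0x8d9808122433) .nil) (nat_lit 0x98ea00031135) (nat_lit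
  38224) (nat_lit 0x989142066489) (.node (.node .nil (nat_lit 0x98ea000401ed) (nat_lit 42417) (nat_lit
  0x8d9808320265) .nil) (nat_lit 0x98ea00041572) (nat_lit 15184) (nat_lit 0xb01036066489) .nil)) (nat_lit
  0x98ea00070447) (nat_lit 43185) (nat_lit 0x8d9808202656) (.node (.node (.node .nil (nat_lit 0x98ea000710d8)
  (nat_lit 37025) (nat_lit 0x8d9808224332) .nil) (nat_lit 0x98ea0021007b) (nat_lit 34368) (nat_lit
  0x810366066489) .nil) (nat_lit 0x98ea002114e4) (nat_lit 35441) (nat_lit 0x8d98081262d0) (.node .nil (nat_lit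
  0x98ea002205d1) (nat_lit 21120) (nat_lit 0xa09a44066489) .nil)))))))
def tt2880_7 : T := (.node (.node (.node (.node (.node (.node (.node (.node .nil (nat_lit 0x98ea00250196)
  (nat_lit 32928) (nat_lit 0x881b30066489) .nil) (nat_lit 0x98ea00251509) (nat_lit 2544) (nat_lit
  0xc88826066489) .nil) (nat_lit 0x98ea0026043c) (nat_lit 37073) (nat_lit 0x8d98083021e2) (.node (.node .nil
  (nat_lit 0x98ea002610a3) (nat_lit 25360) (nat_lit 0xe91104066489) .nil) (nat_lit 0x99070800b067) (nat_lit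
  1680) (nat_lit 0xa8145802e8a2) .nil)) (nat_lit 0x9907080258c5) (nat_lit 26496) (nat_lit 0x8d015102e8a2)
  (.node (.node (.node .nil (nat_lit 0x99070802e8a2) (nat_lit 18353) (nat_lit 0xc41348122433) .nil) (nat_lit
  0x9907080428d3) (nat_lit 43968) (nat_lit 0xc4134802e8a2) .nil) (nat_lit 0x9907080498b4) (nat_lit 7408)
  (nat_lit 0x91104d02e8a2) (.node (.node .nil (nat_lit 0x990708067016) (nat_lit 3553) (nat_lit 0xc413481964a0)
  .nil) (nat_lit 0x99070806c071) (nat_lit 7328) (nat_lit 0xe1064102e8a2) .nil))) (nat_lit 0x9907082060b5)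
  (nat_lit 23728) (nat_lit 0xa0031d02e8a2) (.node (.node (.node (.node .nil (nat_lit 0x99070820d0d2) (nat_lit
  12097) (nat_lit 0xc41348086c07) .nil) (nat_lit 0x990708223870) (nat_lit 28960) (nat_lit 0xd0151102e8a2)
  .nil) (nat_lit 0x990708228817) (nat_lit 9392) (nat_lit 0x85161402e8a2) (.node (.node .nil (nat_lit
  0x990708244866) (nat_lit 3265) (nat_lit 0xc41348032c94) .nil) (nat_lit 0x99070824f801) (nat_lit 6657)
  (nat_lit 0xc413481b8c02) .nil)) (nat_lit 0x9907082610a3) (nat_lit 1776) (nat_lit 0xe9110402e8a2) (.node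
  (.node (.node .nil (nat_lit 0x99070826a0c4) (nat_lit 23776) (nat_lit 0xbc120102e8a2) .nil) (nat_lit
  0x9a02a2009959) (nat_lit 27905) (nat_lit 0xa4508c02ae41) .nil) (nat_lit 0x9a02a2017451) (nat_lit 36369)
  (nat_lit 0xa4508c108a72) (.node .nil (nat_lit 0x9a02a2043c4c) (nat_lit 39504) (nat_lit 0x800c75237180)
  .nil)))) (nat_lit 0x9a02a205d144) (nat_lit 2512) (nat_lit 0x84805e237180) (.node (.node (.node (.node (.node
  .nil (nat_lit 0x9a02a2205d14) (nat_lit 43888) (nat_lit 0xd40063088e1c) .nil) (nat_lit 0x9a02a221b01c)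
  (nat_lit 43457) (nat_lit 0xa4508c1a8311) .nil) (nat_lit 0x9a02a224f801) (nat_lit 17232) (nat_lit
  0xcc040d108a72) (.node (.node .nil (nat_lit 0x9a02a2251509) (nat_lit 10256) (nat_lit 0xc88826140659) .nil)
  (nat_lit 0x9a4441011b8c) (nat_lit 43760) (nat_lit 0x81c8430e21b0) .nil)) (nat_lit 0x9a44410132b2) (nat_lit
  8512) (nat_lit 0xb1d4000e21b0) (.node (.node (.node .nil (nat_lit 0x9a44410498b4) (nat_lit 19153) (nat_lit
  0x8a118930ac24) .nil) (nat_lit 0x9a444104b18a) (nat_lit 7665) (nat_lit 0x8a1189114e44) .nil) (nat_lit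
  0x9a4441219922) (nat_lit 12192) (nat_lit 0xe0900b0e21b0) (.node .nil (nat_lit 0x9a444121b01c) (nat_lit
  26304) (nat_lit 0xd08c480e21b0) .nil))) (nat_lit 0x9a4441241a1a) (nat_lit 27504) (nat_lit 0xf0480501964a)
  (.node (.node (.node (.node .nil (nat_lit 0x9a4441243324) (nat_lit 28193) (nat_lit 0x8a1189350622) .nil)
  (nat_lit 0x9b30100046e3) (nat_lit 38113) (nat_lit 0xc13488108a72) .nil) (nat_lit 0x9b3010008dc6) (nat_lit
  36401) (nat_lit 0xc1348800cb25) (.node (.node .nil (nat_lit 0x9b301000cb25) (nat_lit 1456) (nat_lit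
  0x92a5800c504b) .nil) (nat_lit 0x9b30100401ed) (nat_lit 28560) (nat_lit 0x92a580091856) .nil)) (nat_lit
  0x9b301004470e) (nat_lit 15648) (nat_lit 0x92a580244866) (.node (.node (.node .nil (nat_lit 0x9b3010048c2b)
  (nat_lit 8065) (nat_lit 0xc134880c0237) .nil) (nat_lit 0x9b301004cac8) (nat_lit 35409) (nat_lit
  0xc134881c8845) .nil) (nat_lit 0x9b3010200f68) (nat_lit 14865) (nat_lit 0xc134881a4834) (.node .nil (nat_lit
  0x9b301020498b) (nat_lit 22353) (nat_lit 0xc134880ac246) .nil))))) (nat_lit 0x9b30102082ae) (nat_lit 38432)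
  (nat_lit 0x92a5800c0237) (.node (.node (.node (.node (.node (.node .nil (nat_lit 0x9b301020c44d) (nat_lit
  41473) (nat_lit 0xc134880a0963) .nil) (nat_lit 0x9b3010240e85) (nat_lit 13105) (nat_lit 0xc13488168126)
  .nil) (nat_lit 0x9b3010244866) (nat_lit 12848) (nat_lit 0x92a580094a2a) (.node (.node .nil (nat_lit
  0x9b3010248343) (nat_lit 40529) (nat_lit 0xc13488164a03) .nil) (nat_lit 0x9b301024c5a0) (nat_lit 35552)
  (nat_lit 0x92a580284a51) .nil)) (nat_lit 0x9c20c800cb25) (nat_lit 2401) (nat_lit 0x91104d2e8a20) (.node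
  (.node (.node .nil (nat_lit 0x9c20c8010f13) (nat_lit 3248) (nat_lit 0xc41348032c94) .nil) (nat_lit
  0x9c20c801c436) (nat_lit 7729) (nat_lit 0x91104d068692) .nil) (nat_lit 0x9c20c8021e26) (nat_lit 41553)
  (nat_lit 0x91104d24c5a0) (.node (.node .nil (nat_lit 0x9c20c802d503) (nat_lit 5632) (nat_lit 0xac012a032c94)
  .nil) (nat_lit 0x9c20c8031135) (nat_lit 42848) (nat_lit 0x989142032c94) .nil))) (nat_lit 0x9c20c803da10)
  (nat_lit 5856) (nat_lit 0x94c109032c94) (.node (.node (.node (.node .nil (nat_lit 0x9c20c8205d14) (nat_lit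
  13424) (nat_lit 0xd40063032c94) .nil) (nat_lit 0x9c20c8209631) (nat_lit 31201) (nat_lit 0x91104d262d02)
  .nil) (nat_lit 0x9c20c8215207) (nat_lit 19649) (nat_lit 0x91104d20ab90) (.node (.node .nil (nat_lit
  0x9c20c8219922) (nat_lit 28000) (nat_lit 0xe0900b032c94) .nil) (nat_lit 0x9c20c8224332) (nat_lit 39936)
  (nat_lit 0x888269032c94) .nil)) (nat_lit 0x9c20c8228817) (nat_lit 7425) (nat_lit 0x91104d02e8a2) (.node
  (.node (.node .nil (nat_lit 0x9c20c8234c21) (nat_lit 30241) (nat_lit 0x91104d046e30) .nil) (nat_lit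
  0x9c20c8238704) (nat_lit 19169) (nat_lit 0x91104d2ae410) .nil) (nat_lit 0x9c8430007b42) (nat_lit 29777)
  (nat_lit 0xb039080dc601) (.node .nil (nat_lit 0x9c8430011b8c) (nat_lit 33537) (nat_lit 0xb039080b4093)
  .nil)))) (nat_lit 0x9c84300160ce) (nat_lit 30144) (nat_lit 0xc843031230ac) (.node (.node (.node (.node
  (.node .nil (nat_lit 0x9c8430022387) (nat_lit 7216) (nat_lit 0xc48a111230ac) .nil) (nat_lit 0x9c84300258c5)
  (nat_lit 10689) (nat_lit 0xb039080a84a5) .nil) (nat_lit 0x9c843003380b) (nat_lit 42896) (nat_lit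
  0xa88d011230ac) (.node (.node .nil (nat_lit 0x9c8430034349) (nat_lit 38737) (nat_lit 0xb0390801c436) .nil)
  (nat_lit 0x9c84302032c9) (nat_lit 13889) (nat_lit 0xb03908070447) .nil)) (nat_lit 0x9c843020498b) (nat_lit
  10320) (nat_lit 0x80c7501230ac) (.node (.node (.node .nil (nat_lit 0x9c8430212945) (nat_lit 42577) (nat_lit
  0xb039080c44d4) .nil) (nat_lit 0x9c8430215207) (nat_lit 32721) (nat_lit 0xb039080182d5) .nil) (nat_lit
  0x9c843022114e) (nat_lit 36577) (nat_lit 0xb039080046e3) (.node .nil (nat_lit 0x9c8430226a0c) (nat_lit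
  17728) (nat_lit 0xa982121230ac) .nil))) (nat_lit 0x9c8430230ac2) (nat_lit 18305) (nat_lit 0xb039080b0670)
  (.node (.node (.node (.node .nil (nat_lit 0x9c8430237180) (nat_lit 33137) (nat_lit 0xb0390806c071) .nil)
  (nat_lit 0x9d4006003da1) (nat_lit 29712) (nat_lit 0x89142326a0c4) .nil) (nat_lit 0x9d4006009959) (nat_lit
  8864) (nat_lit 0x98081b26a0c4) (.node (.node .nil (nat_lit 0x9d400600a4f8) (nat_lit 20400) (nat_lit
  0xc84303111c38) .nil) (nat_lit 0x9d4006020ab9) (nat_lit 13056) (nat_lit 0xc0063a195901) .nil)) (nat_lit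
  0x9d4006023718) (nat_lit 3361) (nat_lit 0xd850280527c0) (.node (.node (.node .nil (nat_lit 0x9d40060293e0)
  (nat_lit 41984) (nat_lit 0x81511a26a0c4) .nil) (nat_lit 0x9d400602ae41) (nat_lit 39600) (nat_lit
  0xd11a02084539) .nil) (nat_lit 0x9d4006200f68) (nat_lit 34752) (nat_lit 0x99070826a0c4) (.node .nil (nat_lit
  0x9d40062032c9) (nat_lit 2448) (nat_lit 0xc94c1010132b) .nil)))))) (nat_lit 0x9d4006209631) (nat_lit 24641)
  (nat_lit 0xd850280182d5) (.node (.node (.node (.node (.node (.node (.node .nil (nat_lit 0x9d400620ab90)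
  (nat_lit 21696) (nat_lit 0x881b3026a0c4) .nil) (nat_lit 0x9d40062205d1) (nat_lit 28497) (nat_lit
  0xd85028022387) .nil) (nat_lit 0x9d4006223870) (nat_lit 38080) (nat_lit 0xd01511094a2a) (.node (.node .nil
  (nat_lit 0x9d4006229c88) (nat_lit 8016) (nat_lit 0xc10929185612) .nil) (nat_lit 0x9d400622a129) (nat_lit
  38865) (nat_lit 0xd8502804a515) .nil)) (nat_lit 0xa0031d02e8a2) (nat_lit 14176) (nat_lit 0x82a234251509)
  (.node (.node (.node .nil (nat_lit 0xa0031d055c82) (nat_lit 32481) (nat_lit 0xa1189106226a) .nil) (nat_lit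
  0xa0031d07b420) (nat_lit 33793) (nat_lit 0x88d01506226a) .nil) (nat_lit 0xa0031d08dc60) (nat_lit 6529)
  (nat_lit 0xa88d0106226a) (.node (.node .nil (nat_lit 0xa0031d0a34c2) (nat_lit 41185) (nat_lit
  0x81458506226a) .nil) (nat_lit 0xa0031d0d80e2) (nat_lit 35712) (nat_lit 0x86072121b01c) .nil))) (nat_lit
  0xa0031d0f6840) (nat_lit 21409) (nat_lit 0xd9808106226a) (.node (.node (.node (.node .nil (nat_lit
  0xa0031d11b8c0) (nat_lit 20352) (nat_lit 0x838419243324) .nil) (nat_lit 0xa0031d135062) (nat_lit 19729)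
  (nat_lit 0x91891406226a) .nil) (nat_lit 0xa0031d14e442) (nat_lit 8161) (nat_lit 0xe0849406226a) (.node
  (.node .nil (nat_lit 0xa0031d160ce0) (nat_lit 11329) (nat_lit 0xc94c1006226a) .nil) (nat_lit 0xa0031d1964a0)
  (nat_lit 33409) (nat_lit 0xe9110406226a) .nil)) (nat_lit 0xa0031d1b8c02) (nat_lit 38448) (nat_lit
  0x85161422a129) (.node (.node (.node .nil (nat_lit 0xa0031d1c3822) (nat_lit 31920) (nat_lit 0xa23405058338)
  .nil) (nat_lit 0xa0031d1ed080) (nat_lit 30096) (nat_lit 0x87210c209631) .nil) (nat_lit 0xa0178203886c)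
  (nat_lit 7936) (nat_lit 0xe140a2009959) (.node .nil (nat_lit 0xa0178206c071) (nat_lit 43280) (nat_lit
  0xe140a202ae41) .nil)))) (nat_lit 0xa0178209a831) (nat_lit 32704) (nat_lit 0xe140a2060b54) (.node (.node
  (.node (.node (.node .nil (nat_lit 0xa017820ce02c) (nat_lit 11793) (nat_lit 0xb9086004470e) .nil) (nat_lit
  0xa01782106869) (nat_lit 26689) (nat_lit 0xd028b004470e) .nil) (nat_lit 0xa01782152074) (nat_lit 912)
  (nat_lit 0xe140a20c2b09) (.node (.node .nil (nat_lit 0xa017821a4834) (nat_lit 21713) (nat_lit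
  0xa8b0a004470e) .nil) (nat_lit 0xa017821f0029) (nat_lit 14880) (nat_lit 0xe140a20ab904) .nil)) (nat_lit
  0xa02a2302c19c) (nat_lit 41008) (nat_lit 0x82a23415094a) (.node (.node (.node .nil (nat_lit 0xa02a2305d144)
  (nat_lit 31520) (nat_lit 0x84805e132b20) .nil) (nat_lit 0xa02a230710d8) (nat_lit 19712) (nat_lit
  0x91891406226a) .nil) (nat_lit 0xa02a23099590) (nat_lit 41681) (nat_lit 0xc02f041810f1) (.node .nil (nat_lit
  0xa02a230b540c) (nat_lit 23520) (nat_lit 0x84a96013021e) .nil))) (nat_lit 0xa02a230c44d4) (nat_lit 9424)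
  (nat_lit 0x828b0a152074) (.node (.node (.node (.node .nil (nat_lit 0xa02a230e8548) (nat_lit 34816) (nat_lit
  0x97824000293e) .nil) (nat_lit 0xa02a231055c8) (nat_lit 8097) (nat_lit 0xd028b0081745) .nil) (nat_lit
  0xa02a23129454) (nat_lit 36832) (nat_lit 0x92017805aa06) (.node (.node .nil (nat_lit 0xa02a2315848c)
  (nat_lit 17632) (nat_lit 0x94231203886c) .nil) (nat_lit 0xa02a23174510) (nat_lit 32656) (nat_lit
  0x812a58168126) .nil)) (nat_lit 0xa02a2319c058) (nat_lit 30848) (nat_lit 0x81036616a818) (.node (.node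
  (.node .nil (nat_lit 0xa02a231b01c4) (nat_lit 26161) (nat_lit 0xc012a5182d50) .nil) (nat_lit 0xa02a231c111c)
  (nat_lit 1168) (nat_lit 0x922846058338) .nil) (nat_lit 0xa02a231ed080) (nat_lit 19488) (nat_lit
  0x87210c108a72) (.node .nil (nat_lit 0xa05161032c94) (nat_lit 38721) (nat_lit 0x9458502a060b) .nil)))))
  (nat_lit 0xa05161068692) (nat_lit 15233) (nat_lit 0xc19070146984) (.node (.node (.node (.node (.node (.node
  .nil (nat_lit 0xa05161088e1c) (nat_lit 19008) (nat_lit 0xcc1092106869) .nil) (nat_lit 0xa051610d241a)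
  (nat_lit 14129) (nat_lit 0xd161400498b4) .nil) (nat_lit 0xa05161102e8a) (nat_lit 42608) (nat_lit
  0xcc109210a34c) (.node (.node .nil (nat_lit 0xa0516115848c) (nat_lit 28688) (nat_lit 0xcc109203886c) .nil)
  (nat_lit 0xa051611b8c02) (nat_lit 8480) (nat_lit 0xcc1092114e44) .nil)) (nat_lit 0xa051611e2604) (nat_lit
  40784) (nat_lit 0xcc1092026564) (.node (.node (.node .nil (nat_lit 0xa06cc0031135) (nat_lit 35136) (nat_lit
  0x989142226a0c) .nil) (nat_lit 0xa06cc0058338) (nat_lit 24177) (nat_lit 0x8254b009810f) .nil) (nat_lit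
  0xa06cc006920d) (nat_lit 44736) (nat_lit 0x88494c32b202) (.node (.node .nil (nat_lit 0xa06cc009810f)
  (nat_lit 15216) (nat_lit 0x92530428a84a) .nil) (nat_lit 0xa06cc00a903a) (nat_lit 25121) (nat_lit
  0xa06cc009810f) .nil))) (nat_lit 0xa06cc00c0237) (nat_lit 15697) (nat_lit 0xb6602009810f) (.node (.node
  (.node (.node .nil (nat_lit 0xa06cc00f1302) (nat_lit 16753) (nat_lit 0xd4468009810f) .nil) (nat_lit
  0xa06cc010132b) (nat_lit 5441) (nat_lit 0xd028b009810f) .nil) (nat_lit 0xa06cc013021e) (nat_lit 31777)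
  (nat_lit 0xb20e1009810f) (.node (.node .nil (nat_lit 0xa06cc0159013) (nat_lit 8657) (nat_lit 0xa402f009810f)
  .nil) (nat_lit 0xa06cc0168126) (nat_lit 22464) (nat_lit 0x98ea0022114e) .nil)) (nat_lit 0xa06cc0199224)
  (nat_lit 16112) (nat_lit 0x82f048380b06) (.node (.node (.node .nil (nat_lit 0xa06cc01a8311) (nat_lit 13840)
  (nat_lit 0xa09a441a610a) .nil) (nat_lit 0xa06cc01c111c) (nat_lit 26545) (nat_lit 0x90366009810f) .nil)
  (nat_lit 0xa06cc01f0029) (nat_lit 12881) (nat_lit 0xf210c0046e30) (.node .nil (nat_lit 0xa09a440305aa)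
  (nat_lit 14769) (nat_lit 0x9b3010048c2b) .nil)))) (nat_lit 0xa09a44066489) (nat_lit 12257) (nat_lit
  0xe07210048c2b) (.node (.node (.node (.node (.node .nil (nat_lit 0xa09a44084539) (nat_lit 27553) (nat_lit
  0xaa2340048c2b) .nil) (nat_lit 0xa09a440d241a) (nat_lit 7249) (nat_lit 0xd16140048c2b) .nil) (nat_lit
  0xa09a44112199) (nat_lit 21456) (nat_lit 0xc040d91b8c02) (.node (.node .nil (nat_lit 0xa09a441440ba)
  (nat_lit 44720) (nat_lit 0xc040d908a722) .nil) (nat_lit 0xa09a441a610a) (nat_lit 7553) (nat_lit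
  0x8952c0048c2b) .nil)) (nat_lit 0xa09a441f0029) (nat_lit 23537) (nat_lit 0xf210c0048c2b) (.node (.node
  (.node .nil (nat_lit 0xa0c838022387) (nat_lit 9217) (nat_lit 0xd015110742a4) .nil) (nat_lit 0xa0c8380527c0)
  (nat_lit 42049) (nat_lit 0x8254b028a84a) .nil) (nat_lit 0xa0c838070447) (nat_lit 21153) (nat_lit
  0x85161428a84a) (.node .nil (nat_lit 0xa0c838081745) (nat_lit 22945) (nat_lit 0x86072128a84a) .nil)))
  (nat_lit 0xa0c8380a34c2) (nat_lit 42752) (nat_lit 0xa125300ac246) (.node (.node (.node (.node .nil (nat_lit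
  0xa0c8380d3085) (nat_lit 7472) (nat_lit 0x89a444224332) .nil) (nat_lit 0xa0c8380f1302) (nat_lit 27600)
  (nat_lit 0xa0e1060b0670) .nil) (nat_lit 0xa0c838113506) (nat_lit 9440) (nat_lit 0xa28462096314) (.node
  (.node .nil (nat_lit 0xa0c838131681) (nat_lit 8593) (nat_lit 0x91423128a84a) .nil) (nat_lit 0xa0c8381412c6)
  (nat_lit 6961) (nat_lit 0xc30390145425) .nil)) (nat_lit 0xa0c838163141) (nat_lit 2817) (nat_lit
  0xc44134131681) (.node (.node (.node .nil (nat_lit 0xa0c838192243) (nat_lit 45201) (nat_lit 0xc750011007b4)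
  .nil) (nat_lit 0xa0c8381b01c4) (nat_lit 10864) (nat_lit 0xa8462403a152) .nil) (nat_lit 0xa0c8381c0583)
  (nat_lit 1840) (nat_lit 0x80c7502b2026) (.node .nil (nat_lit 0xa0c8381e2604) (nat_lit 11536) (nat_lit
  0xa98212026564) .nil)))))))
def tt2880_8 : T := (.node (.node (.node (.node (.node (.node (.node (.node .nil (nat_lit 0xa0e106051a61)
  (nat_lit 18768) (nat_lit 0x88d015132b20) .nil) (nat_lit 0xa0e1060710d8) (nat_lit 45328) (nat_lit
  0x9189140a7221) .nil) (nat_lit 0xa0e106090cc9) (nat_lit 26337) (nat_lit 0xc28145094a2a) (.node (.node .nil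
  (nat_lit 0xa0e1060b0670) (nat_lit 17217) (nat_lit 0xe42181094a2a) .nil) (nat_lit 0xa0e1060c16a8) (nat_lit
  13264) (nat_lit 0x8178241a8311) .nil)) (nat_lit 0xa0e1060e1c11) (nat_lit 12865) (nat_lit 0x92a580094a2a)
  (.node (.node (.node .nil (nat_lit 0xa0e106111c38) (nat_lit 25345) (nat_lit 0x960095094a2a) .nil) (nat_lit
  0xa0e106131681) (nat_lit 2721) (nat_lit 0xb0a051094a2a) .nil) (nat_lit 0xa0e106140659) (nat_lit 45345)
  (nat_lit 0xe08494094a2a) (.node (.node .nil (nat_lit 0xa0e106160ce0) (nat_lit 36337) (nat_lit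
  0xc62450094a2a) .nil) (nat_lit 0xa0e1061810f1) (nat_lit 2864) (nat_lit 0x9b301000cb25) .nil))) (nat_lit
  0xa0e1061a1a48) (nat_lit 33712) (nat_lit 0x826911199224) (.node (.node (.node (.node .nil (nat_lit
  0xa0e1061d0a90) (nat_lit 34177) (nat_lit 0xd4b004094a2a) .nil) (nat_lit 0xa0e1061f0029) (nat_lit 14625)
  (nat_lit 0xf210c004a515) .nil) (nat_lit 0xa10c0e0293e0) (nat_lit 22305) (nat_lit 0x9b3010240e85) (.node
  (.node .nil (nat_lit 0xa10c0e045391) (nat_lit 6448) (nat_lit 0x9d4006023718) .nil) (nat_lit 0xa10c0e06c071)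
  (nat_lit 14320) (nat_lit 0x8366021c111c) .nil)) (nat_lit 0xa10c0e08e1c1) (nat_lit 15873) (nat_lit
  0x8b0a05343490) (.node (.node (.node .nil (nat_lit 0xa10c0e0a7221) (nat_lit 24113) (nat_lit 0xaf0480103a15)
  .nil) (nat_lit 0xa10c0e0cb250) (nat_lit 22896) (nat_lit 0x90641c0f1302) .nil) (nat_lit 0xa10c0e0e21b0)
  (nat_lit 23056) (nat_lit 0x8e4218113506) (.node .nil (nat_lit 0xa10c0e10f130) (nat_lit 41040) (nat_lit
  0x96140a096314) .nil)))) (nat_lit 0xa10c0e1262d0) (nat_lit 27440) (nat_lit 0x88320e174510) (.node (.node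
  (.node (.node (.node .nil (nat_lit 0xa10c0e14a2a1) (nat_lit 15009) (nat_lit 0x882691371804) .nil) (nat_lit
  0xa10c0e163141) (nat_lit 9760) (nat_lit 0x8a0516157208) .nil) (nat_lit 0xa10c0e1810f1) (nat_lit 25648)
  (nat_lit 0x9b301004470e) (.node (.node .nil (nat_lit 0xa10c0e1a8311) (nat_lit 35169) (nat_lit
  0x863a80390415) .nil) (nat_lit 0xa10c0e1c4360) (nat_lit 6816) (nat_lit 0x990708067016) .nil)) (nat_lit
  0xa10c0e1ed080) (nat_lit 44400) (nat_lit 0x87210c185612) (.node (.node (.node .nil (nat_lit 0xa11891026564)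
  (nat_lit 44449) (nat_lit 0x9458502903a1) .nil) (nat_lit 0xa1189106226a) (nat_lit 21392) (nat_lit
  0xd9808106226a) .nil) (nat_lit 0xa1189108a722) (nat_lit 33696) (nat_lit 0xd98081060b54) (.node .nil (nat_lit
  0xa118910ce02c) (nat_lit 17361) (nat_lit 0xb90860045391) .nil))) (nat_lit 0xa1189110a34c) (nat_lit 36737)
  (nat_lit 0xb84190051a61) (.node (.node (.node (.node .nil (nat_lit 0xa1189114e442) (nat_lit 41489) (nat_lit
  0xa402f0195901) .nil) (nat_lit 0xa118911a610a) (nat_lit 23889) (nat_lit 0x8952c0340931) .nil) (nat_lit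
  0xa118911e2604) (nat_lit 30577) (nat_lit 0x9511a0284a51) (.node (.node .nil (nat_lit 0xa125300258c5)
  (nat_lit 33568) (nat_lit 0x8d0151226a0c) .nil) (nat_lit 0xa1253004cac8) (nat_lit 25793) (nat_lit
  0x8254b01c8845) .nil)) (nat_lit 0xa1253006920d) (nat_lit 43536) (nat_lit 0x88494c272211) (.node (.node
  (.node .nil (nat_lit 0xa12530089a83) (nat_lit 11344) (nat_lit 0xa96009060b54) .nil) (nat_lit 0xa125300ac246)
  (nat_lit 34032) (nat_lit 0x8b0a05246158) .nil) (nat_lit 0xa125300c504b) (nat_lit 16608) (nat_lit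
  0xac2814034349) (.node .nil (nat_lit 0xa125300e088e) (nat_lit 20128) (nat_lit 0x8e4218212945) .nil)))))
  (nat_lit 0xa1253010d80e) (nat_lit 19744) (nat_lit 0xa60849096314) (.node (.node (.node (.node (.node (.node
  .nil (nat_lit 0xa125301280cb) (nat_lit 18977) (nat_lit 0x9c84300258c5) .nil) (nat_lit 0xa125301412c6)
  (nat_lit 35217) (nat_lit 0x8a88d0145425) .nil) (nat_lit 0xa12530164a03) (nat_lit 24145) (nat_lit
  0x800c751ed080) (.node (.node .nil (nat_lit 0xa1253018428d) (nat_lit 10017) (nat_lit 0x8e106410cc91) .nil)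
  (nat_lit 0xa125301a1a48) (nat_lit 12304) (nat_lit 0x8269112d024c) .nil)) (nat_lit 0xa125301c8845) (nat_lit
  18657) (nat_lit 0x9298210c44d4) (.node (.node (.node .nil (nat_lit 0xa125301ed080) (nat_lit 8176) (nat_lit
  0x87210c284a51) .nil) (nat_lit 0xa181c8021e26) (nat_lit 43409) (nat_lit 0x9b301024c5a0) .nil) (nat_lit
  0xa181c8046e30) (nat_lit 40689) (nat_lit 0x8254b03da100) (.node (.node .nil (nat_lit 0xa181c8067016)
  (nat_lit 24081) (nat_lit 0xa691101964a0) .nil) (nat_lit 0xa181c8086c07) (nat_lit 12225) (nat_lit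
  0x8bc120343490) .nil))) (nat_lit 0xa181c80a7221) (nat_lit 6768) (nat_lit 0x8c7500320265) (.node (.node
  (.node (.node .nil (nat_lit 0xa181c80c0237) (nat_lit 18097) (nat_lit 0xb66020099590) .nil) (nat_lit
  0xa181c80e1c11) (nat_lit 12336) (nat_lit 0x982125265640) .nil) (nat_lit 0xa181c8103a15) (nat_lit 38640)
  (nat_lit 0x9a4441243324) (.node (.node .nil (nat_lit 0xa181c8122433) (nat_lit 6848) (nat_lit 0x8462453a1520)
  .nil) (nat_lit 0xa181c8145425) (nat_lit 35153) (nat_lit 0x85e0903a1520) .nil)) (nat_lit 0xa181c8164a03)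
  (nat_lit 14993) (nat_lit 0xa125301ed080) (.node (.node (.node .nil (nat_lit 0xa181c8185612) (nat_lit 22865)
  (nat_lit 0x8c75003380b0) .nil) (nat_lit 0xa181c81a4834) (nat_lit 22273) (nat_lit 0xa8b0a0174510) .nil)
  (nat_lit 0xa181c81c3822) (nat_lit 8529) (nat_lit 0xb1d4000e21b0) (.node .nil (nat_lit 0xa181c81e2604)
  (nat_lit 8001) (nat_lit 0x9511a02ae410) .nil)))) (nat_lit 0xa209a4017451) (nat_lit 25041) (nat_lit
  0x9458502082ae) (.node (.node (.node (.node (.node .nil (nat_lit 0xa209a401964a) (nat_lit 20160) (nat_lit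
  0xa0c8381e2604) .nil) (nat_lit 0xa209a40d241a) (nat_lit 7680) (nat_lit 0x8e421830ac24) .nil) (nat_lit
  0xa209a40dc601) (nat_lit 22625) (nat_lit 0xde0900017451) (.node (.node .nil (nat_lit 0xa209a4140659)
  (nat_lit 26897) (nat_lit 0xc94c10163141) .nil) (nat_lit 0xa209a414e442) (nat_lit 44017) (nat_lit
  0xc62450195901) .nil)) (nat_lit 0xa209a4185612) (nat_lit 11825) (nat_lit 0x8c75002082ae) (.node (.node
  (.node .nil (nat_lit 0xa209a418b409) (nat_lit 25584) (nat_lit 0x8a2c2834c214) .nil) (nat_lit 0xa2209a051a61)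
  (nat_lit 33776) (nat_lit 0x88d01506226a) .nil) (nat_lit 0xa2209a05d144) (nat_lit 10512) (nat_lit
  0x84805e0a7221) (.node .nil (nat_lit 0xa2209a0d0d24) (nat_lit 44241) (nat_lit 0xf083200160ce) .nil)))
  (nat_lit 0xa2209a0dc601) (nat_lit 20576) (nat_lit 0x8212530ce02c) (.node (.node (.node (.node .nil (nat_lit
  0xa2209a114e44) (nat_lit 43105) (nat_lit 0xb20e100160ce) .nil) (nat_lit 0xa2209a118561) (nat_lit 33072)
  (nat_lit 0x8462450a903a) .nil) (nat_lit 0xa2209a195901) (nat_lit 15105) (nat_lit 0xca96000160ce) (.node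
  (.node .nil (nat_lit 0xa2209a199224) (nat_lit 41920) (nat_lit 0x82f0480c0237) .nil) (nat_lit 0xa234050149f0)
  (nat_lit 25009) (nat_lit 0x9458500305aa) .nil)) (nat_lit 0xa2340504cac8) (nat_lit 27153) (nat_lit
  0xe072100305aa) (.node (.node (.node .nil (nat_lit 0xa23405058338) (nat_lit 21008) (nat_lit 0xc805e010d80e)
  .nil) (nat_lit 0xa234050803da) (nat_lit 30656) (nat_lit 0xc805e006920d) .nil) (nat_lit 0xa23405094a2a)
  (nat_lit 7504) (nat_lit 0xc805e013021e) (.node .nil (nat_lit 0xa234050cc912) (nat_lit 40736) (nat_lit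
  0xc805e003da10) .nil)))))) (nat_lit 0xa234050d80e2) (nat_lit 29649) (nat_lit 0xf048050305aa) (.node (.node
  (.node (.node (.node (.node (.node .nil (nat_lit 0xa23405108a72) (nat_lit 30065) (nat_lit 0xd802540305aa)
  .nil) (nat_lit 0xa2340511c382) (nat_lit 17985) (nat_lit 0xb0a0510305aa) .nil) (nat_lit 0xa234051440ba)
  (nat_lit 17408) (nat_lit 0xc805e000e21b) (.node (.node .nil (nat_lit 0xa2340515094a) (nat_lit 753) (nat_lit
  0xac28140305aa) .nil) (nat_lit 0xa234051889a8) (nat_lit 24577) (nat_lit 0xa09a440305aa) .nil)) (nat_lit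
  0xa2340519c058) (nat_lit 41280) (nat_lit 0xc805e016a818) (.node (.node (.node .nil (nat_lit 0xa234051c4360)
  (nat_lit 22176) (nat_lit 0xc805e0067016) .nil) (nat_lit 0xa234051d0a90) (nat_lit 24768) (nat_lit
  0xc805e013e005) .nil) (nat_lit 0xa28462011b8c) (nat_lit 33393) (nat_lit 0x9b301020498b) (.node (.node .nil
  (nat_lit 0xa28462045391) (nat_lit 29809) (nat_lit 0xc190701e2604) .nil) (nat_lit 0xa28462096314) (nat_lit
  5009) (nat_lit 0xcd2220129454) .nil))) (nat_lit 0xa284620c2b09) (nat_lit 34848) (nat_lit 0x978240086c07)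
  (.node (.node (.node (.node .nil (nat_lit 0xa28462112199) (nat_lit 18433) (nat_lit 0x9c843020498b) .nil)
  (nat_lit 0xa28462146984) (nat_lit 44577) (nat_lit 0xc62450199224) .nil) (nat_lit 0xa28462195901) (nat_lit
  23825) (nat_lit 0xca9600152074) (.node (.node .nil (nat_lit 0xa284621c111c) (nat_lit 1729) (nat_lit
  0x90366020498b) .nil) (nat_lit 0xa2c281041572) (nat_lit 21185) (nat_lit 0xc190700e088e) .nil)) (nat_lit
  0xa2c281043c4c) (nat_lit 3041) (nat_lit 0xe072100e088e) (.node (.node (.node .nil (nat_lit 0xa2c2810d0d24)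
  (nat_lit 28288) (nat_lit 0xb20e1000b067) .nil) (nat_lit 0xa2c2810d241a) (nat_lit 19600) (nat_lit
  0x82125330ac24) .nil) (nat_lit 0xa2c28115094a) (nat_lit 7808) (nat_lit 0x903660228817) (.node .nil (nat_lit
  0xa2c281152074) (nat_lit 38033) (nat_lit 0x80c7500e088e) .nil)))) (nat_lit 0xa2c2811c111c) (nat_lit 36096)
  (nat_lit 0x922846209631) (.node (.node (.node (.node (.node .nil (nat_lit 0xa2c2811c3822) (nat_lit 20689)
  (nat_lit 0xb1d4000e088e) .nil) (nat_lit 0xa31228008dc6) (nat_lit 2881) (nat_lit 0x9b301000cb25) .nil)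
  (nat_lit 0xa312280428d3) (nat_lit 45169) (nat_lit 0x881b3013e005) (.node (.node .nil (nat_lit
  0xa3122804a515) (nat_lit 18785) (nat_lit 0x88d015132b20) .nil) (nat_lit 0xa31228086c07) (nat_lit 21904)
  (nat_lit 0xc0d98013021e) .nil)) (nat_lit 0xa3122808e1c1) (nat_lit 13568) (nat_lit 0xc0d9800d241a) (.node
  (.node (.node .nil (nat_lit 0xa312280c44d4) (nat_lit 16256) (nat_lit 0xc0d980152074) .nil) (nat_lit
  0xa312280cc912) (nat_lit 4832) (nat_lit 0xc0d9800b0670) .nil) (nat_lit 0xa31228104157) (nat_lit 18688)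
  (nat_lit 0xc0d98001262d) (.node .nil (nat_lit 0xa3122810cc91) (nat_lit 36625) (nat_lit 0x9142310ab904)
  .nil))) (nat_lit 0xa31228146984) (nat_lit 6144) (nat_lit 0xc0d980070447) (.node (.node (.node (.node .nil
  (nat_lit 0xa3122814e442) (nat_lit 16992) (nat_lit 0xc0d980192243) .nil) (nat_lit 0xa31228182d50) (nat_lit
  45921) (nat_lit 0x81b3011a4834) .nil) (nat_lit 0xa3122818a096) (nat_lit 13281) (nat_lit 0x8178241a8311)
  (.node (.node .nil (nat_lit 0xa312281c0583) (nat_lit 3440) (nat_lit 0xc0d980140659) .nil) (nat_lit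
  0xa312281c8845) (nat_lit 29232) (nat_lit 0xc0d9800a205d) .nil)) (nat_lit 0xa34054003da1) (nat_lit 24496)
  (nat_lit 0x891423226a0c) (.node (.node (.node .nil (nat_lit 0xa3405404b18a) (nat_lit 353) (nat_lit
  0xa69110114e44) .nil) (nat_lit 0xa3405408a722) (nat_lit 19216) (nat_lit 0x8b0a0520742a) .nil) (nat_lit
  0xa340540c2b09) (nat_lit 32976) (nat_lit 0xa31228086c07) (.node .nil (nat_lit 0xa34054102e8a) (nat_lit 65)
  (nat_lit 0xb20e1005d144) .nil))))) (nat_lit 0xa3405414a2a1) (nat_lit 34560) (nat_lit 0xa02a230b540c) (.node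
  (.node (.node (.node (.node (.node .nil (nat_lit 0xa3405418b409) (nat_lit 34305) (nat_lit 0x831d4034c214)
  .nil) (nat_lit 0xa340541c3822) (nat_lit 13776) (nat_lit 0xa23405094a2a) .nil) (nat_lit 0xa402f001ed08)
  (nat_lit 27536) (nat_lit 0xaa2340048c2b) (.node (.node .nil (nat_lit 0xa402f002d503) (nat_lit 10608)
  (nat_lit 0xac012a02ae41) .nil) (nat_lit 0xa402f003380b) (nat_lit 6512) (nat_lit 0xa88d0106226a) .nil))
  (nat_lit 0xa402f0086c07) (nat_lit 39201) (nat_lit 0x8bc12034200f) (.node (.node (.node .nil (nat_lit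
  0xa402f009810f) (nat_lit 4545) (nat_lit 0xc24a60099590) .nil) (nat_lit 0xa402f00ab904) (nat_lit 27312)
  (nat_lit 0x80254b2e8a20) .nil) (nat_lit 0xa402f00b540c) (nat_lit 31024) (nat_lit 0x84a9602a060b) (.node
  (.node .nil (nat_lit 0xa402f010d80e) (nat_lit 1409) (nat_lit 0xc3039008dc60) .nil) (nat_lit 0xa402f0113506)
  (nat_lit 38577) (nat_lit 0x8a88d034200f) .nil))) (nat_lit 0xa402f0120d0d) (nat_lit 23936) (nat_lit
  0xa4a6080a0963) (.node (.node (.node (.node .nil (nat_lit 0xa402f013e005) (nat_lit 37745) (nat_lit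
  0x80c75034200f) .nil) (nat_lit 0xa402f018b409) (nat_lit 35792) (nat_lit 0x8a2c28248343) .nil) (nat_lit
  0xa402f0195901) (nat_lit 31632) (nat_lit 0x8ea003200f68) (.node (.node .nil (nat_lit 0xa402f01a610a)
  (nat_lit 23216) (nat_lit 0x888269262d02) .nil) (nat_lit 0xa402f01b8c02) (nat_lit 4849) (nat_lit
  0xc0d9800b0670) .nil)) (nat_lit 0xa44413011b8c) (nat_lit 34833) (nat_lit 0xa118911a610a) (.node (.node
  (.node .nil (nat_lit 0xa444130293e0) (nat_lit 11296) (nat_lit 0x81511a02ae41) .nil) (nat_lit 0xa4441303886c)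
  (nat_lit 36928) (nat_lit 0x836602009959) .nil) (nat_lit 0xa44413082ae4) (nat_lit 3761) (nat_lit
  0xa580251a610a) (.node .nil (nat_lit 0xa44413093168) (nat_lit 33456) (nat_lit 0x80bc12034349) .nil))))
  (nat_lit 0xa444130ab904) (nat_lit 9968) (nat_lit 0x80254b03da10) (.node (.node (.node (.node (.node .nil
  (nat_lit 0xa444130ba288) (nat_lit 25088) (nat_lit 0x82125301ed08) .nil) (nat_lit 0xa4441310a34c) (nat_lit
  6208) (nat_lit 0x81b301024c5a) .nil) (nat_lit 0xa4441311b8c0) (nat_lit 34225) (nat_lit 0xa402f01a610a)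
  (.node (.node .nil (nat_lit 0xa444131230ac) (nat_lit 35296) (nat_lit 0x831d4000e21b) .nil) (nat_lit
  0xa44413132b20) (nat_lit 44897) (nat_lit 0x800c751a610a) .nil)) (nat_lit 0xa444131889a8) (nat_lit 13857)
  (nat_lit 0xa09a441a610a) (.node (.node (.node .nil (nat_lit 0xa44413199224) (nat_lit 29169) (nat_lit
  0xe41c200182d5) .nil) (nat_lit 0xa444131a1a48) (nat_lit 6976) (nat_lit 0x82691101964a) .nil) (nat_lit
  0xa444131b01c4) (nat_lit 46048) (nat_lit 0x805e0903a152) (.node .nil (nat_lit 0xa4508c02ae41) (nat_lit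
  17456) (nat_lit 0xc508c4084539) .nil))) (nat_lit 0xa4508c03a152) (nat_lit 13360) (nat_lit 0xc508c40a7221)
  (.node (.node (.node (.node .nil (nat_lit 0xa4508c08a722) (nat_lit 39536) (nat_lit 0xc508c41a8311) .nil)
  (nat_lit 0xa4508c09a831) (nat_lit 38480) (nat_lit 0xc508c418b409) .nil) (nat_lit 0xa4508c108a72) (nat_lit
  25505) (nat_lit 0xc3039018046e) (.node (.node .nil (nat_lit 0xa4508c118561) (nat_lit 31793) (nat_lit
  0x85e09018046e) .nil) (nat_lit 0xa4508c1a8311) (nat_lit 35632) (nat_lit 0xc508c41a610a) .nil)) (nat_lit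
  0xa4508c1b8c02) (nat_lit 19185) (nat_lit 0xc0d98018046e) (.node (.node (.node .nil (nat_lit 0xa4a6080149f0)
  (nat_lit 30880) (nat_lit 0xaa2340159013) .nil) (nat_lit 0xa4a6080258c5) (nat_lit 22881) (nat_lit
  0xe072100a84a5) .nil) (nat_lit 0xa4a608031135) (nat_lit 23041) (nat_lit 0x88d01515094a) (.node .nil (nat_lit
  0xa4a6080851a6) (nat_lit 10593) (nat_lit 0xa8462415094a) .nil)))))))
def tt2880_9 : T := (.node (.node (.node (.node (.node (.node (.node (.node .nil (nat_lit 0xa4a6080a0963)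
  (nat_lit 14305) (nat_lit 0xa2c28115094a) .nil) (nat_lit 0xa4a6080b4093) (nat_lit 6433) (nat_lit
  0xca608415094a) .nil) (nat_lit 0xa4a608104157) (nat_lit 39809) (nat_lit 0xe084940a7221) (.node (.node .nil
  (nat_lit 0xa4a6081108a7) (nat_lit 6801) (nat_lit 0x88269115094a) .nil) (nat_lit 0xa4a608121992) (nat_lit
  27425) (nat_lit 0xea003100f684) .nil)) (nat_lit 0xa4a608135062) (nat_lit 41025) (nat_lit 0x82a23415094a)
  (.node (.node (.node .nil (nat_lit 0xa4a6081810f1) (nat_lit 1505) (nat_lit 0xa2340515094a) .nil) (nat_lit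
  0xa4a608195901) (nat_lit 31313) (nat_lit 0xca960015094a) .nil) (nat_lit 0xa4a6081a4834) (nat_lit 25200)
  (nat_lit 0xa98212163141) (.node (.node .nil (nat_lit 0xa4a6081b01c4) (nat_lit 35664) (nat_lit
  0xbc120103a152) .nil) (nat_lit 0xa53042020ab9) (nat_lit 8144) (nat_lit 0xe0849406226a) .nil))) (nat_lit
  0xa5304202c19c) (nat_lit 39792) (nat_lit 0xe084940a7221) (.node (.node (.node (.node .nil (nat_lit
  0xa53042084539) (nat_lit 4625) (nat_lit 0xaa23400498b4) .nil) (nat_lit 0xa53042088e1c) (nat_lit 1601)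
  (nat_lit 0x84a9602a1294) .nil) (nat_lit 0xa530421007b4) (nat_lit 26977) (nat_lit 0x8a88d0243324) (.node
  (.node .nil (nat_lit 0xa5304210cc91) (nat_lit 28432) (nat_lit 0xe08494007b42) .nil) (nat_lit 0xa530421a4834)
  (nat_lit 35825) (nat_lit 0xa8b0a0060b54) .nil)) (nat_lit 0xa530421a8311) (nat_lit 17296) (nat_lit
  0xe08494051a61) (.node (.node (.node .nil (nat_lit 0xa54b0000149f) (nat_lit 12512) (nat_lit 0xb90860023718)
  .nil) (nat_lit 0xa54b0000a4f8) (nat_lit 3472) (nat_lit 0xaa2340111c38) .nil) (nat_lit 0xa54b0000b067)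
  (nat_lit 28368) (nat_lit 0xa81458132b20) (.node .nil (nat_lit 0xa54b000a205d) (nat_lit 33441) (nat_lit
  0x8320e1205d14) .nil)))) (nat_lit 0xa54b000a34c2) (nat_lit 21200) (nat_lit 0xa125301a1a48) (.node (.node
  (.node (.node (.node .nil (nat_lit 0xa54b000a84a5) (nat_lit 33616) (nat_lit 0xb20e10093168) .nil) (nat_lit
  0xa54b000a903a) (nat_lit 18288) (nat_lit 0xb039080b0670) .nil) (nat_lit 0xa54b00122433) (nat_lit 39521)
  (nat_lit 0x800c75237180) (.node (.node .nil (nat_lit 0xa54b001230ac) (nat_lit 41777) (nat_lit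
  0x8269112114e4) .nil) (nat_lit 0xa54b001280cb) (nat_lit 8208) (nat_lit 0x9036602b0918) .nil)) (nat_lit
  0xa54b00129454) (nat_lit 35489) (nat_lit 0xa34054003da1) (.node (.node (.node .nil (nat_lit 0xa54b0018046e)
  (nat_lit 39376) (nat_lit 0x990708223870) .nil) (nat_lit 0xa54b001810f1) (nat_lit 24704) (nat_lit
  0x9b3010200f68) .nil) (nat_lit 0xa54b0018a096) (nat_lit 11376) (nat_lit 0x881b30332448) (.node .nil (nat_lit
  0xa54b0018b409) (nat_lit 42432) (nat_lit 0x8a2c28311350) .nil))) (nat_lit 0xa58025007b42) (nat_lit 1153)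
  (nat_lit 0x8031d40dc601) (.node (.node (.node (.node .nil (nat_lit 0xa58025023718) (nat_lit 22144) (nat_lit
  0x904d22272211) .nil) (nat_lit 0xa58025024c5a) (nat_lit 3009) (nat_lit 0x85161408e1c1) .nil) (nat_lit
  0xa580250803da) (nat_lit 10768) (nat_lit 0x860721316812) (.node (.node .nil (nat_lit 0xa58025087898)
  (nat_lit 23505) (nat_lit 0x89a444045391) .nil) (nat_lit 0xa580250a34c2) (nat_lit 35056) (nat_lit
  0xa12530164a03) .nil)) (nat_lit 0xa580250a4f80) (nat_lit 19697) (nat_lit 0x8c8384017451) (.node (.node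
  (.node .nil (nat_lit 0xa58025102e8a) (nat_lit 20080) (nat_lit 0x942312234c21) .nil) (nat_lit 0xa580251055c8)
  (nat_lit 10385) (nat_lit 0x85e090081745) .nil) (nat_lit 0xa58025121992) (nat_lit 28512) (nat_lit
  0xb30103046e30) (.node .nil (nat_lit 0xa580251262d0) (nat_lit 42032) (nat_lit 0xa02a23174510) .nil)))))
  (nat_lit 0xa58025182d50) (nat_lit 37233) (nat_lit 0x81b3010c44d4) (.node (.node (.node (.node (.node (.node
  .nil (nat_lit 0xa58025185612) (nat_lit 7281) (nat_lit 0x8c75000182d5) .nil) (nat_lit 0xa580251a1a48)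
  (nat_lit 36817) (nat_lit 0x8494c1096314) .nil) (nat_lit 0xa580251a610a) (nat_lit 1905) (nat_lit
  0x8952c004a515) (.node (.node .nil (nat_lit 0xa6084900f684) (nat_lit 38945) (nat_lit 0xe072100d0d24) .nil)
  (nat_lit 0xa608490132b2) (nat_lit 35648) (nat_lit 0xb1d40006226a) .nil)) (nat_lit 0xa6084908a722) (nat_lit
  15041) (nat_lit 0xa54b001280cb) (.node (.node (.node .nil (nat_lit 0xa60849096314) (nat_lit 11265) (nat_lit
  0xcd22201280cb) .nil) (nat_lit 0xa608491007b4) (nat_lit 45488) (nat_lit 0xa4a608135062) .nil) (nat_lit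
  0xa6084911c382) (nat_lit 13120) (nat_lit 0x90366027c00a) (.node (.node .nil (nat_lit 0xa60849185612)
  (nat_lit 40401) (nat_lit 0x8c75001280cb) .nil) (nat_lit 0xa60849199224) (nat_lit 44880) (nat_lit
  0x82f048350622) .nil))) (nat_lit 0xa691100046e3) (nat_lit 9249) (nat_lit 0xc19070102e8a) (.node (.node
  (.node (.node .nil (nat_lit 0xa6911001262d) (nat_lit 30736) (nat_lit 0xd0018e08dc60) .nil) (nat_lit
  0xa691100160ce) (nat_lit 31873) (nat_lit 0xa69110102e8a) .nil) (nat_lit 0xa69110082ae4) (nat_lit 30929)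
  (nat_lit 0xa58025102e8a) (.node (.node .nil (nat_lit 0xa69110086c07) (nat_lit 9297) (nat_lit 0x8bc120102e8a)
  .nil) (nat_lit 0xa69110090cc9) (nat_lit 14001) (nat_lit 0xc28145102e8a) .nil)) (nat_lit 0xa69110094a2a)
  (nat_lit 42240) (nat_lit 0xd0018e0b0670) (.node (.node (.node .nil (nat_lit 0xa69110102e8a) (nat_lit 20960)
  (nat_lit 0xd0018e0cb250) .nil) (nat_lit 0xa69110106869) (nat_lit 641) (nat_lit 0xc44134102e8a) .nil)
  (nat_lit 0xa691101108a7) (nat_lit 43152) (nat_lit 0xd0018e046e30) (.node .nil (nat_lit 0xa69110114e44)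
  (nat_lit 161) (nat_lit 0xa34054102e8a) .nil)))) (nat_lit 0xa6911018046e) (nat_lit 32560) (nat_lit
  0xd0018e0dc601) (.node (.node (.node (.node (.node .nil (nat_lit 0xa6911018428d) (nat_lit 44465) (nat_lit
  0x8e1064102e8a) .nil) (nat_lit 0xa69110192243) (nat_lit 45233) (nat_lit 0xc75001102e8a) .nil) (nat_lit
  0xa691101964a0) (nat_lit 14416) (nat_lit 0xd0018e07b420) (.node (.node .nil (nat_lit 0xa8145800cb25)
  (nat_lit 27329) (nat_lit 0x80254b2e8a20) .nil) (nat_lit 0xa81458022387) (nat_lit 42545) (nat_lit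
  0x80254b0742a4) .nil)) (nat_lit 0xa8145802e8a2) (nat_lit 848) (nat_lit 0xd028b00ac246) (.node (.node (.node
  .nil (nat_lit 0xa81458056123) (nat_lit 45824) (nat_lit 0xd028b0034349) .nil) (nat_lit 0xa8145805aa06)
  (nat_lit 9888) (nat_lit 0xd028b00f1302) .nil) (nat_lit 0xa814580742a4) (nat_lit 9985) (nat_lit
  0x80254b03da10) (.node .nil (nat_lit 0xa81458078981) (nat_lit 5424) (nat_lit 0xd028b009810f) .nil)))
  (nat_lit 0xa814581108a7) (nat_lit 26672) (nat_lit 0xd028b004470e) (.node (.node (.node (.node .nil (nat_lit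
  0xa8145811c382) (nat_lit 8080) (nat_lit 0xd028b0081745) .nil) (nat_lit 0xa81458132b20) (nat_lit 17841)
  (nat_lit 0x80254b1a4834) .nil) (nat_lit 0xa8145813e005) (nat_lit 18577) (nat_lit 0x80254b34c214) (.node
  (.node .nil (nat_lit 0xa81458146984) (nat_lit 46017) (nat_lit 0x80254b199224) .nil) (nat_lit 0xa8145814a2a1)
  (nat_lit 26929) (nat_lit 0x80254b371804) .nil)) (nat_lit 0xa81458164a03) (nat_lit 25712) (nat_lit
  0xd028b001964a) (.node (.node (.node .nil (nat_lit 0xa81458168126) (nat_lit 43569) (nat_lit 0x80254b305aa0)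
  .nil) (nat_lit 0xa84624009959) (nat_lit 10625) (nat_lit 0xac012a02ae41) .nil) (nat_lit 0xa8462403a152)
  (nat_lit 5792) (nat_lit 0x8b0a0530851a) (.node .nil (nat_lit 0xa8462404b18a) (nat_lit 22833) (nat_lit
  0xac012a114e44) .nil)))))) (nat_lit 0xa84624078981) (nat_lit 31760) (nat_lit 0xb20e1009810f) (.node (.node
  (.node (.node (.node (.node (.node .nil (nat_lit 0xa84624112199) (nat_lit 43857) (nat_lit 0xac012a10cc91)
  .nil) (nat_lit 0xa84624121992) (nat_lit 11921) (nat_lit 0xac012a00f684) .nil) (nat_lit 0xa8462415094a)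
  (nat_lit 5649) (nat_lit 0xac012a032c94) (.node (.node .nil (nat_lit 0xa84624163141) (nat_lit 44624) (nat_lit
  0x8a0516318a09) .nil) (nat_lit 0xa88d0100527c) (nat_lit 45137) (nat_lit 0x828b0a2c2461) .nil)) (nat_lit
  0xa88d010132b2) (nat_lit 41344) (nat_lit 0xb1d400060b54) (.node (.node (.node .nil (nat_lit 0xa88d0106226a)
  (nat_lit 3393) (nat_lit 0x828b0a3540c1) .nil) (nat_lit 0xa88d010742a4) (nat_lit 48) (nat_lit 0xb20e1005d144)
  .nil) (nat_lit 0xa88d011230ac) (nat_lit 34288) (nat_lit 0x831d4034c214) (.node (.node .nil (nat_lit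
  0xa88d01135062) (nat_lit 336) (nat_lit 0xa69110114e44) .nil) (nat_lit 0xa88d011440ba) (nat_lit 37376)
  (nat_lit 0x80c750371804) .nil))) (nat_lit 0xa88d01152074) (nat_lit 34785) (nat_lit 0x828b0a0c44d4) (.node
  (.node (.node (.node .nil (nat_lit 0xa8b0a0010f13) (nat_lit 34320) (nat_lit 0xc13488060b54) .nil) (nat_lit
  0xa8b0a0024c5a) (nat_lit 22336) (nat_lit 0xc134880ac246) .nil) (nat_lit 0xa8b0a0034349) (nat_lit 43728)
  (nat_lit 0xc134880cc912) (.node (.node .nil (nat_lit 0xa8b0a004470e) (nat_lit 12657) (nat_lit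
  0xa10c0e1c4360) .nil) (nat_lit 0xa8b0a005481d) (nat_lit 12033) (nat_lit 0xa10c0e045391) .nil)) (nat_lit
  0xa8b0a0060b54) (nat_lit 24849) (nat_lit 0xa10c0e14a2a1) (.node (.node (.node .nil (nat_lit 0xa8b0a0070447)
  (nat_lit 33969) (nat_lit 0xa10c0e0cb250) .nil) (nat_lit 0xa8b0a0104157) (nat_lit 35025) (nat_lit
  0xa10c0e0a7221) .nil) (nat_lit 0xa8b0a0114e44) (nat_lit 37937) (nat_lit 0xa10c0e1262d0) (.node .nil (nat_lit
  0xa8b0a0120d0d) (nat_lit 33329) (nat_lit 0xa10c0e0293e0) .nil)))) (nat_lit 0xa8b0a013021e) (nat_lit 8048)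
  (nat_lit 0xc134880c0237) (.node (.node (.node (.node (.node .nil (nat_lit 0xa8b0a0140659) (nat_lit 14848)
  (nat_lit 0xc134881a4834) .nil) (nat_lit 0xa8b0a015094a) (nat_lit 34081) (nat_lit 0xa10c0e0e21b0) .nil)
  (nat_lit 0xa8b0a0164a03) (nat_lit 38096) (nat_lit 0xc13488108a72) (.node (.node .nil (nat_lit
  0xa8b0a0174510) (nat_lit 13088) (nat_lit 0xc13488168126) .nil) (nat_lit 0xa96009041572) (nat_lit 5296)
  (nat_lit 0xb01036034349) .nil)) (nat_lit 0xa960090498b4) (nat_lit 36641) (nat_lit 0xcb004a045391) (.node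
  (.node (.node .nil (nat_lit 0xa96009060b54) (nat_lit 6065) (nat_lit 0xcb004a14a2a1) .nil) (nat_lit
  0xa96009068692) (nat_lit 31888) (nat_lit 0x82125331412c) .nil) (nat_lit 0xa960091007b4) (nat_lit 30544)
  (nat_lit 0xa0031d135062) (.node .nil (nat_lit 0xa96009108a72) (nat_lit 1104) (nat_lit 0x810366325019)
  .nil))) (nat_lit 0xa96009121992) (nat_lit 14369) (nat_lit 0xcb004a00f684) (.node (.node (.node (.node .nil
  (nat_lit 0xa96009129454) (nat_lit 42273) (nat_lit 0xcb004a003da1) .nil) (nat_lit 0xa98212003da1) (nat_lit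
  33297) (nat_lit 0xc4680a1810f1) .nil) (nat_lit 0xa98212026564) (nat_lit 6176) (nat_lit 0x8b0a05041572)
  (.node (.node .nil (nat_lit 0xa98212043c4c) (nat_lit 7313) (nat_lit 0xc4680a118561) .nil) (nat_lit
  0xa98212066489) (nat_lit 44321) (nat_lit 0xc4680a1b01c4) .nil)) (nat_lit 0xa98212106869) (nat_lit 32737)
  (nat_lit 0xc4680a1007b4) (.node (.node (.node .nil (nat_lit 0xa982121230ac) (nat_lit 9856) (nat_lit
  0x831d400c0237) .nil) (nat_lit 0xa98212146984) (nat_lit 2080) (nat_lit 0x881b30070447) .nil) (nat_lit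
  0xa98212163141) (nat_lit 15280) (nat_lit 0x8a0516051a61) (.node .nil (nat_lit 0xaa234000149f) (nat_lit
  37168) (nat_lit 0xb9086006920d) .nil))))) (nat_lit 0xaa234001c436) (nat_lit 41424) (nat_lit 0x8b0a05349068)
  (.node (.node (.node (.node (.node (.node .nil (nat_lit 0xaa234001d0a9) (nat_lit 23761) (nat_lit
  0x85028b10f130) .nil) (nat_lit 0xaa2340048c2b) (nat_lit 17168) (nat_lit 0x97824028182d) .nil) (nat_lit
  0xaa23400498b4) (nat_lit 2384) (nat_lit 0x91104d2e8a20) (.node (.node .nil (nat_lit 0xaa234005481d) (nat_lit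
  39568) (nat_lit 0xa312281c8845) .nil) (nat_lit 0xaa2340055c82) (nat_lit 10849) (nat_lit 0x85028b223870)
  .nil)) (nat_lit 0xaa234010cc91) (nat_lit 34592) (nat_lit 0xa09a441f0029) (.node (.node (.node .nil (nat_lit
  0xaa234010d80e) (nat_lit 26561) (nat_lit 0x85028b08dc60) .nil) (nat_lit 0xaa23401108a7) (nat_lit 18609)
  (nat_lit 0x85028b182d50) .nil) (nat_lit 0xaa2340111c38) (nat_lit 1761) (nat_lit 0x85028b1a4834) (.node
  (.node .nil (nat_lit 0xaa23401440ba) (nat_lit 16561) (nat_lit 0x85028b387044) .nil) (nat_lit 0xaa2340145425)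
  (nat_lit 35728) (nat_lit 0x8e1064318a09) .nil))) (nat_lit 0xaa234015848c) (nat_lit 9377) (nat_lit
  0x85028b2ae410) (.node (.node (.node (.node .nil (nat_lit 0xaa2340159013) (nat_lit 20049) (nat_lit
  0x85028b288174) .nil) (nat_lit 0xaa58021007b4) (nat_lit 2480) (nat_lit 0xe42181088e1c) .nil) (nat_lit
  0xaa580210a34c) (nat_lit 19232) (nat_lit 0xe42181024c5a) (.node (.node .nil (nat_lit 0xaa5802112199)
  (nat_lit 32992) (nat_lit 0xe4218100527c) .nil) (nat_lit 0xaa5802118561) (nat_lit 26593) (nat_lit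
  0x88c48a152074) .nil)) (nat_lit 0xaa5802140659) (nat_lit 10224) (nat_lit 0xe4218101964a) (.node (.node
  (.node .nil (nat_lit 0xaa580214a2a1) (nat_lit 13792) (nat_lit 0xe421810b540c) .nil) (nat_lit 0xaa5802152074)
  (nat_lit 17200) (nat_lit 0xe42181094a2a) .nil) (nat_lit 0xaa580215848c) (nat_lit 37904) (nat_lit
  0xe4218103886c) (.node .nil (nat_lit 0xac012a00f684) (nat_lit 6385) (nat_lit 0xb0424a0d0d24) .nil))))
  (nat_lit 0xac012a017451) (nat_lit 40881) (nat_lit 0xb0424a0498b4) (.node (.node (.node (.node (.node .nil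
  (nat_lit 0xac012a02ae41) (nat_lit 5664) (nat_lit 0x978240084539) .nil) (nat_lit 0xac012a032c94) (nat_lit
  2913) (nat_lit 0xb0424a0e1c11) .nil) (nat_lit 0xac012a10cc91) (nat_lit 36417) (nat_lit 0xb0424a0ab904)
  (.node (.node .nil (nat_lit 0xac012a114e44) (nat_lit 13472) (nat_lit 0x99070806c071) .nil) (nat_lit
  0xac012a129454) (nat_lit 42656) (nat_lit 0x9201780dc601) .nil)) (nat_lit 0xac012a131681) (nat_lit 38496)
  (nat_lit 0x8bc120140659) (.node (.node (.node .nil (nat_lit 0xac281401964a) (nat_lit 38048) (nat_lit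
  0xa0c8380f1302) .nil) (nat_lit 0xac281401d0a9) (nat_lit 24433) (nat_lit 0x91a02a045391) .nil) (nat_lit
  0xac28140305aa) (nat_lit 368) (nat_lit 0x8e4218219922) (.node .nil (nat_lit 0xac2814034349) (nat_lit 9136)
  (nat_lit 0xa312280cc912) .nil))) (nat_lit 0xac2814118561) (nat_lit 13681) (nat_lit 0x91a02a0c44d4) (.node
  (.node (.node (.node .nil (nat_lit 0xac281411c382) (nat_lit 11665) (nat_lit 0x91a02a2205d1) .nil) (nat_lit
  0xac2814131681) (nat_lit 26480) (nat_lit 0x8bc120241a1a) .nil) (nat_lit 0xac2814135062) (nat_lit 41857)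
  (nat_lit 0x91a02a060b54) (.node (.node .nil (nat_lit 0xaf048000293e) (nat_lit 18800) (nat_lit
  0x8e4218301c43) .nil) (nat_lit 0xaf048000527c) (nat_lit 38704) (nat_lit 0x9458502a060b) .nil)) (nat_lit
  0xaf0480007b42) (nat_lit 12928) (nat_lit 0xa444131a1a48) (.node (.node (.node .nil (nat_lit 0xaf0480009959)
  (nat_lit 12465) (nat_lit 0xd0018e02ae41) .nil) (nat_lit 0xaf048000b067) (nat_lit 20977) (nat_lit
  0xd0018e0cb250) .nil) (nat_lit 0xaf048000cb25) (nat_lit 23600) (nat_lit 0xb20e100c504b) (.node .nil (nat_lit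
  0xaf048000e21b) (nat_lit 44752) (nat_lit 0x8212533c4c08) .nil)))))))
def tt2880_10 : T := (.node (.node (.node (.node (.node (.node (.node (.node .nil (nat_lit 0xaf0480103a15)
  (nat_lit 14433) (nat_lit 0xd0018e07b420) .nil) (nat_lit 0xaf0480104157) (nat_lit 34192) (nat_lit
  0x805e093e0052) .nil) (nat_lit 0xaf0480106869) (nat_lit 2896) (nat_lit 0xb0424a0e1c11) (.node (.node .nil
  (nat_lit 0xaf0480108a72) (nat_lit 37648) (nat_lit 0x8c0e42325019) .nil) (nat_lit 0xaf048010a34c) (nat_lit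
  17504) (nat_lit 0xbc1201024c5a) .nil)) (nat_lit 0xaf048010d80e) (nat_lit 30753) (nat_lit 0xd0018e08dc60)
  (.node (.node (.node .nil (nat_lit 0xaf048010f130) (nat_lit 24913) (nat_lit 0xd0018e06c071) .nil) (nat_lit
  0xb004a9007b42) (nat_lit 11584) (nat_lit 0xa4441310a34c) .nil) (nat_lit 0xb004a903a152) (nat_lit 38912)
  (nat_lit 0x84624530851a) (.node (.node .nil (nat_lit 0xb004a905d144) (nat_lit 27121) (nat_lit
  0x85e09022114e) .nil) (nat_lit 0xb004a9060b54) (nat_lit 34641) (nat_lit 0xc94c1014a2a1) .nil))) (nat_lit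
  0xb004a9096314) (nat_lit 14944) (nat_lit 0xa0031d14e442) (.node (.node (.node (.node .nil (nat_lit
  0xb004a90ab904) (nat_lit 18560) (nat_lit 0x80254b34c214) .nil) (nat_lit 0xb004a90cc912) (nat_lit 22481)
  (nat_lit 0x98ea0022114e) .nil) (nat_lit 0xb004a90f1302) (nat_lit 45025) (nat_lit 0xd4468009a831) (.node
  (.node .nil (nat_lit 0xb0103601ed08) (nat_lit 13185) (nat_lit 0x96009520742a) .nil) (nat_lit 0xb0103602ae41)
  (nat_lit 34689) (nat_lit 0xd80254078981) .nil)) (nat_lit 0xb01036034349) (nat_lit 2736) (nat_lit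
  0xf210c001262d) (.node (.node (.node .nil (nat_lit 0xb0103604cac8) (nat_lit 23169) (nat_lit 0xc303901c8845)
  .nil) (nat_lit 0xb010360527c0) (nat_lit 31040) (nat_lit 0xf210c001c436) .nil) (nat_lit 0xb01036066489)
  (nat_lit 8305) (nat_lit 0xc48a111b01c4) (.node .nil (nat_lit 0xb01036078981) (nat_lit 3105) (nat_lit
  0x8d015120742a) .nil)))) (nat_lit 0xb0103608e1c1) (nat_lit 1616) (nat_lit 0xf210c000cb25) (.node (.node
  (.node (.node (.node .nil (nat_lit 0xb01036090cc9) (nat_lit 38145) (nat_lit 0xc281451d0a90) .nil) (nat_lit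
  0xb010360a4f80) (nat_lit 41328) (nat_lit 0xf210c0056123) .nil) (nat_lit 0xb010360ba288) (nat_lit 39553)
  (nat_lit 0xc508c41a8311) (.node (.node .nil (nat_lit 0xb010360c2b09) (nat_lit 15441) (nat_lit
  0x97824020742a) .nil) (nat_lit 0xb010360dc601) (nat_lit 31360) (nat_lit 0xf210c0010f13) .nil)) (nat_lit
  0xb010360e8548) (nat_lit 37728) (nat_lit 0xf210c000293e) (.node (.node (.node .nil (nat_lit 0xb010360f6840)
  (nat_lit 14608) (nat_lit 0xf210c004a515) .nil) (nat_lit 0xb039080046e3) (nat_lit 25729) (nat_lit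
  0xd028b001964a) .nil) (nat_lit 0xb039080182d5) (nat_lit 21648) (nat_lit 0xc20c8319c058) (.node .nil (nat_lit
  0xb0390801c436) (nat_lit 28241) (nat_lit 0x96009501964a) .nil))) (nat_lit 0xb03908068692) (nat_lit 22544)
  (nat_lit 0xc20c830cb250) (.node (.node (.node (.node .nil (nat_lit 0xb0390806c071) (nat_lit 22065) (nat_lit
  0xc4413401964a) .nil) (nat_lit 0xb03908070447) (nat_lit 7568) (nat_lit 0xc20c83157208) .nil) (nat_lit
  0xb039080742a4) (nat_lit 5056) (nat_lit 0xc20c8305d144) (.node (.node .nil (nat_lit 0xb039080a84a5) (nat_lit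
  5696) (nat_lit 0xc20c83093168) .nil) (nat_lit 0xb039080ac246) (nat_lit 15456) (nat_lit 0xc20c83199224)
  .nil)) (nat_lit 0xb039080b0670) (nat_lit 10241) (nat_lit 0xe4218101964a) (.node (.node (.node .nil (nat_lit
  0xb039080b4093) (nat_lit 22529) (nat_lit 0xca608401964a) .nil) (nat_lit 0xb039080c0237) (nat_lit 45280)
  (nat_lit 0xc20c83058338) .nil) (nat_lit 0xb039080c44d4) (nat_lit 33585) (nat_lit 0x98212501964a) (.node .nil
  (nat_lit 0xb039080d80e2) (nat_lit 16432) (nat_lit 0xc20c831c4360) .nil))))) (nat_lit 0xb039080dc601)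
  (nat_lit 19040) (nat_lit 0xc20c830ce02c) (.node (.node (.node (.node (.node (.node .nil (nat_lit
  0xb0424a003da1) (nat_lit 42464) (nat_lit 0x89142310a34c) .nil) (nat_lit 0xb0424a032c94) (nat_lit 23617)
  (nat_lit 0xb20e100c504b) .nil) (nat_lit 0xb0424a0498b4) (nat_lit 30720) (nat_lit 0x91104d08a722) (.node
  (.node .nil (nat_lit 0xb0424a078981) (nat_lit 26528) (nat_lit 0x90366009810f) .nil) (nat_lit 0xb0424a09a831)
  (nat_lit 41744) (nat_lit 0x81036618b409) .nil)) (nat_lit 0xb0424a0ab904) (nat_lit 25569) (nat_lit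
  0x818ea00c504b) (.node (.node (.node .nil (nat_lit 0xb0424a0d0d24) (nat_lit 3312) (nat_lit 0x99070800b067)
  .nil) (nat_lit 0xb0424a0e1c11) (nat_lit 1473) (nat_lit 0x92a5800c504b) .nil) (nat_lit 0xb0a051011b8c)
  (nat_lit 39840) (nat_lit 0x81c843243324) (.node (.node .nil (nat_lit 0xb0a0510305aa) (nat_lit 10032)
  (nat_lit 0x846245219922) .nil) (nat_lit 0xb0a051055c82) (nat_lit 2272) (nat_lit 0xa58025007b42) .nil)))
  (nat_lit 0xb0a0510742a4) (nat_lit 36289) (nat_lit 0x80c75003380b) (.node (.node (.node (.node .nil (nat_lit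
  0xb0a051094a2a) (nat_lit 1377) (nat_lit 0xecc04003380b) .nil) (nat_lit 0xb0a0510b540c) (nat_lit 14576)
  (nat_lit 0x84a960215207) .nil) (nat_lit 0xb0a0510d0d24) (nat_lit 38816) (nat_lit 0xa54b0000b067) (.node
  (.node .nil (nat_lit 0xb0a0510f1302) (nat_lit 257) (nat_lit 0xd4468003380b) .nil) (nat_lit 0xb12284009959)
  (nat_lit 10064) (nat_lit 0x98081b243324) .nil)) (nat_lit 0xb12284024c5a) (nat_lit 22689) (nat_lit
  0xb20e1008e1c1) (.node (.node (.node .nil (nat_lit 0xb12284041572) (nat_lit 25424) (nat_lit 0xb010360c2b09)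
  .nil) (nat_lit 0xb1228406c071) (nat_lit 2304) (nat_lit 0xa02a231c111c) .nil) (nat_lit 0xb12284084539)
  (nat_lit 41648) (nat_lit 0xa0031d1c3822) (.node .nil (nat_lit 0xb122840a903a) (nat_lit 23361) (nat_lit
  0xa06cc01a8311) .nil)))) (nat_lit 0xb122840cc912) (nat_lit 32113) (nat_lit 0x98ea002205d1) (.node (.node
  (.node (.node (.node .nil (nat_lit 0xb122840e1c11) (nat_lit 35569) (nat_lit 0x92a580284a51) .nil) (nat_lit
  0xb1d40000293e) (nat_lit 18465) (nat_lit 0x96009521e260) .nil) (nat_lit 0xb1d400020ab9) (nat_lit 32624)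
  (nat_lit 0xc680a8195901) (.node (.node .nil (nat_lit 0xb1d400022387) (nat_lit 43777) (nat_lit
  0xb0a0510742a4) .nil) (nat_lit 0xb1d4000401ed) (nat_lit 38529) (nat_lit 0x85e090320265) .nil)) (nat_lit
  0xb1d4000428d3) (nat_lit 31440) (nat_lit 0xc680a8007b42) (.node (.node (.node .nil (nat_lit 0xb1d400060b54)
  (nat_lit 31376) (nat_lit 0xc680a8104157) .nil) (nat_lit 0xb1d40006226a) (nat_lit 24657) (nat_lit
  0x82a2343540c1) .nil) (nat_lit 0xb1d4000803da) (nat_lit 2640) (nat_lit 0xc680a8081745) (.node .nil (nat_lit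
  0xb1d400082ae4) (nat_lit 43440) (nat_lit 0xc680a8017451) .nil))) (nat_lit 0xb1d4000a0963) (nat_lit 44657)
  (nat_lit 0xa2c281152074) (.node (.node (.node (.node .nil (nat_lit 0xb1d4000a205d) (nat_lit 12816) (nat_lit
  0xc680a8182d50) .nil) (nat_lit 0xb1d4000c0237) (nat_lit 15616) (nat_lit 0xc680a8010f13) .nil) (nat_lit
  0xb1d4000c2b09) (nat_lit 3681) (nat_lit 0x9782402060b5) (.node (.node .nil (nat_lit 0xb1d4000e088e) (nat_lit
  11936) (nat_lit 0xc680a8185612) .nil) (nat_lit 0xb1d4000e21b0) (nat_lit 4481) (nat_lit 0xb1228406c071)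
  .nil)) (nat_lit 0xb20e1000b067) (nat_lit 17776) (nat_lit 0xa8145805aa06) (.node (.node (.node .nil (nat_lit
  0xb20e100160ce) (nat_lit 34704) (nat_lit 0x88320e258c50) .nil) (nat_lit 0xb20e1001d0a9) (nat_lit 28753)
  (nat_lit 0x91423104b18a) .nil) (nat_lit 0xb20e100401ed) (nat_lit 1040) (nat_lit 0xa4a608091856) (.node .nil
  (nat_lit 0xb20e1004b18a) (nat_lit 33952) (nat_lit 0xa10c0e0cb250) .nil)))))) (nat_lit 0xb20e10056123)
  (nat_lit 15537) (nat_lit 0x800c7504b18a) (.node (.node (.node (.node (.node (.node (.node .nil (nat_lit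
  0xb20e1005d144) (nat_lit 16) (nat_lit 0x84805e293e00) .nil) (nat_lit 0xb20e100851a6) (nat_lit 3152) (nat_lit
  0xa53042088e1c) .nil) (nat_lit 0xb20e1008e1c1) (nat_lit 13344) (nat_lit 0xa09a440d241a) (.node (.node .nil
  (nat_lit 0xb20e10093168) (nat_lit 22640) (nat_lit 0x80bc122d024c) .nil) (nat_lit 0xb20e1009810f) (nat_lit
  20817) (nat_lit 0xc24a6004b18a) .nil)) (nat_lit 0xb20e100c504b) (nat_lit 14065) (nat_lit 0x9a444104b18a)
  (.node (.node (.node .nil (nat_lit 0xb20e100ce02c) (nat_lit 13440) (nat_lit 0xa98212043c4c) .nil) (nat_lit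
  0xb20e100d3085) (nat_lit 28144) (nat_lit 0x89a444241a1a) .nil) (nat_lit 0xb20e100d80e2) (nat_lit 45793)
  (nat_lit 0xf0480504b18a) (.node (.node .nil (nat_lit 0xb3010300527c) (nat_lit 24881) (nat_lit
  0x9189142c2461) .nil) (nat_lit 0xb3010300a4f8) (nat_lit 29280) (nat_lit 0x846245111c38) .nil))) (nat_lit
  0xb3010300f684) (nat_lit 40144) (nat_lit 0x854468103a15) (.node (.node (.node (.node .nil (nat_lit
  0xb30103043c4c) (nat_lit 23121) (nat_lit 0xac2814118561) .nil) (nat_lit 0xb30103046e30) (nat_lit 17936)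
  (nat_lit 0x812a58145425) .nil) (nat_lit 0xb301030498b4) (nat_lit 30224) (nat_lit 0x91104d046e30) (.node
  (.node .nil (nat_lit 0xb3010304cac8) (nat_lit 29313) (nat_lit 0xa125301c8845) .nil) (nat_lit 0xb30103082ae4)
  (nat_lit 29664) (nat_lit 0x940a2c017451) .nil)) (nat_lit 0xb30103087898) (nat_lit 12112) (nat_lit
  0x952c0100527c) (.node (.node (.node .nil (nat_lit 0xb30103088e1c) (nat_lit 6897) (nat_lit 0x84a960390415)
  .nil) (nat_lit 0xb3010308dc60) (nat_lit 34976) (nat_lit 0x843039114e44) .nil) (nat_lit 0xb301030c16a8)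
  (nat_lit 32353) (nat_lit 0xb4054409a831) (.node .nil (nat_lit 0xb301030c44d4) (nat_lit 37121) (nat_lit
  0x982125258c50) .nil)))) (nat_lit 0xb301030cb250) (nat_lit 27489) (nat_lit 0x952c01288174) (.node (.node
  (.node (.node (.node .nil (nat_lit 0xb301030ce02c) (nat_lit 3280) (nat_lit 0x914231043c4c) .nil) (nat_lit
  0xb405440132b2) (nat_lit 7024) (nat_lit 0xb1d4000c2b09) .nil) (nat_lit 0xb4054401d0a9) (nat_lit 44049)
  (nat_lit 0x85e09010132b) (.node (.node .nil (nat_lit 0xb40544020ab9) (nat_lit 2465) (nat_lit 0xc94c1010132b)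
  .nil) (nat_lit 0xb4054402e8a2) (nat_lit 4928) (nat_lit 0x98ea00251509) .nil)) (nat_lit 0xb40544094a2a)
  (nat_lit 12400) (nat_lit 0x99070824f801) (.node (.node (.node .nil (nat_lit 0xb4054409a831) (nat_lit 21297)
  (nat_lit 0xe3a8000c44d4) .nil) (nat_lit 0xb405440a7221) (nat_lit 18368) (nat_lit 0x8c7500318a09) .nil)
  (nat_lit 0xb405440a903a) (nat_lit 10209) (nat_lit 0xa06cc010132b) (.node .nil (nat_lit 0xb4888200527c)
  (nat_lit 22400) (nat_lit 0x94585008a722) .nil))) (nat_lit 0xb48882017451) (nat_lit 2785) (nat_lit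
  0xa402f010d80e) (.node (.node (.node (.node .nil (nat_lit 0xb48882026564) (nat_lit 25072) (nat_lit
  0x98ea00041572) .nil) (nat_lit 0xb48882034349) (nat_lit 9328) (nat_lit 0x9036600cc912) .nil) (nat_lit
  0xb48882084539) (nat_lit 13024) (nat_lit 0x80c7501c3822) (.node (.node .nil (nat_lit 0xb48882096314)
  (nat_lit 609) (nat_lit 0xcd222010d80e) .nil) (nat_lit 0xb488820a7221) (nat_lit 21360) (nat_lit
  0x8c7500108a72) .nil)) (nat_lit 0xb488820b540c) (nat_lit 21025) (nat_lit 0xc805e010d80e) (.node (.node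
  (.node .nil (nat_lit 0xb6602000149f) (nat_lit 41616) (nat_lit 0xb9086000e21b) .nil) (nat_lit 0xb66020008dc6)
  (nat_lit 26993) (nat_lit 0xc6245000cb25) .nil) (nat_lit 0xb66020009959) (nat_lit 25857) (nat_lit
  0xc4413402ae41) (.node .nil (nat_lit 0xb66020010f13) (nat_lit 9104) (nat_lit 0x812a5838c023) .nil)))))
  (nat_lit 0xb66020011b8c) (nat_lit 18480) (nat_lit 0x81c843382238) (.node (.node (.node (.node (.node (.node
  .nil (nat_lit 0xb660200182d5) (nat_lit 18913) (nat_lit 0x80c75039108a) .nil) (nat_lit 0xb6602001964a)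
  (nat_lit 44609) (nat_lit 0x82a23439108a) .nil) (nat_lit 0xb660200803da) (nat_lit 32321) (nat_lit
  0x84624539108a) (.node (.node .nil (nat_lit 0xb66020081745) (nat_lit 45392) (nat_lit 0x886072318a09) .nil)
  (nat_lit 0xb66020088e1c) (nat_lit 42128) (nat_lit 0xa98212106869) .nil)) (nat_lit 0xb66020089a83) (nat_lit
  2176) (nat_lit 0xa96009108a72) (.node (.node (.node .nil (nat_lit 0xb66020090cc9) (nat_lit 21809) (nat_lit
  0xc28145046e30) .nil) (nat_lit 0xb66020091856) (nat_lit 2704) (nat_lit 0xb0a051094a2a) .nil) (nat_lit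
  0xb6602009810f) (nat_lit 8576) (nat_lit 0x91423128a84a) (.node (.node .nil (nat_lit 0xb66020099590) (nat_lit
  10097) (nat_lit 0xc02f0406c071) .nil) (nat_lit 0xb8419000b067) (nat_lit 37824) (nat_lit 0xa8145800cb25)
  .nil))) (nat_lit 0xb8419001262d) (nat_lit 12160) (nat_lit 0xa0031d08dc60) (.node (.node (.node (.node .nil
  (nat_lit 0xb8419001964a) (nat_lit 34016) (nat_lit 0xa0c838081745) .nil) (nat_lit 0xb84190021e26) (nat_lit
  29744) (nat_lit 0xa05161088e1c) .nil) (nat_lit 0xb8419002ae41) (nat_lit 16033) (nat_lit 0x88320e078981)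
  (.node (.node .nil (nat_lit 0xb8419003380b) (nat_lit 43297) (nat_lit 0x88320e340931) .nil) (nat_lit
  0xb8419003886c) (nat_lit 18864) (nat_lit 0xa84624009959) .nil)) (nat_lit 0xb84190043c4c) (nat_lit 12960)
  (nat_lit 0x800c7528d308) (.node (.node (.node .nil (nat_lit 0xb84190048c2b) (nat_lit 17552) (nat_lit
  0x80c75028182d) .nil) (nat_lit 0xb84190051a61) (nat_lit 25873) (nat_lit 0x88320e0149f0) .nil) (nat_lit
  0xb8419005aa06) (nat_lit 5969) (nat_lit 0x88320e2205d1) (.node .nil (nat_lit 0xb8419006226a) (nat_lit 14401)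
  (nat_lit 0x88320e3540c1) .nil)))) (nat_lit 0xb8419006920d) (nat_lit 34240) (nat_lit 0x88494c209631) (.node
  (.node (.node (.node (.node .nil (nat_lit 0xb84190070447) (nat_lit 34721) (nat_lit 0x88320e258c50) .nil)
  (nat_lit 0xb8419007b420) (nat_lit 41504) (nat_lit 0x80952c284a51) .nil) (nat_lit 0xb9086000149f) (nat_lit
  11776) (nat_lit 0xb9086004470e) (.node (.node .nil (nat_lit 0xb9086000e21b) (nat_lit 31808) (nat_lit
  0x8103663c4c08) .nil) (nat_lit 0xb9086000f684) (nat_lit 22992) (nat_lit 0x854468380b06) .nil)) (nat_lit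
  0xb90860022387) (nat_lit 9281) (nat_lit 0xe0900b0742a4) (.node (.node (.node .nil (nat_lit 0xb90860023718)
  (nat_lit 6736) (nat_lit 0x904d222d024c) .nil) (nat_lit 0xb9086002c19c) (nat_lit 10576) (nat_lit
  0xa8462415094a) .nil) (nat_lit 0xb9086002d503) (nat_lit 22816) (nat_lit 0xac012a114e44) (.node .nil (nat_lit
  0xb9086004470e) (nat_lit 6320) (nat_lit 0x990708244866) .nil))) (nat_lit 0xb90860045391) (nat_lit 9569)
  (nat_lit 0xe0900b0149f0) (.node (.node (.node (.node .nil (nat_lit 0xb9086004a515) (nat_lit 36177) (nat_lit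
  0xe0900b0c44d4) .nil) (nat_lit 0xb9086004b18a) (nat_lit 12209) (nat_lit 0xe0900b0e21b0) .nil) (nat_lit
  0xb90860066489) (nat_lit 6368) (nat_lit 0xb0424a0d0d24) (.node (.node .nil (nat_lit 0xb90860067016) (nat_lit
  21344) (nat_lit 0xb40544094a2a) .nil) (nat_lit 0xb90860068692) (nat_lit 193) (nat_lit 0xe0900b0b0670) .nil))
  (nat_lit 0xb9086006920d) (nat_lit 26465) (nat_lit 0xe0900b096314) (.node (.node (.node .nil (nat_lit
  0xba800c003da1) (nat_lit 17488) (nat_lit 0x89142334c214) .nil) (nat_lit 0xba800c007b42) (nat_lit 30305)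
  (nat_lit 0x8018ea0dc601) .nil) (nat_lit 0xba800c0132b2) (nat_lit 25281) (nat_lit 0x8018ea1a8311) (.node .nil
  (nat_lit 0xba800c017451) (nat_lit 42096) (nat_lit 0x9c8430215207) .nil)))))))
def tt2880_11 : T := (.node (.node (.node (.node (.node (.node (.node (.node .nil (nat_lit 0xba800c045391)
  (nat_lit 4161) (nat_lit 0x8018ea1e2604) .nil) (nat_lit 0xba800c051a61) (nat_lit 11712) (nat_lit
  0x88d015350622) .nil) (nat_lit 0xba800c055c82) (nat_lit 13392) (nat_lit 0xa58025185612) (.node (.node .nil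
  (nat_lit 0xbc1201024c5a) (nat_lit 9697) (nat_lit 0x96140a08e1c1) .nil) (nat_lit 0xbc1201026564) (nat_lit
  38769) (nat_lit 0x96140a2903a1) .nil)) (nat_lit 0xbc120102c19c) (nat_lit 6416) (nat_lit 0xca608415094a)
  (.node (.node (.node .nil (nat_lit 0xbc120102e8a2) (nat_lit 14209) (nat_lit 0x96140a29c884) .nil) (nat_lit
  0xbc12010305aa) (nat_lit 40960) (nat_lit 0xca6084140659) .nil) (nat_lit 0xbc1201032c94) (nat_lit 40129)
  (nat_lit 0x96140a284a51) (.node (.node .nil (nat_lit 0xbc120103886c) (nat_lit 41057) (nat_lit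
  0x96140a096314) .nil) (nat_lit 0xbc120103a152) (nat_lit 24673) (nat_lit 0x96140a288174) .nil))) (nat_lit
  0xc0063a05d144) (nat_lit 21617) (nat_lit 0x839086246158) (.node (.node (.node (.node .nil (nat_lit
  0xc0063a078981) (nat_lit 39137) (nat_lit 0x891423246158) .nil) (nat_lit 0xc0063a08e1c1) (nat_lit 28624)
  (nat_lit 0xc281450d241a) .nil) (nat_lit 0xc0063a0ab904) (nat_lit 13153) (nat_lit 0x818ea0246158) (.node
  (.node .nil (nat_lit 0xc0063a146984) (nat_lit 15473) (nat_lit 0xc20c83199224) .nil) (nat_lit 0xc0063a163141)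
  (nat_lit 449) (nat_lit 0xc88826131681) .nil)) (nat_lit 0xc0063a195901) (nat_lit 7056) (nat_lit
  0x8ea003305aa0) (.node (.node (.node .nil (nat_lit 0xc0063a1b01c4) (nat_lit 8416) (nat_lit 0xcc040d03a152)
  .nil) (nat_lit 0xc012a501ed08) (nat_lit 7536) (nat_lit 0x8952c0048c2b) .nil) (nat_lit 0xc012a5024c5a)
  (nat_lit 23872) (nat_lit 0x8952c0340931) (.node .nil (nat_lit 0xc012a503a152) (nat_lit 18496) (nat_lit
  0x8952c030851a) .nil)))) (nat_lit 0xc012a50cc912) (nat_lit 44193) (nat_lit 0x98ea0026043c) (.node (.node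
  (.node (.node (.node .nil (nat_lit 0xc012a50d241a) (nat_lit 9809) (nat_lit 0xd16140089a83) .nil) (nat_lit
  0xc012a50e8548) (nat_lit 9504) (nat_lit 0x8952c000293e) .nil) (nat_lit 0xc012a50f6840) (nat_lit 1888)
  (nat_lit 0x8952c004a515) (.node (.node .nil (nat_lit 0xc012a514e442) (nat_lit 44960) (nat_lit
  0x8952c026043c) .nil) (nat_lit 0xc012a515094a) (nat_lit 42561) (nat_lit 0x89298226043c) .nil)) (nat_lit
  0xc012a516a818) (nat_lit 28816) (nat_lit 0x8952c0120d0d) (.node (.node (.node .nil (nat_lit 0xc012a5174510)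
  (nat_lit 15408) (nat_lit 0x8952c0168126) .nil) (nat_lit 0xc012a5182d50) (nat_lit 16097) (nat_lit
  0x81b30126043c) .nil) (nat_lit 0xc012a519c058) (nat_lit 26640) (nat_lit 0x8952c016a818) (.node .nil (nat_lit
  0xc012a51a610a) (nat_lit 44977) (nat_lit 0x8952c026043c) .nil))) (nat_lit 0xc012a51b8c02) (nat_lit 17009)
  (nat_lit 0xc0d980192243) (.node (.node (.node (.node .nil (nat_lit 0xc02f0401d0a9) (nat_lit 44160) (nat_lit
  0x8d98080046e3) .nil) (nat_lit 0xc02f0406c071) (nat_lit 5377) (nat_lit 0xc05446058338) .nil) (nat_lit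
  0xc02f040a903a) (nat_lit 35121) (nat_lit 0xa06cc0058338) (.node (.node .nil (nat_lit 0xc02f040d80e2)
  (nat_lit 36769) (nat_lit 0xf04805058338) .nil) (nat_lit 0xc02f04135062) (nat_lit 1185) (nat_lit
  0x922846058338) .nil)) (nat_lit 0xc02f041440ba) (nat_lit 23552) (nat_lit 0xc8a1180046e3) (.node (.node
  (.node .nil (nat_lit 0xc02f041810f1) (nat_lit 31937) (nat_lit 0xa23405058338) .nil) (nat_lit 0xc02f041f0029)
  (nat_lit 16048) (nat_lit 0xf500180046e3) .nil) (nat_lit 0xc040d908a722) (nat_lit 38128) (nat_lit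
  0xc281451d0a90) (.node .nil (nat_lit 0xc040d90ab904) (nat_lit 39233) (nat_lit 0x818ea00a205d) .nil)))))
  (nat_lit 0xc040d90d0d24) (nat_lit 14016) (nat_lit 0xe2450800b067) (.node (.node (.node (.node (.node (.node
  .nil (nat_lit 0xc040d90f1302) (nat_lit 16849) (nat_lit 0xd446800a205d) .nil) (nat_lit 0xc040d9199224)
  (nat_lit 31104) (nat_lit 0x82f0481d0a90) .nil) (nat_lit 0xc040d91b8c02) (nat_lit 12480) (nat_lit
  0xc054461d0a90) (.node (.node .nil (nat_lit 0xc040d91c3822) (nat_lit 21937) (nat_lit 0xb1d4000a205d) .nil)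
  (nat_lit 0xc040d91e2604) (nat_lit 15777) (nat_lit 0x9511a00a205d) .nil)) (nat_lit 0xc05446020ab9) (nat_lit
  39617) (nat_lit 0xd11a02084539) (.node (.node (.node .nil (nat_lit 0xc05446058338) (nat_lit 2768) (nat_lit
  0xa402f010d80e) .nil) (nat_lit 0xc05446078981) (nat_lit 8640) (nat_lit 0xa402f009810f) .nil) (nat_lit
  0xc0544609a831) (nat_lit 34273) (nat_lit 0xe3a800084539) (.node (.node .nil (nat_lit 0xc054460ba288)
  (nat_lit 17473) (nat_lit 0xc508c4084539) .nil) (nat_lit 0xc054460c2b09) (nat_lit 5681) (nat_lit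
  0x978240084539) .nil))) (nat_lit 0xc054460e21b0) (nat_lit 44816) (nat_lit 0xa402f0113506) (.node (.node
  (.node (.node .nil (nat_lit 0xc05446112199) (nat_lit 9168) (nat_lit 0xa402f01b8c02) .nil) (nat_lit
  0xc05446132b20) (nat_lit 18832) (nat_lit 0xa402f002d503) .nil) (nat_lit 0xc0544614a2a1) (nat_lit 41120)
  (nat_lit 0xa402f00b540c) (.node (.node .nil (nat_lit 0xc0544616a818) (nat_lit 34896) (nat_lit
  0xa402f0120d0d) .nil) (nat_lit 0xc054461889a8) (nat_lit 12144) (nat_lit 0xa402f003380b) .nil)) (nat_lit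
  0xc054461a8311) (nat_lit 27377) (nat_lit 0x863a80084539) (.node (.node (.node .nil (nat_lit 0xc054461d0a90)
  (nat_lit 6721) (nat_lit 0xd4b004084539) .nil) (nat_lit 0xc054461f0029) (nat_lit 37808) (nat_lit
  0xa402f00ab904) .nil) (nat_lit 0xc0a2c2084539) (nat_lit 45105) (nat_lit 0xaa234005481d) (.node .nil (nat_lit
  0xc0a2c20b540c) (nat_lit 31217) (nat_lit 0xc805e005481d) .nil)))) (nat_lit 0xc0a2c20d0d24) (nat_lit 11840)
  (nat_lit 0xde090000b067) (.node (.node (.node (.node (.node .nil (nat_lit 0xc0a2c20e1c11) (nat_lit 37697)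
  (nat_lit 0x92a58005481d) .nil) (nat_lit 0xc0a2c2195901) (nat_lit 41232) (nat_lit 0x8ea003214698) .nil)
  (nat_lit 0xc0a2c21a4834) (nat_lit 20833) (nat_lit 0xa8b0a005481d) (.node (.node .nil (nat_lit
  0xc0a2c21c111c) (nat_lit 11152) (nat_lit 0x922846214698) .nil) (nat_lit 0xc0a2c21f0029) (nat_lit 32545)
  (nat_lit 0xf210c005481d) .nil)) (nat_lit 0xc0d98001262d) (nat_lit 10497) (nat_lit 0x907083088e1c) (.node
  (.node (.node .nil (nat_lit 0xc0d98006226a) (nat_lit 44353) (nat_lit 0xc23122088e1c) .nil) (nat_lit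
  0xc0d980070447) (nat_lit 3169) (nat_lit 0xa53042088e1c) .nil) (nat_lit 0xc0d9800a205d) (nat_lit 18592)
  (nat_lit 0x85028b182d50) (.node .nil (nat_lit 0xc0d9800b0670) (nat_lit 2497) (nat_lit 0xe42181088e1c)
  .nil))) (nat_lit 0xc0d9800c0237) (nat_lit 16544) (nat_lit 0x85028b387044) (.node (.node (.node (.node .nil
  (nat_lit 0xc0d9800d241a) (nat_lit 7392) (nat_lit 0x85028b30ac24) .nil) (nat_lit 0xc0d980122433) (nat_lit
  43905) (nat_lit 0xd40063088e1c) .nil) (nat_lit 0xc0d98013021e) (nat_lit 12801) (nat_lit 0xb30103088e1c)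
  (.node (.node .nil (nat_lit 0xc0d980140659) (nat_lit 1744) (nat_lit 0x85028b1a4834) .nil) (nat_lit
  0xc0d980152074) (nat_lit 8913) (nat_lit 0x8641c2088e1c) .nil)) (nat_lit 0xc0d98018046e) (nat_lit 10832)
  (nat_lit 0x85028b223870) (.node (.node (.node .nil (nat_lit 0xc0d980192243) (nat_lit 9360) (nat_lit
  0x85028b2ae410) .nil) (nat_lit 0xc0d9801e2604) (nat_lit 34513) (nat_lit 0x9511a0088e1c) .nil) (nat_lit
  0xc0d9801f0029) (nat_lit 37088) (nat_lit 0x85028b0ab904) (.node .nil (nat_lit 0xc0e421011b8c) (nat_lit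
  22208) (nat_lit 0x81c8430c16a8) .nil)))))) (nat_lit 0xc0e421060b54) (nat_lit 39424) (nat_lit 0xe3a8000c16a8)
  (.node (.node (.node (.node (.node (.node (.node .nil (nat_lit 0xc0e4210803da) (nat_lit 9056) (nat_lit
  0xc281450c16a8) .nil) (nat_lit 0xc0e4210f1302) (nat_lit 22560) (nat_lit 0xa0e1060c16a8) .nil) (nat_lit
  0xc0e421121992) (nat_lit 31425) (nat_lit 0xd4006300f684) (.node (.node .nil (nat_lit 0xc0e42115094a)
  (nat_lit 16912) (nat_lit 0xd161400c16a8) .nil) (nat_lit 0xc0e4211b01c4) (nat_lit 28896) (nat_lit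
  0xf0480503a152) .nil)) (nat_lit 0xc0e4211c111c) (nat_lit 8225) (nat_lit 0x9036602b0918) (.node (.node (.node
  .nil (nat_lit 0xc1092900f684) (nat_lit 21889) (nat_lit 0x9070830d0d24) .nil) (nat_lit 0xc10929068692)
  (nat_lit 42768) (nat_lit 0xc62450089a83) .nil) (nat_lit 0xc109290a34c2) (nat_lit 19856) (nat_lit
  0xa12530089a83) (.node (.node .nil (nat_lit 0xc109290c44d4) (nat_lit 36032) (nat_lit 0xe24508089a83) .nil)
  (nat_lit 0xc10929129454) (nat_lit 2016) (nat_lit 0x920178089a83) .nil))) (nat_lit 0xc1092914e442) (nat_lit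
  9792) (nat_lit 0xd16140089a83) (.node (.node (.node (.node .nil (nat_lit 0xc10929185612) (nat_lit 4224)
  (nat_lit 0xb66020089a83) .nil) (nat_lit 0xc109291e2604) (nat_lit 7600) (nat_lit 0xf50018026564) .nil)
  (nat_lit 0xc1348800cb25) (nat_lit 25552) (nat_lit 0x818ea00c504b) (.node (.node .nil (nat_lit
  0xc13488060b54) (nat_lit 23281) (nat_lit 0xaa580214a2a1) .nil) (nat_lit 0xc1348806c071) (nat_lit 43809)
  (nat_lit 0x84d2223a2881) .nil)) (nat_lit 0xc134880a0963) (nat_lit 31617) (nat_lit 0xa2c2811c3822) (.node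
  (.node (.node .nil (nat_lit 0xc134880ac246) (nat_lit 13136) (nat_lit 0x818ea0246158) .nil) (nat_lit
  0xc134880c0237) (nat_lit 4241) (nat_lit 0xb66020089a83) .nil) (nat_lit 0xc134880cc912) (nat_lit 36241)
  (nat_lit 0x98ea002610a3) (.node .nil (nat_lit 0xc13488104157) (nat_lit 32433) (nat_lit 0xb488820a7221)
  .nil)))) (nat_lit 0xc13488108a72) (nat_lit 27649) (nat_lit 0x9a02a224f801) (.node (.node (.node (.node
  (.node .nil (nat_lit 0xc13488164a03) (nat_lit 30337) (nat_lit 0xa02a231ed080) .nil) (nat_lit 0xc13488168126)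
  (nat_lit 7073) (nat_lit 0x8ea003305aa0) .nil) (nat_lit 0xc134881a4834) (nat_lit 8112) (nat_lit
  0x818ea0163141) (.node (.node .nil (nat_lit 0xc134881a8311) (nat_lit 37601) (nat_lit 0x863a8038c023) .nil)
  (nat_lit 0xc134881c4360) (nat_lit 23793) (nat_lit 0xbc120102e8a2) .nil)) (nat_lit 0xc134881c8845) (nat_lit
  24449) (nat_lit 0x9298212c6282) (.node (.node (.node .nil (nat_lit 0xc19070022387) (nat_lit 29393) (nat_lit
  0x9891420742a4) .nil) (nat_lit 0xc1907004470e) (nat_lit 43233) (nat_lit 0x8390861c4360) .nil) (nat_lit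
  0xc19070066489) (nat_lit 28832) (nat_lit 0x9092980d0d24) (.node .nil (nat_lit 0xc19070086c07) (nat_lit 1441)
  (nat_lit 0x8bc1201412c6) .nil))) (nat_lit 0xc190700a4f80) (nat_lit 42016) (nat_lit 0x909298056123) (.node
  (.node (.node (.node .nil (nat_lit 0xc190700c2b09) (nat_lit 19201) (nat_lit 0x9782400851a6) .nil) (nat_lit
  0xc190700e088e) (nat_lit 12289) (nat_lit 0x90c0e40f1302) .nil) (nat_lit 0xc19070102e8a) (nat_lit 4881)
  (nat_lit 0x9a02a205d144) (.node (.node .nil (nat_lit 0xc19070120d0d) (nat_lit 11056) (nat_lit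
  0x9092980a0963) .nil) (nat_lit 0xc19070146984) (nat_lit 8337) (nat_lit 0x8641c2199224) .nil)) (nat_lit
  0xc19070164a03) (nat_lit 37761) (nat_lit 0x8103661ed080) (.node (.node (.node .nil (nat_lit 0xc1907018428d)
  (nat_lit 44432) (nat_lit 0x9092980f6840) .nil) (nat_lit 0xc190701a610a) (nat_lit 15425) (nat_lit
  0x8952c0168126) .nil) (nat_lit 0xc190701c0583) (nat_lit 37440) (nat_lit 0x9092982b2026) (.node .nil (nat_lit
  0xc190701e2604) (nat_lit 19072) (nat_lit 0x909298026564) .nil))))) (nat_lit 0xc1c20c003da1) (nat_lit 31232)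
  (nat_lit 0x89142304cac8) (.node (.node (.node (.node (.node (.node .nil (nat_lit 0xc1c20c041572) (nat_lit
  1089) (nat_lit 0x839086306701) .nil) (nat_lit 0xc1c20c0a34c2) (nat_lit 8401) (nat_lit 0x81458532b202) .nil)
  (nat_lit 0xc1c20c0e1c11) (nat_lit 41697) (nat_lit 0x92a580215207) (.node (.node .nil (nat_lit
  0xc1c20c121992) (nat_lit 39648) (nat_lit 0xb3010304cac8) .nil) (nat_lit 0xc1c20c163141) (nat_lit 5281)
  (nat_lit 0xa0e106131681) .nil)) (nat_lit 0xc1c20c1810f1) (nat_lit 28609) (nat_lit 0xa2340511c382) (.node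
  (.node (.node .nil (nat_lit 0xc1c20c1c3822) (nat_lit 37712) (nat_lit 0xa2340504cac8) .nil) (nat_lit
  0xc20c8300527c) (nat_lit 23921) (nat_lit 0xd11a0202c19c) .nil) (nat_lit 0xc20c83058338) (nat_lit 40113)
  (nat_lit 0x89142302c19c) (.node (.node .nil (nat_lit 0xc20c8305d144) (nat_lit 2608) (nat_lit 0x84805e2903a1)
  .nil) (nat_lit 0xc20c83093168) (nat_lit 2945) (nat_lit 0xe1064102c19c) .nil))) (nat_lit 0xc20c83096314)
  (nat_lit 31664) (nat_lit 0xc2181c14e442) (.node (.node (.node (.node .nil (nat_lit 0xc20c830cb250) (nat_lit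
  13249) (nat_lit 0x952c0102c19c) .nil) (nat_lit 0xc20c830ce02c) (nat_lit 10736) (nat_lit 0xd2c012043c4c)
  .nil) (nat_lit 0xc20c8310a34c) (nat_lit 18161) (nat_lit 0xf8240202c19c) (.node (.node .nil (nat_lit
  0xc20c8310f130) (nat_lit 37777) (nat_lit 0xd4006302c19c) .nil) (nat_lit 0xc20c83152074) (nat_lit 28064)
  (nat_lit 0xc4680a129454) .nil)) (nat_lit 0xc20c83157208) (nat_lit 3984) (nat_lit 0x86cc042903a1) (.node
  (.node (.node .nil (nat_lit 0xc20c83199224) (nat_lit 8465) (nat_lit 0xe41c2002c19c) .nil) (nat_lit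
  0xc20c8319c058) (nat_lit 12609) (nat_lit 0xc8384102c19c) .nil) (nat_lit 0xc20c831c111c) (nat_lit 42353)
  (nat_lit 0x90366002c19c) (.node .nil (nat_lit 0xc20c831c4360) (nat_lit 9024) (nat_lit 0xd08c48067016)
  .nil)))) (nat_lit 0xc2181c08a722) (nat_lit 6689) (nat_lit 0xa54b0000a4f8) (.node (.node (.node (.node (.node
  .nil (nat_lit 0xc2181c08e1c1) (nat_lit 20705) (nat_lit 0x8b0a0500a4f8) .nil) (nat_lit 0xc2181c0d80e2)
  (nat_lit 27761) (nat_lit 0xf0480500a4f8) .nil) (nat_lit 0xc2181c0dc601) (nat_lit 34145) (nat_lit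
  0xde090000a4f8) (.node (.node .nil (nat_lit 0xc2181c118561) (nat_lit 31329) (nat_lit 0x9d400600a4f8) .nil)
  (nat_lit 0xc2181c11c382) (nat_lit 39633) (nat_lit 0xb3010300a4f8) .nil)) (nat_lit 0xc2181c14a2a1) (nat_lit
  31009) (nat_lit 0xc8430300a4f8) (.node (.node (.node .nil (nat_lit 0xc2181c14e442) (nat_lit 20752) (nat_lit
  0x900bc126043c) .nil) (nat_lit 0xc23122088e1c) (nat_lit 37360) (nat_lit 0xa01782106869) .nil) (nat_lit
  0xc23122090cc9) (nat_lit 42080) (nat_lit 0xa0178209a831) (.node .nil (nat_lit 0xc231220c44d4) (nat_lit 1808)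
  (nat_lit 0xa01782152074) .nil))) (nat_lit 0xc231220dc601) (nat_lit 11857) (nat_lit 0xde090000b067) (.node
  (.node (.node (.node .nil (nat_lit 0xc2312210cc91) (nat_lit 24720) (nat_lit 0xa017821f0029) .nil) (nat_lit
  0xc23122114e44) (nat_lit 11169) (nat_lit 0x922846214698) .nil) (nat_lit 0xc23122140659) (nat_lit 25745)
  (nat_lit 0xc88826163141) (.node (.node .nil (nat_lit 0xc2312215848c) (nat_lit 14512) (nat_lit
  0xa0178203886c) .nil) (nat_lit 0xc24a6000149f) (nat_lit 17344) (nat_lit 0xb90860045391) .nil)) (nat_lit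
  0xc24a6004a515) (nat_lit 29505) (nat_lit 0xc05446132b20) (.node (.node (.node .nil (nat_lit 0xc24a6004b18a)
  (nat_lit 12016) (nat_lit 0xa10c0e045391) .nil) (nat_lit 0xc24a6009810f) (nat_lit 45265) (nat_lit
  0xc24a60113506) .nil) (nat_lit 0xc24a60099590) (nat_lit 2337) (nat_lit 0xc02f04135062) (.node .nil (nat_lit
  0xc24a600d241a) (nat_lit 36001) (nat_lit 0xd16140021e26) .nil)))))))
def tt2880_12 : T := (.node (.node (.node (.node (.node (.node (.node (.node .nil (nat_lit 0xc24a60112199)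
  (nat_lit 45297) (nat_lit 0x904d222c8099) .nil) (nat_lit 0xc24a60113506) (nat_lit 40080) (nat_lit
  0xa28462045391) .nil) (nat_lit 0xc24a6015848c) (nat_lit 26240) (nat_lit 0xf8240203886c) (.node (.node .nil
  (nat_lit 0xc24a60159013) (nat_lit 7904) (nat_lit 0xba800c045391) .nil) (nat_lit 0xc24a6018a096) (nat_lit
  8960) (nat_lit 0xc88826045391) .nil)) (nat_lit 0xc24a6018b409) (nat_lit 24400) (nat_lit 0x8a2c28045391)
  (.node (.node (.node .nil (nat_lit 0xc24a601c0583) (nat_lit 14544) (nat_lit 0xd08c48045391) .nil) (nat_lit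
  0xc24a601c111c) (nat_lit 7377) (nat_lit 0x9036602c8099) .nil) (nat_lit 0xc281450132b2) (nat_lit 5104)
  (nat_lit 0xb1d4000803da) (.node (.node .nil (nat_lit 0xc28145046e30) (nat_lit 12736) (nat_lit
  0xe3a8000803da) .nil) (nat_lit 0xc28145055c82) (nat_lit 14929) (nat_lit 0xa53042020ab9) .nil))) (nat_lit
  0xc28145087898) (nat_lit 14721) (nat_lit 0x89a444020ab9) (.node (.node (.node (.node .nil (nat_lit
  0xc28145094a2a) (nat_lit 16209) (nat_lit 0xecc040020ab9) .nil) (nat_lit 0xc281450c16a8) (nat_lit 4785)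
  (nat_lit 0xb40544020ab9) .nil) (nat_lit 0xc281450d241a) (nat_lit 18000) (nat_lit 0xc750010803da) (.node
  (.node .nil (nat_lit 0xc28145102e8a) (nat_lit 7632) (nat_lit 0xd4b0040803da) .nil) (nat_lit 0xc28145111c38)
  (nat_lit 11680) (nat_lit 0x9298210803da) .nil)) (nat_lit 0xc281451440ba) (nat_lit 16480) (nat_lit
  0xc0e4210803da) (.node (.node (.node .nil (nat_lit 0xc28145157208) (nat_lit 25152) (nat_lit 0x86cc040803da)
  .nil) (nat_lit 0xc28145185612) (nat_lit 41872) (nat_lit 0xb660200803da) .nil) (nat_lit 0xc281451964a0)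
  (nat_lit 22241) (nat_lit 0xe91104020ab9) (.node .nil (nat_lit 0xc281451c3822) (nat_lit 40800) (nat_lit
  0xa234050803da) .nil)))) (nat_lit 0xc281451d0a90) (nat_lit 27680) (nat_lit 0xe41c200803da) (.node (.node
  (.node (.node (.node .nil (nat_lit 0xc3039000b067) (nat_lit 14784) (nat_lit 0xa8145811c382) .nil) (nat_lit
  0xc30390043c4c) (nat_lit 37249) (nat_lit 0xaa5802118561) .nil) (nat_lit 0xc30390048c2b) (nat_lit 39472)
  (nat_lit 0xc6245011c382) (.node (.node .nil (nat_lit 0xc30390086c07) (nat_lit 43169) (nat_lit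
  0x8bc120301c43) .nil) (nat_lit 0xc3039008dc60) (nat_lit 705) (nat_lit 0xa88d01135062) .nil)) (nat_lit
  0xc303900c504b) (nat_lit 20288) (nat_lit 0xac281411c382) (.node (.node (.node .nil (nat_lit 0xc303900ce02c)
  (nat_lit 33841) (nat_lit 0xb9086002d503) .nil) (nat_lit 0xc30390106869) (nat_lit 30961) (nat_lit
  0x904d222b9041) .nil) (nat_lit 0xc3039010d80e) (nat_lit 22320) (nat_lit 0xa6084911c382) (.node .nil (nat_lit
  0xc30390145425) (nat_lit 3617) (nat_lit 0x81c8433a1520) .nil))) (nat_lit 0xc3039014e442) (nat_lit 34801)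
  (nat_lit 0xa28462195901) (.node (.node (.node (.node .nil (nat_lit 0xc3039018046e) (nat_lit 15505) (nat_lit
  0xa051611b8c02) .nil) (nat_lit 0xc3039018b409) (nat_lit 21776) (nat_lit 0x8a2c2811c382) .nil) (nat_lit
  0xc303901c3822) (nat_lit 28592) (nat_lit 0xa2340511c382) (.node (.node .nil (nat_lit 0xc303901c8845)
  (nat_lit 13713) (nat_lit 0x929821294542) .nil) (nat_lit 0xc4134801c436) (nat_lit 21376) (nat_lit
  0x804a96349068) .nil)) (nat_lit 0xc4134802e8a2) (nat_lit 36609) (nat_lit 0xc23122140659) (.node (.node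
  (.node .nil (nat_lit 0xc41348032c94) (nat_lit 1648) (nat_lit 0x804a96118561) .nil) (nat_lit 0xc41348086c07)
  (nat_lit 6480) (nat_lit 0x804a962c2461) .nil) (nat_lit 0xc4134809a831) (nat_lit 45712) (nat_lit
  0x804a9618b409) (.node .nil (nat_lit 0xc413480a84a5) (nat_lit 37473) (nat_lit 0xa209a4140659) .nil)))))
  (nat_lit 0xc413480b4093) (nat_lit 19408) (nat_lit 0x804a963da100) (.node (.node (.node (.node (.node (.node
  .nil (nat_lit 0xc4134810cc91) (nat_lit 14897) (nat_lit 0xe140a20ab904) .nil) (nat_lit 0xc413481108a7)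
  (nat_lit 17857) (nat_lit 0x892982140659) .nil) (nat_lit 0xc41348122433) (nat_lit 10273) (nat_lit
  0xc88826140659) (.node (.node .nil (nat_lit 0xc4134813e005) (nat_lit 40256) (nat_lit 0x804a960e8548) .nil)
  (nat_lit 0xc4134818a096) (nat_lit 24032) (nat_lit 0x804a96332448) .nil)) (nat_lit 0xc413481964a0) (nat_lit
  1793) (nat_lit 0xe9110402e8a2) (.node (.node (.node .nil (nat_lit 0xc413481a4834) (nat_lit 24689) (nat_lit
  0xa8b0a0140659) .nil) (nat_lit 0xc413481b8c02) (nat_lit 3457) (nat_lit 0xc0d980140659) .nil) (nat_lit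
  0xc4413401964a) (nat_lit 12896) (nat_lit 0xa0c8381412c6) (.node (.node .nil (nat_lit 0xc4413402ae41)
  (nat_lit 15809) (nat_lit 0xc05446078981) .nil) (nat_lit 0xc44134090cc9) (nat_lit 21824) (nat_lit
  0xe2450809a831) .nil))) (nat_lit 0xc441340a34c2) (nat_lit 43328) (nat_lit 0xa125301412c6) (.node (.node
  (.node (.node .nil (nat_lit 0xc44134102e8a) (nat_lit 304) (nat_lit 0xc8a1181412c6) .nil) (nat_lit
  0xc44134131681) (nat_lit 1424) (nat_lit 0x8bc1201412c6) .nil) (nat_lit 0xc4413418b409) (nat_lit 43392)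
  (nat_lit 0x8a2c281412c6) (.node (.node .nil (nat_lit 0xc441341b8c02) (nat_lit 6161) (nat_lit 0xc0d980070447)
  .nil) (nat_lit 0xc4680a1007b4) (nat_lit 21665) (nat_lit 0xc20c8319c058) .nil)) (nat_lit 0xc4680a118561)
  (nat_lit 3841) (nat_lit 0x8424a619c058) (.node (.node (.node .nil (nat_lit 0xc4680a129454) (nat_lit 17601)
  (nat_lit 0xe60206003da1) .nil) (nat_lit 0xc4680a131681) (nat_lit 40977) (nat_lit 0xa02a2319c058) .nil)
  (nat_lit 0xc4680a1810f1) (nat_lit 22288) (nat_lit 0x9b3010240e85) (.node .nil (nat_lit 0xc4680a199224)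
  (nat_lit 30032) (nat_lit 0x82f048240e85) .nil)))) (nat_lit 0xc4680a1a8311) (nat_lit 25408) (nat_lit
  0xc190701a610a) (.node (.node (.node (.node (.node .nil (nat_lit 0xc4680a1b01c4) (nat_lit 37297) (nat_lit
  0xc012a519c058) .nil) (nat_lit 0xc48a11026564) (nat_lit 35264) (nat_lit 0xe3a800041572) .nil) (nat_lit
  0xc48a110305aa) (nat_lit 17537) (nat_lit 0x89142316a818) (.node (.node .nil (nat_lit 0xc48a110a34c2)
  (nat_lit 15937) (nat_lit 0x81458516a818) .nil) (nat_lit 0xc48a110b540c) (nat_lit 41297) (nat_lit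
  0xc805e016a818) .nil)) (nat_lit 0xc48a111230ac) (nat_lit 3793) (nat_lit 0xc8430316a818) (.node (.node (.node
  .nil (nat_lit 0xc48a11135062) (nat_lit 30865) (nat_lit 0x81036616a818) .nil) (nat_lit 0xc48a111a610a)
  (nat_lit 26657) (nat_lit 0x8952c016a818) .nil) (nat_lit 0xc48a111b01c4) (nat_lit 4368) (nat_lit
  0xe41c2003a152) (.node .nil (nat_lit 0xc508c4084539) (nat_lit 9648) (nat_lit 0xe245080182d5) .nil)))
  (nat_lit 0xc508c408a722) (nat_lit 32241) (nat_lit 0xa54b000a34c2) (.node (.node (.node (.node .nil (nat_lit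
  0xc508c40a7221) (nat_lit 7264) (nat_lit 0x8c75000182d5) .nil) (nat_lit 0xc508c40a903a) (nat_lit 27057)
  (nat_lit 0xa06cc00f1302) .nil) (nat_lit 0xc508c4185612) (nat_lit 29600) (nat_lit 0xb660200182d5) (.node
  (.node .nil (nat_lit 0xc508c418b409) (nat_lit 28048) (nat_lit 0x8a2c280182d5) .nil) (nat_lit 0xc508c41a610a)
  (nat_lit 24624) (nat_lit 0xd850280182d5) .nil)) (nat_lit 0xc508c41a8311) (nat_lit 29152) (nat_lit
  0xe41c200182d5) (.node (.node (.node .nil (nat_lit 0xc5850200527c) (nat_lit 25024) (nat_lit 0x9458502082ae)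
  .nil) (nat_lit 0xc58502020ab9) (nat_lit 29729) (nat_lit 0x89142326a0c4) .nil) (nat_lit 0xc58502082ae4)
  (nat_lit 22608) (nat_lit 0xde0900017451) (.node .nil (nat_lit 0xc585020a7221) (nat_lit 11808) (nat_lit
  0x8c75002082ae) .nil)))))) (nat_lit 0xc58502106869) (nat_lit 25664) (nat_lit 0xd161400e1c11) (.node (.node
  (.node (.node (.node (.node (.node .nil (nat_lit 0xc585021230ac) (nat_lit 33040) (nat_lit 0x831d402082ae)
  .nil) (nat_lit 0xc585021810f1) (nat_lit 39985) (nat_lit 0xa234050d80e2) .nil) (nat_lit 0xc585021a4834)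
  (nat_lit 26880) (nat_lit 0xc94c10163141) (.node (.node .nil (nat_lit 0xc6245000cb25) (nat_lit 16689)
  (nat_lit 0xc05446112199) .nil) (nat_lit 0xc62450011b8c) (nat_lit 4496) (nat_lit 0x81c8431007b4) .nil))
  (nat_lit 0xc6245001d0a9) (nat_lit 38544) (nat_lit 0x8d98081007b4) (.node (.node (.node .nil (nat_lit
  0xc624500851a6) (nat_lit 37536) (nat_lit 0xa530421007b4) .nil) (nat_lit 0xc62450089a83) (nat_lit 34049)
  (nat_lit 0x86cc04112199) .nil) (nat_lit 0xc62450094a2a) (nat_lit 25489) (nat_lit 0xecc040021e26) (.node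
  (.node .nil (nat_lit 0xc6245009810f) (nat_lit 45184) (nat_lit 0xc750011007b4) .nil) (nat_lit 0xc6245010132b)
  (nat_lit 4800) (nat_lit 0xaa58021007b4) .nil))) (nat_lit 0xc6245010d80e) (nat_lit 35041) (nat_lit
  0xe6020608dc60) (.node (.node (.node (.node .nil (nat_lit 0xc624501108a7) (nat_lit 12385) (nat_lit
  0x8c0e42112199) .nil) (nat_lit 0xc6245011c382) (nat_lit 29089) (nat_lit 0xa28462112199) .nil) (nat_lit
  0xc6245018428d) (nat_lit 39697) (nat_lit 0x8e1064112199) (.node (.node .nil (nat_lit 0xc624501889a8)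
  (nat_lit 1360) (nat_lit 0xecc04003380b) .nil) (nat_lit 0xc62450195901) (nat_lit 36656) (nat_lit
  0x8ea0031007b4) .nil)) (nat_lit 0xc62450199224) (nat_lit 37857) (nat_lit 0xe41c200ac246) (.node (.node
  (.node .nil (nat_lit 0xc680a8007b42) (nat_lit 20545) (nat_lit 0xc231220dc601) .nil) (nat_lit 0xc680a8010f13)
  (nat_lit 8544) (nat_lit 0xc62450011b8c) .nil) (nat_lit 0xc680a8017451) (nat_lit 35617) (nat_lit
  0x84d2223008dc) (.node .nil (nat_lit 0xc680a8081745) (nat_lit 1345) (nat_lit 0x8607213008dc) .nil))))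
  (nat_lit 0xc680a8086c07) (nat_lit 22912) (nat_lit 0xd2c012011b8c) (.node (.node (.node (.node (.node .nil
  (nat_lit 0xc680a8091856) (nat_lit 33553) (nat_lit 0xc0e4210f1302) .nil) (nat_lit 0xc680a8096314) (nat_lit
  20625) (nat_lit 0xcd222002d503) .nil) (nat_lit 0xc680a8103a15) (nat_lit 43665) (nat_lit 0xc8430307b420)
  (.node (.node .nil (nat_lit 0xc680a8104157) (nat_lit 20481) (nat_lit 0xc585020a7221) .nil) (nat_lit
  0xc680a8113506) (nat_lit 28849) (nat_lit 0x8ea0033008dc) .nil)) (nat_lit 0xc680a8114e44) (nat_lit 38785)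
  (nat_lit 0x8366023008dc) (.node (.node (.node .nil (nat_lit 0xc680a8182d50) (nat_lit 6912) (nat_lit
  0xecc040011b8c) .nil) (nat_lit 0xc680a8185612) (nat_lit 6401) (nat_lit 0x8c75003008dc) .nil) (nat_lit
  0xc680a8192243) (nat_lit 29056) (nat_lit 0xd40063011b8c) (.node .nil (nat_lit 0xc680a8195901) (nat_lit
  21569) (nat_lit 0xca9600056123) .nil))) (nat_lit 0xc750010803da) (nat_lit 10049) (nat_lit 0x846245219922)
  (.node (.node (.node (.node .nil (nat_lit 0xc75001082ae4) (nat_lit 2289) (nat_lit 0xa58025007b42) .nil)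
  (nat_lit 0xc75001088e1c) (nat_lit 14593) (nat_lit 0x84a960215207) .nil) (nat_lit 0xc7500108a722) (nat_lit
  38833) (nat_lit 0xa54b0000b067) (.node (.node .nil (nat_lit 0xc750011007b4) (nat_lit 39857) (nat_lit
  0x81c843243324) .nil) (nat_lit 0xc75001102e8a) (nat_lit 40000) (nat_lit 0x8c8384234c21) .nil)) (nat_lit
  0xc75001108a72) (nat_lit 1873) (nat_lit 0x81036624f801) (.node (.node (.node .nil (nat_lit 0xc7500110a34c)
  (nat_lit 24928) (nat_lit 0x8c8384024c5a) .nil) (nat_lit 0xc805e000e21b) (nat_lit 9616) (nat_lit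
  0xc281450132b2) .nil) (nat_lit 0xc805e003380b) (nat_lit 41665) (nat_lit 0xa0031d1c3822) (.node .nil (nat_lit
  0xc805e003da10) (nat_lit 30561) (nat_lit 0xa0031d135062) .nil))))) (nat_lit 0xc805e005481d) (nat_lit 20320)
  (nat_lit 0xe245080132b2) (.node (.node (.node (.node (.node (.node .nil (nat_lit 0xc805e005aa06) (nat_lit
  19456) (nat_lit 0xde09000132b2) .nil) (nat_lit 0xc805e0067016) (nat_lit 12992) (nat_lit 0xb405440132b2)
  .nil) (nat_lit 0xc805e006920d) (nat_lit 19841) (nat_lit 0xa0031d160ce0) (.node (.node .nil (nat_lit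
  0xc805e0103a15) (nat_lit 15552) (nat_lit 0x9a44410132b2) .nil) (nat_lit 0xc805e010d80e) (nat_lit 12177)
  (nat_lit 0xa0031d08dc60) .nil)) (nat_lit 0xc805e013021e) (nat_lit 3952) (nat_lit 0xcc040d0132b2) (.node
  (.node (.node .nil (nat_lit 0xc805e013e005) (nat_lit 14961) (nat_lit 0xa0031d14e442) .nil) (nat_lit
  0xc805e0157208) (nat_lit 23745) (nat_lit 0xa0031d02e8a2) .nil) (nat_lit 0xc805e0159013) (nat_lit 36160)
  (nat_lit 0xba800c0132b2) (.node (.node .nil (nat_lit 0xc805e0164a03) (nat_lit 40353) (nat_lit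
  0xa0031d1ed080) .nil) (nat_lit 0xc805e016a818) (nat_lit 31281) (nat_lit 0xa0031d11b8c0) .nil))) (nat_lit
  0xc8384102c19c) (nat_lit 6784) (nat_lit 0x88269115094a) (.node (.node (.node (.node .nil (nat_lit
  0xc838410305aa) (nat_lit 36481) (nat_lit 0x8384191c3822) .nil) (nat_lit 0xc83841068692) (nat_lit 993)
  (nat_lit 0x838419146984) .nil) (nat_lit 0xc838410742a4) (nat_lit 34417) (nat_lit 0x838419007b42) (.node
  (.node .nil (nat_lit 0xc838411007b4) (nat_lit 20369) (nat_lit 0x838419243324) .nil) (nat_lit 0xc8384111c382)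
  (nat_lit 40368) (nat_lit 0x88269127c00a) .nil)) (nat_lit 0xc838411440ba) (nat_lit 5185) (nat_lit
  0x838419387044) (.node (.node (.node .nil (nat_lit 0xc8384115848c) (nat_lit 41809) (nat_lit 0x8384192c6282)
  .nil) (nat_lit 0xc8430300a4f8) (nat_lit 20145) (nat_lit 0x8e4218212945) .nil) (nat_lit 0xc84303032c94)
  (nat_lit 18817) (nat_lit 0x8e4218301c43) (.node .nil (nat_lit 0xc8430303886c) (nat_lit 23073) (nat_lit
  0x8e4218113506) .nil)))) (nat_lit 0xc84303043c4c) (nat_lit 23713) (nat_lit 0x8e4218118561) (.node (.node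
  (.node (.node (.node .nil (nat_lit 0xc843030498b4) (nat_lit 7697) (nat_lit 0x8e421830ac24) .nil) (nat_lit
  0xc843030710d8) (nat_lit 385) (nat_lit 0x8e4218219922) .nil) (nat_lit 0xc8430307b420) (nat_lit 36128)
  (nat_lit 0x80952c2c6282) (.node (.node .nil (nat_lit 0xc84303111c38) (nat_lit 11761) (nat_lit
  0x8e42181108a7) .nil) (nat_lit 0xc8430311b8c0) (nat_lit 40641) (nat_lit 0x8e42183021e2) .nil)) (nat_lit
  0xc843031230ac) (nat_lit 19361) (nat_lit 0x8e42182114e4) (.node (.node (.node .nil (nat_lit 0xc84303129454)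
  (nat_lit 8992) (nat_lit 0x9201782c6282) .nil) (nat_lit 0xc84303152074) (nat_lit 3920) (nat_lit
  0xc10929129454) .nil) (nat_lit 0xc8430315848c) (nat_lit 12048) (nat_lit 0xd0151103886c) (.node .nil (nat_lit
  0xc84303160ce0) (nat_lit 26272) (nat_lit 0xd08c48031135) .nil))) (nat_lit 0xc8430316a818) (nat_lit 1937)
  (nat_lit 0x8e421811b8c0) (.node (.node (.node (.node .nil (nat_lit 0xc88826017451) (nat_lit 12913) (nat_lit
  0xa0c8381412c6) .nil) (nat_lit 0xc88826023718) (nat_lit 45745) (nat_lit 0xa0c8380527c0) .nil) (nat_lit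
  0xc88826034349) (nat_lit 17153) (nat_lit 0xa0c838113506) (.node (.node .nil (nat_lit 0xc88826045391)
  (nat_lit 4736) (nat_lit 0x9d40062032c9) .nil) (nat_lit 0xc888260527c0) (nat_lit 33808) (nat_lit
  0xde090001c436) .nil)) (nat_lit 0xc88826066489) (nat_lit 1296) (nat_lit 0xd2c0120d0d24) (.node (.node (.node
  .nil (nat_lit 0xc888260710d8) (nat_lit 38065) (nat_lit 0xa0c8380f1302) .nil) (nat_lit 0xc888261055c8)
  (nat_lit 4080) (nat_lit 0x8708322032c9) .nil) (nat_lit 0xc88826112199) (nat_lit 3649) (nat_lit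
  0xa0c8381c0583) (.node .nil (nat_lit 0xc888261262d0) (nat_lit 13745) (nat_lit 0xa0c8380d3085) .nil)))))))
def tt2880_13 : T := (.node (.node (.node (.node (.node (.node (.node (.node .nil (nat_lit 0xc88826140659)
  (nat_lit 5473) (nat_lit 0xa0c838163141) .nil) (nat_lit 0xc88826157208) (nat_lit 1008) (nat_lit
  0x86cc042032c9) .nil) (nat_lit 0xc88826163141) (nat_lit 15729) (nat_lit 0xa0c838131681) (.node (.node .nil
  (nat_lit 0xc88826174510) (nat_lit 32177) (nat_lit 0xa0c838070447) .nil) (nat_lit 0xc8a1180046e3) (nat_lit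
  13984) (nat_lit 0xc28145102e8a) .nil)) (nat_lit 0xc8a118021e26) (nat_lit 45856) (nat_lit 0xa05161102e8a)
  (.node (.node (.node .nil (nat_lit 0xc8a1180258c5) (nat_lit 31409) (nat_lit 0x812a580a84a5) .nil) (nat_lit
  0xc8a118051a61) (nat_lit 31601) (nat_lit 0x812a580851a6) .nil) (nat_lit 0xc8a118055c82) (nat_lit 29329)
  (nat_lit 0x812a582610a3) (.node (.node .nil (nat_lit 0xc8a118070447) (nat_lit 40433) (nat_lit
  0x812a582c9406) .nil) (nat_lit 0xc8a1180742a4) (nat_lit 29408) (nat_lit 0xea003105d144) .nil))) (nat_lit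
  0xc8a1181108a7) (nat_lit 624) (nat_lit 0xc44134102e8a) (.node (.node (.node (.node .nil (nat_lit
  0xc8a118114e44) (nat_lit 11489) (nat_lit 0x812a58324486) .nil) (nat_lit 0xc8a118131681) (nat_lit 9121)
  (nat_lit 0x812a5838c023) .nil) (nat_lit 0xc8a118135062) (nat_lit 31856) (nat_lit 0xa69110102e8a) (.node
  (.node .nil (nat_lit 0xc8a1181412c6) (nat_lit 144) (nat_lit 0xa34054102e8a) .nil) (nat_lit 0xc8a118145425)
  (nat_lit 42161) (nat_lit 0x812a583a1520) .nil)) (nat_lit 0xc8a118160ce0) (nat_lit 45249) (nat_lit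
  0x812a58309185) (.node (.node (.node .nil (nat_lit 0xc8a118164a03) (nat_lit 9232) (nat_lit 0xc19070102e8a)
  .nil) (nat_lit 0xc94c1000b067) (nat_lit 321) (nat_lit 0xc8a1181412c6) .nil) (nat_lit 0xc94c10022387)
  (nat_lit 39761) (nat_lit 0xc8a1180742a4) (.node .nil (nat_lit 0xc94c100293e0) (nat_lit 41633) (nat_lit
  0xc8a118135062) .nil)))) (nat_lit 0xc94c100401ed) (nat_lit 26768) (nat_lit 0xe24508091856) (.node (.node
  (.node (.node (.node .nil (nat_lit 0xc94c1004b18a) (nat_lit 20113) (nat_lit 0xc8a118114e44) .nil) (nat_lit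
  0xc94c1006226a) (nat_lit 6048) (nat_lit 0xcb004a14a2a1) .nil) (nat_lit 0xc94c1006920d) (nat_lit 21856)
  (nat_lit 0x88494c14a2a1) (.node (.node .nil (nat_lit 0xc94c1010132b) (nat_lit 1249) (nat_lit 0xc8a1181108a7)
  .nil) (nat_lit 0xc94c1010a34c) (nat_lit 41457) (nat_lit 0xc8a118051a61) .nil)) (nat_lit 0xc94c101230ac)
  (nat_lit 16801) (nat_lit 0xc8a118164a03) (.node (.node (.node .nil (nat_lit 0xc94c101280cb) (nat_lit 41393)
  (nat_lit 0xc8a1180258c5) .nil) (nat_lit 0xc94c101412c6) (nat_lit 43040) (nat_lit 0xa3405414a2a1) .nil)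
  (nat_lit 0xc94c1014a2a1) (nat_lit 23569) (nat_lit 0xc8a1180046e3) (.node .nil (nat_lit 0xc94c10163141)
  (nat_lit 16593) (nat_lit 0xc8a118131681) .nil))) (nat_lit 0xc94c10168126) (nat_lit 34624) (nat_lit
  0xc94c1014a2a1) (.node (.node (.node (.node .nil (nat_lit 0xca6084009959) (nat_lit 36529) (nat_lit
  0x8900bc02ae41) .nil) (nat_lit 0xca608401964a) (nat_lit 13233) (nat_lit 0x8900bc32b202) .nil) (nat_lit
  0xca6084041572) (nat_lit 41136) (nat_lit 0xb010360527c0) (.node (.node .nil (nat_lit 0xca6084051a61)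
  (nat_lit 19569) (nat_lit 0x8900bc007b42) .nil) (nat_lit 0xca6084108a72) (nat_lit 26625) (nat_lit
  0x8900bc24f801) .nil)) (nat_lit 0xca6084118561) (nat_lit 36961) (nat_lit 0x8900bc14e442) (.node (.node
  (.node .nil (nat_lit 0xca6084140659) (nat_lit 30833) (nat_lit 0x8900bc163141) .nil) (nat_lit 0xca608415094a)
  (nat_lit 3344) (nat_lit 0xd850280527c0) .nil) (nat_lit 0xca960000293e) (nat_lit 19248) (nat_lit
  0x8063a8301c43) (.node .nil (nat_lit 0xca96000149f0) (nat_lit 33728) (nat_lit 0x8063a8159013) .nil)))))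
  (nat_lit 0xca96000160ce) (nat_lit 8240) (nat_lit 0x8063a8258c50) (.node (.node (.node (.node (.node (.node
  .nil (nat_lit 0xca96000401ed) (nat_lit 8352) (nat_lit 0x8063a8091856) .nil) (nat_lit 0xca96000428d3)
  (nat_lit 20257) (nat_lit 0x840d9813e005) .nil) (nat_lit 0xca960005481d) (nat_lit 40544) (nat_lit
  0x8063a81c8845) (.node (.node .nil (nat_lit 0xca9600056123) (nat_lit 12544) (nat_lit 0x8063a82c9406) .nil)
  (nat_lit 0xca9600104157) (nat_lit 11408) (nat_lit 0x8063a83e0052) .nil)) (nat_lit 0xca9600106869) (nat_lit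
  2433) (nat_lit 0x840d982b9041) (.node (.node (.node .nil (nat_lit 0xca96001108a7) (nat_lit 38881) (nat_lit
  0x840d98192243) .nil) (nat_lit 0xca9600112199) (nat_lit 40241) (nat_lit 0x840d9838c023) .nil) (nat_lit
  0xca96001440ba) (nat_lit 21232) (nat_lit 0x8063a8371804) (.node (.node .nil (nat_lit 0xca9600146984)
  (nat_lit 8849) (nat_lit 0x840d98199224) .nil) (nat_lit 0xca960015094a) (nat_lit 20385) (nat_lit
  0x840d982b2026) .nil))) (nat_lit 0xca9600152074) (nat_lit 14224) (nat_lit 0x8063a8129454) (.node (.node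
  (.node (.node .nil (nat_lit 0xcb004a003da1) (nat_lit 33025) (nat_lit 0xc040d91c3822) .nil) (nat_lit
  0xcb004a00f684) (nat_lit 7840) (nat_lit 0x85446820ab90) .nil) (nat_lit 0xcb004a045391) (nat_lit 25809)
  (nat_lit 0xc040d91e2604) (.node (.node .nil (nat_lit 0xcb004a0498b4) (nat_lit 19632) (nat_lit
  0x91104d20ab90) .nil) (nat_lit 0xcb004a1007b4) (nat_lit 21473) (nat_lit 0xc040d91b8c02) .nil)) (nat_lit
  0xcb004a10cc91) (nat_lit 44528) (nat_lit 0xc054461f0029) (.node (.node (.node .nil (nat_lit 0xcb004a146984)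
  (nat_lit 28320) (nat_lit 0xd85028070447) .nil) (nat_lit 0xcb004a14a2a1) (nat_lit 3120) (nat_lit
  0xd400630b540c) .nil) (nat_lit 0xcc040d007b42) (nat_lit 7168) (nat_lit 0xa44413082ae4) (.node .nil (nat_lit
  0xcc040d0132b2) (nat_lit 2033) (nat_lit 0x920178089a83) .nil)))) (nat_lit 0xcc040d0149f0) (nat_lit 7793)
  (nat_lit 0x920178055c82) (.node (.node (.node (.node (.node .nil (nat_lit 0xcc040d0293e0) (nat_lit 10112)
  (nat_lit 0x81511a082ae4) .nil) (nat_lit 0xcc040d02e8a2) (nat_lit 31585) (nat_lit 0x92017829c884) .nil)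
  (nat_lit 0xcc040d03a152) (nat_lit 4432) (nat_lit 0xc75001082ae4) (.node (.node .nil (nat_lit 0xcc040d03da10)
  (nat_lit 46032) (nat_lit 0x94c109082ae4) .nil) (nat_lit 0xcc040d108a72) (nat_lit 9489) (nat_lit
  0x92017824f801) .nil)) (nat_lit 0xcc040d10f130) (nat_lit 29184) (nat_lit 0x96140a082ae4) (.node (.node
  (.node .nil (nat_lit 0xcc040d11b8c0) (nat_lit 9009) (nat_lit 0x9201782c6282) .nil) (nat_lit 0xcc040d11c382)
  (nat_lit 34481) (nat_lit 0x92017821a483) .nil) (nat_lit 0xcc040d121992) (nat_lit 2593) (nat_lit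
  0x92017800f684) (.node .nil (nat_lit 0xcc040d1262d0) (nat_lit 10960) (nat_lit 0xe0900b082ae4) .nil)))
  (nat_lit 0xcc040d132b20) (nat_lit 481) (nat_lit 0x920178086c07) (.node (.node (.node (.node .nil (nat_lit
  0xcc040d135062) (nat_lit 36849) (nat_lit 0x92017805aa06) .nil) (nat_lit 0xcc1092026564) (nat_lit 30641)
  (nat_lit 0x90641c2903a1) .nil) (nat_lit 0xcc109202ae41) (nat_lit 45664) (nat_lit 0xb12284084539) (.node
  (.node .nil (nat_lit 0xcc1092034349) (nat_lit 37153) (nat_lit 0x90641c219922) .nil) (nat_lit 0xcc109203886c)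
  (nat_lit 18032) (nat_lit 0xb12284009959) .nil)) (nat_lit 0xcc1092106869) (nat_lit 10721) (nat_lit
  0x90641c2b9041) (.node (.node (.node .nil (nat_lit 0xcc109210a34c) (nat_lit 33664) (nat_lit 0xb12284024c5a)
  .nil) (nat_lit 0xcc1092114e44) (nat_lit 4464) (nat_lit 0xb1228406c071) .nil) (nat_lit 0xcc1092118561)
  (nat_lit 34400) (nat_lit 0xb122840a903a) (.node .nil (nat_lit 0xcd222000149f) (nat_lit 7617) (nat_lit
  0xf50018026564) .nil)))))) (nat_lit 0xcd2220008dc6) (nat_lit 5920) (nat_lit 0xde090000f684) (.node (.node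
  (.node (.node (.node (.node (.node .nil (nat_lit 0xcd2220009959) (nat_lit 16081) (nat_lit 0xf5001802ae41)
  .nil) (nat_lit 0xcd2220024c5a) (nat_lit 14352) (nat_lit 0xcb004a00f684) .nil) (nat_lit 0xcd22200258c5)
  (nat_lit 34656) (nat_lit 0x8d015100f684) (.node (.node .nil (nat_lit 0xcd222002c19c) (nat_lit 27408)
  (nat_lit 0xea003100f684) .nil) (nat_lit 0xcd222002d503) (nat_lit 11904) (nat_lit 0xac012a00f684) .nil))
  (nat_lit 0xcd2220104157) (nat_lit 32944) (nat_lit 0xc1092900f684) (.node (.node (.node .nil (nat_lit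
  0xcd22201055c8) (nat_lit 20065) (nat_lit 0xf5001802e8a2) .nil) (nat_lit 0xcd222010cc91) (nat_lit 16065)
  (nat_lit 0xf500180046e3) .nil) (nat_lit 0xcd222010d80e) (nat_lit 289) (nat_lit 0xf50018022387) (.node (.node
  .nil (nat_lit 0xcd2220120d0d) (nat_lit 15984) (nat_lit 0xf5001800f684) .nil) (nat_lit 0xcd2220121992)
  (nat_lit 16001) (nat_lit 0xf5001800f684) .nil))) (nat_lit 0xcd22201280cb) (nat_lit 6001) (nat_lit
  0xf500180258c5) (.node (.node (.node (.node .nil (nat_lit 0xcd2220129454) (nat_lit 2576) (nat_lit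
  0x92017800f684) .nil) (nat_lit 0xd0018e017451) (nat_lit 28944) (nat_lit 0x9c8430230ac2) .nil) (nat_lit
  0xd0018e02ae41) (nat_lit 6704) (nat_lit 0xd4b004084539) (.node (.node .nil (nat_lit 0xd0018e03da10) (nat_lit
  32256) (nat_lit 0x94c109230ac2) .nil) (nat_lit 0xd0018e046e30) (nat_lit 34881) (nat_lit 0xc20c8300527c)
  .nil)) (nat_lit 0xd0018e051a61) (nat_lit 45840) (nat_lit 0x88d015230ac2) (.node (.node (.node .nil (nat_lit
  0xd0018e06c071) (nat_lit 15056) (nat_lit 0xc0e4211c111c) .nil) (nat_lit 0xd0018e07b420) (nat_lit 7872)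
  (nat_lit 0x80952c230ac2) .nil) (nat_lit 0xd0018e08dc60) (nat_lit 19952) (nat_lit 0x843039230ac2) (.node .nil
  (nat_lit 0xd0018e09a831) (nat_lit 43697) (nat_lit 0xe3a80000527c) .nil)))) (nat_lit 0xd0018e0a7221) (nat_lit
  44865) (nat_lit 0xaf048000527c) (.node (.node (.node (.node (.node .nil (nat_lit 0xd0018e0b0670) (nat_lit
  33009) (nat_lit 0xe4218100527c) .nil) (nat_lit 0xd0018e0cb250) (nat_lit 12129) (nat_lit 0x952c0100527c)
  .nil) (nat_lit 0xd0018e0dc601) (nat_lit 21520) (nat_lit 0xd015110ce02c) (.node (.node .nil (nat_lit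
  0xd0018e0e1c11) (nat_lit 34001) (nat_lit 0x92a58000527c) .nil) (nat_lit 0xd0018e0f6840) (nat_lit 38848)
  (nat_lit 0xd8502804a515) .nil)) (nat_lit 0xd0151102e8a2) (nat_lit 18320) (nat_lit 0x9a02a2251509) (.node
  (.node (.node .nil (nat_lit 0xd0151103886c) (nat_lit 6465) (nat_lit 0x9d4006023718) .nil) (nat_lit
  0xd0151106226a) (nat_lit 46000) (nat_lit 0x9a02a2205d14) .nil) (nat_lit 0xd015110742a4) (nat_lit 4864)
  (nat_lit 0x9a02a205d144) (.node .nil (nat_lit 0xd01511082ae4) (nat_lit 33201) (nat_lit 0xa58025023718)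
  .nil))) (nat_lit 0xd01511094a2a) (nat_lit 27632) (nat_lit 0x9a02a224f801) (.node (.node (.node (.node .nil
  (nat_lit 0xd015110ce02c) (nat_lit 12529) (nat_lit 0xb90860023718) .nil) (nat_lit 0xd015110d80e2) (nat_lit
  45809) (nat_lit 0xf04805023718) .nil) (nat_lit 0xd028b001964a) (nat_lit 15712) (nat_lit 0xa0c838131681)
  (.node (.node .nil (nat_lit 0xd028b002d503) (nat_lit 44800) (nat_lit 0xac012a131681) .nil) (nat_lit
  0xd028b0034349) (nat_lit 42401) (nat_lit 0x904d2221b01c) .nil)) (nat_lit 0xd028b004470e) (nat_lit 16449)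
  (nat_lit 0xc20c831c4360) (.node (.node (.node .nil (nat_lit 0xd028b005d144) (nat_lit 42001) (nat_lit
  0x8641c221b01c) .nil) (nat_lit 0xd028b006920d) (nat_lit 37009) (nat_lit 0xc84303160ce0) .nil) (nat_lit
  0xd028b0070447) (nat_lit 45472) (nat_lit 0xc4680a131681) (.node .nil (nat_lit 0xd028b0081745) (nat_lit 4256)
  (nat_lit 0x886072131681) .nil))))) (nat_lit 0xd028b009810f) (nat_lit 2800) (nat_lit 0xc44134131681) (.node
  (.node (.node (.node (.node (.node .nil (nat_lit 0xd028b00ac246) (nat_lit 432) (nat_lit 0xc88826131681)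
  .nil) (nat_lit 0xd028b00b540c) (nat_lit 17376) (nat_lit 0x84a960131681) .nil) (nat_lit 0xd028b00c504b)
  (nat_lit 37057) (nat_lit 0x9a444121b01c) (.node (.node .nil (nat_lit 0xd028b00dc601) (nat_lit 36384)
  (nat_lit 0xe009520ce02c) .nil) (nat_lit 0xd028b00e8548) (nat_lit 40656) (nat_lit 0xecc04000293e) .nil))
  (nat_lit 0xd028b00f1302) (nat_lit 5264) (nat_lit 0xa0e106131681) (.node (.node (.node .nil (nat_lit
  0xd08c480132b2) (nat_lit 38353) (nat_lit 0x9a02a2009959) .nil) (nat_lit 0xd08c48022387) (nat_lit 19809)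
  (nat_lit 0xf82402009959) .nil) (nat_lit 0xd08c48031135) (nat_lit 16177) (nat_lit 0x9d4006009959) (.node
  (.node .nil (nat_lit 0xd08c48045391) (nat_lit 7953) (nat_lit 0xe140a2009959) .nil) (nat_lit 0xd08c48056123)
  (nat_lit 36944) (nat_lit 0xd16140020ab9) .nil))) (nat_lit 0xd08c48067016) (nat_lit 4768) (nat_lit
  0xb40544020ab9) (.node (.node (.node (.node .nil (nat_lit 0xd08c480742a4) (nat_lit 16272) (nat_lit
  0xf82402020ab9) .nil) (nat_lit 0xd08c480851a6) (nat_lit 14912) (nat_lit 0xa53042020ab9) .nil) (nat_lit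
  0xd08c48096314) (nat_lit 22224) (nat_lit 0xe91104020ab9) (.node (.node .nil (nat_lit 0xd08c480a7221)
  (nat_lit 21441) (nat_lit 0xaf0480009959) .nil) (nat_lit 0xd08c480b4093) (nat_lit 43921) (nat_lit
  0xca6084009959) .nil)) (nat_lit 0xd08c480c0237) (nat_lit 36705) (nat_lit 0xb66020009959) (.node (.node
  (.node .nil (nat_lit 0xd08c480d3085) (nat_lit 14704) (nat_lit 0x89a444020ab9) .nil) (nat_lit 0xd08c480e21b0)
  (nat_lit 16192) (nat_lit 0xecc040020ab9) .nil) (nat_lit 0xd08c480f1302) (nat_lit 40944) (nat_lit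
  0xa0e106020ab9) (.node .nil (nat_lit 0xd11a02026564) (nat_lit 32208) (nat_lit 0xa2c281041572) .nil))))
  (nat_lit 0xd11a0202c19c) (nat_lit 14288) (nat_lit 0xa2c28115094a) (.node (.node (.node (.node (.node .nil
  (nat_lit 0xd11a02066489) (nat_lit 36913) (nat_lit 0xa02a231b01c4) .nil) (nat_lit 0xd11a0206c071) (nat_lit
  19681) (nat_lit 0x8103663a2881) .nil) (nat_lit 0xd11a02084539) (nat_lit 29265) (nat_lit 0xaa23401108a7)
  (.node (.node .nil (nat_lit 0xd11a0208e1c1) (nat_lit 21953) (nat_lit 0x8b0a053021e2) .nil) (nat_lit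
  0xd11a020c44d4) (nat_lit 44640) (nat_lit 0xa2c281152074) .nil)) (nat_lit 0xd11a020ce02c) (nat_lit 5888)
  (nat_lit 0xa2c281043c4c) (.node (.node (.node .nil (nat_lit 0xd1614000149f) (nat_lit 400) (nat_lit
  0xb90860068692) .nil) (nat_lit 0xd16140020ab9) (nat_lit 26208) (nat_lit 0xe0206c068692) .nil) (nat_lit
  0xd16140021e26) (nat_lit 25136) (nat_lit 0xa05161068692) (.node .nil (nat_lit 0xd16140048c2b) (nat_lit 3808)
  (nat_lit 0xd16140068692) .nil))) (nat_lit 0xd161400498b4) (nat_lit 7712) (nat_lit 0x91104d068692) (.node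
  (.node (.node (.node .nil (nat_lit 0xd16140068692) (nat_lit 1952) (nat_lit 0xc83841068692) .nil) (nat_lit
  0xd1614006920d) (nat_lit 41216) (nat_lit 0x88494c068692) .nil) (nat_lit 0xd16140088e1c) (nat_lit 31473)
  (nat_lit 0x84a960324486) (.node (.node .nil (nat_lit 0xd16140089a83) (nat_lit 5217) (nat_lit 0x86cc043021e2)
  .nil) (nat_lit 0xd161400a84a5) (nat_lit 34432) (nat_lit 0xf04805068692) .nil)) (nat_lit 0xd161400a903a)
  (nat_lit 33489) (nat_lit 0xa06cc0168126) (.node (.node (.node .nil (nat_lit 0xd161400c0237) (nat_lit 37569)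
  (nat_lit 0xb66020008dc6) .nil) (nat_lit 0xd161400c16a8) (nat_lit 9313) (nat_lit 0xb4054402e8a2) .nil)
  (nat_lit 0xd161400e088e) (nat_lit 45089) (nat_lit 0x90c0e4262d02) (.node .nil (nat_lit 0xd161400e1c11)
  (nat_lit 15665) (nat_lit 0x92a580244866) .nil)))))))
def tt2880_14 : T := (.node (.node (.node (.node (.node (.node (.node (.node .nil (nat_lit 0xd222090498b4)
  (nat_lit 785) (nat_lit 0xc843030710d8) .nil) (nat_lit 0xd22209055c82) (nat_lit 30512) (nat_lit
  0xa580250a4f80) .nil) (nat_lit 0xd2220905d144) (nat_lit 32592) (nat_lit 0x84805e0a4f80) (.node (.node .nil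
  (nat_lit 0xd222090c44d4) (nat_lit 16657) (nat_lit 0x9821250710d8) .nil) (nat_lit 0xd222090cc912) (nat_lit
  44177) (nat_lit 0x98ea000710d8) .nil)) (nat_lit 0xd222090d0d24) (nat_lit 35841) (nat_lit 0xf083200710d8)
  (.node (.node (.node .nil (nat_lit 0xd222090d80e2) (nat_lit 39361) (nat_lit 0xf048050710d8) .nil) (nat_lit
  0xd2c012003da1) (nat_lit 32880) (nat_lit 0x891423360388) .nil) (nat_lit 0xd2c012011b8c) (nat_lit 13536)
  (nat_lit 0x81c843360388) (.node (.node .nil (nat_lit 0xd2c012043c4c) (nat_lit 5728) (nat_lit 0x800c75360388)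
  .nil) (nat_lit 0xd2c012051a61) (nat_lit 45520) (nat_lit 0x88d015360388) .nil))) (nat_lit 0xd2c012082ae4)
  (nat_lit 22080) (nat_lit 0xc88826017451) (.node (.node (.node (.node .nil (nat_lit 0xd2c012090cc9) (nat_lit
  24481) (nat_lit 0xc28145087898) .nil) (nat_lit 0xd2c0120c2b09) (nat_lit 2832) (nat_lit 0xc19070086c07) .nil)
  (nat_lit 0xd2c0120d0d24) (nat_lit 656) (nat_lit 0xc94c1000b067) (.node (.node .nil (nat_lit 0xd30424007b42)
  (nat_lit 19393) (nat_lit 0x9228460dc601) .nil) (nat_lit 0xd30424009959) (nat_lit 40288) (nat_lit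
  0x98081b0293e0) .nil)) (nat_lit 0xd30424045391) (nat_lit 45681) (nat_lit 0x81c8431e2604) (.node (.node
  (.node .nil (nat_lit 0xd3042404b18a) (nat_lit 33312) (nat_lit 0xa10c0e0293e0) .nil) (nat_lit 0xd304240803da)
  (nat_lit 18112) (nat_lit 0xcc040d0293e0) .nil) (nat_lit 0xd3042408e1c1) (nat_lit 4560) (nat_lit
  0xf048050293e0) (.node .nil (nat_lit 0xd304240c2b09) (nat_lit 34865) (nat_lit 0x978240086c07) .nil))))
  (nat_lit 0xd304240cc912) (nat_lit 45648) (nat_lit 0xc94c100293e0) (.node (.node (.node (.node (.node .nil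
  (nat_lit 0xd4006300f684) (nat_lit 20513) (nat_lit 0xc0a2c20d0d24) .nil) (nat_lit 0xd40063011b8c) (nat_lit
  18400) (nat_lit 0x81c8432a1294) .nil) (nat_lit 0xd4006301ed08) (nat_lit 7232) (nat_lit 0xd16140048c2b)
  (.node (.node .nil (nat_lit 0xd40063023718) (nat_lit 30160) (nat_lit 0x904d222a1294) .nil) (nat_lit
  0xd4006302c19c) (nat_lit 27248) (nat_lit 0xc0e42115094a) .nil)) (nat_lit 0xd40063032c94) (nat_lit 7296)
  (nat_lit 0xc4680a118561) (.node (.node (.node .nil (nat_lit 0xd4006303da10) (nat_lit 1121) (nat_lit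
  0x810366325019) .nil) (nat_lit 0xd40063087898) (nat_lit 40833) (nat_lit 0x89a444325019) .nil) (nat_lit
  0xd40063088e1c) (nat_lit 36512) (nat_lit 0xc58502106869) (.node .nil (nat_lit 0xd40063096314) (nat_lit
  11105) (nat_lit 0xcd2220008dc6) .nil))) (nat_lit 0xd40063099590) (nat_lit 44065) (nat_lit 0xc02f040d80e2)
  (.node (.node (.node (.node .nil (nat_lit 0xd400630a4f80) (nat_lit 44128) (nat_lit 0xd08c48056123) .nil)
  (nat_lit 0xd400630ab904) (nat_lit 35777) (nat_lit 0x818ea0325019) .nil) (nat_lit 0xd400630b540c) (nat_lit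
  1584) (nat_lit 0x84a9602a1294) (.node (.node .nil (nat_lit 0xd400630ba288) (nat_lit 13312) (nat_lit
  0xd4006301ed08) .nil) (nat_lit 0xd4468000293e) (nat_lit 39744) (nat_lit 0xc8a1180742a4) .nil)) (nat_lit
  0xd44680009959) (nat_lit 42064) (nat_lit 0x98081b0742a4) (.node (.node (.node .nil (nat_lit 0xd4468000b067)
  (nat_lit 17904) (nat_lit 0xa814580742a4) .nil) (nat_lit 0xd44680031135) (nat_lit 29376) (nat_lit
  0x9891420742a4) .nil) (nat_lit 0xd4468003380b) (nat_lit 112) (nat_lit 0xa88d010742a4) (.node .nil (nat_lit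
  0xd4468003886c) (nat_lit 14337) (nat_lit 0x8366021c111c) .nil))))) (nat_lit 0xd4468003a152) (nat_lit 3425)
  (nat_lit 0xa284621c111c) (.node (.node (.node (.node (.node (.node .nil (nat_lit 0xd44680091856) (nat_lit
  15073) (nat_lit 0xc0e4211c111c) .nil) (nat_lit 0xd44680093168) (nat_lit 7345) (nat_lit 0xe1064102e8a2) .nil)
  (nat_lit 0xd4468009810f) (nat_lit 9200) (nat_lit 0xd015110742a4) (.node (.node .nil (nat_lit 0xd4468009a831)
  (nat_lit 39409) (nat_lit 0xe3a8000046e3) .nil) (nat_lit 0xd446800a0963) (nat_lit 26416) (nat_lit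
  0xd08c480742a4) .nil)) (nat_lit 0xd446800a205d) (nat_lit 9264) (nat_lit 0xe0900b0742a4) (.node (.node (.node
  .nil (nat_lit 0xd446800a903a) (nat_lit 9536) (nat_lit 0xb039080742a4) .nil) (nat_lit 0xd446800ab904)
  (nat_lit 42528) (nat_lit 0x80254b0742a4) .nil) (nat_lit 0xd4b004020ab9) (nat_lit 20417) (nat_lit
  0xc84303111c38) (.node (.node .nil (nat_lit 0xd4b004024c5a) (nat_lit 36497) (nat_lit 0xe6020608e1c1) .nil)
  (nat_lit 0xd4b0040305aa) (nat_lit 17328) (nat_lit 0x8206cc219922) .nil))) (nat_lit 0xd4b004034349) (nat_lit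
  36225) (nat_lit 0xa0e106111c38) (.node (.node (.node (.node .nil (nat_lit 0xd4b0040803da) (nat_lit 4016)
  (nat_lit 0x8206cc316812) .nil) (nat_lit 0xd4b004084539) (nat_lit 3489) (nat_lit 0xaa2340111c38) .nil)
  (nat_lit 0xd4b004090cc9) (nat_lit 17696) (nat_lit 0x8206cc09a831) (.node (.node .nil (nat_lit
  0xd4b004094a2a) (nat_lit 23153) (nat_lit 0xecc040022387) .nil) (nat_lit 0xd80254003da1) (nat_lit 33248)
  (nat_lit 0x8914231262d0) .nil)) (nat_lit 0xd8025401d0a9) (nat_lit 35424) (nat_lit 0x8d98081262d0) (.node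
  (.node (.node .nil (nat_lit 0xd8025402e8a2) (nat_lit 16369) (nat_lit 0x84303929c884) .nil) (nat_lit
  0xd802540305aa) (nat_lit 19296) (nat_lit 0xcc040d1262d0) .nil) (nat_lit 0xd8025404b18a) (nat_lit 34993)
  (nat_lit 0x843039114e44) (.node .nil (nat_lit 0xd80254055c82) (nat_lit 19969) (nat_lit 0x843039230ac2)
  .nil)))) (nat_lit 0xd80254066489) (nat_lit 25984) (nat_lit 0xe0900b0d0d24) (.node (.node (.node (.node
  (.node .nil (nat_lit 0xd80254078981) (nat_lit 23665) (nat_lit 0x843039294542) .nil) (nat_lit 0xd85028008dc6)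
  (nat_lit 31712) (nat_lit 0x863a8021007b) .nil) (nat_lit 0xd85028010f13) (nat_lit 37345) (nat_lit
  0xa814581108a7) (.node (.node .nil (nat_lit 0xd850280182d5) (nat_lit 14801) (nat_lit 0xa8145811c382) .nil)
  (nat_lit 0xd85028022387) (nat_lit 17921) (nat_lit 0xa814580742a4) .nil)) (nat_lit 0xd8502802ae41) (nat_lit
  10193) (nat_lit 0xa81458078981) (.node (.node (.node .nil (nat_lit 0xd85028032c94) (nat_lit 36561) (nat_lit
  0xa81458164a03) .nil) (nat_lit 0xd8502803a152) (nat_lit 45568) (nat_lit 0x863a8030851a) .nil) (nat_lit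
  0xd850280428d3) (nat_lit 29217) (nat_lit 0xa8145813e005) (.node .nil (nat_lit 0xd8502804a515) (nat_lit
  28385) (nat_lit 0xa81458132b20) .nil))) (nat_lit 0xd850280527c0) (nat_lit 1697) (nat_lit 0xa8145802e8a2)
  (.node (.node (.node (.node .nil (nat_lit 0xd8502805aa06) (nat_lit 15312) (nat_lit 0x863a8020c44d) .nil)
  (nat_lit 0xd85028060b54) (nat_lit 32784) (nat_lit 0x863a80104157) .nil) (nat_lit 0xd85028068692) (nat_lit
  45984) (nat_lit 0x863a8031412c) (.node (.node .nil (nat_lit 0xd85028070447) (nat_lit 17793) (nat_lit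
  0xa8145805aa06) .nil) (nat_lit 0xd85028078981) (nat_lit 44144) (nat_lit 0x863a8009810f) .nil)) (nat_lit
  0xd9808100527c) (nat_lit 32048) (nat_lit 0x9458500ba288) (.node (.node (.node .nil (nat_lit 0xd98081007b42)
  (nat_lit 35952) (nat_lit 0xa444130ba288) .nil) (nat_lit 0xd98081024c5a) (nat_lit 27920) (nat_lit
  0xc054460ba288) .nil) (nat_lit 0xd98081026564) (nat_lit 31681) (nat_lit 0xc2181c14e442) (.node .nil (nat_lit
  0xd98081041572) (nat_lit 38257) (nat_lit 0xc2181c0d80e2) .nil)))))) (nat_lit 0xd98081043c4c) (nat_lit 35520)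
  (nat_lit 0x800c750ba288) (.node (.node (.node (.node (.node (.node (.node .nil (nat_lit 0xd98081060b54)
  (nat_lit 22720) (nat_lit 0xe41c200ba288) .nil) (nat_lit 0xd9808106226a) (nat_lit 12449) (nat_lit
  0xc2181c08a722) .nil) (nat_lit 0xde090000149f) (nat_lit 16864) (nat_lit 0xb90860022387) (.node (.node .nil
  (nat_lit 0xde09000046e3) (nat_lit 30608) (nat_lit 0xd08c48022387) .nil) (nat_lit 0xde090000527c) (nat_lit
  42817) (nat_lit 0x9092982c2461) .nil)) (nat_lit 0xde090000a4f8) (nat_lit 23136) (nat_lit 0xecc040022387)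
  (.node (.node (.node .nil (nat_lit 0xde090000b067) (nat_lit 6353) (nat_lit 0x909298234c21) .nil) (nat_lit
  0xde090000e21b) (nat_lit 39728) (nat_lit 0xc19070022387) .nil) (nat_lit 0xde090000f684) (nat_lit 3056)
  (nat_lit 0x854468022387) (.node (.node .nil (nat_lit 0xde090001262d) (nat_lit 272) (nat_lit 0xf50018022387)
  .nil) (nat_lit 0xde09000132b2) (nat_lit 11073) (nat_lit 0x9092980a0963) .nil))) (nat_lit 0xde09000160ce)
  (nat_lit 28480) (nat_lit 0xd85028022387) (.node (.node (.node (.node .nil (nat_lit 0xde0900017451) (nat_lit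
  13296) (nat_lit 0x9c8430022387) .nil) (nat_lit 0xde09000182d5) (nat_lit 29841) (nat_lit 0x909298294542)
  .nil) (nat_lit 0xde090001964a) (nat_lit 16768) (nat_lit 0xa0c838022387) (.node (.node .nil (nat_lit
  0xde090001c436) (nat_lit 22801) (nat_lit 0x909298070447) .nil) (nat_lit 0xde090001d0a9) (nat_lit 37136)
  (nat_lit 0x8d9808022387) .nil)) (nat_lit 0xe0095200f684) (nat_lit 35601) (nat_lit 0xf210c000e21b) (.node
  (.node (.node .nil (nat_lit 0xe0095201d0a9) (nat_lit 16464) (nat_lit 0x8d9808026564) .nil) (nat_lit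
  0xe00952066489) (nat_lit 7137) (nat_lit 0xe41c2000e21b) .nil) (nat_lit 0xe009520742a4) (nat_lit 35313)
  (nat_lit 0x831d4000e21b) (.node .nil (nat_lit 0xe009520a7221) (nat_lit 12672) (nat_lit 0x8c750003886c)
  .nil)))) (nat_lit 0xe009520b540c) (nat_lit 17425) (nat_lit 0xc805e000e21b) (.node (.node (.node (.node
  (.node .nil (nat_lit 0xe009520ce02c) (nat_lit 25520) (nat_lit 0x8bc120043c4c) .nil) (nat_lit 0xe009520dc601)
  (nat_lit 41952) (nat_lit 0x831d400ce02c) .nil) (nat_lit 0xe0206c045391) (nat_lit 43009) (nat_lit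
  0xc0d9801e2604) (.node (.node .nil (nat_lit 0xe0206c055c82) (nat_lit 3744) (nat_lit 0xa580251a610a) .nil)
  (nat_lit 0xe0206c068692) (nat_lit 16145) (nat_lit 0xca9600146984) .nil)) (nat_lit 0xe0206c078981) (nat_lit
  15680) (nat_lit 0xb6602009810f) (.node (.node (.node .nil (nat_lit 0xe0206c0cc912) (nat_lit 39184) (nat_lit
  0x8bc12034200f) .nil) (nat_lit 0xe0206c0dc601) (nat_lit 5937) (nat_lit 0xde090000f684) .nil) (nat_lit
  0xe0206c0e1c11) (nat_lit 35760) (nat_lit 0x98212527c00a) (.node .nil (nat_lit 0xe0206c0f1302) (nat_lit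
  24352) (nat_lit 0xa0e1061f0029) .nil))) (nat_lit 0xe07210008dc6) (nat_lit 1633) (nat_lit 0xf210c000cb25)
  (.node (.node (.node (.node .nil (nat_lit 0xe072100305aa) (nat_lit 16832) (nat_lit 0xd446800a205d) .nil)
  (nat_lit 0xe0721003886c) (nat_lit 27265) (nat_lit 0x9253040d241a) .nil) (nat_lit 0xe072100401ed) (nat_lit
  13585) (nat_lit 0xc0d9800d241a) (.node (.node .nil (nat_lit 0xe07210048c2b) (nat_lit 6576) (nat_lit
  0xd4468003a152) .nil) (nat_lit 0xe07210070447) (nat_lit 240) (nat_lit 0xd4468003380b) .nil)) (nat_lit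
  0xe07210078981) (nat_lit 16736) (nat_lit 0xd4468009810f) (.node (.node (.node .nil (nat_lit 0xe07210090cc9)
  (nat_lit 28641) (nat_lit 0xc281450d241a) .nil) (nat_lit 0xe0721009810f) (nat_lit 39712) (nat_lit
  0xd44680031135) .nil) (nat_lit 0xe072100a0963) (nat_lit 23984) (nat_lit 0xd4468003886c) (.node .nil (nat_lit
  0xe072100a84a5) (nat_lit 13504) (nat_lit 0xd44680093168) .nil))))) (nat_lit 0xe072100d0d24) (nat_lit 28464)
  (nat_lit 0xd4468000b067) (.node (.node (.node (.node (.node (.node .nil (nat_lit 0xe072100d80e2) (nat_lit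
  4577) (nat_lit 0xf048050293e0) .nil) (nat_lit 0xe072100e088e) (nat_lit 1537) (nat_lit 0x90c0e40d241a) .nil)
  (nat_lit 0xe072100e8548) (nat_lit 40449) (nat_lit 0x900bc10d241a) (.node (.node .nil (nat_lit
  0xe08494007b42) (nat_lit 17888) (nat_lit 0xa444130ab904) .nil) (nat_lit 0xe08494034349) (nat_lit 29137)
  (nat_lit 0xb1d40000293e) .nil)) (nat_lit 0xe08494051a61) (nat_lit 9521) (nat_lit 0x8952c000293e) (.node
  (.node (.node .nil (nat_lit 0xe0849406226a) (nat_lit 4288) (nat_lit 0x8ea003205d14) .nil) (nat_lit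
  0xe08494094a2a) (nat_lit 40673) (nat_lit 0xecc04000293e) .nil) (nat_lit 0xe084940a7221) (nat_lit 29457)
  (nat_lit 0xaf048000293e) (.node (.node .nil (nat_lit 0xe084940c2b09) (nat_lit 16880) (nat_lit
  0xa69110086c07) .nil) (nat_lit 0xe084940f1302) (nat_lit 22000) (nat_lit 0xa0e1060e1c11) .nil))) (nat_lit
  0xe0900b0149f0) (nat_lit 5072) (nat_lit 0xe80a88026564) (.node (.node (.node (.node .nil (nat_lit
  0xe0900b026564) (nat_lit 43873) (nat_lit 0xd4b004024c5a) .nil) (nat_lit 0xe0900b032c94) (nat_lit 17521)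
  (nat_lit 0xbc1201024c5a) .nil) (nat_lit 0xe0900b046e30) (nat_lit 4352) (nat_lit 0xe80a8803a152) (.node
  (.node .nil (nat_lit 0xe0900b0527c0) (nat_lit 33361) (nat_lit 0xa8b0a0024c5a) .nil) (nat_lit 0xe0900b060b54)
  (nat_lit 18752) (nat_lit 0xe80a8807b420) .nil)) (nat_lit 0xe0900b0742a4) (nat_lit 4896) (nat_lit
  0xe80a8805d144) (.node (.node (.node .nil (nat_lit 0xe0900b082ae4) (nat_lit 5841) (nat_lit 0xa58025024c5a)
  .nil) (nat_lit 0xe0900b096314) (nat_lit 16288) (nat_lit 0xe80a88031135) .nil) (nat_lit 0xe0900b0a4f80)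
  (nat_lit 24945) (nat_lit 0x8c8384024c5a) (.node .nil (nat_lit 0xe0900b0b0670) (nat_lit 80) (nat_lit
  0xe80a88070447) .nil)))) (nat_lit 0xe0900b0c44d4) (nat_lit 25313) (nat_lit 0x982125024c5a) (.node (.node
  (.node (.node (.node .nil (nat_lit 0xe0900b0d0d24) (nat_lit 15905) (nat_lit 0xf08320024c5a) .nil) (nat_lit
  0xe0900b0e21b0) (nat_lit 6544) (nat_lit 0xe80a8806c071) .nil) (nat_lit 0xe0900b0f6840) (nat_lit 38369)
  (nat_lit 0xd98081024c5a) (.node (.node .nil (nat_lit 0xe1064102c19c) (nat_lit 1488) (nat_lit 0xa2340515094a)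
  .nil) (nat_lit 0xe1064102e8a2) (nat_lit 3856) (nat_lit 0x922846251509) .nil)) (nat_lit 0xe106410498b4)
  (nat_lit 30081) (nat_lit 0x8952c030ac24) (.node (.node (.node .nil (nat_lit 0xe1064104b18a) (nat_lit 17616)
  (nat_lit 0xa10c0e163141) .nil) (nat_lit 0xe106410a903a) (nat_lit 13872) (nat_lit 0xb03908070447) .nil)
  (nat_lit 0xe106410ab904) (nat_lit 26912) (nat_lit 0x80254b371804) (.node .nil (nat_lit 0xe106410cc912)
  (nat_lit 38608) (nat_lit 0x831d4034200f) .nil))) (nat_lit 0xe106410ce02c) (nat_lit 34065) (nat_lit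
  0xb9086000f684) (.node (.node (.node (.node .nil (nat_lit 0xe140a2009959) (nat_lit 4176) (nat_lit
  0x98081b026564) .nil) (nat_lit 0xe140a202ae41) (nat_lit 35089) (nat_lit 0x903660078981) .nil) (nat_lit
  0xe140a2043c4c) (nat_lit 36753) (nat_lit 0x863a80118561) (.node (.node .nil (nat_lit 0xe140a2060b54)
  (nat_lit 21632) (nat_lit 0x8a2c28104157) .nil) (nat_lit 0xe140a2088e1c) (nat_lit 17393) (nat_lit
  0x84a960131681) .nil)) (nat_lit 0xe140a20ab904) (nat_lit 8129) (nat_lit 0x818ea0163141) (.node (.node (.node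
  .nil (nat_lit 0xe140a20c2b09) (nat_lit 464) (nat_lit 0x920178086c07) .nil) (nat_lit 0xe140a20e1c11) (nat_lit
  25296) (nat_lit 0x982125024c5a) .nil) (nat_lit 0xe2450800b067) (nat_lit 7649) (nat_lit 0xd4b0040803da)
  (.node .nil (nat_lit 0xe245080132b2) (nat_lit 11697) (nat_lit 0x9298210803da) .nil)))))))
def tt2880_15 : T := (.node (.node (.node (.node (.node (.node (.node (.node .nil (nat_lit 0xe245080428d3)
  (nat_lit 27697) (nat_lit 0xe41c200803da) .nil) (nat_lit 0xe245080498b4) (nat_lit 18017) (nat_lit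
  0xc750010803da) .nil) (nat_lit 0xe24508051a61) (nat_lit 36448) (nat_lit 0x88d015332448) (.node (.node .nil
  (nat_lit 0xe2450805aa06) (nat_lit 40817) (nat_lit 0xa234050803da) .nil) (nat_lit 0xe24508082ae4) (nat_lit
  19089) (nat_lit 0xa580250803da) .nil)) (nat_lit 0xe24508089a83) (nat_lit 25169) (nat_lit 0x86cc040803da)
  (.node (.node (.node .nil (nat_lit 0xe24508091856) (nat_lit 16497) (nat_lit 0xc0e4210803da) .nil) (nat_lit
  0xe2450809a831) (nat_lit 12753) (nat_lit 0xe3a8000803da) .nil) (nat_lit 0xe245080c0237) (nat_lit 5168)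
  (nat_lit 0x838419387044) (.node (.node .nil (nat_lit 0xe245080cb250) (nat_lit 10704) (nat_lit
  0x90641c2b9041) .nil) (nat_lit 0xe245080d3085) (nat_lit 28801) (nat_lit 0xd304240803da) .nil))) (nat_lit
  0xe245080d80e2) (nat_lit 37040) (nat_lit 0x9a444121b01c) (.node (.node (.node (.node .nil (nat_lit
  0xe3a80000149f) (nat_lit 32384) (nat_lit 0xb90860067016) .nil) (nat_lit 0xe3a8000046e3) (nat_lit 28993)
  (nat_lit 0x9036602e4105) .nil) (nat_lit 0xe3a80000527c) (nat_lit 36192) (nat_lit 0x9458502b2026) (.node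
  (.node .nil (nat_lit 0xe3a8000401ed) (nat_lit 5232) (nat_lit 0xb66020091856) .nil) (nat_lit 0xe3a800041572)
  (nat_lit 24320) (nat_lit 0xb010360f6840) .nil)) (nat_lit 0xe3a80004470e) (nat_lit 21968) (nat_lit
  0x9b3010244866) (.node (.node (.node .nil (nat_lit 0xe3a800045391) (nat_lit 44704) (nat_lit 0x9d4006223870)
  .nil) (nat_lit 0xe3a8000803da) (nat_lit 6865) (nat_lit 0x8462453a1520) .nil) (nat_lit 0xe3a800081745)
  (nat_lit 19888) (nat_lit 0x886072371804) (.node .nil (nat_lit 0xe3a800084539) (nat_lit 23248) (nat_lit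
  0xa340541c3822) .nil)))) (nat_lit 0xe3a8000851a6) (nat_lit 43504) (nat_lit 0xa530421a4834) (.node (.node
  (.node (.node (.node .nil (nat_lit 0xe3a8000c0237) (nat_lit 43792) (nat_lit 0x870832387044) .nil) (nat_lit
  0xe3a8000c16a8) (nat_lit 29025) (nat_lit 0xb405440a7221) .nil) (nat_lit 0xe3a8000c44d4) (nat_lit 12353)
  (nat_lit 0x982125265640) (.node (.node .nil (nat_lit 0xe3a8000c504b) (nat_lit 38657) (nat_lit
  0x9a4441243324) .nil) (nat_lit 0xe41c2000e21b) (nat_lit 3729) (nat_lit 0xc012a50f6840) .nil)) (nat_lit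
  0xe41c200160ce) (nat_lit 45585) (nat_lit 0x863a8030851a) (.node (.node (.node .nil (nat_lit 0xe41c200182d5)
  (nat_lit 18513) (nat_lit 0x8952c030851a) .nil) (nat_lit 0xe41c20022387) (nat_lit 39248) (nat_lit
  0xc012a516a818) .nil) (nat_lit 0xe41c2002c19c) (nat_lit 4449) (nat_lit 0xc75001082ae4) (.node .nil (nat_lit
  0xe41c20034349) (nat_lit 44097) (nat_lit 0x81782430851a) .nil))) (nat_lit 0xe41c2003a152) (nat_lit 2257)
  (nat_lit 0x8e106430851a) (.node (.node (.node (.node .nil (nat_lit 0xe41c200803da) (nat_lit 17264) (nat_lit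
  0xc012a50e8548) .nil) (nat_lit 0xe41c2008e1c1) (nat_lit 5809) (nat_lit 0x8b0a0530851a) .nil) (nat_lit
  0xe41c20096314) (nat_lit 43073) (nat_lit 0xcd22200258c5) (.node (.node .nil (nat_lit 0xe41c2009810f)
  (nat_lit 25392) (nat_lit 0xc012a5174510) .nil) (nat_lit 0xe41c200a205d) (nat_lit 26144) (nat_lit
  0xc012a5182d50) .nil)) (nat_lit 0xe41c200ac246) (nat_lit 27360) (nat_lit 0xc012a51b8c02) (.node (.node
  (.node .nil (nat_lit 0xe41c200b4093) (nat_lit 30433) (nat_lit 0xca6084051a61) .nil) (nat_lit 0xe41c200ba288)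
  (nat_lit 13377) (nat_lit 0xc508c40a7221) .nil) (nat_lit 0xe4218100527c) (nat_lit 21921) (nat_lit
  0xc0d98013021e) (.node .nil (nat_lit 0xe4218101964a) (nat_lit 5456) (nat_lit 0xa0c838163141) .nil)))))
  (nat_lit 0xe42181024c5a) (nat_lit 10913) (nat_lit 0xe41c2008e1c1) (.node (.node (.node (.node (.node (.node
  .nil (nat_lit 0xe4218103886c) (nat_lit 27393) (nat_lit 0x8c750013021e) .nil) (nat_lit 0xe42181088e1c)
  (nat_lit 1264) (nat_lit 0xa69110106869) .nil) (nat_lit 0xe42181094a2a) (nat_lit 9472) (nat_lit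
  0x92017824f801) (.node (.node .nil (nat_lit 0xe421810a903a) (nat_lit 33120) (nat_lit 0xb0390806c071) .nil)
  (nat_lit 0xe421810b540c) (nat_lit 7521) (nat_lit 0xc805e013021e) .nil)) (nat_lit 0xe60206003da1) (nat_lit
  9745) (nat_lit 0xc838411440ba) (.node (.node (.node .nil (nat_lit 0xe60206009959) (nat_lit 43376) (nat_lit
  0x98081b07b420) .nil) (nat_lit 0xe6020600a4f8) (nat_lit 32273) (nat_lit 0xca96001440ba) .nil) (nat_lit
  0xe602060149f0) (nat_lit 38384) (nat_lit 0x8a2c28159013) (.node (.node .nil (nat_lit 0xe60206017451)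
  (nat_lit 45888) (nat_lit 0x9c843003380b) .nil) (nat_lit 0xe6020601d0a9) (nat_lit 35184) (nat_lit
  0x8d9808122433) .nil))) (nat_lit 0xe6020601ed08) (nat_lit 14752) (nat_lit 0x9b3010048c2b) (.node (.node
  (.node (.node .nil (nat_lit 0xe60206084539) (nat_lit 26833) (nat_lit 0xaa23401440ba) .nil) (nat_lit
  0xe60206087898) (nat_lit 18928) (nat_lit 0x952c010a903a) .nil) (nat_lit 0xe6020608dc60) (nat_lit 24128)
  (nat_lit 0x8430391b8c02) (.node (.node .nil (nat_lit 0xe6020608e1c1) (nat_lit 25633) (nat_lit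
  0x8b0a051440ba) .nil) (nat_lit 0xe60206090cc9) (nat_lit 26753) (nat_lit 0xc281451440ba) .nil)) (nat_lit
  0xe60206093168) (nat_lit 37489) (nat_lit 0xe106410ab904) (.node (.node (.node .nil (nat_lit 0xe60206099590)
  (nat_lit 18624) (nat_lit 0x91a02a0e1c11) .nil) (nat_lit 0xe6020609a831) (nat_lit 17760) (nat_lit
  0x87083218b409) .nil) (nat_lit 0xe80a8800b067) (nat_lit 44385) (nat_lit 0x84805e234c21) (.node .nil (nat_lit
  0xe80a88017451) (nat_lit 43952) (nat_lit 0x9c843022114e) .nil)))) (nat_lit 0xe80a8801c436) (nat_lit 30000)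
  (nat_lit 0x8a0516349068) (.node (.node (.node (.node (.node .nil (nat_lit 0xe80a88026564) (nat_lit 2625)
  (nat_lit 0x84805e2903a1) .nil) (nat_lit 0xe80a8802d503) (nat_lit 32609) (nat_lit 0x84805e0a4f80) .nil)
  (nat_lit 0xe80a88031135) (nat_lit 8945) (nat_lit 0x84805e195901) (.node (.node .nil (nat_lit 0xe80a8803a152)
  (nat_lit 2240) (nat_lit 0x8e106430851a) .nil) (nat_lit 0xe80a88041572) (nat_lit 42289) (nat_lit
  0x84805e306701) .nil)) (nat_lit 0xe80a8804a515) (nat_lit 31537) (nat_lit 0x84805e132b20) (.node (.node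
  (.node .nil (nat_lit 0xe80a88056123) (nat_lit 19536) (nat_lit 0x9201782c9406) .nil) (nat_lit 0xe80a8805d144)
  (nat_lit 2529) (nat_lit 0x84805e237180) .nil) (nat_lit 0xe80a88067016) (nat_lit 18240) (nat_lit
  0xb405440a903a) (.node .nil (nat_lit 0xe80a8806c071) (nat_lit 3408) (nat_lit 0xa284621c111c) .nil)))
  (nat_lit 0xe80a88070447) (nat_lit 33) (nat_lit 0x84805e293e00) (.node (.node (.node (.node .nil (nat_lit
  0xe80a8807b420) (nat_lit 10529) (nat_lit 0x84805e0a7221) .nil) (nat_lit 0xe91104020ab9) (nat_lit 13073)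
  (nat_lit 0xc0063a195901) .nil) (nat_lit 0xe91104024c5a) (nat_lit 39089) (nat_lit 0xc0063a08e1c1) (.node
  (.node .nil (nat_lit 0xe9110402ae41) (nat_lit 44929) (nat_lit 0xc0063a078981) .nil) (nat_lit 0xe9110402e8a2)
  (nat_lit 897) (nat_lit 0xc0063a163141) .nil)) (nat_lit 0xe9110406226a) (nat_lit 22385) (nat_lit
  0xc0063a0ab904) (.node (.node (.node .nil (nat_lit 0xe91104066489) (nat_lit 15393) (nat_lit 0xc0063a1b01c4)
  .nil) (nat_lit 0xe91104068692) (nat_lit 25457) (nat_lit 0xc0063a146984) .nil) (nat_lit 0xe9110406c071)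
  (nat_lit 19584) (nat_lit 0xc0a2c21c111c) (.node .nil (nat_lit 0xea0031007b42) (nat_lit 31505) (nat_lit
  0xa2209a0dc601) .nil)))))) (nat_lit 0xea003100f684) (nat_lit 17072) (nat_lit 0x854468228817) (.node (.node
  (.node (.node (.node (.node (.node .nil (nat_lit 0xea0031011b8c) (nat_lit 24977) (nat_lit 0xa2209a195901)
  .nil) (nat_lit 0xea003101964a) (nat_lit 32160) (nat_lit 0xa0c838070447) .nil) (nat_lit 0xea0031043c4c)
  (nat_lit 42305) (nat_lit 0xa2209a118561) (.node (.node .nil (nat_lit 0xea003104b18a) (nat_lit 23968)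
  (nat_lit 0xa10c0e06c071) .nil) (nat_lit 0xea0031055c82) (nat_lit 5824) (nat_lit 0xa58025024c5a) .nil))
  (nat_lit 0xea003105d144) (nat_lit 18737) (nat_lit 0xa2209a05d144) (.node (.node (.node .nil (nat_lit
  0xecc04000149f) (nat_lit 4193) (nat_lit 0x98081b026564) .nil) (nat_lit 0xecc04000293e) (nat_lit 30481)
  (nat_lit 0x98081b21e260) .nil) (nat_lit 0xecc040003da1) (nat_lit 43648) (nat_lit 0x89142332c940) (.node
  (.node .nil (nat_lit 0xecc040010f13) (nat_lit 28720) (nat_lit 0x831d4038c023) .nil) (nat_lit 0xecc040011b8c)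
  (nat_lit 3600) (nat_lit 0x81c8433a1520) .nil))) (nat_lit 0xecc04001262d) (nat_lit 43200) (nat_lit
  0xb3010308dc60) (.node (.node (.node (.node .nil (nat_lit 0xecc0400132b2) (nat_lit 40305) (nat_lit
  0x98081b0293e0) .nil) (nat_lit 0xecc040020ab9) (nat_lit 8881) (nat_lit 0x98081b26a0c4) .nil) (nat_lit
  0xecc040021e26) (nat_lit 15488) (nat_lit 0xa051611b8c02) (.node (.node .nil (nat_lit 0xecc040022387)
  (nat_lit 13696) (nat_lit 0x929821294542) .nil) (nat_lit 0xecc040023718) (nat_lit 30944) (nat_lit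
  0x904d222b9041) .nil)) (nat_lit 0xecc0400305aa) (nat_lit 21040) (nat_lit 0x9a4441219922) (.node (.node
  (.node .nil (nat_lit 0xecc040031135) (nat_lit 43025) (nat_lit 0x98081b05d144) .nil) (nat_lit 0xecc040032c94)
  (nat_lit 33105) (nat_lit 0x98081b265640) .nil) (nat_lit 0xecc04003380b) (nat_lit 688) (nat_lit
  0xa88d01135062) (.node .nil (nat_lit 0xf0480500a4f8) (nat_lit 17313) (nat_lit 0xd446800a903a) .nil))))
  (nat_lit 0xf048050132b2) (nat_lit 29120) (nat_lit 0xb1d40000293e) (.node (.node (.node (.node (.node .nil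
  (nat_lit 0xf0480501964a) (nat_lit 17136) (nat_lit 0xa0c838113506) .nil) (nat_lit 0xf04805023718) (nat_lit
  42384) (nat_lit 0x904d2221b01c) .nil) (nat_lit 0xf048050293e0) (nat_lit 2352) (nat_lit 0x81511a30ac24)
  (.node (.node .nil (nat_lit 0xf048050305aa) (nat_lit 18945) (nat_lit 0x952c010a903a) .nil) (nat_lit
  0xf0480503a152) (nat_lit 18257) (nat_lit 0xb405440a903a) .nil)) (nat_lit 0xf04805041572) (nat_lit 22432)
  (nat_lit 0xb0103601ed08) (.node (.node (.node .nil (nat_lit 0xf0480504b18a) (nat_lit 42321) (nat_lit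
  0xe421810a903a) .nil) (nat_lit 0xf048050527c0) (nat_lit 35985) (nat_lit 0xa06cc00a903a) .nil) (nat_lit
  0xf04805058338) (nat_lit 25905) (nat_lit 0x8145850a903a) (.node .nil (nat_lit 0xf0480506226a) (nat_lit
  25056) (nat_lit 0x91a02a205d14) .nil))) (nat_lit 0xf04805068692) (nat_lit 23393) (nat_lit 0xe106410a903a)
  (.node (.node (.node (.node .nil (nat_lit 0xf048050710d8) (nat_lit 28929) (nat_lit 0xa54b000a903a) .nil)
  (nat_lit 0xf0480507b420) (nat_lit 33089) (nat_lit 0x8462450a903a) .nil) (nat_lit 0xf0832000149f) (nat_lit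
  41537) (nat_lit 0xd98081026564) (.node (.node .nil (nat_lit 0xf083200160ce) (nat_lit 37104) (nat_lit
  0x982125258c50) .nil) (nat_lit 0xf08320017451) (nat_lit 45009) (nat_lit 0x90c0e4241a1a) .nil)) (nat_lit
  0xf08320024c5a) (nat_lit 8689) (nat_lit 0xd3042408e1c1) (.node (.node (.node .nil (nat_lit 0xf083200258c5)
  (nat_lit 30704) (nat_lit 0x8d015130ac24) .nil) (nat_lit 0xf08320032c94) (nat_lit 23104) (nat_lit
  0xac2814118561) .nil) (nat_lit 0xf0832003380b) (nat_lit 37841) (nat_lit 0x982125241a1a) (.node .nil (nat_lit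
  0xf083200428d3) (nat_lit 6880) (nat_lit 0x84a960390415) .nil))))) (nat_lit 0xf08320043c4c) (nat_lit 43472)
  (nat_lit 0x800c753da100) (.node (.node (.node (.node (.node (.node .nil (nat_lit 0xf0832005481d) (nat_lit
  29296) (nat_lit 0xa125301c8845) .nil) (nat_lit 0xf08320055c82) (nat_lit 43601) (nat_lit 0x8320e1241a1a)
  .nil) (nat_lit 0xf08320066489) (nat_lit 39313) (nat_lit 0xc0e4211b01c4) (.node (.node .nil (nat_lit
  0xf08320067016) (nat_lit 32336) (nat_lit 0xb4054409a831) .nil) (nat_lit 0xf08320070447) (nat_lit 27472)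
  (nat_lit 0x952c01288174) .nil)) (nat_lit 0xf083200710d8) (nat_lit 24864) (nat_lit 0x9189142c2461) (.node
  (.node (.node .nil (nat_lit 0xf210c000293e) (nat_lit 27185) (nat_lit 0xde090000149f) .nil) (nat_lit
  0xf210c000cb25) (nat_lit 817) (nat_lit 0xd1614000149f) .nil) (nat_lit 0xf210c000e21b) (nat_lit 24592)
  (nat_lit 0xc3039000b067) (.node (.node .nil (nat_lit 0xf210c0010f13) (nat_lit 20449) (nat_lit
  0xb9086000149f) .nil) (nat_lit 0xf210c001262d) (nat_lit 1392) (nat_lit 0xc3039008dc60) .nil))) (nat_lit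
  0xf210c001c436) (nat_lit 20193) (nat_lit 0x97824000149f) (.node (.node (.node (.node .nil (nat_lit
  0xf210c001ed08) (nat_lit 45056) (nat_lit 0xc30390048c2b) .nil) (nat_lit 0xf210c004470e) (nat_lit 32816)
  (nat_lit 0xc3039018b409) .nil) (nat_lit 0xf210c0046e30) (nat_lit 6944) (nat_lit 0xc30390145425) (.node
  (.node .nil (nat_lit 0xf210c0048c2b) (nat_lit 13969) (nat_lit 0xcd222000149f) .nil) (nat_lit 0xf210c004a515)
  (nat_lit 7985) (nat_lit 0xecc04000149f) .nil)) (nat_lit 0xf210c005481d) (nat_lit 21505) (nat_lit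
  0xa54b0000149f) (.node (.node (.node .nil (nat_lit 0xf210c0056123) (nat_lit 31345) (nat_lit 0x84a96000149f)
  .nil) (nat_lit 0xf210c0058338) (nat_lit 9601) (nat_lit 0x8bc12000149f) .nil) (nat_lit 0xf210c005aa06)
  (nat_lit 39024) (nat_lit 0xc303901c3822) (.node .nil (nat_lit 0xf50018003da1) (nat_lit 39120) (nat_lit
  0x891423246158) .nil)))) (nat_lit 0xf500180046e3) (nat_lit 8768) (nat_lit 0x80254b2d5030) (.node (.node
  (.node (.node (.node .nil (nat_lit 0xf50018007b42) (nat_lit 33601) (nat_lit 0xa209a40dc601) .nil) (nat_lit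
  0xf50018008dc6) (nat_lit 23024) (nat_lit 0x8c750021007b) .nil) (nat_lit 0xf5001800b067) (nat_lit 40017)
  (nat_lit 0x8c8384234c21) (.node (.node .nil (nat_lit 0xf5001800cb25) (nat_lit 10161) (nat_lit
  0x8145852e8a20) .nil) (nat_lit 0xf5001800f684) (nat_lit 8736) (nat_lit 0x854468283113) .nil)) (nat_lit
  0xf50018021e26) (nat_lit 23696) (nat_lit 0xa051610d241a) (.node (.node (.node .nil (nat_lit 0xf50018022387)
  (nat_lit 129) (nat_lit 0xa88d010742a4) .nil) (nat_lit 0xf500180258c5) (nat_lit 3088) (nat_lit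
  0x8d015120742a) .nil) (nat_lit 0xf50018026564) (nat_lit 4001) (nat_lit 0x86cc042903a1) (.node .nil (nat_lit
  0xf500180293e0) (nat_lit 27280) (nat_lit 0x81511a2c2461) .nil))) (nat_lit 0xf5001802ae41) (nat_lit 8784)
  (nat_lit 0xa53042084539) (.node (.node (.node (.node .nil (nat_lit 0xf5001802d503) (nat_lit 30529) (nat_lit
  0xa580250a4f80) .nil) (nat_lit 0xf5001802e8a2) (nat_lit 11457) (nat_lit 0x86072129c884) .nil) (nat_lit
  0xf8240200527c) (nat_lit 27297) (nat_lit 0x81511a2c2461) (.node (.node .nil (nat_lit 0xf82402009959)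
  (nat_lit 11313) (nat_lit 0x81511a02ae41) .nil) (nat_lit 0xf82402011b8c) (nat_lit 33184) (nat_lit
  0x81c8431c111c) .nil)) (nat_lit 0xf8240201d0a9) (nat_lit 38288) (nat_lit 0x8d9808104157) (.node (.node
  (.node .nil (nat_lit 0xf82402020ab9) (nat_lit 8928) (nat_lit 0x84805e195901) .nil) (nat_lit 0xf8240202c19c)
  (nat_lit 10129) (nat_lit 0x81511a082ae4) .nil) (nat_lit 0xf82402034349) (nat_lit 2369) (nat_lit
  0x81511a30ac24) (.node .nil (nat_lit 0xf8240203886c) (nat_lit 16160) (nat_lit 0x9d4006009959) .nil)))))))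
def tt2880 : T := (.node (.node (.node (.node tt2880_0 (nat_lit 0x8145851a1a48) (nat_lit 30417) (nat_lit
  0x8494c1316812) tt2880_1) (nat_lit 0x839086046e30) (nat_lit 43312) (nat_lit 0xa181c8145425) (.node tt2880_2
  (nat_lit 0x863a8018046e) (nat_lit 39153) (nat_lit 0xa0516115848c) tt2880_3)) (nat_lit 0x89a444340931)
  (nat_lit 6672) (nat_lit 0xa54b0000a4f8) (.node (.node tt2880_4 (nat_lit 0x8ea0033008dc) (nat_lit 18209)
  (nat_lit 0x93488800b067) tt2880_5) (nat_lit 0x92a5800c504b) (nat_lit 736) (nat_lit 0xac28140305aa) (.node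
  tt2880_6 (nat_lit 0x98ea0022114e) (nat_lit 13200) (nat_lit 0xe00952066489) tt2880_7))) (nat_lit
  0xa0e106020ab9) (nat_lit 30800) (nat_lit 0x82a234195901) (.node (.node (.node tt2880_8 (nat_lit
  0xa4a608091856) (nat_lit 528) (nat_lit 0xb0a0510f1302) tt2880_9) (nat_lit 0xaf048010132b) (nat_lit 18272)
  (nat_lit 0xaa5802140659) (.node tt2880_10 (nat_lit 0xba800c041572) (nat_lit 17825) (nat_lit 0x8018ea306701)
  tt2880_11)) (nat_lit 0xc24a600d3085) (nat_lit 23488) (nat_lit 0x89a444045391) (.node (.node tt2880_12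
  (nat_lit 0xc88826131681) (nat_lit 208) (nat_lit 0x8bc1202032c9) tt2880_13) (nat_lit 0xd22209041572) (nat_lit
  44689) (nat_lit 0xc888260710d8) (.node tt2880_14 (nat_lit 0xe245080182d5) (nat_lit 5121) (nat_lit
  0xb1d4000803da) tt2880_15))))
theorem tt2880_chk : band (orbChk apT (gensOf cS) 145686870441472 (2 ^ 48) tt2880) (Nat.beq tt2880.size 2880) = true := by
  decide +kernel
theorem tt2880_card : (orbit (stabilizer M24 S0) (trio (unmask 2702848) (unmask 8683614))).ncard = 2880 :=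
  orbit_ncard_of_chk acT (trio_rep (a := 2702848) (b := 8683614) (k := 145686870441472) (by decide +kernel)).1 cS_chk stab_S0 (trio_rep (a := 2702848) (b := 8683614) (k := 145686870441472) (by decide +kernel)).2 tt2880_chk


/-- The stabiliser of a sextet in the group of the length-24 code has exactly three orbits on the 759 octads, of sizes 15, 360 and 384, and exactly four orbits on the 3795 trios, of sizes 15, 180, 720 and 2880. -/
theorem result (S : Finset (Finset Cfsg.GolayPt)) (hS : S ∈ Cfsg.sextets) : (∃ X₁ ∈ Cfsg.octads, ∃ X₂ ∈ Cfsg.octads, ∃ X₃ ∈ Cfsg.octads, (MulAction.orbit ↥(MulAction.stabilizer Cfsg.M24 S) X₁).ncard = 15 ∧ (MulAction.orbit ↥(MulAction.stabilizer Cfsg.M24 S) X₂).ncard = 360 ∧ (MulAction.orbit ↥(MulAction.stabilizer Cfsg.M24 S) X₃).ncard = 384 ∧ Cfsg.octads = MulAction.orbit ↥(MulAction.stabilizer Cfsg.M24 S) X₁ ∪ MulAction.orbit ↥(MulAction.stabilizer Cfsg.M24 S) X₂ ∪ MulAction.orbit ↥(MulAction.stabilizer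 Cfsg.M24 S) X₃) ∧ (∃ Y₁ ∈ Cfsg.trios, ∃ Y₂ ∈ Cfsg.trios, ∃ Y₃ ∈ Cfsg.trios, ∃ Y₄ ∈ Cfsg.trios, (MulAction.orbit ↥(MulAction.stabilizer Cfsg.M24 S) Y₁).ncard = 15 ∧ (MulAction.orbit ↥(MulAction.stabilizer Cfsg.M24 S) Y₂).ncard = 180 ∧ (MulAction.orbit ↥(MulAction.stabilizer Cfsg.M24 S) Y₃).ncard = 720 ∧ (MulAction.orbit ↥(MulAction.stabilizer Cfsg.M24 S) Y₄).ncard = 2880 ∧ Cfsg.trios = MulAction.orbit ↥(MulAction.stabilizer Cfsg.M24 S) Y₁ ∪ MulAction.orbit ↥(MulAction.stabilizer Cfsg.M24 S) Y₂ ∪ MulAction.orbit ↥(MulAction.stabilizer Cfsg.M24 S) Y₃ ∪ MulAction.orbit ↥(MulAction.stabilizer Cfsg.M24 S) Y₄) := by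
  obtain ⟨g, rfl⟩ := exists_smul_S0 hS
  exact ⟨(three_orbits (fun (g : M24) _ hy => octad_smul hy g.2) (Set.toFinite _)
      (oct_rep (m := 416040) (by decide +kernel)).1 (oct_rep (m := 10558) (by decide +kernel)).1 (oct_rep (m := 5279) (by decide +kernel)).1
      to15_card to360_card to384_card (by decide) (by rw [ncard_octads]) g),
    (four_orbits (fun (g : M24) _ hy => trio_smul hy g.2) (Set.toFinite _)
      (trio_rep (a := 1351424) (b := 8536111) (k := 143212179398400) (by decide +kernel)).1 (trio_rep (a := 1127686) (b := 12880401) (k := 216097270871302) (by decide +kernel)).1 (trio_rep (a := 2392899) (b := 8978620) (k := 150636249514819) (by decide +kernel)).1 (trio_rep (a := 2702848) (b := 8683614) (k := 145686870441472) (by decide +kernel)).1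
      tt15_card tt180_card tt720_card tt2880_card (by decide) (by rw [ncard_trios]) g)⟩

end Cfsg.Agent.S5611
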