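import Cfsg.Statements.S5612
import Cfsg.Agent.M24.Reps

set_option autoImplicit false
open scoped Pointwise
open Cfsg

namespace Cfsg.Agent.S5612

open Cfsg.Agent.M24 Finset MulAction
open scoped symmDiff Pointwise

def to3 : T := (.node (.node .nil (nat_lit 0x149f00) (nat_lit 0) (nat_lit 0x149f00) .nil) (nat_lit 0x6920d0)
  (nat_lit 16) (nat_lit 0x149f00) (.node .nil (nat_lit 0x82402f) (nat_lit 33) (nat_lit 0x149f00) .nil))
theorem to3_chk : band (orbChk act (gensOf cT) 1351424 (2 ^ 24) to3) (Nat.beq to3.size 3) = true := by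
  decide +kernel
theorem to3_card : (orbit (stabilizer M24 T0) (unmask 1351424)).ncard = 3 :=
  orbit_ncard_of_chk acSM trivial cT_chk stab_T0 (oct_rep (m := 1351424) (by decide +kernel)).2 to3_chk

def to84 : T := (.node (.node (.node (.node (.node (.node (.node .nil (nat_lit 52005) (nat_lit 0) (nat_lit
  52005) .nil) (nat_lit 90318) (nat_lit 672) (nat_lit 138790) .nil) (nat_lit 138790) (nat_lit 385) (nat_lit
  0x2c19c0) (.node (.node .nil (nat_lit 185603) (nat_lit 1056) (nat_lit 0x436038) .nil) (nat_lit 280334)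
  (nat_lit 224) (nat_lit 0x4200f6) .nil)) (nat_lit 298027) (nat_lit 960) (nat_lit 663645) (.node (.node (.node
  .nil (nat_lit 337856) (nat_lit 849) (nat_lit 0x4820ab) .nil) (nat_lit 416040) (nat_lit 657) (nat_lit
  0x742a40) .nil) (nat_lit 430605) (nat_lit 928) (nat_lit 90318) (.node .nil (nat_lit 628112) (nat_lit 544)
  (nat_lit 0x51a610) .nil))) (nat_lit 663645) (nat_lit 689) (nat_lit 138790) (.node (.node (.node (.node .nil
  (nat_lit 737427) (nat_lit 289) (nat_lit 0x120d0d) .nil) (nat_lit 832080) (nat_lit 241) (nat_lit 0x4200f6)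
  .nil) (nat_lit 0x10132b) (nat_lit 720) (nat_lit 0x63008d) (.node (.node .nil (nat_lit 0x10d80e) (nat_lit
  1168) (nat_lit 0x2b2026) .nil) (nat_lit 0x11b8c0) (nat_lit 128) (nat_lit 0x293e00) .nil)) (nat_lit 0x120d0d)
  (nat_lit 145) (nat_lit 0x293e00) (.node (.node (.node .nil (nat_lit 0x12c628) (nat_lit 993) (nat_lit
  0x1d0a90) .nil) (nat_lit 0x145425) (nat_lit 496) (nat_lit 0x21007b) .nil) (nat_lit 0x164a03) (nat_lit 48)
  (nat_lit 0x2a40e8) (.node .nil (nat_lit 0x168126) (nat_lit 1152) (nat_lit 0x626043) .nil)))) (nat_lit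
  0x182d50) (nat_lit 1185) (nat_lit 0x2b2026) (.node (.node (.node (.node (.node .nil (nat_lit 0x1d0a90)
  (nat_lit 737) (nat_lit 0x63008d) .nil) (nat_lit 0x2060b5) (nat_lit 801) (nat_lit 0x145425) .nil) (nat_lit
  0x20ab90) (nat_lit 864) (nat_lit 0x583380) (.node (.node .nil (nat_lit 0x21007b) (nat_lit 272) (nat_lit
  0x120d0d) .nil) (nat_lit 0x258c50) (nat_lit 769) (nat_lit 0x68401e) .nil)) (nat_lit 0x293e00) (nat_lit 65)
  (nat_lit 0x2a40e8) (.node (.node (.node .nil (nat_lit 0x2a40e8) (nat_lit 16) (nat_lit 52005) .nil) (nat_lit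
  0x2b2026) (nat_lit 913) (nat_lit 416040) .nil) (nat_lit 0x2c19c0) (nat_lit 192) (nat_lit 0x498b40) (.node
  .nil (nat_lit 0x311350) (nat_lit 945) (nat_lit 90318) .nil))) (nat_lit 0x343490) (nat_lit 705) (nat_lit
  0x494065) (.node (.node (.node (.node .nil (nat_lit 0x3886c0) (nat_lit 513) (nat_lit 737427) .nil) (nat_lit
  0x3da100) (nat_lit 1073) (nat_lit 0x436038) .nil) (nat_lit 0x401ed0) (nat_lit 976) (nat_lit 0x1d0a90) (.node
  .nil (nat_lit 0x4200f6) (nat_lit 112) (nat_lit 0x164a03) .nil)) (nat_lit 0x436038) (nat_lit 784) (nat_lit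
  0x145425) (.node (.node (.node .nil (nat_lit 0x453910) (nat_lit 1216) (nat_lit 0x5d1440) .nil) (nat_lit
  0x4820ab) (nat_lit 593) (nat_lit 0x860721) .nil) (nat_lit 0x494065) (nat_lit 417) (nat_lit 0x96140a) (.node
  .nil (nat_lit 0x498b40) (nat_lit 97) (nat_lit 0xa2209a) .nil))))) (nat_lit 0x4cac80) (nat_lit 448) (nat_lit
  832080) (.node (.node (.node (.node (.node (.node .nil (nat_lit 0x51a610) (nat_lit 321) (nat_lit 0x8900bc)
  .nil) (nat_lit 0x5481d0) (nat_lit 640) (nat_lit 0x742a40) .nil) (nat_lit 0x583380) (nat_lit 608) (nat_lit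
  0x659280) (.node (.node .nil (nat_lit 0x5d1440) (nat_lit 1040) (nat_lit 0x258c50) .nil) (nat_lit 0x60b540)
  (nat_lit 1313) (nat_lit 0x886072) .nil)) (nat_lit 0x626043) (nat_lit 896) (nat_lit 416040) (.node (.node
  (.node .nil (nat_lit 0x63008d) (nat_lit 432) (nat_lit 280334) .nil) (nat_lit 0x659280) (nat_lit 353)
  (nat_lit 0xc040d9) .nil) (nat_lit 0x68401e) (nat_lit 481) (nat_lit 0x925304) (.node .nil (nat_lit 0x6c0710)
  (nat_lit 880) (nat_lit 0x5481d0) .nil))) (nat_lit 0x710d80) (nat_lit 1025) (nat_lit 0xa96009) (.node (.node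
  (.node (.node .nil (nat_lit 0x742a40) (nat_lit 368) (nat_lit 0x2c19c0) .nil) (nat_lit 0x789810) (nat_lit
  1248) (nat_lit 0x3da100) .nil) (nat_lit 0x805e09) (nat_lit 304) (nat_lit 0x8900bc) (.node .nil (nat_lit
  0x80952c) (nat_lit 465) (nat_lit 832080) .nil)) (nat_lit 0x828b0a) (nat_lit 1137) (nat_lit 0x20ab90) (.node
  (.node (.node .nil (nat_lit 0x8320e1) (nat_lit 528) (nat_lit 0x805e09) .nil) (nat_lit 0x841907) (nat_lit
  1328) (nat_lit 0xcb004a) .nil) (nat_lit 0x84d222) (nat_lit 816) (nat_lit 0x8320e1) (.node .nil (nat_lit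
  0x860721) (nat_lit 336) (nat_lit 0xc040d9) .nil)))) (nat_lit 0x86cc04) (nat_lit 1296) (nat_lit 0x886072)
  (.node (.node (.node (.node (.node .nil (nat_lit 0x886072) (nat_lit 1200) (nat_lit 0x929821) .nil) (nat_lit
  0x8900bc) (nat_lit 160) (nat_lit 0x908607) .nil) (nat_lit 0x904d22) (nat_lit 1120) (nat_lit 0xea0031) (.node
  (.node .nil (nat_lit 0x908607) (nat_lit 80) (nat_lit 0xa2209a) .nil) (nat_lit 0x925304) (nat_lit 257)
  (nat_lit 0x11b8c0) .nil)) (nat_lit 0x929821) (nat_lit 1008) (nat_lit 0xa96009) (.node (.node (.node .nil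
  (nat_lit 0x940a2c) (nat_lit 625) (nat_lit 0x659280) .nil) (nat_lit 0x94c109) (nat_lit 561) (nat_lit
  0x51a610) .nil) (nat_lit 0x96140a) (nat_lit 209) (nat_lit 0x498b40) (.node .nil (nat_lit 0xa2209a) (nat_lit
  33) (nat_lit 52005) .nil))) (nat_lit 0xa34054) (nat_lit 1264) (nat_lit 0x904d22) (.node (.node (.node (.node
  .nil (nat_lit 0xa800c7) (nat_lit 1233) (nat_lit 185603) .nil) (nat_lit 0xa96009) (nat_lit 752) (nat_lit
  0x80952c) .nil) (nat_lit 0xc040d9) (nat_lit 177) (nat_lit 0x908607) (.node .nil (nat_lit 0xc12017) (nat_lit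
  400) (nat_lit 0x96140a) .nil)) (nat_lit 0xca6084) (nat_lit 1088) (nat_lit 0x84d222) (.node (.node (.node
  .nil (nat_lit 0xcb004a) (nat_lit 1281) (nat_lit 0x828b0a) .nil) (nat_lit 0xe0206c) (nat_lit 1105) (nat_lit
  0x84d222) .nil) (nat_lit 0xe140a2) (nat_lit 576) (nat_lit 0x860721) (.node .nil (nat_lit 0xea0031) (nat_lit
  832) (nat_lit 0x94c109) .nil))))))
theorem to84_chk : band (orbChk act (gensOf cT) 52005 (2 ^ 24) to84) (Nat.beq to84.size 84) = true := by
  decide +kernel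
theorem to84_card : (orbit (stabilizer M24 T0) (unmask 52005)).ncard = 84 :=
  orbit_ncard_of_chk acSM trivial cT_chk stab_T0 (oct_rep (m := 52005) (by decide +kernel)).2 to84_chk

def to672_0 : T := (.node (.node (.node (.node (.node (.node (.node (.node .nil (nat_lit 5279) (nat_lit 0)
  (nat_lit 5279) .nil) (nat_lit 10558) (nat_lit 1936) (nat_lit 0x5a1007) .nil) (nat_lit 15777) (nat_lit 5648)
  (nat_lit 0x491219) (.node (.node .nil (nat_lit 18147) (nat_lit 8752) (nat_lit 133817) .nil) (nat_lit 21116)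
  (nat_lit 6065) (nat_lit 0x1412c6) .nil)) (nat_lit 31554) (nat_lit 6817) (nat_lit 0x3021e2) (.node (.node
  (.node .nil (nat_lit 36294) (nat_lit 10576) (nat_lit 0x4a2a12) .nil) (nat_lit 39257) (nat_lit 6417) (nat_lit
  0x202656) .nil) (nat_lit 42232) (nat_lit 3360) (nat_lit 0x103a15) (.node .nil (nat_lit 45159) (nat_lit 4304)
  (nat_lit 210955) .nil))) (nat_lit 57883) (nat_lit 2545) (nat_lit 0x1007b4) (.node (.node (.node (.node .nil
  (nat_lit 63108) (nat_lit 1777) (nat_lit 0x1810f1) .nil) (nat_lit 69395) (nat_lit 481) (nat_lit 0x28258c)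
  .nil) (nat_lit 72588) (nat_lit 1536) (nat_lit 0x490686) (.node (.node .nil (nat_lit 75309) (nat_lit 16)
  (nat_lit 5279) .nil) (nat_lit 78514) (nat_lit 3952) (nat_lit 0x131681) .nil)) (nat_lit 84464) (nat_lit 9297)
  (nat_lit 0x34200f) (.node (.node (.node .nil (nat_lit 95313) (nat_lit 7057) (nat_lit 0x18046e) .nil)
  (nat_lit 99029) (nat_lit 33) (nat_lit 5279) .nil) (nat_lit 104010) (nat_lit 4241) (nat_lit 525274) (.node
  .nil (nat_lit 115766) (nat_lit 9377) (nat_lit 0x1c111c) .nil)))) (nat_lit 118953) (nat_lit 48) (nat_lit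
  75309) (.node (.node (.node (.node (.node .nil (nat_lit 126216) (nat_lit 6608) (nat_lit 0x483434) .nil)
  (nat_lit 133817) (nat_lit 6304) (nat_lit 0x18428d) .nil) (nat_lit 140167) (nat_lit 8097) (nat_lit 15777)
  (.node (.node .nil (nat_lit 145176) (nat_lit 3408) (nat_lit 0x515094) .nil) (nat_lit 150618) (nat_lit 4192)
  (nat_lit 0x1a4834) .nil)) (nat_lit 153797) (nat_lit 1360) (nat_lit 608810) (.node (.node (.node .nil
  (nat_lit 157028) (nat_lit 9936) (nat_lit 0x405833) .nil) (nat_lit 168928) (nat_lit 336) (nat_lit 0x416a81)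
  .nil) (nat_lit 175681) (nat_lit 6032) (nat_lit 555160) (.node .nil (nat_lit 180636) (nat_lit 3377) (nat_lit
  0x103a15) .nil))) (nat_lit 190626) (nat_lit 224) (nat_lit 684577) (.node (.node (.node (.node .nil (nat_lit
  198058) (nat_lit 6129) (nat_lit 797449) .nil) (nat_lit 201013) (nat_lit 9729) (nat_lit 277580) .nil)
  (nat_lit 208020) (nat_lit 3664) (nat_lit 0x185612) (.node .nil (nat_lit 210955) (nat_lit 2481) (nat_lit
  0x200f68) .nil)) (nat_lit 213833) (nat_lit 1169) (nat_lit 0x102e8a) (.node (.node (.node .nil (nat_lit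
  231532) (nat_lit 8929) (nat_lit 0x241a1a) .nil) (nat_lit 237906) (nat_lit 3505) (nat_lit 10558) .nil)
  (nat_lit 252432) (nat_lit 528) (nat_lit 0x1964a0) (.node .nil (nat_lit 262637) (nat_lit 2992) (nat_lit
  0x400a4f) .nil))))) (nat_lit 267634) (nat_lit 7776) (nat_lit 0x530851) (.node (.node (.node (.node (.node
  (.node .nil (nat_lit 272595) (nat_lit 6080) (nat_lit 0x1a1a48) .nil) (nat_lit 277580) (nat_lit 7601)
  (nat_lit 0x681262) .nil) (nat_lit 283537) (nat_lit 2768) (nat_lit 0x5102e8) (.node (.node .nil (nat_lit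
  290352) (nat_lit 1760) (nat_lit 0x1810f1) .nil) (nat_lit 301236) (nat_lit 10128) (nat_lit 0x192243) .nil))
  (nat_lit 304405) (nat_lit 4160) (nat_lit 0x50305a) (.node (.node (.node .nil (nat_lit 307594) (nat_lit 7312)
  (nat_lit 0x433244) .nil) (nat_lit 314056) (nat_lit 1345) (nat_lit 0x700293) .nil) (nat_lit 334433) (nat_lit
  2240) (nat_lit 593097) (.node .nil (nat_lit 346141) (nat_lit 2657) (nat_lit 0x70160c) .nil))) (nat_lit
  351362) (nat_lit 3024) (nat_lit 722544) (.node (.node (.node (.node .nil (nat_lit 352547) (nat_lit 6784)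
  (nat_lit 0x421469) .nil) (nat_lit 361272) (nat_lit 4641) (nat_lit 0x44229c) .nil) (nat_lit 371206) (nat_lit
  2000) (nat_lit 668866) (.node .nil (nat_lit 381252) (nat_lit 4177) (nat_lit 0x50305a) .nil)) (nat_lit
  396116) (nat_lit 7041) (nat_lit 0x603886) (.node (.node (.node .nil (nat_lit 402026) (nat_lit 2592) (nat_lit
  153797) .nil) (nat_lit 418953) (nat_lit 8480) (nat_lit 21116) .nil) (nat_lit 421910) (nat_lit 9840) (nat_lit
  0x135062) (.node .nil (nat_lit 427666) (nat_lit 3841) (nat_lit 0x480995) .nil)))) (nat_lit 442481) (nat_lit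
  3440) (nat_lit 0x106869) (.node (.node (.node (.node (.node .nil (nat_lit 459847) (nat_lit 1745) (nat_lit
  0x481d0a) .nil) (nat_lit 463064) (nat_lit 3009) (nat_lit 0x400a4f) .nil) (nat_lit 475812) (nat_lit 9601)
  (nat_lit 0x541889) (.node (.node .nil (nat_lit 493953) (nat_lit 6801) (nat_lit 0x602c19) .nil) (nat_lit
  504864) (nat_lit 9264) (nat_lit 95313) .nil)) (nat_lit 525274) (nat_lit 2432) (nat_lit 0x528a84) (.node
  (.node (.node .nil (nat_lit 530245) (nat_lit 2017) (nat_lit 668866) .nil) (nat_lit 535268) (nat_lit 1904)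
  (nat_lit 563843) .nil) (nat_lit 542009) (nat_lit 9808) (nat_lit 0x50803d) (.node .nil (nat_lit 545190)
  (nat_lit 2385) (nat_lit 0x163141) .nil))) (nat_lit 551943) (nat_lit 10528) (nat_lit 692282) (.node (.node
  (.node (.node .nil (nat_lit 555160) (nat_lit 3729) (nat_lit 0x320265) .nil) (nat_lit 560668) (nat_lit 609)
  (nat_lit 0x2a1294) .nil) (nat_lit 563843) (nat_lit 993) (nat_lit 0x2205d1) (.node .nil (nat_lit 567074)
  (nat_lit 5440) (nat_lit 0x42b091) .nil)) (nat_lit 580704) (nat_lit 7328) (nat_lit 632881) (.node (.node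
  (.node .nil (nat_lit 582081) (nat_lit 7136) (nat_lit 0x40ba28) .nil) (nat_lit 593097) (nat_lit 1184)
  (nat_lit 560668) .nil) (nat_lit 596054) (nat_lit 8880) (nat_lit 0x1b8c02) (.node .nil (nat_lit 602472)
  (nat_lit 3088) (nat_lit 0x419c05) .nil)))))) (nat_lit 608810) (nat_lit 705) (nat_lit 0x360388) (.node (.node
  (.node (.node (.node (.node (.node .nil (nat_lit 615188) (nat_lit 6273) (nat_lit 0x1230ac) .nil) (nat_lit
  622863) (nat_lit 5553) (nat_lit 145176) .nil) (nat_lit 632881) (nat_lit 5024) (nat_lit 0x18b409) (.node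
  (.node .nil (nat_lit 657763) (nat_lit 4897) (nat_lit 0x262d02) .nil) (nat_lit 668866) (nat_lit 1040)
  (nat_lit 252432) .nil)) (nat_lit 675712) (nat_lit 2336) (nat_lit 0x48c2b0) (.node (.node (.node .nil
  (nat_lit 684577) (nat_lit 112) (nat_lit 118953) .nil) (nat_lit 689317) (nat_lit 4368) (nat_lit 57883) .nil)
  (nat_lit 692282) (nat_lit 9249) (nat_lit 396116) (.node .nil (nat_lit 702724) (nat_lit 6705) (nat_lit
  0x223870) .nil))) (nat_lit 705094) (nat_lit 432) (nat_lit 190626) (.node (.node (.node (.node .nil (nat_lit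
  722544) (nat_lit 1649) (nat_lit 919694) .nil) (nat_lit 742412) (nat_lit 6097) (nat_lit 0x1a1a48) .nil)
  (nat_lit 762504) (nat_lit 3248) (nat_lit 63108) (.node .nil (nat_lit 786999) (nat_lit 1856) (nat_lit
  0x1280cb) .nil)) (nat_lit 792232) (nat_lit 80) (nat_lit 99029) (.node (.node (.node .nil (nat_lit 797449)
  (nat_lit 3777) (nat_lit 0x6226a0) .nil) (nat_lit 804052) (nat_lit 1953) (nat_lit 0x5a1007) .nil) (nat_lit
  806987) (nat_lit 9761) (nat_lit 0x520742) (.node .nil (nat_lit 837906) (nat_lit 8785) (nat_lit 0x722114)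
  .nil)))) (nat_lit 843820) (nat_lit 6561) (nat_lit 0x561230) (.node (.node (.node (.node (.node .nil (nat_lit
  855332) (nat_lit 5217) (nat_lit 0x6e3008) .nil) (nat_lit 861210) (nat_lit 4513) (nat_lit 0x4a032c) .nil)
  (nat_lit 864389) (nat_lit 6496) (nat_lit 104010) (.node (.node .nil (nat_lit 884962) (nat_lit 8464) (nat_lit
  175681) .nil) (nat_lit 902657) (nat_lit 5488) (nat_lit 42232) .nil)) (nat_lit 919694) (nat_lit 848) (nat_lit
  705094) (.node (.node (.node .nil (nat_lit 924689) (nat_lit 7072) (nat_lit 0x19c058) .nil) (nat_lit 926128)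
  (nat_lit 8272) (nat_lit 0x50d241) .nil) (nat_lit 951624) (nat_lit 10272) (nat_lit 0x40e854) (.node .nil
  (nat_lit 987906) (nat_lit 2817) (nat_lit 0x4229c8) .nil))) (nat_lit 0xf6840) (nat_lit 8225) (nat_lit
  0x72082a) (.node (.node (.node (.node .nil (nat_lit 0x1007b4) (nat_lit 1328) (nat_lit 0x700293) .nil)
  (nat_lit 0x102e8a) (nat_lit 592) (nat_lit 0x2a1294) .nil) (nat_lit 0x103a15) (nat_lit 1841) (nat_lit
  0x2114e4) (.node .nil (nat_lit 0x104157) (nat_lit 7473) (nat_lit 0x113506) .nil)) (nat_lit 0x1055c8)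
  (nat_lit 10145) (nat_lit 0x192243) (.node (.node (.node .nil (nat_lit 0x106869) (nat_lit 1889) (nat_lit
  0x350622) .nil) (nat_lit 0x108a72) (nat_lit 9056) (nat_lit 0x3a2881) .nil) (nat_lit 0x10a34c) (nat_lit 6289)
  (nat_lit 78514) (.node .nil (nat_lit 0x10cc91) (nat_lit 10097) (nat_lit 0x390415) .nil))))) (nat_lit
  0x10f130) (nat_lit 6192) (nat_lit 0x713021) (.node (.node (.node (.node (.node (.node .nil (nat_lit
  0x1108a7) (nat_lit 4337) (nat_lit 0x251509) .nil) (nat_lit 0x111c38) (nat_lit 10080) (nat_lit 0x390415)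
  .nil) (nat_lit 0x112199) (nat_lit 65) (nat_lit 75309) (.node (.node .nil (nat_lit 0x113506) (nat_lit 5105)
  (nat_lit 602472) .nil) (nat_lit 0x114e44) (nat_lit 3905) (nat_lit 0x39108a) .nil)) (nat_lit 0x118561)
  (nat_lit 6769) (nat_lit 861210) (.node (.node (.node .nil (nat_lit 0x11c382) (nat_lit 161) (nat_lit
  0x112199) .nil) (nat_lit 0x121992) (nat_lit 3185) (nat_lit 0x212945) .nil) (nat_lit 0x122433) (nat_lit 7617)
  (nat_lit 855332) (.node .nil (nat_lit 0x1230ac) (nat_lit 3937) (nat_lit 334433) .nil))) (nat_lit 0x1262d0)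
  (nat_lit 2704) (nat_lit 0x305aa0) (.node (.node (.node (.node .nil (nat_lit 0x1280cb) (nat_lit 961) (nat_lit
  69395) .nil) (nat_lit 0x129454) (nat_lit 7856) (nat_lit 0x316812) .nil) (nat_lit 0x13021e) (nat_lit 2849)
  (nat_lit 72588) (.node .nil (nat_lit 0x131681) (nat_lit 2257) (nat_lit 593097) .nil)) (nat_lit 0x132b20)
  (nat_lit 5873) (nat_lit 0x2528a8) (.node (.node (.node .nil (nat_lit 0x135062) (nat_lit 7808) (nat_lit
  0x234c21) .nil) (nat_lit 0x13e005) (nat_lit 10673) (nat_lit 0x111c38) .nil) (nat_lit 0x140659) (nat_lit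
  1553) (nat_lit 0x490686) (.node .nil (nat_lit 0x1412c6) (nat_lit 3744) (nat_lit 0x230ac2) .nil)))) (nat_lit
  0x1440ba) (nat_lit 3712) (nat_lit 0x320265) (.node (.node (.node (.node (.node .nil (nat_lit 0x146984)
  (nat_lit 6209) (nat_lit 0x713021) .nil) (nat_lit 0x14a2a1) (nat_lit 4768) (nat_lit 0x2032c9) .nil) (nat_lit
  0x14e442) (nat_lit 6688) (nat_lit 0x223870) (.node (.node .nil (nat_lit 0x15094a) (nat_lit 6913) (nat_lit
  0x61230a) .nil) (nat_lit 0x152074) (nat_lit 5265) (nat_lit 0x45102e) .nil)) (nat_lit 0x157208) (nat_lit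
  1824) (nat_lit 0x2114e4) (.node (.node (.node .nil (nat_lit 0x15848c) (nat_lit 5665) (nat_lit 0x491219)
  .nil) (nat_lit 0x159013) (nat_lit 2513) (nat_lit 0x41055c) .nil) (nat_lit 0x160ce0) (nat_lit 8417) (nat_lit
  0x6d0803) (.node .nil (nat_lit 0x163141) (nat_lit 1248) (nat_lit 0x615848) .nil))) (nat_lit 0x16a818)
  (nat_lit 10592) (nat_lit 0x387044) (.node (.node (.node (.node .nil (nat_lit 0x174510) (nat_lit 6673)
  (nat_lit 0x59280c) .nil) (nat_lit 0x18046e) (nat_lit 4753) (nat_lit 987906) .nil) (nat_lit 0x1810f1)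
  (nat_lit 912) (nat_lit 0x318a09) (.node .nil (nat_lit 0x18428d) (nat_lit 3969) (nat_lit 0x131681) .nil))
  (nat_lit 0x185612) (nat_lit 2064) (nat_lit 0x3380b0) (.node (.node (.node .nil (nat_lit 0x1889a8) (nat_lit
  7937) (nat_lit 0x272211) .nil) (nat_lit 0x18a096) (nat_lit 8048) (nat_lit 0x32b202) .nil) (nat_lit 0x18b409)
  (nat_lit 3041) (nat_lit 722544) (.node .nil (nat_lit 0x192243) (nat_lit 8561) (nat_lit 198058) .nil)))))))
def to672_1 : T := (.node (.node (.node (.node (.node (.node (.node (.node .nil (nat_lit 0x1964a0) (nat_lit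
  272) (nat_lit 0x209631) .nil) (nat_lit 0x199224) (nat_lit 4993) (nat_lit 463064) .nil) (nat_lit 0x19c058)
  (nat_lit 4785) (nat_lit 0x13021e) (.node (.node .nil (nat_lit 0x1a1a48) (nat_lit 3761) (nat_lit 0x230ac2)
  .nil) (nat_lit 0x1a4834) (nat_lit 2417) (nat_lit 0x371804) .nil)) (nat_lit 0x1a610a) (nat_lit 5760) (nat_lit
  0x62d024) (.node (.node (.node .nil (nat_lit 0x1a8311) (nat_lit 5921) (nat_lit 208020) .nil) (nat_lit
  0x1b01c4) (nat_lit 4321) (nat_lit 210955) .nil) (nat_lit 0x1b8c02) (nat_lit 6464) (nat_lit 0x2ae410) (.node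
  .nil (nat_lit 0x1c0583) (nat_lit 7537) (nat_lit 0x4b2501) .nil))) (nat_lit 0x1c111c) (nat_lit 7168) (nat_lit
  0x718046) (.node (.node (.node (.node .nil (nat_lit 0x1c3822) (nat_lit 8864) (nat_lit 0x2b9041) .nil)
  (nat_lit 0x1c4360) (nat_lit 8528) (nat_lit 0x6088e1) .nil) (nat_lit 0x1c8845) (nat_lit 9536) (nat_lit
  0x28a84a) (.node .nil (nat_lit 0x1e2604) (nat_lit 9873) (nat_lit 0x4b18a0) .nil)) (nat_lit 0x1ed080)
  (nat_lit 7793) (nat_lit 0x530851) (.node (.node (.node .nil (nat_lit 0x1f0029) (nat_lit 5680) (nat_lit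
  0x20c44d) .nil) (nat_lit 0x200f68) (nat_lit 1297) (nat_lit 0x2c6282) .nil) (nat_lit 0x202656) (nat_lit 4145)
  (nat_lit 545190) (.node .nil (nat_lit 0x2032c9) (nat_lit 2832) (nat_lit 72588) .nil)))) (nat_lit 0x20498b)
  (nat_lit 1089) (nat_lit 0x306701) (.node (.node (.node (.node (.node .nil (nat_lit 0x205d14) (nat_lit 8336)
  (nat_lit 0x590132) .nil) (nat_lit 0x20742a) (nat_lit 10113) (nat_lit 0x1c4360) .nil) (nat_lit 0x2082ae)
  (nat_lit 4657) (nat_lit 283537) (.node (.node .nil (nat_lit 0x209631) (nat_lit 144) (nat_lit 0x112199) .nil)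
  (nat_lit 0x20c44d) (nat_lit 3488) (nat_lit 10558) .nil)) (nat_lit 0x20d0d2) (nat_lit 8304) (nat_lit
  0x132b20) (.node (.node (.node .nil (nat_lit 0x2114e4) (nat_lit 944) (nat_lit 69395) .nil) (nat_lit
  0x212945) (nat_lit 1728) (nat_lit 0x481d0a) .nil) (nat_lit 0x214698) (nat_lit 2528) (nat_lit 0x1007b4)
  (.node .nil (nat_lit 0x215207) (nat_lit 8544) (nat_lit 198058) .nil))) (nat_lit 0x219922) (nat_lit 7520)
  (nat_lit 0x4b2501) (.node (.node (.node (.node .nil (nat_lit 0x21a483) (nat_lit 5536) (nat_lit 145176) .nil)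
  (nat_lit 0x21b01c) (nat_lit 7456) (nat_lit 0x113506) .nil) (nat_lit 0x21e260) (nat_lit 6017) (nat_lit
  0x1440ba) (.node .nil (nat_lit 0x2205d1) (nat_lit 496) (nat_lit 0x504b18) .nil)) (nat_lit 0x22114e) (nat_lit
  9041) (nat_lit 31554) (.node (.node (.node .nil (nat_lit 0x223870) (nat_lit 4448) (nat_lit 0x195901) .nil)
  (nat_lit 0x224332) (nat_lit 5072) (nat_lit 0x5241a1) .nil) (nat_lit 0x226a0c) (nat_lit 2721) (nat_lit
  0x305aa0) (.node .nil (nat_lit 0x228817) (nat_lit 8192) (nat_lit 0x1a610a) .nil))))) (nat_lit 0x229c88)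
  (nat_lit 8704) (nat_lit 615188) (.node (.node (.node (.node (.node (.node .nil (nat_lit 0x22a129) (nat_lit
  3233) (nat_lit 290352) .nil) (nat_lit 0x230ac2) (nat_lit 2113) (nat_lit 0x20498b) .nil) (nat_lit 0x234c21)
  (nat_lit 5425) (nat_lit 0x3c4c08) (.node (.node .nil (nat_lit 0x237180) (nat_lit 3457) (nat_lit 0x106869)
  .nil) (nat_lit 0x238704) (nat_lit 6049) (nat_lit 555160) .nil)) (nat_lit 0x240e85) (nat_lit 4224) (nat_lit
  525274) (.node (.node (.node .nil (nat_lit 0x241a1a) (nat_lit 6592) (nat_lit 0x1b01c4) .nil) (nat_lit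
  0x243324) (nat_lit 6257) (nat_lit 0x4470e0) .nil) (nat_lit 0x244866) (nat_lit 7184) (nat_lit 657763) (.node
  .nil (nat_lit 0x246158) (nat_lit 6225) (nat_lit 0x506226) .nil))) (nat_lit 0x248343) (nat_lit 2800) (nat_lit
  0x4229c8) (.node (.node (.node (.node .nil (nat_lit 0x24c5a0) (nat_lit 7649) (nat_lit 0x5c6011) .nil)
  (nat_lit 0x24f801) (nat_lit 5088) (nat_lit 602472) .nil) (nat_lit 0x250196) (nat_lit 7665) (nat_lit
  0x40710d) (.node .nil (nat_lit 0x251509) (nat_lit 2496) (nat_lit 0x41055c) .nil)) (nat_lit 0x2528a8)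
  (nat_lit 3600) (nat_lit 530245) (.node (.node (.node .nil (nat_lit 0x26043c) (nat_lit 9584) (nat_lit
  0x104157) .nil) (nat_lit 0x2610a3) (nat_lit 2208) (nat_lit 213833) .nil) (nat_lit 0x262d02) (nat_lit 2928)
  (nat_lit 0x4a5150) (.node .nil (nat_lit 0x265640) (nat_lit 10017) (nat_lit 0x5848c2) .nil)))) (nat_lit
  0x26a0c4) (nat_lit 9024) (nat_lit 31554) (.node (.node (.node (.node (.node .nil (nat_lit 0x272211) (nat_lit
  5521) (nat_lit 0x404cac) .nil) (nat_lit 0x27c00a) (nat_lit 513) (nat_lit 0x504b18) .nil) (nat_lit 0x280cb2)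
  (nat_lit 5809) (nat_lit 0x2e4105) (.node (.node .nil (nat_lit 0x28182d) (nat_lit 7968) (nat_lit 622863)
  .nil) (nat_lit 0x28258c) (nat_lit 241) (nat_lit 684577) .nil)) (nat_lit 0x283113) (nat_lit 10480) (nat_lit
  0x539108) (.node (.node (.node .nil (nat_lit 0x284a51) (nat_lit 6721) (nat_lit 0x324486) .nil) (nat_lit
  0x288174) (nat_lit 4848) (nat_lit 0x50a903) .nil) (nat_lit 0x28a84a) (nat_lit 7409) (nat_lit 0x224332)
  (.node .nil (nat_lit 0x28d308) (nat_lit 4577) (nat_lit 0x1262d0) .nil))) (nat_lit 0x2903a1) (nat_lit 752)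
  (nat_lit 0x408789) (.node (.node (.node (.node .nil (nat_lit 0x294542) (nat_lit 8209) (nat_lit 0x1a610a)
  .nil) (nat_lit 0x29c884) (nat_lit 7824) (nat_lit 567074) .nil) (nat_lit 0x2a060b) (nat_lit 4081) (nat_lit
  675712) (.node .nil (nat_lit 0x2a1294) (nat_lit 304) (nat_lit 0x11c382) .nil)) (nat_lit 0x2ae410) (nat_lit
  4209) (nat_lit 0x1a4834) (.node (.node (.node .nil (nat_lit 0x2b0918) (nat_lit 4593) (nat_lit 0x226a0c)
  .nil) (nat_lit 0x2b9041) (nat_lit 6449) (nat_lit 150618) .nil) (nat_lit 0x2c2461) (nat_lit 8033) (nat_lit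
  0x4e4422) (.node .nil (nat_lit 0x2c6282) (nat_lit 656) (nat_lit 168928) .nil)))))) (nat_lit 0x2c8099)
  (nat_lit 8433) (nat_lit 0x424615) (.node (.node (.node (.node (.node (.node (.node .nil (nat_lit 0x2c9406)
  (nat_lit 2945) (nat_lit 0x4a5150) .nil) (nat_lit 0x2d024c) (nat_lit 10625) (nat_lit 0x42528a) .nil) (nat_lit
  0x2d5030) (nat_lit 9008) (nat_lit 0x118561) (.node (.node .nil (nat_lit 0x2e4105) (nat_lit 3569) (nat_lit
  0x527c00) .nil) (nat_lit 0x2e8a20) (nat_lit 9345) (nat_lit 0x664890) .nil)) (nat_lit 0x3008dc) (nat_lit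
  8080) (nat_lit 0x380b06) (.node (.node (.node .nil (nat_lit 0x301c43) (nat_lit 6864) (nat_lit 0x2b0918)
  .nil) (nat_lit 0x3021e2) (nat_lit 4560) (nat_lit 0x621b01) .nil) (nat_lit 0x305aa0) (nat_lit 1456) (nat_lit
  0x2903a1) (.node .nil (nat_lit 0x306701) (nat_lit 545) (nat_lit 0x1964a0) .nil))) (nat_lit 0x30851a)
  (nat_lit 8721) (nat_lit 615188) (.node (.node (.node (.node .nil (nat_lit 0x309185) (nat_lit 6896) (nat_lit
  0x61230a) .nil) (nat_lit 0x30ac24) (nat_lit 10385) (nat_lit 0x2d5030) .nil) (nat_lit 0x31412c) (nat_lit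
  3345) (nat_lit 0x157208) (.node .nil (nat_lit 0x316812) (nat_lit 5473) (nat_lit 0x31412c) .nil)) (nat_lit
  0x318a09) (nat_lit 464) (nat_lit 0x28258c) (.node (.node (.node .nil (nat_lit 0x320265) (nat_lit 2096)
  (nat_lit 0x20498b) .nil) (nat_lit 0x324486) (nat_lit 4465) (nat_lit 0x195901) .nil) (nat_lit 0x325019)
  (nat_lit 5456) (nat_lit 0x31412c) (.node .nil (nat_lit 0x32b202) (nat_lit 5616) (nat_lit 0x237180) .nil))))
  (nat_lit 0x32c940) (nat_lit 4944) (nat_lit 0x686920) (.node (.node (.node (.node (.node .nil (nat_lit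
  0x332448) (nat_lit 1377) (nat_lit 608810) .nil) (nat_lit 0x3380b0) (nat_lit 1072) (nat_lit 0x306701) .nil)
  (nat_lit 0x340931) (nat_lit 9216) (nat_lit 0x780149) (.node (.node .nil (nat_lit 0x34200f) (nat_lit 7089)
  (nat_lit 0x415720) .nil) (nat_lit 0x349068) (nat_lit 3168) (nat_lit 0x212945) .nil)) (nat_lit 0x34c214)
  (nat_lit 3425) (nat_lit 0x515094) (.node (.node (.node .nil (nat_lit 0x350622) (nat_lit 976) (nat_lit
  0x2205d1) .nil) (nat_lit 0x3540c1) (nat_lit 2464) (nat_lit 0x200f68) .nil) (nat_lit 0x360388) (nat_lit 353)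
  (nat_lit 0x416a81) (.node .nil (nat_lit 0x371804) (nat_lit 1265) (nat_lit 0x615848) .nil))) (nat_lit
  0x380b06) (nat_lit 5633) (nat_lit 0x237180) (.node (.node (.node (.node .nil (nat_lit 0x382238) (nat_lit
  9104) (nat_lit 0x309185) .nil) (nat_lit 0x387044) (nat_lit 9632) (nat_lit 0x219922) .nil) (nat_lit 0x38c023)
  (nat_lit 5296) (nat_lit 0x22a129) (.node .nil (nat_lit 0x390415) (nat_lit 8513) (nat_lit 742412) .nil))
  (nat_lit 0x39108a) (nat_lit 2225) (nat_lit 213833) (.node (.node (.node .nil (nat_lit 0x3a1520) (nat_lit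
  9969) (nat_lit 0xf6840) .nil) (nat_lit 0x3a2881) (nat_lit 6832) (nat_lit 0x28d308) .nil) (nat_lit 0x3c4c08)
  (nat_lit 3313) (nat_lit 0x7b4200) (.node .nil (nat_lit 0x3e0052) (nat_lit 7248) (nat_lit 0x32c940) .nil)))))
  (nat_lit 0x400a4f) (nat_lit 1632) (nat_lit 919694) (.node (.node (.node (.node (.node (.node .nil (nat_lit
  0x402371) (nat_lit 5377) (nat_lit 0x8424a6) .nil) (nat_lit 0x404cac) (nat_lit 3392) (nat_lit 786999) .nil)
  (nat_lit 0x405833) (nat_lit 8112) (nat_lit 0x1f0029) (.node (.node .nil (nat_lit 0x406592) (nat_lit 6544)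
  (nat_lit 0x561230) .nil) (nat_lit 0x40710d) (nat_lit 5248) (nat_lit 0x45102e) .nil)) (nat_lit 0x408789)
  (nat_lit 385) (nat_lit 0x882691) (.node (.node (.node .nil (nat_lit 0x409316) (nat_lit 8816) (nat_lit
  0x572082) .nil) (nat_lit 0x40ba28) (nat_lit 4865) (nat_lit 0xa402f0) .nil) (nat_lit 0x40c16a) (nat_lit
  10560) (nat_lit 0x462825) (.node .nil (nat_lit 0x40e854) (nat_lit 8849) (nat_lit 0xb01036) .nil))) (nat_lit
  0x41055c) (nat_lit 1313) (nat_lit 0x88320e) (.node (.node (.node (.node .nil (nat_lit 0x4111c3) (nat_lit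
  5728) (nat_lit 0x470e08) .nil) (nat_lit 0x412c62) (nat_lit 9280) (nat_lit 924689) .nil) (nat_lit 0x415720)
  (nat_lit 4800) (nat_lit 0x4504b1) (.node .nil (nat_lit 0x416a81) (nat_lit 176) (nat_lit 792232) .nil))
  (nat_lit 0x41889a) (nat_lit 5361) (nat_lit 0xa0031d) (.node (.node (.node .nil (nat_lit 0x419c05) (nat_lit
  1681) (nat_lit 0xa81458) .nil) (nat_lit 0x41a1a4) (nat_lit 7280) (nat_lit 0x443603) .nil) (nat_lit 0x421469)
  (nat_lit 4528) (nat_lit 346141) (.node .nil (nat_lit 0x4229c8) (nat_lit 1521) (nat_lit 0xa02a23) .nil))))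
  (nat_lit 0x424615) (nat_lit 6000) (nat_lit 0x1440ba) (.node (.node (.node (.node (.node .nil (nat_lit
  0x42528a) (nat_lit 9905) (nat_lit 0x900bc1) .nil) (nat_lit 0x428d30) (nat_lit 7632) (nat_lit 0x5c6011) .nil)
  (nat_lit 0x42a40e) (nat_lit 6369) (nat_lit 0x881b30) (.node (.node .nil (nat_lit 0x42b091) (nat_lit 3328)
  (nat_lit 0x157208) .nil) (nat_lit 0x433244) (nat_lit 5008) (nat_lit 351362) .nil)) (nat_lit 0x434906)
  (nat_lit 8016) (nat_lit 0x4e4422) (.node (.node (.node .nil (nat_lit 0x438223) (nat_lit 5137) (nat_lit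
  0x840d98) .nil) (nat_lit 0x43c4c0) (nat_lit 3216) (nat_lit 290352) .nil) (nat_lit 0x440ba2) (nat_lit 4400)
  (nat_lit 0x4e02c1) (.node .nil (nat_lit 0x44229c) (nat_lit 2753) (nat_lit 0xc012a5) .nil))) (nat_lit
  0x443603) (nat_lit 4976) (nat_lit 463064) (.node (.node (.node (.node .nil (nat_lit 0x444d41) (nat_lit 9712)
  (nat_lit 0x4c0878) .nil) (nat_lit 0x4470e0) (nat_lit 3920) (nat_lit 334433) .nil) (nat_lit 0x448664)
  (nat_lit 8496) (nat_lit 272595) (.node .nil (nat_lit 0x44c087) (nat_lit 1585) (nat_lit 0xd01511) .nil))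
  (nat_lit 0x44d418) (nat_lit 3121) (nat_lit 0xd80254) (.node (.node (.node .nil (nat_lit 0x4504b1) (nat_lit
  2864) (nat_lit 0x140659) .nil) (nat_lit 0x45102e) (nat_lit 3200) (nat_lit 459847) .nil) (nat_lit 0x454252)
  (nat_lit 6161) (nat_lit 0xd0018e) (.node .nil (nat_lit 0x45a049) (nat_lit 2321) (nat_lit 0xc0063a)
  .nil)))))))
def to672_2 : T := (.node (.node (.node (.node (.node (.node (.node (.node .nil (nat_lit 0x461584) (nat_lit
  8592) (nat_lit 0x454252) .nil) (nat_lit 0x462825) (nat_lit 9409) (nat_lit 0xe41c20) .nil) (nat_lit 0x469842)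
  (nat_lit 9952) (nat_lit 0xf6840) (.node (.node .nil (nat_lit 0x46e300) (nat_lit 6240) (nat_lit 0x4470e0)
  .nil) (nat_lit 0x470e08) (nat_lit 3520) (nat_lit 804052) .nil)) (nat_lit 0x480995) (nat_lit 2176) (nat_lit
  0x5c820a) (.node (.node (.node .nil (nat_lit 0x481d0a) (nat_lit 897) (nat_lit 0xaa2340) .nil) (nat_lit
  0x483434) (nat_lit 4352) (nat_lit 0x159013) .nil) (nat_lit 0x486648) (nat_lit 9089) (nat_lit 0x9a02a2)
  (.node .nil (nat_lit 0x488453) (nat_lit 7201) (nat_lit 0x8a0516) .nil))) (nat_lit 0x4890cc) (nat_lit 3297)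
  (nat_lit 0x821253) (.node (.node (.node (.node .nil (nat_lit 0x48c2b0) (nat_lit 1233) (nat_lit 0x960095)
  .nil) (nat_lit 0x490686) (nat_lit 801) (nat_lit 0x8a1189) .nil) (nat_lit 0x491219) (nat_lit 3473) (nat_lit
  0x8206cc) (.node .nil (nat_lit 0x49f002) (nat_lit 5841) (nat_lit 0x920178) .nil)) (nat_lit 0x4a032c)
  (nat_lit 2641) (nat_lit 0x863a80) (.node (.node (.node .nil (nat_lit 0x4a2a12) (nat_lit 9553) (nat_lit
  0xa209a4) .nil) (nat_lit 0x4a5150) (nat_lit 1600) (nat_lit 0x55c820) .nil) (nat_lit 0x4ac809) (nat_lit 8912)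
  (nat_lit 843820) (.node .nil (nat_lit 0x4b18a0) (nat_lit 7872) (nat_lit 902657) .nil)))) (nat_lit 0x4b2501)
  (nat_lit 5152) (nat_lit 0x44d418) (.node (.node (.node (.node (.node .nil (nat_lit 0x4c0878) (nat_lit 7585)
  (nat_lit 0xe60206) .nil) (nat_lit 0x4c2146) (nat_lit 8625) (nat_lit 0xc23122) .nil) (nat_lit 0x4c5a04)
  (nat_lit 10064) (nat_lit 884962) (.node (.node .nil (nat_lit 0x4c9121) (nat_lit 4048) (nat_lit 0x45a049)
  .nil) (nat_lit 0x4d4188) (nat_lit 1441) (nat_lit 0xd22209) .nil)) (nat_lit 0x4e02c1) (nat_lit 2560) (nat_lit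
  314056) (.node (.node (.node .nil (nat_lit 0x4e4422) (nat_lit 5600) (nat_lit 442481) .nil) (nat_lit
  0x4f8014) (nat_lit 8976) (nat_lit 0x14e442) .nil) (nat_lit 0x501964) (nat_lit 8321) (nat_lit 0xa53042)
  (.node .nil (nat_lit 0x5024c5) (nat_lit 4001) (nat_lit 0x891423) .nil))) (nat_lit 0x50305a) (nat_lit 2400)
  (nat_lit 0x371804) (.node (.node (.node (.node .nil (nat_lit 0x504b18) (nat_lit 257) (nat_lit 0xb12284)
  .nil) (nat_lit 0x506226) (nat_lit 3888) (nat_lit 0x2610a3) .nil) (nat_lit 0x50803d) (nat_lit 7761) (nat_lit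
  0x851614) (.node .nil (nat_lit 0x5094a2) (nat_lit 7920) (nat_lit 0x272211) .nil)) (nat_lit 0x50a903)
  (nat_lit 2897) (nat_lit 0xa12530) (.node (.node (.node .nil (nat_lit 0x50d241) (nat_lit 5856) (nat_lit
  0x2528a8) .nil) (nat_lit 0x5102e8) (nat_lit 1489) (nat_lit 0x85028b) .nil) (nat_lit 0x51440b) (nat_lit 7713)
  (nat_lit 0x990708) (.node .nil (nat_lit 0x515094) (nat_lit 1872) (nat_lit 0x350622) .nil))))) (nat_lit
  0x520742) (nat_lit 7697) (nat_lit 0x892982) (.node (.node (.node (.node (.node (.node .nil (nat_lit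
  0x5241a1) (nat_lit 3073) (nat_lit 0x952c01) .nil) (nat_lit 0x527c00) (nat_lit 1985) (nat_lit 0xb90860) .nil)
  (nat_lit 0x528a84) (nat_lit 1280) (nat_lit 0x2c6282) (.node (.node .nil (nat_lit 0x530851) (nat_lit 5408)
  (nat_lit 0x3c4c08) .nil) (nat_lit 0x539108) (nat_lit 9185) (nat_lit 0x812a58) .nil)) (nat_lit 0x540c16)
  (nat_lit 9424) (nat_lit 0x3e0052) (.node (.node (.node .nil (nat_lit 0x541889) (nat_lit 7489) (nat_lit
  0xe10641) .nil) (nat_lit 0x542528) (nat_lit 10400) (nat_lit 0x641055) .nil) (nat_lit 0x550305) (nat_lit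
  2161) (nat_lit 0xc13488) (.node .nil (nat_lit 0x55c820) (nat_lit 833) (nat_lit 0xf50018) .nil))) (nat_lit
  0x561230) (nat_lit 4288) (nat_lit 0x3540c1) (.node (.node (.node (.node .nil (nat_lit 0x56404c) (nat_lit
  8945) (nat_lit 0xd11a02) .nil) (nat_lit 0x572082) (nat_lit 6401) (nat_lit 0xc10929) .nil) (nat_lit 0x580e21)
  (nat_lit 10032) (nat_lit 0x2c8099) (.node .nil (nat_lit 0x5848c2) (nat_lit 8401) (nat_lit 0xb30103) .nil))
  (nat_lit 0x58c504) (nat_lit 4112) (nat_lit 0x64a032) (.node (.node (.node .nil (nat_lit 0x590132) (nat_lit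
  5904) (nat_lit 0x768401) .nil) (nat_lit 0x59280c) (nat_lit 4433) (nat_lit 0xa31228) .nil) (nat_lit 0x5a0498)
  (nat_lit 5568) (nat_lit 0x34c214) (.node .nil (nat_lit 0x5a1007) (nat_lit 1008) (nat_lit 0x27c00a) .nil))))
  (nat_lit 0x5aa060) (nat_lit 7424) (nat_lit 0x24f801) (.node (.node (.node (.node (.node .nil (nat_lit
  0x5c6011) (nat_lit 5232) (nat_lit 0x349068) .nil) (nat_lit 0x5c820a) (nat_lit 1153) (nat_lit 0xc30390) .nil)
  (nat_lit 0x600527) (nat_lit 7361) (nat_lit 0x8c7500) (.node (.node .nil (nat_lit 0x6011b8) (nat_lit 3824)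
  (nat_lit 0x550305) .nil) (nat_lit 0x602c19) (nat_lit 4545) (nat_lit 0xa84624) .nil)) (nat_lit 0x603886)
  (nat_lit 4736) (nat_lit 987906) (.node (.node (.node .nil (nat_lit 0x6043c4) (nat_lit 6640) (nat_lit
  0x440ba2) .nil) (nat_lit 0x6088e1) (nat_lit 6112) (nat_lit 797449) .nil) (nat_lit 0x60ce02) (nat_lit 9984)
  (nat_lit 926128) (.node .nil (nat_lit 0x610a34) (nat_lit 9648) (nat_lit 0x1c0583) .nil))) (nat_lit 0x61230a)
  (nat_lit 4625) (nat_lit 0x8063a8) (.node (.node (.node (.node .nil (nat_lit 0x615848) (nat_lit 641) (nat_lit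
  0xb0424a) .nil) (nat_lit 0x61c111) (nat_lit 9489) (nat_lit 0x90641c) .nil) (nat_lit 0x621b01) (nat_lit 2688)
  (nat_lit 0x4d4188) (.node .nil (nat_lit 0x6226a0) (nat_lit 2129) (nat_lit 0x8c48a1) .nil)) (nat_lit
  0x628258) (nat_lit 8640) (nat_lit 0x146984) (.node (.node (.node .nil (nat_lit 0x62d024) (nat_lit 3553)
  (nat_lit 0x945850) .nil) (nat_lit 0x631412) (nat_lit 8960) (nat_lit 0x174510) .nil) (nat_lit 0x6404ca)
  (nat_lit 9201) (nat_lit 0xc84303) (.node .nil (nat_lit 0x641055) (nat_lit 9120) (nat_lit 0x15094a)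
  .nil)))))) (nat_lit 0x644229) (nat_lit 4960) (nat_lit 262637) (.node (.node (.node (.node (.node (.node
  (.node .nil (nat_lit 0x64890c) (nat_lit 4689) (nat_lit 0xe07210) .nil) (nat_lit 0x64a032) (nat_lit 2368)
  (nat_lit 0x163141) .nil) (nat_lit 0x656404) (nat_lit 9681) (nat_lit 0xd85028) (.node (.node .nil (nat_lit
  0x664890) (nat_lit 7121) (nat_lit 0xf04805) .nil) (nat_lit 0x670160) (nat_lit 10608) (nat_lit 0x444d41)
  .nil)) (nat_lit 0x681262) (nat_lit 5201) (nat_lit 0x8641c2) (.node (.node (.node .nil (nat_lit 0x685481)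
  (nat_lit 6928) (nat_lit 361272) .nil) (nat_lit 0x686920) (nat_lit 2977) (nat_lit 0xb66020) .nil) (nat_lit
  0x68a205) (nat_lit 9504) (nat_lit 307594) (.node .nil (nat_lit 0x698428) (nat_lit 4273) (nat_lit 0x8e4218)
  .nil))) (nat_lit 0x6a0c44) (nat_lit 9457) (nat_lit 0xaa5802) (.node (.node (.node (.node .nil (nat_lit
  0x6a8182) (nat_lit 8656) (nat_lit 0x46e300) .nil) (nat_lit 0x6d0803) (nat_lit 5985) (nat_lit 0xe24508) .nil)
  (nat_lit 0x6e3008) (nat_lit 3153) (nat_lit 0xc24a60) (.node .nil (nat_lit 0x700293) (nat_lit 688) (nat_lit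
  0x360388) .nil)) (nat_lit 0x70160c) (nat_lit 1409) (nat_lit 0x8952c0) (.node (.node (.node .nil (nat_lit
  0x704470) (nat_lit 10512) (nat_lit 0x340931) .nil) (nat_lit 0x70e088) (nat_lit 8688) (nat_lit 0x243324)
  .nil) (nat_lit 0x713021) (nat_lit 3873) (nat_lit 0x854468) (.node .nil (nat_lit 0x718046) (nat_lit 4880)
  (nat_lit 0x262d02) .nil)))) (nat_lit 0x72082a) (nat_lit 5792) (nat_lit 0x2e4105) (.node (.node (.node (.node
  (.node .nil (nat_lit 0x722114) (nat_lit 6337) (nat_lit 0x817824) .nil) (nat_lit 0x745102) (nat_lit 10449)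
  (nat_lit 0xd16140) .nil) (nat_lit 0x768401) (nat_lit 3649) (nat_lit 0xc94c10) (.node (.node .nil (nat_lit
  0x780149) (nat_lit 6992) (nat_lit 0x64890c) .nil) (nat_lit 0x7b4200) (nat_lit 1809) (nat_lit 0x934888)
  .nil)) (nat_lit 0x7c00a4) (nat_lit 4704) (nat_lit 0x248343) (.node (.node (.node .nil (nat_lit 0x800c75)
  (nat_lit 3616) (nat_lit 0x98081b) .nil) (nat_lit 0x8018ea) (nat_lit 4721) (nat_lit 0x248343) .nil) (nat_lit
  0x80254b) (nat_lit 7841) (nat_lit 567074) (.node .nil (nat_lit 0x8031d4) (nat_lit 6577) (nat_lit 45159)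
  .nil))) (nat_lit 0x804a96) (nat_lit 9072) (nat_lit 0x9a02a2) (.node (.node (.node (.node .nil (nat_lit
  0x8063a8) (nat_lit 2736) (nat_lit 0xc012a5) .nil) (nat_lit 0x8081b3) (nat_lit 1424) (nat_lit 0xd22209) .nil)
  (nat_lit 0x80a88d) (nat_lit 289) (nat_lit 0x209631) (.node .nil (nat_lit 0x80bc12) (nat_lit 7104) (nat_lit
  0x9b3010) .nil)) (nat_lit 0x80c750) (nat_lit 9696) (nat_lit 0xd028b0) (.node (.node (.node .nil (nat_lit
  0x810366) (nat_lit 6528) (nat_lit 0xc20c83) .nil) (nat_lit 0x812a58) (nat_lit 6961) (nat_lit 0x2082ae) .nil)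
  (nat_lit 0x814585) (nat_lit 2304) (nat_lit 0xc0063a) (.node .nil (nat_lit 0x81511a) (nat_lit 8737) (nat_lit
  0x10a34c) .nil))))) (nat_lit 0x817824) (nat_lit 3984) (nat_lit 0x891423) (.node (.node (.node (.node (.node
  (.node .nil (nat_lit 0x818ea0) (nat_lit 368) (nat_lit 0x882691) .nil) (nat_lit 0x81b301) (nat_lit 2144)
  (nat_lit 0xc13488) .nil) (nat_lit 0x81c843) (nat_lit 10193) (nat_lit 0x30851a) (.node (.node .nil (nat_lit
  0x8206cc) (nat_lit 1921) (nat_lit 563843) .nil) (nat_lit 0x821253) (nat_lit 1792) (nat_lit 0x934888) .nil))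
  (nat_lit 0x8254b0) (nat_lit 9776) (nat_lit 0x914231) (.node (.node (.node .nil (nat_lit 0x826911) (nat_lit
  9664) (nat_lit 0xd85028) .nil) (nat_lit 0x82a234) (nat_lit 6656) (nat_lit 0x907083) .nil) (nat_lit 0x82f048)
  (nat_lit 6320) (nat_lit 0x817824) (.node .nil (nat_lit 0x831d40) (nat_lit 3632) (nat_lit 0xc94c10) .nil)))
  (nat_lit 0x836602) (nat_lit 9889) (nat_lit 0x1889a8) (.node (.node (.node (.node .nil (nat_lit 0x838419)
  (nat_lit 1201) (nat_lit 560668) .nil) (nat_lit 0x839086) (nat_lit 8833) (nat_lit 39257) .nil) (nat_lit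
  0x840d98) (nat_lit 3104) (nat_lit 0xd80254) (.node .nil (nat_lit 0x8424a6) (nat_lit 3280) (nat_lit 0x821253)
  .nil)) (nat_lit 0x843039) (nat_lit 8896) (nat_lit 0x91104d) (.node (.node (.node .nil (nat_lit 0x846245)
  (nat_lit 7024) (nat_lit 0x8018ea) .nil) (nat_lit 0x84805e) (nat_lit 10257) (nat_lit 0x409316) .nil) (nat_lit
  0x8494c1) (nat_lit 9168) (nat_lit 0x812a58) (.node .nil (nat_lit 0x84a960) (nat_lit 4129) (nat_lit 0x64a032)
  .nil)))) (nat_lit 0x85028b) (nat_lit 769) (nat_lit 0x408789) (.node (.node (.node (.node (.node .nil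
  (nat_lit 0x851614) (nat_lit 5393) (nat_lit 0x4890cc) .nil) (nat_lit 0x854468) (nat_lit 2193) (nat_lit
  0x5c820a) .nil) (nat_lit 0x85e090) (nat_lit 9825) (nat_lit 0x50803d) (.node (.node .nil (nat_lit 0x863a80)
  (nat_lit 1392) (nat_lit 0x8952c0) .nil) (nat_lit 0x8641c2) (nat_lit 3136) (nat_lit 0xc24a60) .nil)) (nat_lit
  0x870832) (nat_lit 7009) (nat_lit 0x64890c) (.node (.node (.node .nil (nat_lit 0x87210c) (nat_lit 7153)
  (nat_lit 0x40ba28) .nil) (nat_lit 0x881b30) (nat_lit 4016) (nat_lit 0xd98081) .nil) (nat_lit 0x882691)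
  (nat_lit 192) (nat_lit 0x909298) (.node .nil (nat_lit 0x88320e) (nat_lit 673) (nat_lit 168928) .nil)))
  (nat_lit 0x88494c) (nat_lit 8065) (nat_lit 0x32b202) (.node (.node (.node (.node .nil (nat_lit 0x888269)
  (nat_lit 560) (nat_lit 0x80a88d) .nil) (nat_lit 0x88c48a) (nat_lit 8353) (nat_lit 0x1a8311) .nil) (nat_lit
  0x88d015) (nat_lit 9136) (nat_lit 0x91a02a) (.node .nil (nat_lit 0x891423) (nat_lit 2272) (nat_lit 0x838419)
  .nil)) (nat_lit 0x892982) (nat_lit 5313) (nat_lit 0x22a129) (.node (.node (.node .nil (nat_lit 0x8952c0)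
  (nat_lit 720) (nat_lit 0x818ea0) .nil) (nat_lit 0x89a444) (nat_lit 9312) (nat_lit 0x80bc12) .nil) (nat_lit
  0x8a0516) (nat_lit 4912) (nat_lit 0xd2c012) (.node .nil (nat_lit 0x8a1189) (nat_lit 400) (nat_lit 0xc1c20c)
  .nil)))))))
def to672_3 : T := (.node (.node (.node (.node (.node (.node (.node (.node .nil (nat_lit 0x8a88d0) (nat_lit
  3680) (nat_lit 0x98ea00) .nil) (nat_lit 0x8b0a05) (nat_lit 10000) (nat_lit 0x88c48a) .nil) (nat_lit
  0x8bc120) (nat_lit 10736) (nat_lit 0xc0e421) (.node (.node .nil (nat_lit 0x8c0e42) (nat_lit 5936) (nat_lit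
  0x8a88d0) .nil) (nat_lit 0x8c48a1) (nat_lit 1104) (nat_lit 0x888269) .nil)) (nat_lit 0x8c7500) (nat_lit
  5040) (nat_lit 0xc19070) (.node (.node (.node .nil (nat_lit 0x8c8384) (nat_lit 4480) (nat_lit 0xc0a2c2)
  .nil) (nat_lit 0x8d0151) (nat_lit 8801) (nat_lit 0x42a40e) .nil) (nat_lit 0x8d9808) (nat_lit 10161) (nat_lit
  0x628258) (.node .nil (nat_lit 0x8e1064) (nat_lit 10641) (nat_lit 0x469842) .nil))) (nat_lit 0x8e4218)
  (nat_lit 2449) (nat_lit 0x528a84) (.node (.node (.node (.node .nil (nat_lit 0x8ea003) (nat_lit 8768)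
  (nat_lit 0x82f048) .nil) (nat_lit 0x900bc1) (nat_lit 7953) (nat_lit 0x21a483) .nil) (nat_lit 0x903660)
  (nat_lit 8128) (nat_lit 0xa11891) (.node .nil (nat_lit 0x90641c) (nat_lit 7297) (nat_lit 0x199224) .nil))
  (nat_lit 0x907083) (nat_lit 4416) (nat_lit 0xa31228) (.node (.node (.node .nil (nat_lit 0x909298) (nat_lit
  97) (nat_lit 99029) .nil) (nat_lit 0x90c0e4) (nat_lit 1504) (nat_lit 0xa02a23) .nil) (nat_lit 0x9104d2)
  (nat_lit 7985) (nat_lit 622863) (.node .nil (nat_lit 0x91104d) (nat_lit 6513) (nat_lit 104010) .nil))))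
  (nat_lit 0x914231) (nat_lit 7728) (nat_lit 0xb004a9) (.node (.node (.node (.node (.node .nil (nat_lit
  0x918914) (nat_lit 9569) (nat_lit 0x21b01c) .nil) (nat_lit 0x91a02a) (nat_lit 6945) (nat_lit 361272) .nil)
  (nat_lit 0x920178) (nat_lit 3585) (nat_lit 371206) (.node (.node .nil (nat_lit 0x922846) (nat_lit 9440)
  (nat_lit 0xaa5802) .nil) (nat_lit 0x92a580) (nat_lit 4672) (nat_lit 0xe07210) .nil)) (nat_lit 0x934888)
  (nat_lit 929) (nat_lit 0x318a09) (.node (.node (.node .nil (nat_lit 0x942312) (nat_lit 9473) (nat_lit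
  0x41a1a4) .nil) (nat_lit 0x945850) (nat_lit 1968) (nat_lit 0xb90860) .nil) (nat_lit 0x9511a0) (nat_lit 4065)
  (nat_lit 0x45a049) (.node .nil (nat_lit 0x952c01) (nat_lit 1664) (nat_lit 0xa81458) .nil))) (nat_lit
  0x960095) (nat_lit 624) (nat_lit 0xb0424a) (.node (.node (.node (.node .nil (nat_lit 0x978240) (nat_lit
  7745) (nat_lit 0x41889a) .nil) (nat_lit 0x98081b) (nat_lit 2032) (nat_lit 0xba800c) .nil) (nat_lit 0x981c84)
  (nat_lit 7888) (nat_lit 0xa98212) (.node .nil (nat_lit 0x982125) (nat_lit 10545) (nat_lit 504864) .nil))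
  (nat_lit 0x989142) (nat_lit 5713) (nat_lit 237906) (.node (.node (.node .nil (nat_lit 0x98ea00) (nat_lit
  2081) (nat_lit 0x3380b0) .nil) (nat_lit 0x990708) (nat_lit 5329) (nat_lit 762504) .nil) (nat_lit 0x9a02a2)
  (nat_lit 6880) (nat_lit 0xa2c281) (.node .nil (nat_lit 0x9a4441) (nat_lit 8000) (nat_lit 0xa0c838) .nil)))))
  (nat_lit 0x9b3010) (nat_lit 4816) (nat_lit 0xb1d400) (.node (.node (.node (.node (.node (.node .nil (nat_lit
  0x9c20c8) (nat_lit 7505) (nat_lit 0x438223) .nil) (nat_lit 0x9c8430) (nat_lit 10337) (nat_lit 0x4f8014)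
  .nil) (nat_lit 0x9d4006) (nat_lit 10497) (nat_lit 0x539108) (.node (.node .nil (nat_lit 0xa0031d) (nat_lit
  3265) (nat_lit 63108) .nil) (nat_lit 0xa01782) (nat_lit 1136) (nat_lit 0xc30390) .nil)) (nat_lit 0xa02a23)
  (nat_lit 784) (nat_lit 0x8a1189) (.node (.node (.node .nil (nat_lit 0xa05161) (nat_lit 6384) (nat_lit
  0xc10929) .nil) (nat_lit 0xa06cc0) (nat_lit 6352) (nat_lit 0x881b30) .nil) (nat_lit 0xa09a44) (nat_lit 7680)
  (nat_lit 0x892982) (.node .nil (nat_lit 0xa0c838) (nat_lit 5585) (nat_lit 0x34c214) .nil))) (nat_lit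
  0xa0e106) (nat_lit 8608) (nat_lit 0xc23122) (.node (.node (.node (.node .nil (nat_lit 0xa10c0e) (nat_lit
  6849) (nat_lit 0x28d308) .nil) (nat_lit 0xa11891) (nat_lit 5697) (nat_lit 0x20c44d) .nil) (nat_lit 0xa12530)
  (nat_lit 1568) (nat_lit 0xd01511) (.node .nil (nat_lit 0xa181c8) (nat_lit 4385) (nat_lit 57883) .nil))
  (nat_lit 0xa209a4) (nat_lit 7441) (nat_lit 0x24f801) (.node (.node (.node .nil (nat_lit 0xa23405) (nat_lit
  9521) (nat_lit 580704) .nil) (nat_lit 0xa28462) (nat_lit 10241) (nat_lit 837906) .nil) (nat_lit 0xa2c281)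
  (nat_lit 4608) (nat_lit 0x8063a8) (.node .nil (nat_lit 0xa31228) (nat_lit 2577) (nat_lit 314056) .nil))))
  (nat_lit 0xa402f0) (nat_lit 2913) (nat_lit 0x44c087) (.node (.node (.node (.node (.node .nil (nat_lit
  0xa44413) (nat_lit 5824) (nat_lit 0x920178) .nil) (nat_lit 0xa4508c) (nat_lit 8289) (nat_lit 0x50d241) .nil)
  (nat_lit 0xa4a608) (nat_lit 2353) (nat_lit 0x48c2b0) (.node (.node .nil (nat_lit 0xa53042) (nat_lit 5888)
  (nat_lit 0x831d40) .nil) (nat_lit 0xa54b00) (nat_lit 10177) (nat_lit 0x70e088) .nil)) (nat_lit 0xa58025)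
  (nat_lit 5169) (nat_lit 0x44d418) (.node (.node (.node .nil (nat_lit 0xa60849) (nat_lit 9920) (nat_lit
  0x88494c) .nil) (nat_lit 0xa69110) (nat_lit 10289) (nat_lit 0x40e854) .nil) (nat_lit 0xa81458) (nat_lit 865)
  (nat_lit 705094) (.node .nil (nat_lit 0xa84624) (nat_lit 2672) (nat_lit 0x8081b3) .nil))) (nat_lit 0xa88d01)
  (nat_lit 6481) (nat_lit 0x2ae410) (.node (.node (.node (.node .nil (nat_lit 0xa8b0a0) (nat_lit 3792)
  (nat_lit 0x81b301) .nil) (nat_lit 0xa98212) (nat_lit 5505) (nat_lit 180636) .nil) (nat_lit 0xaa2340)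
  (nat_lit 449) (nat_lit 190626) (.node .nil (nat_lit 0xaa5802) (nat_lit 7265) (nat_lit 0x32c940) .nil))
  (nat_lit 0xac012a) (nat_lit 8673) (nat_lit 0x46e300) (.node (.node (.node .nil (nat_lit 0xac2814) (nat_lit
  5777) (nat_lit 0x62d024) .nil) (nat_lit 0xaf0480) (nat_lit 10321) (nat_lit 0x4ac809) .nil) (nat_lit
  0xb004a9) (nat_lit 5344) (nat_lit 0xa0031d) (.node .nil (nat_lit 0xb01036) (nat_lit 6433) (nat_lit 381252)
  .nil)))))) (nat_lit 0xb03908) (nat_lit 8449) (nat_lit 0x21e260) (.node (.node (.node (.node (.node (.node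
  (.node .nil (nat_lit 0xb0424a) (nat_lit 321) (nat_lit 0x11c382) .nil) (nat_lit 0xb0a051) (nat_lit 10048)
  (nat_lit 0xb03908) .nil) (nat_lit 0xb12284) (nat_lit 129) (nat_lit 118953) (.node (.node .nil (nat_lit
  0xb1d400) (nat_lit 2880) (nat_lit 0xa12530) .nil) (nat_lit 0xb20e10) (nat_lit 9857) (nat_lit 0x29c884)
  .nil)) (nat_lit 0xb30103) (nat_lit 5968) (nat_lit 0xe24508) (.node (.node (.node .nil (nat_lit 0xb40544)
  (nat_lit 8257) (nat_lit 0x49f002) .nil) (nat_lit 0xb48882) (nat_lit 880) (nat_lit 0xaa2340) .nil) (nat_lit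
  0xb66020) (nat_lit 1617) (nat_lit 0x55c820) (.node .nil (nat_lit 0xb84190) (nat_lit 10352) (nat_lit
  0xf08320) .nil))) (nat_lit 0xb90860) (nat_lit 1025) (nat_lit 0x27c00a) (.node (.node (.node (.node .nil
  (nat_lit 0xba800c) (nat_lit 1057) (nat_lit 252432) .nil) (nat_lit 0xbc1201) (nat_lit 5281) (nat_lit
  0x43c4c0) .nil) (nat_lit 0xc0063a) (nat_lit 1216) (nat_lit 0x960095) (.node .nil (nat_lit 0xc012a5) (nat_lit
  1472) (nat_lit 0x85028b) .nil)) (nat_lit 0xc02f04) (nat_lit 6145) (nat_lit 0xa8b0a0) (.node (.node (.node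
  .nil (nat_lit 0xc05446) (nat_lit 8145) (nat_lit 0x989142) .nil) (nat_lit 0xc0a2c2) (nat_lit 2624) (nat_lit
  0x863a80) .nil) (nat_lit 0xc0d980) (nat_lit 10657) (nat_lit 0xb0a051) (.node .nil (nat_lit 0xc0e421)
  (nat_lit 10304) (nat_lit 0x843039) .nil)))) (nat_lit 0xc10929) (nat_lit 4097) (nat_lit 0xa4a608) (.node
  (.node (.node (.node (.node .nil (nat_lit 0xc13488) (nat_lit 1121) (nat_lit 0x888269) .nil) (nat_lit
  0xc19070) (nat_lit 3056) (nat_lit 0x952c01) .nil) (nat_lit 0xc1c20c) (nat_lit 209) (nat_lit 0x909298) (.node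
  (.node .nil (nat_lit 0xc20c83) (nat_lit 4256) (nat_lit 0x8e4218) .nil) (nat_lit 0xc2181c) (nat_lit 9745)
  (nat_lit 0xa09a44) .nil)) (nat_lit 0xc23122) (nat_lit 6176) (nat_lit 0xc75001) (.node (.node (.node .nil
  (nat_lit 0xc24a60) (nat_lit 1713) (nat_lit 0xb48882) .nil) (nat_lit 0xc28145) (nat_lit 9329) (nat_lit
  0x80bc12) .nil) (nat_lit 0xc30390) (nat_lit 577) (nat_lit 0x80a88d) (.node .nil (nat_lit 0xc41348) (nat_lit
  4497) (nat_lit 0xc0a2c2) .nil))) (nat_lit 0xc44134) (nat_lit 7393) (nat_lit 0xd4b004) (.node (.node (.node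
  (.node .nil (nat_lit 0xc4680a) (nat_lit 10369) (nat_lit 0xf08320) .nil) (nat_lit 0xc48a11) (nat_lit 9616)
  (nat_lit 0x9c20c8) .nil) (nat_lit 0xc508c4) (nat_lit 8368) (nat_lit 0x8c0e42) (.node .nil (nat_lit 0xc58502)
  (nat_lit 5744) (nat_lit 0xc62450) .nil)) (nat_lit 0xc62450) (nat_lit 3536) (nat_lit 0x945850) (.node (.node
  (.node .nil (nat_lit 0xc680a8) (nat_lit 9232) (nat_lit 0x846245) .nil) (nat_lit 0xc75001) (nat_lit 3856)
  (nat_lit 0x854468) .nil) (nat_lit 0xc805e0) (nat_lit 10225) (nat_lit 0x8ea003) (.node .nil (nat_lit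
  0xc83841) (nat_lit 10688) (nat_lit 0x8d9808) .nil))))) (nat_lit 0xc84303) (nat_lit 6977) (nat_lit 0x92a580)
  (.node (.node (.node (.node (.node (.node .nil (nat_lit 0xc88826) (nat_lit 10208) (nat_lit 0x8ea003) .nil)
  (nat_lit 0xc8a118) (nat_lit 7376) (nat_lit 0xd4b004) .nil) (nat_lit 0xc94c10) (nat_lit 2049) (nat_lit
  0xba800c) (.node (.node .nil (nat_lit 0xca9600) (nat_lit 5953) (nat_lit 0x8a88d0) .nil) (nat_lit 0xcc040d)
  (nat_lit 8385) (nat_lit 0xca9600) .nil)) (nat_lit 0xcc1092) (nat_lit 9792) (nat_lit 0x978240) (.node (.node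
  (.node .nil (nat_lit 0xcd2220) (nat_lit 10464) (nat_lit 0x8494c1) .nil) (nat_lit 0xd0018e) (nat_lit 3809)
  (nat_lit 0x81b301) .nil) (nat_lit 0xd01511) (nat_lit 816) (nat_lit 0xf50018) (.node .nil (nat_lit 0xd028b0)
  (nat_lit 7569) (nat_lit 0xa58025) .nil))) (nat_lit 0xd08c48) (nat_lit 7905) (nat_lit 0xa98212) (.node (.node
  (.node (.node .nil (nat_lit 0xd11a02) (nat_lit 6625) (nat_lit 0xa181c8) .nil) (nat_lit 0xd16140) (nat_lit
  9153) (nat_lit 0x91a02a) .nil) (nat_lit 0xd22209) (nat_lit 737) (nat_lit 0x818ea0) (.node .nil (nat_lit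
  0xd2c012) (nat_lit 2960) (nat_lit 0xb66020) .nil)) (nat_lit 0xd30424) (nat_lit 8240) (nat_lit 0xa44413)
  (.node (.node (.node .nil (nat_lit 0xd40063) (nat_lit 8177) (nat_lit 0xc58502) .nil) (nat_lit 0xd44680)
  (nat_lit 4033) (nat_lit 0xd98081) .nil) (nat_lit 0xd4b004) (nat_lit 5057) (nat_lit 0xc19070) (.node .nil
  (nat_lit 0xd80254) (nat_lit 1696) (nat_lit 0xb48882) .nil)))) (nat_lit 0xd85028) (nat_lit 7552) (nat_lit
  0xa58025) (.node (.node (.node (.node (.node .nil (nat_lit 0xd98081) (nat_lit 2289) (nat_lit 0x838419) .nil)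
  (nat_lit 0xde0900) (nat_lit 7216) (nat_lit 0xecc040) .nil) (nat_lit 0xe00952) (nat_lit 9392) (nat_lit
  0xde0900) (.node (.node .nil (nat_lit 0xe07210) (nat_lit 2785) (nat_lit 0x90c0e4) .nil) (nat_lit 0xe08494)
  (nat_lit 10433) (nat_lit 0x88d015) .nil)) (nat_lit 0xe0900b) (nat_lit 9360) (nat_lit 0x87210c) (.node (.node
  (.node .nil (nat_lit 0xe10641) (nat_lit 5120) (nat_lit 0x840d98) .nil) (nat_lit 0xe24508) (nat_lit 3697)
  (nat_lit 0x98ea00) .nil) (nat_lit 0xe3a800) (nat_lit 7344) (nat_lit 0x8c7500) (.node .nil (nat_lit 0xe41c20)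
  (nat_lit 7233) (nat_lit 0xecc040) .nil))) (nat_lit 0xe42181) (nat_lit 6752) (nat_lit 0xc41348) (.node (.node
  (.node (.node .nil (nat_lit 0xe60206) (nat_lit 5184) (nat_lit 0x8641c2) .nil) (nat_lit 0xe80a88) (nat_lit
  6736) (nat_lit 0x8c8384) .nil) (nat_lit 0xe91104) (nat_lit 8160) (nat_lit 0xc58502) (.node .nil (nat_lit
  0xecc040) (nat_lit 4929) (nat_lit 0xd2c012) .nil)) (nat_lit 0xf04805) (nat_lit 4833) (nat_lit 0xb1d400)
  (.node (.node (.node .nil (nat_lit 0xf08320) (nat_lit 8992) (nat_lit 0xe42181) .nil) (nat_lit 0xf210c0)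
  (nat_lit 10704) (nat_lit 0xa54b00) .nil) (nat_lit 0xf50018) (nat_lit 417) (nat_lit 0xc1c20c) (.node .nil
  (nat_lit 0xf82402) (nat_lit 10720) (nat_lit 0xa69110) .nil)))))))
def to672 : T := (.node (.node to672_0 (nat_lit 0x195901) (nat_lit 2609) (nat_lit 0x332448) to672_1) (nat_lit
  0x46011b) (nat_lit 8577) (nat_lit 0xc02f04) (.node to672_2 (nat_lit 0x8a2c28) (nat_lit 10416) (nat_lit
  0x88d015) to672_3))
theorem to672_chk : band (orbChk act (gensOf cT) 5279 (2 ^ 24) to672) (Nat.beq to672.size 672) = true := by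
  decide +kernel
theorem to672_card : (orbit (stabilizer M24 T0) (unmask 5279)).ncard = 672 :=
  orbit_ncard_of_chk acSM trivial cT_chk stab_T0 (oct_rep (m := 5279) (by decide +kernel)).2 to672_chk

def ts7 : T := (.node (.node (.node .nil (nat_lit 658) (nat_lit 33) (nat_lit 3489) .nil) (nat_lit 1391)
  (nat_lit 81) (nat_lit 3891) (.node .nil (nat_lit 2045) (nat_lit 65) (nat_lit 658) .nil)) (nat_lit 2254)
  (nat_lit 16) (nat_lit 3489) (.node (.node .nil (nat_lit 2652) (nat_lit 96) (nat_lit 1391) .nil) (nat_lit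
  3489) (nat_lit 0) (nat_lit 3489) (.node .nil (nat_lit 3891) (nat_lit 48) (nat_lit 658) .nil)))
theorem ts7_chk : band (orbChk apS (gensOf cT) 3489 (4096) ts7) (Nat.beq ts7.size 7) = true := by
  decide +kernel
theorem ts7_card : (orbit (stabilizer M24 T0) (sext (unmask 8388615))).ncard = 7 :=
  orbit_ncard_of_chk acX (sext_rep (t := 8388615) (k := 3489) (by decide +kernel)).1 cT_chk stab_T0 (sext_rep (t := 8388615) (k := 3489) (by decide +kernel)).2 ts7_chk

def ts84 : T := (.node (.node (.node (.node (.node (.node (.node .nil (nat_lit 202) (nat_lit 384) (nat_lit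
  3783) .nil) (nat_lit 238) (nat_lit 1153) (nat_lit 2511) .nil) (nat_lit 282) (nat_lit 912) (nat_lit 2334)
  (.node (.node .nil (nat_lit 329) (nat_lit 97) (nat_lit 879) .nil) (nat_lit 383) (nat_lit 656) (nat_lit 3232)
  .nil)) (nat_lit 464) (nat_lit 641) (nat_lit 723) (.node (.node (.node .nil (nat_lit 500) (nat_lit 768)
  (nat_lit 3259) .nil) (nat_lit 600) (nat_lit 977) (nat_lit 2900) .nil) (nat_lit 667) (nat_lit 1185) (nat_lit
  2782) (.node .nil (nat_lit 694) (nat_lit 1248) (nat_lit 940) .nil))) (nat_lit 723) (nat_lit 352) (nat_lit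
  1554) (.node (.node (.node (.node .nil (nat_lit 834) (nat_lit 240) (nat_lit 3863) .nil) (nat_lit 879)
  (nat_lit 33) (nat_lit 1847) .nil) (nat_lit 893) (nat_lit 1089) (nat_lit 2738) (.node (.node .nil (nat_lit
  904) (nat_lit 1056) (nat_lit 464) .nil) (nat_lit 915) (nat_lit 1168) (nat_lit 2782) .nil)) (nat_lit 940)
  (nat_lit 945) (nat_lit 1725) (.node (.node (.node .nil (nat_lit 1023) (nat_lit 304) (nat_lit 3954) .nil)
  (nat_lit 1062) (nat_lit 1121) (nat_lit 3164) .nil) (nat_lit 1071) (nat_lit 1040) (nat_lit 2865) (.node .nil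
  (nat_lit 1105) (nat_lit 608) (nat_lit 1409) .nil)))) (nat_lit 1127) (nat_lit 272) (nat_lit 1535) (.node
  (.node (.node (.node (.node .nil (nat_lit 1170) (nat_lit 960) (nat_lit 2900) .nil) (nat_lit 1326) (nat_lit
  289) (nat_lit 1535) .nil) (nat_lit 1382) (nat_lit 496) (nat_lit 2031) (.node (.node .nil (nat_lit 1405)
  (nat_lit 992) (nat_lit 3297) .nil) (nat_lit 1409) (nat_lit 337) (nat_lit 1788) .nil)) (nat_lit 1445)
  (nat_lit 1200) (nat_lit 2362) (.node (.node (.node .nil (nat_lit 1535) (nat_lit 129) (nat_lit 2544) .nil)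
  (nat_lit 1545) (nat_lit 1312) (nat_lit 904) .nil) (nat_lit 1554) (nat_lit 176) (nat_lit 2182) (.node .nil
  (nat_lit 1666) (nat_lit 481) (nat_lit 834) .nil))) (nat_lit 1680) (nat_lit 401) (nat_lit 3783) (.node (.node
  (.node (.node .nil (nat_lit 1725) (nat_lit 560) (nat_lit 1023) .nil) (nat_lit 1781) (nat_lit 416) (nat_lit
  3377) .nil) (nat_lit 1788) (nat_lit 161) (nat_lit 3150) (.node .nil (nat_lit 1847) (nat_lit 0) (nat_lit
  1847) .nil)) (nat_lit 1901) (nat_lit 1025) (nat_lit 1105) (.node (.node (.node .nil (nat_lit 2009) (nat_lit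
  1008) (nat_lit 1105) .nil) (nat_lit 2031) (nat_lit 257) (nat_lit 3863) .nil) (nat_lit 2124) (nat_lit 785)
  (nat_lit 3259) (.node .nil (nat_lit 2182) (nat_lit 80) (nat_lit 879) .nil))))) (nat_lit 2191) (nat_lit 433)
  (nat_lit 3377) (.node (.node (.node (.node (.node (.node .nil (nat_lit 2268) (nat_lit 928) (nat_lit 1725)
  .nil) (nat_lit 2334) (nat_lit 545) (nat_lit 1326) .nil) (nat_lit 2337) (nat_lit 848) (nat_lit 2580) (.node
  (.node .nil (nat_lit 2362) (nat_lit 865) (nat_lit 2580) .nil) (nat_lit 2439) (nat_lit 1072) (nat_lit 383)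
  .nil)) (nat_lit 2502) (nat_lit 897) (nat_lit 3678) (.node (.node (.node .nil (nat_lit 2511) (nat_lit 736)
  (nat_lit 4017) .nil) (nat_lit 2544) (nat_lit 48) (nat_lit 4061) .nil) (nat_lit 2580) (nat_lit 513) (nat_lit
  2031) (.node .nil (nat_lit 2638) (nat_lit 1216) (nat_lit 3699) .nil))) (nat_lit 2645) (nat_lit 1296)
  (nat_lit 1405) (.node (.node (.node (.node .nil (nat_lit 2680) (nat_lit 833) (nat_lit 1382) .nil) (nat_lit
  2738) (nat_lit 672) (nat_lit 202) .nil) (nat_lit 2782) (nat_lit 816) (nat_lit 1382) (.node .nil (nat_lit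
  2851) (nat_lit 1137) (nat_lit 2956) .nil)) (nat_lit 2865) (nat_lit 624) (nat_lit 723) (.node (.node (.node
  .nil (nat_lit 2900) (nat_lit 577) (nat_lit 1023) .nil) (nat_lit 2956) (nat_lit 721) (nat_lit 2191) .nil)
  (nat_lit 2977) (nat_lit 689) (nat_lit 202) (.node .nil (nat_lit 3150) (nat_lit 65) (nat_lit 4061) .nil))))
  (nat_lit 3164) (nat_lit 704) (nat_lit 1781) (.node (.node (.node (.node (.node .nil (nat_lit 3232) (nat_lit
  369) (nat_lit 1554) .nil) (nat_lit 3259) (nat_lit 464) (nat_lit 834) .nil) (nat_lit 3294) (nat_lit 320)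
  (nat_lit 1788) (.node (.node .nil (nat_lit 3297) (nat_lit 593) (nat_lit 3294) .nil) (nat_lit 3304) (nat_lit
  800) (nat_lit 1666) .nil)) (nat_lit 3363) (nat_lit 1329) (nat_lit 904) (.node (.node (.node .nil (nat_lit
  3377) (nat_lit 208) (nat_lit 329) .nil) (nat_lit 3496) (nat_lit 753) (nat_lit 4017) .nil) (nat_lit 3561)
  (nat_lit 1280) (nat_lit 1170) (.node .nil (nat_lit 3597) (nat_lit 1233) (nat_lit 3699) .nil))) (nat_lit
  3625) (nat_lit 225) (nat_lit 329) (.node (.node (.node (.node .nil (nat_lit 3678) (nat_lit 528) (nat_lit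
  1326) .nil) (nat_lit 3699) (nat_lit 880) (nat_lit 3678) .nil) (nat_lit 3783) (nat_lit 193) (nat_lit 2182)
  (.node .nil (nat_lit 3863) (nat_lit 112) (nat_lit 2544) .nil)) (nat_lit 3954) (nat_lit 144) (nat_lit 3150)
  (.node (.node (.node .nil (nat_lit 3963) (nat_lit 1104) (nat_lit 3164) .nil) (nat_lit 4003) (nat_lit 1265)
  (nat_lit 940) .nil) (nat_lit 4017) (nat_lit 449) (nat_lit 3625) (.node .nil (nat_lit 4061) (nat_lit 16)
  (nat_lit 1847) .nil))))))
theorem ts84_chk : band (orbChk apS (gensOf cT) 1847 (4096) ts84) (Nat.beq ts84.size 84) = true := by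
  decide +kernel
theorem ts84_card : (orbit (stabilizer M24 T0) (sext (unmask 147489))).ncard = 84 :=
  orbit_ncard_of_chk acX (sext_rep (t := 147489) (k := 1847) (by decide +kernel)).1 cT_chk stab_T0 (sext_rep (t := 147489) (k := 1847) (by decide +kernel)).2 ts84_chk

def ts336_0 : T := (.node (.node (.node (.node (.node (.node (.node (.node .nil (nat_lit 27) (nat_lit 3424)
  (nat_lit 2830) .nil) (nat_lit 45) (nat_lit 273) (nat_lit 2117) .nil) (nat_lit 54) (nat_lit 2193) (nat_lit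
  703) (.node (.node .nil (nat_lit 63) (nat_lit 3600) (nat_lit 108) .nil) (nat_lit 83) (nat_lit 2705) (nat_lit
  1865) .nil)) (nat_lit 90) (nat_lit 3441) (nat_lit 54) (.node (.node (.node .nil (nat_lit 101) (nat_lit 4289)
  (nat_lit 1526) .nil) (nat_lit 108) (nat_lit 2336) (nat_lit 1452) .nil) (nat_lit 119) (nat_lit 5280) (nat_lit
  3746) (.node .nil (nat_lit 126) (nat_lit 1473) (nat_lit 3852) .nil))) (nat_lit 139) (nat_lit 4736) (nat_lit
  27) (.node (.node (.node (.node .nil (nat_lit 153) (nat_lit 1392) (nat_lit 2823) .nil) (nat_lit 166)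
  (nat_lit 1584) (nat_lit 2923) .nil) (nat_lit 175) (nat_lit 384) (nat_lit 2937) (.node (.node .nil (nat_lit
  180) (nat_lit 2017) (nat_lit 2553) .nil) (nat_lit 189) (nat_lit 4129) (nat_lit 3718) .nil)) (nat_lit 195)
  (nat_lit 2880) (nat_lit 3797) (.node (.node (.node .nil (nat_lit 209) (nat_lit 2737) (nat_lit 3087) .nil)
  (nat_lit 216) (nat_lit 4081) (nat_lit 2928) .nil) (nat_lit 231) (nat_lit 3872) (nat_lit 1463) (.node .nil
  (nat_lit 245) (nat_lit 1633) (nat_lit 821) .nil)))) (nat_lit 252) (nat_lit 3696) (nat_lit 3769) (.node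
  (.node (.node (.node (.node .nil (nat_lit 275) (nat_lit 5216) (nat_lit 2316) .nil) (nat_lit 293) (nat_lit
  4817) (nat_lit 486) .nil) (nat_lit 300) (nat_lit 2608) (nat_lit 2400) (.node (.node .nil (nat_lit 311)
  (nat_lit 3985) (nat_lit 3171) .nil) (nat_lit 338) (nat_lit 3345) (nat_lit 2453) .nil)) (nat_lit 347)
  (nat_lit 2208) (nat_lit 1986) (.node (.node (.node .nil (nat_lit 356) (nat_lit 4561) (nat_lit 2858) .nil)
  (nat_lit 374) (nat_lit 2144) (nat_lit 3250) .nil) (nat_lit 387) (nat_lit 1681) (nat_lit 1434) (.node .nil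
  (nat_lit 394) (nat_lit 3808) (nat_lit 523) .nil))) (nat_lit 401) (nat_lit 2801) (nat_lit 2079) (.node (.node
  (.node (.node .nil (nat_lit 408) (nat_lit 2080) (nat_lit 2327) .nil) (nat_lit 423) (nat_lit 4481) (nat_lit
  2720) .nil) (nat_lit 430) (nat_lit 961) (nat_lit 3551) (.node .nil (nat_lit 437) (nat_lit 3280) (nat_lit
  615) .nil)) (nat_lit 444) (nat_lit 4753) (nat_lit 90) (.node (.node (.node .nil (nat_lit 450) (nat_lit 3729)
  (nat_lit 3926) .nil) (nat_lit 459) (nat_lit 4800) (nat_lit 3287) .nil) (nat_lit 473) (nat_lit 1056) (nat_lit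
  1995) (.node .nil (nat_lit 486) (nat_lit 3617) (nat_lit 108) .nil))))) (nat_lit 523) (nat_lit 2512) (nat_lit
  969) (.node (.node (.node (.node (.node (.node .nil (nat_lit 537) (nat_lit 3313) (nat_lit 408) .nil)
  (nat_lit 550) (nat_lit 1505) (nat_lit 1112) .nil) (nat_lit 559) (nat_lit 465) (nat_lit 807) (.node (.node
  .nil (nat_lit 564) (nat_lit 3169) (nat_lit 2525) .nil) (nat_lit 573) (nat_lit 4704) (nat_lit 951) .nil))
  (nat_lit 579) (nat_lit 1777) (nat_lit 430) (.node (.node (.node .nil (nat_lit 586) (nat_lit 2928) (nat_lit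
  3349) .nil) (nat_lit 593) (nat_lit 577) (nat_lit 3115) .nil) (nat_lit 615) (nat_lit 2049) (nat_lit 3732)
  (.node .nil (nat_lit 622) (nat_lit 4593) (nat_lit 2539) .nil))) (nat_lit 629) (nat_lit 3953) (nat_lit 785)
  (.node (.node (.node (.node .nil (nat_lit 649) (nat_lit 2561) (nat_lit 1883) .nil) (nat_lit 676) (nat_lit
  5056) (nat_lit 2224) .nil) (nat_lit 685) (nat_lit 833) (nat_lit 2145) (.node .nil (nat_lit 703) (nat_lit
  1201) (nat_lit 1508) .nil)) (nat_lit 705) (nat_lit 3504) (nat_lit 3342) (.node (.node (.node .nil (nat_lit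
  712) (nat_lit 33) (nat_lit 3479) .nil) (nat_lit 741) (nat_lit 3024) (nat_lit 1644) .nil) (nat_lit 748)
  (nat_lit 1569) (nat_lit 685) (.node .nil (nat_lit 759) (nat_lit 305) (nat_lit 2135) .nil)))) (nat_lit 766)
  (nat_lit 3488) (nat_lit 3426) (.node (.node (.node (.node (.node .nil (nat_lit 771) (nat_lit 4961) (nat_lit
  1470) .nil) (nat_lit 778) (nat_lit 1936) (nat_lit 473) .nil) (nat_lit 785) (nat_lit 2641) (nat_lit 2107)
  (.node (.node .nil (nat_lit 792) (nat_lit 3120) (nat_lit 2757) .nil) (nat_lit 807) (nat_lit 224) (nat_lit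
  2729) .nil)) (nat_lit 814) (nat_lit 976) (nat_lit 2747) (.node (.node (.node .nil (nat_lit 821) (nat_lit
  865) (nat_lit 1793) .nil) (nat_lit 828) (nat_lit 2529) (nat_lit 126) .nil) (nat_lit 843) (nat_lit 4000)
  (nat_lit 3845) (.node .nil (nat_lit 848) (nat_lit 609) (nat_lit 759) .nil))) (nat_lit 857) (nat_lit 4241)
  (nat_lit 1416) (.node (.node (.node (.node .nil (nat_lit 884) (nat_lit 5137) (nat_lit 3533) .nil) (nat_lit
  897) (nat_lit 4912) (nat_lit 450) .nil) (nat_lit 933) (nat_lit 4464) (nat_lit 2720) (.node .nil (nat_lit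
  951) (nat_lit 3377) (nat_lit 3143) .nil)) (nat_lit 958) (nat_lit 1760) (nat_lit 430) (.node (.node (.node
  .nil (nat_lit 960) (nat_lit 3185) (nat_lit 1076) .nil) (nat_lit 969) (nat_lit 1456) (nat_lit 3852) .nil)
  (nat_lit 996) (nat_lit 2256) (nat_lit 1148) (.node .nil (nat_lit 1014) (nat_lit 673) (nat_lit 1675)
  .nil)))))) (nat_lit 1035) (nat_lit 4048) (nat_lit 83) (.node (.node (.node (.node (.node (.node (.node .nil
  (nat_lit 1049) (nat_lit 3585) (nat_lit 2460) .nil) (nat_lit 1076) (nat_lit 1953) (nat_lit 473) .nil)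
  (nat_lit 1085) (nat_lit 161) (nat_lit 1702) (.node (.node .nil (nat_lit 1091) (nat_lit 2481) (nat_lit 2474)
  .nil) (nat_lit 1098) (nat_lit 2897) (nat_lit 3797) .nil)) (nat_lit 1112) (nat_lit 784) (nat_lit 1427) (.node
  (.node (.node .nil (nat_lit 1148) (nat_lit 1265) (nat_lit 3178) .nil) (nat_lit 1161) (nat_lit 1233) (nat_lit
  3935) .nil) (nat_lit 1188) (nat_lit 1041) (nat_lit 1818) (.node .nil (nat_lit 1197) (nat_lit 4720) (nat_lit
  2872) .nil))) (nat_lit 1206) (nat_lit 369) (nat_lit 2719) (.node (.node (.node (.node .nil (nat_lit 1217)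
  (nat_lit 2032) (nat_lit 3732) .nil) (nat_lit 1224) (nat_lit 801) (nat_lit 1427) .nil) (nat_lit 1235)
  (nat_lit 4224) (nat_lit 1416) (.node .nil (nat_lit 1242) (nat_lit 1664) (nat_lit 1434) .nil)) (nat_lit 1253)
  (nat_lit 4272) (nat_lit 1526) (.node (.node (.node .nil (nat_lit 1260) (nat_lit 241) (nat_lit 2729) .nil)
  (nat_lit 1271) (nat_lit 4065) (nat_lit 83) .nil) (nat_lit 1278) (nat_lit 5248) (nat_lit 3832) (.node .nil
  (nat_lit 1283) (nat_lit 1120) (nat_lit 593) .nil)))) (nat_lit 1290) (nat_lit 2992) (nat_lit 579) (.node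
  (.node (.node (.node (.node .nil (nat_lit 1297) (nat_lit 3648) (nat_lit 2381) .nil) (nat_lit 1304) (nat_lit
  3136) (nat_lit 2399) .nil) (nat_lit 1333) (nat_lit 912) (nat_lit 559) (.node (.node .nil (nat_lit 1340)
  (nat_lit 5296) (nat_lit 573) .nil) (nat_lit 1346) (nat_lit 3793) (nat_lit 1910) .nil)) (nat_lit 1360)
  (nat_lit 688) (nat_lit 1937) (.node (.node (.node .nil (nat_lit 1369) (nat_lit 4208) (nat_lit 1923) .nil)
  (nat_lit 1396) (nat_lit 4784) (nat_lit 3315) .nil) (nat_lit 1416) (nat_lit 2865) (nat_lit 387) (.node .nil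
  (nat_lit 1427) (nat_lit 401) (nat_lit 2937) .nil))) (nat_lit 1434) (nat_lit 897) (nat_lit 3078) (.node
  (.node (.node (.node .nil (nat_lit 1452) (nat_lit 1344) (nat_lit 2344) .nil) (nat_lit 1463) (nat_lit 2576)
  (nat_lit 550) .nil) (nat_lit 1470) (nat_lit 3841) (nat_lit 828) (.node .nil (nat_lit 1472) (nat_lit 2352)
  (nat_lit 3204) .nil)) (nat_lit 1481) (nat_lit 5089) (nat_lit 2895) (.node (.node (.node .nil (nat_lit 1490)
  (nat_lit 4352) (nat_lit 1944) .nil) (nat_lit 1499) (nat_lit 4849) (nat_lit 1738) .nil) (nat_lit 1508)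
  (nat_lit 624) (nat_lit 2022) (.node .nil (nat_lit 1526) (nat_lit 2913) (nat_lit 3727) .nil))))) (nat_lit
  1563) (nat_lit 1968) (nat_lit 2196) (.node (.node (.node (.node (.node (.node .nil (nat_lit 1572) (nat_lit
  1744) (nat_lit 2296) .nil) (nat_lit 1590) (nat_lit 993) (nat_lit 2747) .nil) (nat_lit 1599) (nat_lit 1280)
  (nat_lit 1014) (.node (.node .nil (nat_lit 1601) (nat_lit 97) (nat_lit 712) .nil) (nat_lit 1608) (nat_lit
  3889) (nat_lit 1463) .nil)) (nat_lit 1619) (nat_lit 1009) (nat_lit 3917) (.node (.node (.node .nil (nat_lit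
  1626) (nat_lit 4992) (nat_lit 1608) .nil) (nat_lit 1637) (nat_lit 2944) (nat_lit 1572) .nil) (nat_lit 1644)
  (nat_lit 1808) (nat_lit 1590) (.node .nil (nat_lit 1655) (nat_lit 4768) (nat_lit 3384) .nil))) (nat_lit
  1662) (nat_lit 4657) (nat_lit 1800) (.node (.node (.node (.node .nil (nat_lit 1675) (nat_lit 337) (nat_lit
  1085) .nil) (nat_lit 1689) (nat_lit 1552) (nat_lit 2205) .nil) (nat_lit 1702) (nat_lit 65) (nat_lit 3192)
  (.node .nil (nat_lit 1711) (nat_lit 1409) (nat_lit 2823) .nil)) (nat_lit 1738) (nat_lit 3632) (nat_lit 3421)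
  (.node (.node (.node .nil (nat_lit 1745) (nat_lit 1840) (nat_lit 1619) .nil) (nat_lit 1752) (nat_lit 208)
  (nat_lit 1601) .nil) (nat_lit 1774) (nat_lit 2272) (nat_lit 1599) (.node .nil (nat_lit 1793) (nat_lit 433)
  (nat_lit 1752) .nil)))) (nat_lit 1800) (nat_lit 3296) (nat_lit 408) (.node (.node (.node (.node (.node .nil
  (nat_lit 1818) (nat_lit 529) (nat_lit 3106) .nil) (nat_lit 1829) (nat_lit 4641) (nat_lit 2530) .nil)
  (nat_lit 1836) (nat_lit 4432) (nat_lit 2810) (.node (.node .nil (nat_lit 1854) (nat_lit 4513) (nat_lit 792)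
  .nil) (nat_lit 1856) (nat_lit 3712) (nat_lit 3926) .nil)) (nat_lit 1865) (nat_lit 1601) (nat_lit 2923)
  (.node (.node (.node .nil (nat_lit 1874) (nat_lit 4177) (nat_lit 401) .nil) (nat_lit 1883) (nat_lit 1488)
  (nat_lit 1112) .nil) (nat_lit 1892) (nat_lit 1793) (nat_lit 814) (.node .nil (nat_lit 1910) (nat_lit 2497)
  (nat_lit 3755) .nil))) (nat_lit 1923) (nat_lit 2848) (nat_lit 387) (.node (.node (.node (.node .nil (nat_lit
  1930) (nat_lit 4160) (nat_lit 401) .nil) (nat_lit 1937) (nat_lit 352) (nat_lit 2719) .nil) (nat_lit 1944)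
  (nat_lit 3009) (nat_lit 1892) (.node .nil (nat_lit 1959) (nat_lit 4192) (nat_lit 2785) .nil)) (nat_lit 1966)
  (nat_lit 4448) (nat_lit 2803) (.node (.node (.node .nil (nat_lit 1986) (nat_lit 1216) (nat_lit 3935) .nil)
  (nat_lit 1995) (nat_lit 545) (nat_lit 45) .nil) (nat_lit 2000) (nat_lit 3760) (nat_lit 1091) (.node .nil
  (nat_lit 2022) (nat_lit 320) (nat_lit 1085) .nil)))))))
def ts336_1 : T := (.node (.node (.node (.node (.node (.node (.node (.node .nil (nat_lit 2070) (nat_lit 4945)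
  (nat_lit 3213) .nil) (nat_lit 2079) (nat_lit 1649) (nat_lit 3058) .nil) (nat_lit 2089) (nat_lit 3665)
  (nat_lit 2381) (.node (.node .nil (nat_lit 2098) (nat_lit 4496) (nat_lit 792) .nil) (nat_lit 2107) (nat_lit
  1537) (nat_lit 1224) .nil)) (nat_lit 2117) (nat_lit 129) (nat_lit 3012) (.node (.node (.node .nil (nat_lit
  2135) (nat_lit 144) (nat_lit 1702) .nil) (nat_lit 2145) (nat_lit 416) (nat_lit 1752) .nil) (nat_lit 2152)
  (nat_lit 4832) (nat_lit 1738) (.node .nil (nat_lit 2163) (nat_lit 4976) (nat_lit 3524) .nil))) (nat_lit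
  2170) (nat_lit 5345) (nat_lit 3588) (.node (.node (.node (.node .nil (nat_lit 2196) (nat_lit 1073) (nat_lit
  1995) .nil) (nat_lit 2205) (nat_lit 816) (nat_lit 2145) .nil) (nat_lit 2210) (nat_lit 5329) (nat_lit 1396)
  (.node .nil (nat_lit 2219) (nat_lit 2784) (nat_lit 2079) .nil)) (nat_lit 2224) (nat_lit 3936) (nat_lit 785)
  (.node (.node (.node .nil (nat_lit 2233) (nat_lit 1169) (nat_lit 3982) .nil) (nat_lit 2261) (nat_lit 2448)
  (nat_lit 1711) .nil) (nat_lit 2275) (nat_lit 2401) (nat_lit 4024) (.node .nil (nat_lit 2289) (nat_lit 5120)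
  (nat_lit 3533) .nil)))) (nat_lit 2296) (nat_lit 944) (nat_lit 3551) (.node (.node (.node (.node (.node .nil
  (nat_lit 2309) (nat_lit 3392) (nat_lit 374) .nil) (nat_lit 2316) (nat_lit 4145) (nat_lit 2219) .nil)
  (nat_lit 2327) (nat_lit 1137) (nat_lit 593) (.node (.node .nil (nat_lit 2344) (nat_lit 705) (nat_lit 1937)
  .nil) (nat_lit 2372) (nat_lit 4545) (nat_lit 1304) .nil)) (nat_lit 2381) (nat_lit 2384) (nat_lit 4024)
  (.node (.node (.node .nil (nat_lit 2390) (nat_lit 720) (nat_lit 1206) .nil) (nat_lit 2399) (nat_lit 1904)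
  (nat_lit 1188) .nil) (nat_lit 2400) (nat_lit 1520) (nat_lit 1224) (.node .nil (nat_lit 2409) (nat_lit 2816)
  (nat_lit 1242) .nil))) (nat_lit 2418) (nat_lit 5233) (nat_lit 1959) (.node (.node (.node (.node .nil
  (nat_lit 2427) (nat_lit 5153) (nat_lit 216) .nil) (nat_lit 2453) (nat_lit 2097) (nat_lit 2327) .nil)
  (nat_lit 2460) (nat_lit 2321) (nat_lit 3688) (.node .nil (nat_lit 2474) (nat_lit 1424) (nat_lit 2575) .nil))
  (nat_lit 2488) (nat_lit 4673) (nat_lit 338) (.node (.node (.node .nil (nat_lit 2525) (nat_lit 1921) (nat_lit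
  1188) .nil) (nat_lit 2530) (nat_lit 3264) (nat_lit 1217) .nil) (nat_lit 2539) (nat_lit 3201) (nat_lit 1563)
  (.node .nil (nat_lit 2553) (nat_lit 1088) (nat_lit 4047) .nil))))) (nat_lit 2566) (nat_lit 4865) (nat_lit
  2666) (.node (.node (.node (.node (.node (.node .nil (nat_lit 2575) (nat_lit 752) (nat_lit 175) .nil)
  (nat_lit 2594) (nat_lit 1329) (nat_lit 1360) .nil) (nat_lit 2603) (nat_lit 929) (nat_lit 559) (.node (.node
  .nil (nat_lit 2608) (nat_lit 3745) (nat_lit 2261) .nil) (nat_lit 2617) (nat_lit 4096) (nat_lit 209) .nil))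
  (nat_lit 2631) (nat_lit 2689) (nat_lit 166) (.node (.node (.node .nil (nat_lit 2659) (nat_lit 2064) (nat_lit
  1283) .nil) (nat_lit 2666) (nat_lit 3681) (nat_lit 2275) .nil) (nat_lit 2673) (nat_lit 2288) (nat_lit 3615)
  (.node .nil (nat_lit 2692) (nat_lit 3248) (nat_lit 180) .nil))) (nat_lit 2701) (nat_lit 1857) (nat_lit 1619)
  (.node (.node (.node (.node .nil (nat_lit 2719) (nat_lit 176) (nat_lit 3002) .nil) (nat_lit 2720) (nat_lit
  3105) (nat_lit 3606) .nil) (nat_lit 2729) (nat_lit 112) (nat_lit 3012) (.node .nil (nat_lit 2747) (nat_lit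
  497) (nat_lit 1260) .nil)) (nat_lit 2757) (nat_lit 1889) (nat_lit 3040) (.node (.node (.node .nil (nat_lit
  2775) (nat_lit 4305) (nat_lit 1637) .nil) (nat_lit 2785) (nat_lit 2833) (nat_lit 1242) .nil) (nat_lit 2792)
  (nat_lit 4528) (nat_lit 1304) (.node .nil (nat_lit 2803) (nat_lit 3088) (nat_lit 3606) .nil)))) (nat_lit
  2810) (nat_lit 3073) (nat_lit 3616) (.node (.node (.node (.node (.node .nil (nat_lit 2823) (nat_lit 737)
  (nat_lit 1206) .nil) (nat_lit 2830) (nat_lit 2176) (nat_lit 703) .nil) (nat_lit 2858) (nat_lit 3152)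
  (nat_lit 2525) (.node (.node .nil (nat_lit 2872) (nat_lit 3409) (nat_lit 374) .nil) (nat_lit 2895) (nat_lit
  3968) (nat_lit 3171) .nil)) (nat_lit 2923) (nat_lit 848) (nat_lit 1793) (.node (.node (.node .nil (nat_lit
  2928) (nat_lit 2720) (nat_lit 3087) .nil) (nat_lit 2937) (nat_lit 193) (nat_lit 3002) .nil) (nat_lit 2949)
  (nat_lit 4689) (nat_lit 4080) (.node .nil (nat_lit 2967) (nat_lit 5073) (nat_lit 629) .nil))) (nat_lit 2974)
  (nat_lit 2464) (nat_lit 2474) (.node (.node (.node (.node .nil (nat_lit 3002) (nat_lit 80) (nat_lit 712)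
  .nil) (nat_lit 3012) (nat_lit 48) (nat_lit 3192) .nil) (nat_lit 3021) (nat_lit 1248) (nat_lit 3178) (.node
  .nil (nat_lit 3030) (nat_lit 2129) (nat_lit 2233) .nil)) (nat_lit 3039) (nat_lit 3776) (nat_lit 1910) (.node
  (.node (.node .nil (nat_lit 3040) (nat_lit 1024) (nat_lit 1818) .nil) (nat_lit 3049) (nat_lit 4337) (nat_lit
  3449) .nil) (nat_lit 3058) (nat_lit 880) (nat_lit 3078) (.node .nil (nat_lit 3067) (nat_lit 3920) (nat_lit
  3092) .nil)))))) (nat_lit 3078) (nat_lit 448) (nat_lit 807) (.node (.node (.node (.node (.node (.node (.node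
  .nil (nat_lit 3087) (nat_lit 1616) (nat_lit 821) .nil) (nat_lit 3092) (nat_lit 2624) (nat_lit 2107) .nil)
  (nat_lit 3101) (nat_lit 1985) (nat_lit 2196) (.node (.node .nil (nat_lit 3106) (nat_lit 256) (nat_lit 2117)
  .nil) (nat_lit 3115) (nat_lit 288) (nat_lit 2135) .nil)) (nat_lit 3120) (nat_lit 4113) (nat_lit 209) (.node
  (.node (.node .nil (nat_lit 3129) (nat_lit 5104) (nat_lit 843) .nil) (nat_lit 3143) (nat_lit 2112) (nat_lit
  3579) .nil) (nat_lit 3171) (nat_lit 2656) (nat_lit 1689) (.node .nil (nat_lit 3178) (nat_lit 656) (nat_lit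
  1675) .nil))) (nat_lit 3192) (nat_lit 16) (nat_lit 3479) (.node (.node (.node (.node .nil (nat_lit 3204)
  (nat_lit 1361) (nat_lit 2344) .nil) (nat_lit 3213) (nat_lit 3824) (nat_lit 828) .nil) (nat_lit 3222)
  (nat_lit 5264) (nat_lit 2098) (.node .nil (nat_lit 3250) (nat_lit 1184) (nat_lit 848) .nil)) (nat_lit 3269)
  (nat_lit 3537) (nat_lit 996) (.node (.node (.node .nil (nat_lit 3287) (nat_lit 3552) (nat_lit 1774) .nil)
  (nat_lit 3315) (nat_lit 3473) (nat_lit 347) .nil) (nat_lit 3322) (nat_lit 2961) (nat_lit 1572) (.node .nil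
  (nat_lit 3335) (nat_lit 2161) (nat_lit 3250) .nil)))) (nat_lit 3342) (nat_lit 2241) (nat_lit 3021) (.node
  (.node (.node (.node (.node .nil (nat_lit 3349) (nat_lit 1728) (nat_lit 2603) .nil) (nat_lit 3356) (nat_lit
  5009) (nat_lit 1608) .nil) (nat_lit 3370) (nat_lit 4016) (nat_lit 2631) (.node (.node .nil (nat_lit 3384)
  (nat_lit 3456) (nat_lit 347) .nil) (nat_lit 3398) (nat_lit 3568) (nat_lit 4075) .nil)) (nat_lit 3412)
  (nat_lit 5041) (nat_lit 3067) (.node (.node (.node .nil (nat_lit 3421) (nat_lit 2369) (nat_lit 3204) .nil)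
  (nat_lit 3426) (nat_lit 2224) (nat_lit 1161) .nil) (nat_lit 3440) (nat_lit 3216) (nat_lit 3989) (.node .nil
  (nat_lit 3449) (nat_lit 2977) (nat_lit 958) .nil))) (nat_lit 3468) (nat_lit 3904) (nat_lit 300) (.node
  (.node (.node (.node .nil (nat_lit 3479) (nat_lit 0) (nat_lit 3479) .nil) (nat_lit 3486) (nat_lit 3521)
  (nat_lit 3342) .nil) (nat_lit 3514) (nat_lit 4577) (nat_lit 564) (.node .nil (nat_lit 3524) (nat_lit 3856)
  (nat_lit 4066) .nil)) (nat_lit 3533) (nat_lit 4033) (nat_lit 2631) (.node (.node (.node .nil (nat_lit 3542)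
  (nat_lit 5201) (nat_lit 189) .nil) (nat_lit 3551) (nat_lit 480) (nat_lit 1260) .nil) (nat_lit 3570) (nat_lit
  4384) (nat_lit 3996) (.node .nil (nat_lit 3579) (nat_lit 1152) (nat_lit 3982) .nil))))) (nat_lit 3588)
  (nat_lit 4880) (nat_lit 252) (.node (.node (.node (.node (.node (.node .nil (nat_lit 3606) (nat_lit 1872)
  (nat_lit 3040) .nil) (nat_lit 3615) (nat_lit 1297) (nat_lit 1014) .nil) (nat_lit 3616) (nat_lit 1825)
  (nat_lit 1590) (.node (.node .nil (nat_lit 3653) (nat_lit 3056) (nat_lit 3616) .nil) (nat_lit 3671) (nat_lit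
  4417) (nat_lit 3653) .nil)) (nat_lit 3681) (nat_lit 4321) (nat_lit 3322) (.node (.node (.node .nil (nat_lit
  3688) (nat_lit 1312) (nat_lit 1360) .nil) (nat_lit 3718) (nat_lit 2752) (nat_lit 245) .nil) (nat_lit 3727)
  (nat_lit 1713) (nat_lit 1333) (.node .nil (nat_lit 3732) (nat_lit 1105) (nat_lit 4047) .nil))) (nat_lit
  3741) (nat_lit 5024) (nat_lit 3067) (.node (.node (.node (.node .nil (nat_lit 3746) (nat_lit 4609) (nat_lit
  3440) .nil) (nat_lit 3755) (nat_lit 1441) (nat_lit 2575) .nil) (nat_lit 3760) (nat_lit 2769) (nat_lit 245)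
  (.node .nil (nat_lit 3769) (nat_lit 2416) (nat_lit 153) .nil)) (nat_lit 3797) (nat_lit 1696) (nat_lit 1333)
  (.node (.node (.node .nil (nat_lit 3818) (nat_lit 4257) (nat_lit 195) .nil) (nat_lit 3825) (nat_lit 5169)
  (nat_lit 2617) .nil) (nat_lit 3832) (nat_lit 4400) (nat_lit 3653) (.node .nil (nat_lit 3845) (nat_lit 2672)
  (nat_lit 748) .nil)))) (nat_lit 3852) (nat_lit 769) (nat_lit 175) (.node (.node (.node (.node (.node .nil
  (nat_lit 3870) (nat_lit 4624) (nat_lit 2530) .nil) (nat_lit 3880) (nat_lit 3233) (nat_lit 3989) .nil)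
  (nat_lit 3908) (nat_lit 5184) (nat_lit 3120) (.node (.node .nil (nat_lit 3917) (nat_lit 512) (nat_lit 3106)
  .nil) (nat_lit 3926) (nat_lit 2433) (nat_lit 153) .nil)) (nat_lit 3935) (nat_lit 641) (nat_lit 2022) (.node
  (.node (.node .nil (nat_lit 3936) (nat_lit 2593) (nat_lit 550) .nil) (nat_lit 3945) (nat_lit 4896) (nat_lit
  1856) .nil) (nat_lit 3975) (nat_lit 4368) (nat_lit 741) (.node .nil (nat_lit 3982) (nat_lit 592) (nat_lit
  759) .nil))) (nat_lit 3989) (nat_lit 2000) (nat_lit 2553) (.node (.node (.node (.node .nil (nat_lit 3996)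
  (nat_lit 3041) (nat_lit 1644) .nil) (nat_lit 4010) (nat_lit 3328) (nat_lit 2453) .nil) (nat_lit 4024)
  (nat_lit 1377) (nat_lit 2390) (.node .nil (nat_lit 4038) (nat_lit 5361) (nat_lit 1626) .nil)) (nat_lit 4047)
  (nat_lit 560) (nat_lit 3115) (.node (.node (.node .nil (nat_lit 4052) (nat_lit 4929) (nat_lit 3039) .nil)
  (nat_lit 4066) (nat_lit 2544) (nat_lit 1883) .nil) (nat_lit 4075) (nat_lit 2305) (nat_lit 3615) (.node .nil
  (nat_lit 4080) (nat_lit 3360) (nat_lit 3143) .nil)))))))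
def ts336 : T := (.node ts336_0 (nat_lit 2061) (nat_lit 5313) (nat_lit 1655) ts336_1)
theorem ts336_chk : band (orbChk apS (gensOf cT) 3479 (4096) ts336) (Nat.beq ts336.size 336) = true := by
  decide +kernel
theorem ts336_card : (orbit (stabilizer M24 T0) (sext (unmask 1541))).ncard = 336 :=
  orbit_ncard_of_chk acX (sext_rep (t := 1541) (k := 3479) (by decide +kernel)).1 cT_chk stab_T0 (sext_rep (t := 1541) (k := 3479) (by decide +kernel)).2 ts336_chk

def ts1344_0 : T := (.node (.node (.node (.node (.node (.node (.node (.node .nil (nat_lit 15) (nat_lit 12048)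
  (nat_lit 2933) .nil) (nat_lit 23) (nat_lit 11872) (nat_lit 106) .nil) (nat_lit 29) (nat_lit 19872) (nat_lit
  105) (.node (.node .nil (nat_lit 30) (nat_lit 14225) (nat_lit 1334) .nil) (nat_lit 39) (nat_lit 8161)
  (nat_lit 2704) .nil)) (nat_lit 43) (nat_lit 17248) (nat_lit 23) (.node (.node (.node .nil (nat_lit 46)
  (nat_lit 12096) (nat_lit 2913) .nil) (nat_lit 51) (nat_lit 14192) (nat_lit 2824) .nil) (nat_lit 53) (nat_lit
  6049) (nat_lit 1813) (.node .nil (nat_lit 57) (nat_lit 8657) (nat_lit 4006) .nil))) (nat_lit 58) (nat_lit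
  1728) (nat_lit 2842) (.node (.node (.node (.node .nil (nat_lit 60) (nat_lit 11889) (nat_lit 106) .nil)
  (nat_lit 71) (nat_lit 208) (nat_lit 1467) .nil) (nat_lit 75) (nat_lit 2609) (nat_lit 2073) (.node (.node
  .nil (nat_lit 77) (nat_lit 12961) (nat_lit 639) .nil) (nat_lit 78) (nat_lit 10401) (nat_lit 2005) .nil))
  (nat_lit 85) (nat_lit 18113) (nat_lit 3375) (.node (.node (.node .nil (nat_lit 86) (nat_lit 13520) (nat_lit
  3766) .nil) (nat_lit 89) (nat_lit 2496) (nat_lit 1475) .nil) (nat_lit 92) (nat_lit 17056) (nat_lit 3765)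
  (.node .nil (nat_lit 95) (nat_lit 13681) (nat_lit 4090) .nil)))) (nat_lit 99) (nat_lit 11361) (nat_lit 3984)
  (.node (.node (.node (.node (.node .nil (nat_lit 102) (nat_lit 4576) (nat_lit 1455) .nil) (nat_lit 105)
  (nat_lit 15585) (nat_lit 3397) .nil) (nat_lit 106) (nat_lit 7089) (nat_lit 2287) (.node (.node .nil (nat_lit
  111) (nat_lit 9920) (nat_lit 1469) .nil) (nat_lit 113) (nat_lit 20897) (nat_lit 533) .nil)) (nat_lit 114)
  (nat_lit 9409) (nat_lit 1983) (.node (.node (.node .nil (nat_lit 116) (nat_lit 9617) (nat_lit 3545) .nil)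
  (nat_lit 120) (nat_lit 18737) (nat_lit 1386) .nil) (nat_lit 125) (nat_lit 15888) (nat_lit 3745) (.node .nil
  (nat_lit 135) (nat_lit 8561) (nat_lit 1162) .nil))) (nat_lit 141) (nat_lit 6369) (nat_lit 1631) (.node
  (.node (.node (.node .nil (nat_lit 142) (nat_lit 18720) (nat_lit 2925) .nil) (nat_lit 147) (nat_lit 13441)
  (nat_lit 873) .nil) (nat_lit 149) (nat_lit 16704) (nat_lit 99) (.node .nil (nat_lit 150) (nat_lit 13121)
  (nat_lit 3237) .nil)) (nat_lit 154) (nat_lit 6129) (nat_lit 1046) (.node (.node (.node .nil (nat_lit 156)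
  (nat_lit 18017) (nat_lit 3696) .nil) (nat_lit 163) (nat_lit 12017) (nat_lit 2992) .nil) (nat_lit 165)
  (nat_lit 14097) (nat_lit 470) (.node .nil (nat_lit 169) (nat_lit 2385) (nat_lit 2405) .nil))))) (nat_lit
  170) (nat_lit 17440) (nat_lit 15) (.node (.node (.node (.node (.node (.node .nil (nat_lit 172) (nat_lit
  3201) (nat_lit 1705) .nil) (nat_lit 177) (nat_lit 21489) (nat_lit 1589) .nil) (nat_lit 178) (nat_lit 16881)
  (nat_lit 927) (.node (.node .nil (nat_lit 183) (nat_lit 8096) (nat_lit 102) .nil) (nat_lit 184) (nat_lit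
  6016) (nat_lit 2835) .nil)) (nat_lit 187) (nat_lit 13809) (nat_lit 1248) (.node (.node (.node .nil (nat_lit
  190) (nat_lit 11569) (nat_lit 2860) .nil) (nat_lit 197) (nat_lit 15952) (nat_lit 1458) .nil) (nat_lit 198)
  (nat_lit 7328) (nat_lit 1443) (.node .nil (nat_lit 201) (nat_lit 8064) (nat_lit 3798) .nil))) (nat_lit 204)
  (nat_lit 7616) (nat_lit 1440) (.node (.node (.node (.node .nil (nat_lit 207) (nat_lit 2417) (nat_lit 2361)
  .nil) (nat_lit 210) (nat_lit 3872) (nat_lit 1496) .nil) (nat_lit 212) (nat_lit 8976) (nat_lit 3775) (.node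
  .nil (nat_lit 215) (nat_lit 4720) (nat_lit 3758) .nil)) (nat_lit 219) (nat_lit 16368) (nat_lit 1482) (.node
  (.node (.node .nil (nat_lit 221) (nat_lit 14833) (nat_lit 1212) .nil) (nat_lit 222) (nat_lit 2545) (nat_lit
  278) .nil) (nat_lit 225) (nat_lit 21105) (nat_lit 1238) (.node .nil (nat_lit 226) (nat_lit 14528) (nat_lit
  3777) .nil)))) (nat_lit 228) (nat_lit 1745) (nat_lit 2842) (.node (.node (.node (.node (.node .nil (nat_lit
  232) (nat_lit 14513) (nat_lit 937) .nil) (nat_lit 235) (nat_lit 4513) (nat_lit 1539) .nil) (nat_lit 240)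
  (nat_lit 13281) (nat_lit 3321) (.node (.node .nil (nat_lit 243) (nat_lit 3504) (nat_lit 1484) .nil) (nat_lit
  249) (nat_lit 10513) (nat_lit 2950) .nil)) (nat_lit 250) (nat_lit 4000) (nat_lit 1502) (.node (.node (.node
  .nil (nat_lit 255) (nat_lit 9185) (nat_lit 480) .nil) (nat_lit 263) (nat_lit 304) (nat_lit 2423) .nil)
  (nat_lit 267) (nat_lit 3088) (nat_lit 531) (.node .nil (nat_lit 269) (nat_lit 17568) (nat_lit 2420) .nil)))
  (nat_lit 270) (nat_lit 2368) (nat_lit 2405) (.node (.node (.node (.node .nil (nat_lit 277) (nat_lit 6993)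
  (nat_lit 2367) .nil) (nat_lit 278) (nat_lit 1297) (nat_lit 3221) .nil) (nat_lit 281) (nat_lit 8545) (nat_lit
  396) (.node .nil (nat_lit 284) (nat_lit 12480) (nat_lit 633) .nil)) (nat_lit 287) (nat_lit 21264) (nat_lit
  616) (.node (.node (.node .nil (nat_lit 291) (nat_lit 20609) (nat_lit 2944) .nil) (nat_lit 294) (nat_lit
  19712) (nat_lit 2403) .nil) (nat_lit 297) (nat_lit 18529) (nat_lit 2389) (.node .nil (nat_lit 298) (nat_lit
  1568) (nat_lit 519) .nil)))))) (nat_lit 303) (nat_lit 9104) (nat_lit 2417) (.node (.node (.node (.node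
  (.node (.node (.node .nil (nat_lit 305) (nat_lit 14433) (nat_lit 1541) .nil) (nat_lit 306) (nat_lit 12273)
  (nat_lit 943) .nil) (nat_lit 308) (nat_lit 12944) (nat_lit 639) (.node (.node .nil (nat_lit 312) (nat_lit
  6689) (nat_lit 378) .nil) (nat_lit 315) (nat_lit 7505) (nat_lit 1232) .nil)) (nat_lit 317) (nat_lit 13537)
  (nat_lit 3766) (.node (.node (.node .nil (nat_lit 323) (nat_lit 10368) (nat_lit 3293) .nil) (nat_lit 325)
  (nat_lit 6912) (nat_lit 1978) .nil) (nat_lit 326) (nat_lit 20081) (nat_lit 3702) (.node .nil (nat_lit 330)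
  (nat_lit 19649) (nat_lit 1733) .nil))) (nat_lit 332) (nat_lit 2560) (nat_lit 1960) (.node (.node (.node
  (.node .nil (nat_lit 335) (nat_lit 20097) (nat_lit 2313) .nil) (nat_lit 337) (nat_lit 18353) (nat_lit 3135)
  .nil) (nat_lit 340) (nat_lit 4273) (nat_lit 1011) (.node .nil (nat_lit 344) (nat_lit 16976) (nat_lit 2003)
  .nil)) (nat_lit 349) (nat_lit 13104) (nat_lit 3237) (.node (.node (.node .nil (nat_lit 350) (nat_lit 6064)
  (nat_lit 3252) .nil) (nat_lit 353) (nat_lit 832) (nat_lit 3288) .nil) (nat_lit 354) (nat_lit 2160) (nat_lit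
  3273) (.node .nil (nat_lit 359) (nat_lit 9392) (nat_lit 1983) .nil)))) (nat_lit 360) (nat_lit 9296) (nat_lit
  3274) (.node (.node (.node (.node (.node .nil (nat_lit 363) (nat_lit 6305) (nat_lit 1587) .nil) (nat_lit
  366) (nat_lit 12400) (nat_lit 1965) .nil) (nat_lit 368) (nat_lit 2177) (nat_lit 3273) (.node (.node .nil
  (nat_lit 371) (nat_lit 16288) (nat_lit 1988) .nil) (nat_lit 373) (nat_lit 20000) (nat_lit 3235) .nil))
  (nat_lit 377) (nat_lit 17024) (nat_lit 1991) (.node (.node (.node .nil (nat_lit 378) (nat_lit 3696) (nat_lit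
  2006) .nil) (nat_lit 380) (nat_lit 9520) (nat_lit 3249) .nil) (nat_lit 389) (nat_lit 19681) (nat_lit 4092)
  (.node .nil (nat_lit 390) (nat_lit 18288) (nat_lit 2415) .nil))) (nat_lit 393) (nat_lit 8576) (nat_lit 538)
  (.node (.node (.node (.node .nil (nat_lit 396) (nat_lit 4865) (nat_lit 2179) .nil) (nat_lit 399) (nat_lit
  5744) (nat_lit 2429) .nil) (nat_lit 402) (nat_lit 3953) (nat_lit 3509) (.node .nil (nat_lit 404) (nat_lit
  656) (nat_lit 627) .nil)) (nat_lit 407) (nat_lit 12497) (nat_lit 633) (.node (.node (.node .nil (nat_lit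
  411) (nat_lit 2113) (nat_lit 2762) .nil) (nat_lit 413) (nat_lit 5905) (nat_lit 172) .nil) (nat_lit 414)
  (nat_lit 15776) (nat_lit 624) (.node .nil (nat_lit 417) (nat_lit 12225) (nat_lit 198) .nil))))) (nat_lit
  418) (nat_lit 13840) (nat_lit 525) (.node (.node (.node (.node (.node (.node .nil (nat_lit 420) (nat_lit
  2449) (nat_lit 3850) .nil) (nat_lit 424) (nat_lit 17232) (nat_lit 526) .nil) (nat_lit 427) (nat_lit 3105)
  (nat_lit 531) (.node (.node .nil (nat_lit 432) (nat_lit 14737) (nat_lit 2281) .nil) (nat_lit 438) (nat_lit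
  16608) (nat_lit 630) .nil)) (nat_lit 441) (nat_lit 16337) (nat_lit 3990) (.node (.node (.node .nil (nat_lit
  442) (nat_lit 13201) (nat_lit 2620) .nil) (nat_lit 447) (nat_lit 18081) (nat_lit 1520) .nil) (nat_lit 449)
  (nat_lit 18945) (nat_lit 2812) (.node .nil (nat_lit 452) (nat_lit 15377) (nat_lit 1328) .nil))) (nat_lit
  455) (nat_lit 10449) (nat_lit 154) (.node (.node (.node (.node .nil (nat_lit 456) (nat_lit 8464) (nat_lit
  3270) .nil) (nat_lit 462) (nat_lit 20849) (nat_lit 2021) .nil) (nat_lit 467) (nat_lit 7217) (nat_lit 1913)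
  (.node .nil (nat_lit 469) (nat_lit 6833) (nat_lit 3359) .nil)) (nat_lit 470) (nat_lit 8784) (nat_lit 3262)
  (.node (.node (.node .nil (nat_lit 476) (nat_lit 8736) (nat_lit 3261) .nil) (nat_lit 479) (nat_lit 14417)
  (nat_lit 4042) .nil) (nat_lit 480) (nat_lit 5312) (nat_lit 3264) (.node .nil (nat_lit 483) (nat_lit 15425)
  (nat_lit 4000) .nil)))) (nat_lit 490) (nat_lit 15056) (nat_lit 3267) (.node (.node (.node (.node (.node .nil
  (nat_lit 497) (nat_lit 1696) (nat_lit 1997) .nil) (nat_lit 498) (nat_lit 9233) (nat_lit 1935) .nil) (nat_lit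
  503) (nat_lit 9457) (nat_lit 2115) (.node (.node .nil (nat_lit 504) (nat_lit 19296) (nat_lit 2015) .nil)
  (nat_lit 507) (nat_lit 14592) (nat_lit 1998) .nil)) (nat_lit 510) (nat_lit 2960) (nat_lit 3256) (.node
  (.node (.node .nil (nat_lit 519) (nat_lit 800) (nat_lit 2221) .nil) (nat_lit 525) (nat_lit 8625) (nat_lit
  1659) .nil) (nat_lit 526) (nat_lit 11857) (nat_lit 977) (.node .nil (nat_lit 531) (nat_lit 1600) (nat_lit
  2262) .nil))) (nat_lit 533) (nat_lit 18224) (nat_lit 945) (.node (.node (.node (.node .nil (nat_lit 534)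
  (nat_lit 18832) (nat_lit 928) .nil) (nat_lit 538) (nat_lit 4912) (nat_lit 2244) .nil) (nat_lit 540) (nat_lit
  11729) (nat_lit 3668) (.node .nil (nat_lit 543) (nat_lit 4032) (nat_lit 946) .nil)) (nat_lit 547) (nat_lit
  12384) (nat_lit 975) (.node (.node (.node .nil (nat_lit 549) (nat_lit 14657) (nat_lit 498) .nil) (nat_lit
  553) (nat_lit 14673) (nat_lit 2369) .nil) (nat_lit 554) (nat_lit 16384) (nat_lit 989) (.node .nil (nat_lit
  556) (nat_lit 18001) (nat_lit 1677) .nil)))))))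
def ts1344_1 : T := (.node (.node (.node (.node (.node (.node (.node (.node .nil (nat_lit 562) (nat_lit 18801)
  (nat_lit 955) .nil) (nat_lit 568) (nat_lit 1984) (nat_lit 2241) .nil) (nat_lit 571) (nat_lit 14976) (nat_lit
  2256) (.node (.node .nil (nat_lit 574) (nat_lit 5152) (nat_lit 934) .nil) (nat_lit 581) (nat_lit 14240)
  (nat_lit 1632) .nil)) (nat_lit 582) (nat_lit 10784) (nat_lit 1649) (.node (.node (.node .nil (nat_lit 585)
  (nat_lit 18272) (nat_lit 3332) .nil) (nat_lit 588) (nat_lit 2224) (nat_lit 1650) .nil) (nat_lit 594)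
  (nat_lit 12832) (nat_lit 1546) (.node .nil (nat_lit 596) (nat_lit 20304) (nat_lit 3437) .nil))) (nat_lit
  599) (nat_lit 48) (nat_lit 3452) (.node (.node (.node (.node .nil (nat_lit 603) (nat_lit 9552) (nat_lit
  1560) .nil) (nat_lit 605) (nat_lit 2145) (nat_lit 1176) .nil) (nat_lit 606) (nat_lit 10624) (nat_lit 3438)
  (.node .nil (nat_lit 609) (nat_lit 11153) (nat_lit 1266) .nil)) (nat_lit 610) (nat_lit 8432) (nat_lit 3347)
  (.node (.node (.node .nil (nat_lit 612) (nat_lit 20225) (nat_lit 2878) .nil) (nat_lit 616) (nat_lit 19504)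
  (nat_lit 3344) .nil) (nat_lit 619) (nat_lit 19361) (nat_lit 1575) (.node .nil (nat_lit 621) (nat_lit 13937)
  (nat_lit 3137) .nil)))) (nat_lit 624) (nat_lit 10385) (nat_lit 3293) (.node (.node (.node (.node (.node .nil
  (nat_lit 627) (nat_lit 321) (nat_lit 2423) .nil) (nat_lit 630) (nat_lit 11248) (nat_lit 3432) .nil) (nat_lit
  633) (nat_lit 7552) (nat_lit 1565) (.node (.node .nil (nat_lit 634) (nat_lit 6720) (nat_lit 1548) .nil)
  (nat_lit 639) (nat_lit 7952) (nat_lit 3450) .nil)) (nat_lit 643) (nat_lit 12369) (nat_lit 1422) (.node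
  (.node (.node .nil (nat_lit 645) (nat_lit 12464) (nat_lit 2212) .nil) (nat_lit 646) (nat_lit 16257) (nat_lit
  2626) .nil) (nat_lit 650) (nat_lit 4961) (nat_lit 753) (.node .nil (nat_lit 652) (nat_lit 17857) (nat_lit
  2199) .nil))) (nat_lit 655) (nat_lit 20880) (nat_lit 2215) (.node (.node (.node (.node .nil (nat_lit 657)
  (nat_lit 20945) (nat_lit 2059) .nil) (nat_lit 660) (nat_lit 14496) (nat_lit 937) .nil) (nat_lit 663)
  (nat_lit 15712) (nat_lit 952) (.node .nil (nat_lit 664) (nat_lit 272) (nat_lit 2253) .nil)) (nat_lit 669)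
  (nat_lit 10305) (nat_lit 184) (.node (.node (.node .nil (nat_lit 670) (nat_lit 16912) (nat_lit 938) .nil)
  (nat_lit 673) (nat_lit 6977) (nat_lit 210) .nil) (nat_lit 674) (nat_lit 5952) (nat_lit 983) (.node .nil
  (nat_lit 679) (nat_lit 8400) (nat_lit 2209) .nil))))) (nat_lit 680) (nat_lit 10192) (nat_lit 980) (.node
  (.node (.node (.node (.node (.node .nil (nat_lit 683) (nat_lit 1585) (nat_lit 519) .nil) (nat_lit 688)
  (nat_lit 5873) (nat_lit 2301) .nil) (nat_lit 691) (nat_lit 6209) (nat_lit 3415) (.node (.node .nil (nat_lit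
  693) (nat_lit 13505) (nat_lit 1841) .nil) (nat_lit 698) (nat_lit 3809) (nat_lit 2600) .nil)) (nat_lit 700)
  (nat_lit 12256) (nat_lit 943) (.node (.node (.node .nil (nat_lit 706) (nat_lit 6816) (nat_lit 3359) .nil)
  (nat_lit 708) (nat_lit 16000) (nat_lit 1656) .nil) (nat_lit 711) (nat_lit 21073) (nat_lit 142) (.node .nil
  (nat_lit 715) (nat_lit 8321) (nat_lit 2109) .nil))) (nat_lit 717) (nat_lit 13008) (nat_lit 1642) (.node
  (.node (.node (.node .nil (nat_lit 718) (nat_lit 8608) (nat_lit 1659) .nil) (nat_lit 720) (nat_lit 4496)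
  (nat_lit 1539) .nil) (nat_lit 726) (nat_lit 8417) (nat_lit 2209) (.node .nil (nat_lit 729) (nat_lit 19201)
  (nat_lit 1464) .nil)) (nat_lit 732) (nat_lit 9025) (nat_lit 2676) (.node (.node (.node .nil (nat_lit 735)
  (nat_lit 1905) (nat_lit 4062) .nil) (nat_lit 736) (nat_lit 6256) (nat_lit 3354) .nil) (nat_lit 742) (nat_lit
  3216) (nat_lit 1661) (.node .nil (nat_lit 745) (nat_lit 4113) (nat_lit 3425) .nil)))) (nat_lit 746) (nat_lit
  17825) (nat_lit 2251) (.node (.node (.node (.node (.node .nil (nat_lit 751) (nat_lit 14129) (nat_lit 1799)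
  .nil) (nat_lit 753) (nat_lit 2640) (nat_lit 1559) .nil) (nat_lit 754) (nat_lit 2033) (nat_lit 1947) (.node
  (.node .nil (nat_lit 756) (nat_lit 4096) (nat_lit 3425) .nil) (nat_lit 760) (nat_lit 9153) (nat_lit 1358)
  .nil)) (nat_lit 763) (nat_lit 3377) (nat_lit 228) (.node (.node (.node .nil (nat_lit 765) (nat_lit 15697)
  (nat_lit 2690) .nil) (nat_lit 773) (nat_lit 18705) (nat_lit 4056) .nil) (nat_lit 774) (nat_lit 16576)
  (nat_lit 2749) (.node .nil (nat_lit 777) (nat_lit 12673) (nat_lit 1899) .nil))) (nat_lit 780) (nat_lit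
  18176) (nat_lit 2750) (.node (.node (.node (.node .nil (nat_lit 783) (nat_lit 16529) (nat_lit 3341) .nil)
  (nat_lit 786) (nat_lit 17041) (nat_lit 3473) .nil) (nat_lit 788) (nat_lit 913) (nat_lit 2039) (.node .nil
  (nat_lit 791) (nat_lit 4145) (nat_lit 605) .nil)) (nat_lit 795) (nat_lit 12896) (nat_lit 2772) (.node (.node
  (.node .nil (nat_lit 798) (nat_lit 18656) (nat_lit 418) .nil) (nat_lit 801) (nat_lit 19249) (nat_lit 226)
  .nil) (nat_lit 802) (nat_lit 12241) (nat_lit 1352) (.node .nil (nat_lit 804) (nat_lit 10545) (nat_lit 3886)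
  .nil)))))) (nat_lit 808) (nat_lit 14000) (nat_lit 476) (.node (.node (.node (.node (.node (.node (.node .nil
  (nat_lit 813) (nat_lit 2305) (nat_lit 2129) .nil) (nat_lit 816) (nat_lit 289) (nat_lit 2253) .nil) (nat_lit
  819) (nat_lit 15296) (nat_lit 2770) (.node (.node .nil (nat_lit 822) (nat_lit 3073) (nat_lit 683) .nil)
  (nat_lit 825) (nat_lit 7824) (nat_lit 2769) .nil)) (nat_lit 826) (nat_lit 11600) (nat_lit 2752) (.node
  (.node (.node .nil (nat_lit 831) (nat_lit 17921) (nat_lit 1492) .nil) (nat_lit 833) (nat_lit 14065) (nat_lit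
  2776) .nil) (nat_lit 836) (nat_lit 21281) (nat_lit 1300) (.node .nil (nat_lit 839) (nat_lit 16961) (nat_lit
  190) .nil))) (nat_lit 840) (nat_lit 17744) (nat_lit 3860) (.node (.node (.node (.node .nil (nat_lit 845)
  (nat_lit 19328) (nat_lit 1122) .nil) (nat_lit 846) (nat_lit 9936) (nat_lit 1139) .nil) (nat_lit 851)
  (nat_lit 9632) (nat_lit 1050) (.node .nil (nat_lit 853) (nat_lit 1681) (nat_lit 3387) .nil)) (nat_lit 854)
  (nat_lit 721) (nat_lit 2193) (.node (.node (.node .nil (nat_lit 860) (nat_lit 2256) (nat_lit 3951) .nil)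
  (nat_lit 863) (nat_lit 17505) (nat_lit 4078) .nil) (nat_lit 864) (nat_lit 7520) (nat_lit 3858) (.node .nil
  (nat_lit 867) (nat_lit 12161) (nat_lit 3972) .nil)))) (nat_lit 869) (nat_lit 17153) (nat_lit 1506) (.node
  (.node (.node (.node (.node .nil (nat_lit 873) (nat_lit 8336) (nat_lit 3840) .nil) (nat_lit 874) (nat_lit
  16033) (nat_lit 2299) .nil) (nat_lit 876) (nat_lit 14304) (nat_lit 1142) (.node (.node .nil (nat_lit 882)
  (nat_lit 18496) (nat_lit 1038) .nil) (nat_lit 887) (nat_lit 20241) (nat_lit 2151) .nil)) (nat_lit 888)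
  (nat_lit 193) (nat_lit 1406) (.node (.node (.node .nil (nat_lit 891) (nat_lit 14289) (nat_lit 212) .nil)
  (nat_lit 894) (nat_lit 10864) (nat_lit 3946) .nil) (nat_lit 898) (nat_lit 2481) (nat_lit 2898) (.node .nil
  (nat_lit 900) (nat_lit 12864) (nat_lit 2740) .nil))) (nat_lit 907) (nat_lit 1201) (nat_lit 3117) (.node
  (.node (.node (.node .nil (nat_lit 909) (nat_lit 19857) (nat_lit 1611) .nil) (nat_lit 910) (nat_lit 4641)
  (nat_lit 993) .nil) (nat_lit 912) (nat_lit 16273) (nat_lit 1751) (.node .nil (nat_lit 917) (nat_lit 8017)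
  (nat_lit 2331) .nil)) (nat_lit 918) (nat_lit 9537) (nat_lit 3249) (.node (.node (.node .nil (nat_lit 921)
  (nat_lit 20576) (nat_lit 2781) .nil) (nat_lit 924) (nat_lit 5712) (nat_lit 427) .nil) (nat_lit 927) (nat_lit
  11489) (nat_lit 3022) (.node .nil (nat_lit 928) (nat_lit 14080) (nat_lit 470) .nil))))) (nat_lit 931)
  (nat_lit 15441) (nat_lit 2980) (.node (.node (.node (.node (.node (.node .nil (nat_lit 934) (nat_lit 2768)
  (nat_lit 2737) .nil) (nat_lit 937) (nat_lit 9121) (nat_lit 2417) .nil) (nat_lit 938) (nat_lit 11536)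
  (nat_lit 469) (.node (.node .nil (nat_lit 943) (nat_lit 7377) (nat_lit 791) .nil) (nat_lit 945) (nat_lit
  13152) (nat_lit 2779) .nil)) (nat_lit 946) (nat_lit 2096) (nat_lit 2762) (.node (.node (.node .nil (nat_lit
  952) (nat_lit 10353) (nat_lit 350) .nil) (nat_lit 955) (nat_lit 14048) (nat_lit 2776) .nil) (nat_lit 957)
  (nat_lit 20816) (nat_lit 447) (.node .nil (nat_lit 963) (nat_lit 20049) (nat_lit 414) .nil))) (nat_lit 965)
  (nat_lit 15169) (nat_lit 3064) (.node (.node (.node (.node .nil (nat_lit 966) (nat_lit 8960) (nat_lit 1145)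
  .nil) (nat_lit 972) (nat_lit 11392) (nat_lit 1146) .nil) (nat_lit 975) (nat_lit 7457) (nat_lit 2349) (.node
  .nil (nat_lit 977) (nat_lit 7057) (nat_lit 3099) .nil)) (nat_lit 980) (nat_lit 5969) (nat_lit 983) (.node
  (.node (.node .nil (nat_lit 983) (nat_lit 3233) (nat_lit 1661) .nil) (nat_lit 989) (nat_lit 11024) (nat_lit
  3959) .nil) (nat_lit 993) (nat_lit 2432) (nat_lit 3850) (.node .nil (nat_lit 994) (nat_lit 10144) (nat_lit
  3867) .nil)))) (nat_lit 999) (nat_lit 19265) (nat_lit 3748) (.node (.node (.node (.node (.node .nil (nat_lit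
  1000) (nat_lit 20768) (nat_lit 3864) .nil) (nat_lit 1003) (nat_lit 2657) (nat_lit 1559) .nil) (nat_lit 1006)
  (nat_lit 19169) (nat_lit 2523) (.node (.node .nil (nat_lit 1008) (nat_lit 19905) (nat_lit 3309) .nil)
  (nat_lit 1011) (nat_lit 2209) (nat_lit 2375) .nil)) (nat_lit 1013) (nat_lit 21201) (nat_lit 801) (.node
  (.node (.node .nil (nat_lit 1017) (nat_lit 18641) (nat_lit 2962) .nil) (nat_lit 1020) (nat_lit 20448)
  (nat_lit 3939) .nil) (nat_lit 1031) (nat_lit 20272) (nat_lit 2871) (.node .nil (nat_lit 1037) (nat_lit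
  16640) (nat_lit 2868) .nil))) (nat_lit 1038) (nat_lit 13601) (nat_lit 3029) (.node (.node (.node (.node .nil
  (nat_lit 1043) (nat_lit 18992) (nat_lit 2892) .nil) (nat_lit 1045) (nat_lit 14481) (nat_lit 303) .nil)
  (nat_lit 1046) (nat_lit 3344) (nat_lit 58) (.node .nil (nat_lit 1050) (nat_lit 5600) (nat_lit 2910) .nil))
  (nat_lit 1052) (nat_lit 9265) (nat_lit 1616) (.node (.node (.node .nil (nat_lit 1059) (nat_lit 20257)
  (nat_lit 912) .nil) (nat_lit 1061) (nat_lit 8225) (nat_lit 2550) .nil) (nat_lit 1065) (nat_lit 11681)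
  (nat_lit 325) (.node .nil (nat_lit 1066) (nat_lit 432) (nat_lit 71) .nil)))))))
def ts1344_2 : T := (.node (.node (.node (.node (.node (.node (.node (.node .nil (nat_lit 1073) (nat_lit 5025)
  (nat_lit 3605) .nil) (nat_lit 1074) (nat_lit 19057) (nat_lit 3007) .nil) (nat_lit 1079) (nat_lit 9953)
  (nat_lit 1139) (.node (.node .nil (nat_lit 1080) (nat_lit 14864) (nat_lit 2907) .nil) (nat_lit 1083)
  (nat_lit 5329) (nat_lit 3264) .nil)) (nat_lit 1086) (nat_lit 17264) (nat_lit 60) (.node (.node (.node .nil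
  (nat_lit 1093) (nat_lit 16721) (nat_lit 972) .nil) (nat_lit 1094) (nat_lit 20400) (nat_lit 1515) .nil)
  (nat_lit 1097) (nat_lit 10704) (nat_lit 3742) (.node .nil (nat_lit 1100) (nat_lit 18913) (nat_lit 1203)
  .nil))) (nat_lit 1103) (nat_lit 13729) (nat_lit 281) (.node (.node (.node (.node .nil (nat_lit 1106)
  (nat_lit 21040) (nat_lit 1424) .nil) (nat_lit 1108) (nat_lit 11825) (nat_lit 3043) .nil) (nat_lit 1111)
  (nat_lit 9488) (nat_lit 3814) (.node .nil (nat_lit 1115) (nat_lit 2832) (nat_lit 1410) .nil)) (nat_lit 1117)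
  (nat_lit 10992) (nat_lit 3813) (.node (.node (.node .nil (nat_lit 1118) (nat_lit 18417) (nat_lit 2358) .nil)
  (nat_lit 1121) (nat_lit 16176) (nat_lit 3736) .nil) (nat_lit 1122) (nat_lit 14704) (nat_lit 3721) (.node
  .nil (nat_lit 1124) (nat_lit 16993) (nat_lit 826) .nil)))) (nat_lit 1128) (nat_lit 11216) (nat_lit 3722)
  (.node (.node (.node (.node (.node .nil (nat_lit 1131) (nat_lit 15201) (nat_lit 3619) .nil) (nat_lit 1133)
  (nat_lit 18320) (nat_lit 1532) .nil) (nat_lit 1136) (nat_lit 20720) (nat_lit 1429) (.node (.node .nil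
  (nat_lit 1139) (nat_lit 5792) (nat_lit 1412) .nil) (nat_lit 1142) (nat_lit 8993) (nat_lit 3775) .nil))
  (nat_lit 1145) (nat_lit 5169) (nat_lit 934) (.node (.node (.node .nil (nat_lit 1146) (nat_lit 6737) (nat_lit
  1548) .nil) (nat_lit 1151) (nat_lit 21249) (nat_lit 2496) .nil) (nat_lit 1155) (nat_lit 4688) (nat_lit 89)
  (.node .nil (nat_lit 1157) (nat_lit 20208) (nat_lit 2878) .nil))) (nat_lit 1158) (nat_lit 5632) (nat_lit
  2863) (.node (.node (.node (.node .nil (nat_lit 1162) (nat_lit 4880) (nat_lit 75) .nil) (nat_lit 1164)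
  (nat_lit 11552) (nat_lit 2860) .nil) (nat_lit 1169) (nat_lit 11280) (nat_lit 2885) (.node .nil (nat_lit
  1172) (nat_lit 18785) (nat_lit 4035) .nil)) (nat_lit 1176) (nat_lit 1088) (nat_lit 2903) (.node (.node
  (.node .nil (nat_lit 1185) (nat_lit 1617) (nat_lit 2262) .nil) (nat_lit 1186) (nat_lit 65) (nat_lit 3452)
  .nil) (nat_lit 1191) (nat_lit 10065) (nat_lit 688) (.node .nil (nat_lit 1192) (nat_lit 15792) (nat_lit 78)
  .nil))))) (nat_lit 1195) (nat_lit 16449) (nat_lit 2563) (.node (.node (.node (.node (.node (.node .nil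
  (nat_lit 1198) (nat_lit 15392) (nat_lit 2857) .nil) (nat_lit 1200) (nat_lit 11840) (nat_lit 2897) .nil)
  (nat_lit 1203) (nat_lit 14145) (nat_lit 1363) (.node (.node .nil (nat_lit 1205) (nat_lit 12849) (nat_lit
  3893) .nil) (nat_lit 1209) (nat_lit 11473) (nat_lit 1926) .nil)) (nat_lit 1210) (nat_lit 2464) (nat_lit
  2898) (.node (.node (.node .nil (nat_lit 1212) (nat_lit 9473) (nat_lit 2122) .nil) (nat_lit 1218) (nat_lit
  3536) (nat_lit 3717) .nil) (nat_lit 1220) (nat_lit 17136) (nat_lit 1506) (.node .nil (nat_lit 1223) (nat_lit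
  20016) (nat_lit 1523) .nil))) (nat_lit 1227) (nat_lit 13889) (nat_lit 57) (.node (.node (.node (.node .nil
  (nat_lit 1229) (nat_lit 385) (nat_lit 2655) .nil) (nat_lit 1230) (nat_lit 10224) (nat_lit 1505) .nil)
  (nat_lit 1232) (nat_lit 4224) (nat_lit 1433) (.node .nil (nat_lit 1237) (nat_lit 7809) (nat_lit 1295) .nil))
  (nat_lit 1238) (nat_lit 18849) (nat_lit 165) (.node (.node (.node .nil (nat_lit 1241) (nat_lit 19488)
  (nat_lit 1419) .nil) (nat_lit 1244) (nat_lit 5376) (nat_lit 3837) .nil) (nat_lit 1248) (nat_lit 8593)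
  (nat_lit 538) (.node .nil (nat_lit 1254) (nat_lit 1760) (nat_lit 1511) .nil)))) (nat_lit 1257) (nat_lit
  7937) (nat_lit 1381) (.node (.node (.node (.node (.node .nil (nat_lit 1258) (nat_lit 4625) (nat_lit 207)
  .nil) (nat_lit 1263) (nat_lit 16769) (nat_lit 3843) .nil) (nat_lit 1265) (nat_lit 0) (nat_lit 1265) (.node
  (.node .nil (nat_lit 1266) (nat_lit 6577) (nat_lit 3999) .nil) (nat_lit 1268) (nat_lit 14625) (nat_lit 1529)
  .nil)) (nat_lit 1275) (nat_lit 12352) (nat_lit 1422) (.node (.node (.node .nil (nat_lit 1277) (nat_lit 9040)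
  (nat_lit 3817) .nil) (nat_lit 1285) (nat_lit 17585) (nat_lit 2012) .nil) (nat_lit 1286) (nat_lit 11088)
  (nat_lit 2343) (.node .nil (nat_lit 1289) (nat_lit 2273) (nat_lit 3951) .nil))) (nat_lit 1292) (nat_lit
  7392) (nat_lit 2340) (.node (.node (.node (.node .nil (nat_lit 1295) (nat_lit 4385) (nat_lit 1289) .nil)
  (nat_lit 1298) (nat_lit 20737) (nat_lit 1429) .nil) (nat_lit 1300) (nat_lit 19536) (nat_lit 571) (.node .nil
  (nat_lit 1303) (nat_lit 20320) (nat_lit 554) .nil)) (nat_lit 1307) (nat_lit 3312) (nat_lit 2382) (.node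
  (.node (.node .nil (nat_lit 1309) (nat_lit 19312) (nat_lit 553) .nil) (nat_lit 1310) (nat_lit 3824) (nat_lit
  568) .nil) (nat_lit 1313) (nat_lit 19553) (nat_lit 2278) (.node .nil (nat_lit 1314) (nat_lit 19024) (nat_lit
  581) .nil)))))) (nat_lit 1316) (nat_lit 15472) (nat_lit 2338) (.node (.node (.node (.node (.node (.node
  (.node .nil (nat_lit 1320) (nat_lit 16160) (nat_lit 582) .nil) (nat_lit 1323) (nat_lit 112) (nat_lit 599)
  .nil) (nat_lit 1325) (nat_lit 3856) (nat_lit 2352) (.node (.node .nil (nat_lit 1328) (nat_lit 9968) (nat_lit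
  2393) .nil) (nat_lit 1331) (nat_lit 1504) (nat_lit 2376) .nil)) (nat_lit 1334) (nat_lit 8928) (nat_lit 574)
  (.node (.node (.node .nil (nat_lit 1338) (nat_lit 17073) (nat_lit 540) .nil) (nat_lit 1343) (nat_lit 18257)
  (nat_lit 3536) .nil) (nat_lit 1345) (nat_lit 14353) (nat_lit 732) (.node .nil (nat_lit 1348) (nat_lit 19521)
  (nat_lit 3344) .nil))) (nat_lit 1351) (nat_lit 19953) (nat_lit 2234) (.node (.node (.node (.node .nil
  (nat_lit 1352) (nat_lit 7345) (nat_lit 1443) .nil) (nat_lit 1357) (nat_lit 10016) (nat_lit 2040) .nil)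
  (nat_lit 1358) (nat_lit 5297) (nat_lit 4037) (.node .nil (nat_lit 1363) (nat_lit 8816) (nat_lit 1920) .nil))
  (nat_lit 1365) (nat_lit 10416) (nat_lit 3303) (.node (.node (.node .nil (nat_lit 1366) (nat_lit 20433)
  (nat_lit 149) .nil) (nat_lit 1370) (nat_lit 16544) (nat_lit 1938) .nil) (nat_lit 1375) (nat_lit 7888)
  (nat_lit 3300) (.node .nil (nat_lit 1376) (nat_lit 7248) (nat_lit 3208) .nil)))) (nat_lit 1379) (nat_lit
  8833) (nat_lit 1920) (.node (.node (.node (.node (.node .nil (nat_lit 1381) (nat_lit 4465) (nat_lit 3558)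
  .nil) (nat_lit 1385) (nat_lit 2800) (nat_lit 3226) .nil) (nat_lit 1386) (nat_lit 13968) (nat_lit 3211)
  (.node (.node .nil (nat_lit 1388) (nat_lit 20384) (nat_lit 2028) .nil) (nat_lit 1393) (nat_lit 1952)
  (nat_lit 1925) .nil)) (nat_lit 1399) (nat_lit 13312) (nat_lit 3298) (.node (.node (.node .nil (nat_lit 1400)
  (nat_lit 7969) (nat_lit 3450) .nil) (nat_lit 1403) (nat_lit 11456) (nat_lit 1926) .nil) (nat_lit 1406)
  (nat_lit 80) (nat_lit 3312) (.node .nil (nat_lit 1410) (nat_lit 1457) (nat_lit 854) .nil))) (nat_lit 1412)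
  (nat_lit 3152) (nat_lit 2350) (.node (.node (.node (.node .nil (nat_lit 1415) (nat_lit 2817) (nat_lit 3226)
  .nil) (nat_lit 1419) (nat_lit 14928) (nat_lit 603) .nil) (nat_lit 1421) (nat_lit 17121) (nat_lit 3663)
  (.node .nil (nat_lit 1422) (nat_lit 7440) (nat_lit 2349) .nil)) (nat_lit 1424) (nat_lit 18512) (nat_lit
  2389) (.node (.node (.node .nil (nat_lit 1429) (nat_lit 17728) (nat_lit 547) .nil) (nat_lit 1430) (nat_lit
  18049) (nat_lit 1205) .nil) (nat_lit 1433) (nat_lit 2192) (nat_lit 2375) (.node .nil (nat_lit 1436) (nat_lit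
  14257) (nat_lit 1632) .nil))))) (nat_lit 1440) (nat_lit 4288) (nat_lit 588) (.node (.node (.node (.node
  (.node (.node .nil (nat_lit 1443) (nat_lit 4128) (nat_lit 605) .nil) (nat_lit 1446) (nat_lit 6529) (nat_lit
  3180) .nil) (nat_lit 1449) (nat_lit 15984) (nat_lit 606) (.node (.node .nil (nat_lit 1455) (nat_lit 2400)
  (nat_lit 2361) .nil) (nat_lit 1457) (nat_lit 6609) (nat_lit 3621) .nil)) (nat_lit 1458) (nat_lit 10560)
  (nat_lit 2384) (.node (.node (.node .nil (nat_lit 1464) (nat_lit 14448) (nat_lit 2387) .nil) (nat_lit 1467)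
  (nat_lit 97) (nat_lit 3312) .nil) (nat_lit 1469) (nat_lit 5777) (nat_lit 1686) (.node .nil (nat_lit 1475)
  (nat_lit 1280) (nat_lit 3221) .nil))) (nat_lit 1477) (nat_lit 20960) (nat_lit 2034) (.node (.node (.node
  (.node .nil (nat_lit 1482) (nat_lit 11009) (nat_lit 3813) .nil) (nat_lit 1484) (nat_lit 1824) (nat_lit 2016)
  .nil) (nat_lit 1487) (nat_lit 17344) (nat_lit 2033) (.node .nil (nat_lit 1492) (nat_lit 12705) (nat_lit
  3027) .nil)) (nat_lit 1495) (nat_lit 15633) (nat_lit 3705) (.node (.node (.node .nil (nat_lit 1496) (nat_lit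
  2016) (nat_lit 1947) .nil) (nat_lit 1501) (nat_lit 19888) (nat_lit 3309) .nil) (nat_lit 1502) (nat_lit 2080)
  (nat_lit 3324) (.node .nil (nat_lit 1505) (nat_lit 5984) (nat_lit 3216) .nil)))) (nat_lit 1506) (nat_lit
  11793) (nat_lit 2412) (.node (.node (.node (.node (.node .nil (nat_lit 1511) (nat_lit 896) (nat_lit 2039)
  .nil) (nat_lit 1512) (nat_lit 19760) (nat_lit 3202) .nil) (nat_lit 1515) (nat_lit 16625) (nat_lit 3603)
  (.node (.node .nil (nat_lit 1518) (nat_lit 19185) (nat_lit 479) .nil) (nat_lit 1520) (nat_lit 12929)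
  (nat_lit 1257) .nil)) (nat_lit 1523) (nat_lit 15761) (nat_lit 323) (.node (.node (.node .nil (nat_lit 1525)
  (nat_lit 19841) (nat_lit 2853) .nil) (nat_lit 1529) (nat_lit 9216) (nat_lit 1935) .nil) (nat_lit 1530)
  (nat_lit 21312) (nat_lit 1950) (.node .nil (nat_lit 1532) (nat_lit 13264) (nat_lit 3321) .nil))) (nat_lit
  1539) (nat_lit 2352) (nat_lit 907) (.node (.node (.node (.node .nil (nat_lit 1541) (nat_lit 9073) (nat_lit
  1992) .nil) (nat_lit 1542) (nat_lit 5856) (nat_lit 2301) .nil) (nat_lit 1546) (nat_lit 7841) (nat_lit 2769)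
  (.node .nil (nat_lit 1548) (nat_lit 3728) (nat_lit 2302) .nil)) (nat_lit 1551) (nat_lit 7072) (nat_lit 2287)
  (.node (.node (.node .nil (nat_lit 1553) (nat_lit 17840) (nat_lit 2199) .nil) (nat_lit 1556) (nat_lit 2337)
  (nat_lit 4071) .nil) (nat_lit 1559) (nat_lit 1361) (nat_lit 2637) (.node .nil (nat_lit 1560) (nat_lit 5553)
  (nat_lit 1876) .nil)))))))
def ts1344_3 : T := (.node (.node (.node (.node (.node (.node (.node (.node .nil (nat_lit 1566) (nat_lit
  15520) (nat_lit 994) .nil) (nat_lit 1569) (nat_lit 8176) (nat_lit 910) .nil) (nat_lit 1570) (nat_lit 16864)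
  (nat_lit 927) (.node (.node .nil (nat_lit 1575) (nat_lit 14720) (nat_lit 2281) .nil) (nat_lit 1576) (nat_lit
  9808) (nat_lit 924) .nil)) (nat_lit 1579) (nat_lit 2065) (nat_lit 2599) (.node (.node (.node .nil (nat_lit
  1582) (nat_lit 16016) (nat_lit 2299) .nil) (nat_lit 1584) (nat_lit 4848) (nat_lit 2179) .nil) (nat_lit 1587)
  (nat_lit 3440) (nat_lit 2194) (.node .nil (nat_lit 1589) (nat_lit 21153) (nat_lit 3857) .nil))) (nat_lit
  1593) (nat_lit 704) (nat_lit 2193) (.node (.node (.node (.node .nil (nat_lit 1596) (nat_lit 20417) (nat_lit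
  2158) .nil) (nat_lit 1602) (nat_lit 2945) (nat_lit 1890) .nil) (nat_lit 1604) (nat_lit 8496) (nat_lit 1584)
  (.node .nil (nat_lit 1607) (nat_lit 10769) (nat_lit 2222) .nil)) (nat_lit 1611) (nat_lit 15568) (nat_lit
  3397) (.node (.node (.node .nil (nat_lit 1613) (nat_lit 17889) (nat_lit 2683) .nil) (nat_lit 1614) (nat_lit
  6288) (nat_lit 1587) .nil) (nat_lit 1616) (nat_lit 5361) (nat_lit 2791) (.node .nil (nat_lit 1621) (nat_lit
  257) (nat_lit 1323) .nil)))) (nat_lit 1628) (nat_lit 18096) (nat_lit 3375) (.node (.node (.node (.node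
  (.node .nil (nat_lit 1631) (nat_lit 3472) (nat_lit 3390) .nil) (nat_lit 1632) (nat_lit 8945) (nat_lit 574)
  .nil) (nat_lit 1638) (nat_lit 21377) (nat_lit 2136) (.node (.node .nil (nat_lit 1641) (nat_lit 19105)
  (nat_lit 1345) .nil) (nat_lit 1642) (nat_lit 8001) (nat_lit 235) .nil)) (nat_lit 1647) (nat_lit 12209)
  (nat_lit 3879) (.node (.node (.node .nil (nat_lit 1649) (nat_lit 6352) (nat_lit 1631) .nil) (nat_lit 1650)
  (nat_lit 1137) (nat_lit 4027) .nil) (nat_lit 1652) (nat_lit 20864) (nat_lit 3369) (.node .nil (nat_lit 1656)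
  (nat_lit 10641) (nat_lit 3438) .nil))) (nat_lit 1659) (nat_lit 4929) (nat_lit 2244) (.node (.node (.node
  (.node .nil (nat_lit 1661) (nat_lit 1664) (nat_lit 3387) .nil) (nat_lit 1665) (nat_lit 4672) (nat_lit 898)
  .nil) (nat_lit 1668) (nat_lit 7409) (nat_lit 2340) (.node .nil (nat_lit 1671) (nat_lit 7152) (nat_lit 2277)
  .nil)) (nat_lit 1672) (nat_lit 17809) (nat_lit 407) (.node (.node (.node .nil (nat_lit 1677) (nat_lit 12769)
  (nat_lit 3675) .nil) (nat_lit 1678) (nat_lit 2689) (nat_lit 3057) .nil) (nat_lit 1683) (nat_lit 11632)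
  (nat_lit 2206) (.node .nil (nat_lit 1685) (nat_lit 5697) (nat_lit 267) .nil))))) (nat_lit 1686) (nat_lit
  3137) (nat_lit 1185) (.node (.node (.node (.node (.node (.node .nil (nat_lit 1690) (nat_lit 7713) (nat_lit
  3090) .nil) (nat_lit 1692) (nat_lit 4976) (nat_lit 1003) .nil) (nat_lit 1696) (nat_lit 14912) (nat_lit 918)
  (.node (.node .nil (nat_lit 1701) (nat_lit 15408) (nat_lit 2272) .nil) (nat_lit 1705) (nat_lit 1649)
  (nat_lit 353) .nil)) (nat_lit 1706) (nat_lit 13040) (nat_lit 917) (.node (.node (.node .nil (nat_lit 1708)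
  (nat_lit 21184) (nat_lit 2290) .nil) (nat_lit 1713) (nat_lit 19744) (nat_lit 2203) .nil) (nat_lit 1714)
  (nat_lit 19089) (nat_lit 2971) (.node .nil (nat_lit 1719) (nat_lit 14849) (nat_lit 1111) .nil))) (nat_lit
  1720) (nat_lit 3329) (nat_lit 2382) (.node (.node (.node (.node .nil (nat_lit 1723) (nat_lit 7905) (nat_lit
  3300) .nil) (nat_lit 1726) (nat_lit 18769) (nat_lit 808) .nil) (nat_lit 1728) (nat_lit 5824) (nat_lit 3422)
  (.node .nil (nat_lit 1733) (nat_lit 15184) (nat_lit 1576) .nil)) (nat_lit 1734) (nat_lit 1408) (nat_lit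
  1593) (.node (.node (.node .nil (nat_lit 1737) (nat_lit 14881) (nat_lit 2907) .nil) (nat_lit 1743) (nat_lit
  3968) (nat_lit 1579) .nil) (nat_lit 1746) (nat_lit 5440) (nat_lit 1602) (.node .nil (nat_lit 1748) (nat_lit
  20704) (nat_lit 3365) .nil)))) (nat_lit 1751) (nat_lit 10896) (nat_lit 3380) (.node (.node (.node (.node
  (.node .nil (nat_lit 1755) (nat_lit 9248) (nat_lit 1616) .nil) (nat_lit 1757) (nat_lit 2977) (nat_lit 3256)
  .nil) (nat_lit 1758) (nat_lit 19664) (nat_lit 3366) (.node (.node .nil (nat_lit 1764) (nat_lit 21057)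
  (nat_lit 798) .nil) (nat_lit 1768) (nat_lit 15537) (nat_lit 2989) .nil)) (nat_lit 1773) (nat_lit 20160)
  (nat_lit 1582) (.node (.node (.node .nil (nat_lit 1776) (nat_lit 14385) (nat_lit 1277) .nil) (nat_lit 1782)
  (nat_lit 18481) (nat_lit 3739) .nil) (nat_lit 1785) (nat_lit 528) (nat_lit 1621) (.node .nil (nat_lit 1786)
  (nat_lit 13648) (nat_lit 1604) .nil))) (nat_lit 1791) (nat_lit 13873) (nat_lit 2532) (.node (.node (.node
  (.node .nil (nat_lit 1794) (nat_lit 4064) (nat_lit 411) .nil) (nat_lit 1796) (nat_lit 18928) (nat_lit 2812)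
  .nil) (nat_lit 1799) (nat_lit 8801) (nat_lit 3262) (.node .nil (nat_lit 1803) (nat_lit 13776) (nat_lit 393)
  .nil)) (nat_lit 1805) (nat_lit 15137) (nat_lit 3691) (.node (.node (.node .nil (nat_lit 1808) (nat_lit
  15088) (nat_lit 2695) .nil) (nat_lit 1813) (nat_lit 3280) (nat_lit 497) .nil) (nat_lit 1814) (nat_lit 9168)
  (nat_lit 480) (.node .nil (nat_lit 1817) (nat_lit 16801) (nat_lit 2440) .nil)))))) (nat_lit 1820) (nat_lit
  13665) (nat_lit 1604) (.node (.node (.node (.node (.node (.node (.node .nil (nat_lit 1823) (nat_lit 14640)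
  (nat_lit 498) .nil) (nat_lit 1824) (nat_lit 20032) (nat_lit 414) .nil) (nat_lit 1827) (nat_lit 9856)
  (nat_lit 399) (.node (.node .nil (nat_lit 1830) (nat_lit 481) (nat_lit 3144) .nil) (nat_lit 1833) (nat_lit
  8528) (nat_lit 396) .nil)) (nat_lit 1834) (nat_lit 10096) (nat_lit 413) (.node (.node (.node .nil (nat_lit
  1839) (nat_lit 7760) (nat_lit 2795) .nil) (nat_lit 1841) (nat_lit 8368) (nat_lit 2707) .nil) (nat_lit 1842)
  (nat_lit 12033) (nat_lit 2987) (.node .nil (nat_lit 1848) (nat_lit 3568) (nat_lit 2689) .nil))) (nat_lit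
  1851) (nat_lit 8144) (nat_lit 2704) (.node (.node (.node (.node .nil (nat_lit 1853) (nat_lit 14816) (nat_lit
  503) .nil) (nat_lit 1859) (nat_lit 11408) (nat_lit 3911) .nil) (nat_lit 1862) (nat_lit 2241) (nat_lit 1650)
  (.node .nil (nat_lit 1866) (nat_lit 5408) (nat_lit 3925) .nil)) (nat_lit 1868) (nat_lit 15457) (nat_lit
  1191) (.node (.node (.node .nil (nat_lit 1871) (nat_lit 20673) (nat_lit 269) .nil) (nat_lit 1873) (nat_lit
  5248) (nat_lit 1115) .nil) (nat_lit 1876) (nat_lit 3009) (nat_lit 3063) (.node .nil (nat_lit 1879) (nat_lit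
  10273) (nat_lit 3677) .nil)))) (nat_lit 1880) (nat_lit 16080) (nat_lit 1097) (.node (.node (.node (.node
  (.node .nil (nat_lit 1885) (nat_lit 7265) (nat_lit 3208) .nil) (nat_lit 1886) (nat_lit 10528) (nat_lit 3886)
  .nil) (nat_lit 1889) (nat_lit 13329) (nat_lit 3298) (.node (.node .nil (nat_lit 1890) (nat_lit 1521)
  (nat_lit 2376) .nil) (nat_lit 1895) (nat_lit 12321) (nat_lit 1668) .nil)) (nat_lit 1899) (nat_lit 7664)
  (nat_lit 3905) (.node (.node (.node .nil (nat_lit 1902) (nat_lit 15344) (nat_lit 1079) .nil) (nat_lit 1904)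
  (nat_lit 785) (nat_lit 1229) .nil) (nat_lit 1907) (nat_lit 14753) (nat_lit 359) (.node .nil (nat_lit 1909)
  (nat_lit 11696) (nat_lit 3897) .nil))) (nat_lit 1913) (nat_lit 4049) (nat_lit 946) (.node (.node (.node
  (.node .nil (nat_lit 1914) (nat_lit 9569) (nat_lit 1560) .nil) (nat_lit 1916) (nat_lit 10928) (nat_lit 3883)
  .nil) (nat_lit 1920) (nat_lit 5089) (nat_lit 2100) (.node .nil (nat_lit 1925) (nat_lit 992) (nat_lit 2788)
  .nil)) (nat_lit 1926) (nat_lit 6784) (nat_lit 2805) (.node (.node (.node .nil (nat_lit 1932) (nat_lit 13761)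
  (nat_lit 135) .nil) (nat_lit 1935) (nat_lit 5344) (nat_lit 2791) .nil) (nat_lit 1938) (nat_lit 11201)
  (nat_lit 1457) (.node .nil (nat_lit 1943) (nat_lit 20481) (nat_lit 2685) .nil))))) (nat_lit 1947) (nat_lit
  1024) (nat_lit 2716) (.node (.node (.node (.node (.node (.node .nil (nat_lit 1949) (nat_lit 19280) (nat_lit
  507) .nil) (nat_lit 1950) (nat_lit 19568) (nat_lit 490) .nil) (nat_lit 1953) (nat_lit 20928) (nat_lit 390)
  (.node (.node .nil (nat_lit 1954) (nat_lit 11265) (nat_lit 3432) .nil) (nat_lit 1960) (nat_lit 1312)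
  (nat_lit 404) .nil)) (nat_lit 1963) (nat_lit 17377) (nat_lit 2583) (.node (.node (.node .nil (nat_lit 1965)
  (nat_lit 7472) (nat_lit 2786) .nil) (nat_lit 1971) (nat_lit 15008) (nat_lit 2714) .nil) (nat_lit 1977)
  (nat_lit 16561) (nat_lit 1938) (.node .nil (nat_lit 1978) (nat_lit 3841) (nat_lit 568) .nil))) (nat_lit
  1983) (nat_lit 5456) (nat_lit 510) (.node (.node (.node (.node .nil (nat_lit 1985) (nat_lit 14545) (nat_lit
  760) .nil) (nat_lit 1988) (nat_lit 10913) (nat_lit 3380) .nil) (nat_lit 1991) (nat_lit 11649) (nat_lit 2206)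
  (.node .nil (nat_lit 1992) (nat_lit 5233) (nat_lit 1415) .nil)) (nat_lit 1997) (nat_lit 864) (nat_lit 1066)
  (.node (.node (.node .nil (nat_lit 1998) (nat_lit 9200) (nat_lit 1083) .nil) (nat_lit 2003) (nat_lit 11585)
  (nat_lit 3965) .nil) (nat_lit 2005) (nat_lit 6097) (nat_lit 1307) (.node .nil (nat_lit 2006) (nat_lit 1920)
  (nat_lit 3876) .nil)))) (nat_lit 2012) (nat_lit 12192) (nat_lit 3879) (.node (.node (.node (.node (.node
  .nil (nat_lit 2015) (nat_lit 14609) (nat_lit 1998) .nil) (nat_lit 2016) (nat_lit 928) (nat_lit 3930) .nil)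
  (nat_lit 2021) (nat_lit 18160) (nat_lit 1068) (.node (.node .nil (nat_lit 2025) (nat_lit 3777) (nat_lit
  1393) .nil) (nat_lit 2026) (nat_lit 17680) (nat_lit 3929) .nil)) (nat_lit 2028) (nat_lit 16593) (nat_lit
  2749) (.node (.node (.node .nil (nat_lit 2033) (nat_lit 11985) (nat_lit 2593) .nil) (nat_lit 2034) (nat_lit
  18337) (nat_lit 3979) .nil) (nat_lit 2039) (nat_lit 449) (nat_lit 71) (.node .nil (nat_lit 2040) (nat_lit
  5841) (nat_lit 3422) .nil))) (nat_lit 2043) (nat_lit 17168) (nat_lit 1108) (.node (.node (.node (.node .nil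
  (nat_lit 2046) (nat_lit 6497) (nat_lit 1848) .nil) (nat_lit 2055) (nat_lit 161) (nat_lit 1186) .nil)
  (nat_lit 2059) (nat_lit 18305) (nat_lit 3089) (.node .nil (nat_lit 2062) (nat_lit 16401) (nat_lit 989)
  .nil)) (nat_lit 2067) (nat_lit 18817) (nat_lit 833) (.node (.node (.node .nil (nat_lit 2069) (nat_lit 7120)
  (nat_lit 2155) .nil) (nat_lit 2073) (nat_lit 1329) (nat_lit 404) .nil) (nat_lit 2074) (nat_lit 20593)
  (nat_lit 1086) (.node .nil (nat_lit 2076) (nat_lit 7745) (nat_lit 3672) .nil)))))))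
def ts1344_4 : T := (.node (.node (.node (.node (.node (.node (.node (.node .nil (nat_lit 2085) (nat_lit 5473)
  (nat_lit 510) .nil) (nat_lit 2086) (nat_lit 17185) (nat_lit 1108) .nil) (nat_lit 2090) (nat_lit 336)
  (nat_lit 2055) (.node (.node .nil (nat_lit 2092) (nat_lit 8257) (nat_lit 1665) .nil) (nat_lit 2097) (nat_lit
  7569) (nat_lit 1565) .nil)) (nat_lit 2100) (nat_lit 2721) (nat_lit 2513) (.node (.node (.node .nil (nat_lit
  2103) (nat_lit 8849) (nat_lit 3195) .nil) (nat_lit 2104) (nat_lit 4177) (nat_lit 354) .nil) (nat_lit 2109)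
  (nat_lit 4737) (nat_lit 3758) (.node .nil (nat_lit 2110) (nat_lit 20689) (nat_lit 2820) .nil))) (nat_lit
  2115) (nat_lit 5488) (nat_lit 1757) (.node (.node (.node (.node .nil (nat_lit 2118) (nat_lit 736) (nat_lit
  3499) .nil) (nat_lit 2121) (nat_lit 21344) (nat_lit 1758) .nil) (nat_lit 2122) (nat_lit 5505) (nat_lit 1757)
  (.node .nil (nat_lit 2127) (nat_lit 18961) (nat_lit 2321) .nil)) (nat_lit 2129) (nat_lit 1169) (nat_lit
  3111) (.node (.node (.node .nil (nat_lit 2130) (nat_lit 18240) (nat_lit 3536) .nil) (nat_lit 2132) (nat_lit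
  4993) (nat_lit 1003) .nil) (nat_lit 2136) (nat_lit 19696) (nat_lit 3539) (.node .nil (nat_lit 2139) (nat_lit
  20112) (nat_lit 3522) .nil)))) (nat_lit 2141) (nat_lit 19792) (nat_lit 1701) (.node (.node (.node (.node
  (.node .nil (nat_lit 2146) (nat_lit 7601) (nat_lit 340) .nil) (nat_lit 2148) (nat_lit 16897) (nat_lit 2866)
  .nil) (nat_lit 2151) (nat_lit 16193) (nat_lit 3736) (.node (.node .nil (nat_lit 2155) (nat_lit 3985)
  (nat_lit 1579) .nil) (nat_lit 2157) (nat_lit 16481) (nat_lit 3149) .nil)) (nat_lit 2158) (nat_lit 16656)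
  (nat_lit 3501) (.node (.node (.node .nil (nat_lit 2160) (nat_lit 15857) (nat_lit 3281) .nil) (nat_lit 2166)
  (nat_lit 19457) (nat_lit 1719) .nil) (nat_lit 2169) (nat_lit 6320) (nat_lit 3527) (.node .nil (nat_lit 2172)
  (nat_lit 19345) (nat_lit 1122) .nil))) (nat_lit 2175) (nat_lit 13617) (nat_lit 456) (.node (.node (.node
  (.node .nil (nat_lit 2179) (nat_lit 2592) (nat_lit 2073) .nil) (nat_lit 2181) (nat_lit 16224) (nat_lit 894)
  .nil) (nat_lit 2185) (nat_lit 15649) (nat_lit 1879) (.node .nil (nat_lit 2186) (nat_lit 19969) (nat_lit 765)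
  .nil)) (nat_lit 2188) (nat_lit 19040) (nat_lit 876) (.node (.node (.node .nil (nat_lit 2193) (nat_lit 353)
  (nat_lit 2055) .nil) (nat_lit 2194) (nat_lit 1792) (nat_lit 788) .nil) (nat_lit 2199) (nat_lit 12576)
  (nat_lit 2146) (.node .nil (nat_lit 2200) (nat_lit 7360) (nat_lit 791) .nil))))) (nat_lit 2203) (nat_lit
  15313) (nat_lit 2770) (.node (.node (.node (.node (.node (.node .nil (nat_lit 2206) (nat_lit 6897) (nat_lit
  1310) .nil) (nat_lit 2209) (nat_lit 4785) (nat_lit 222) .nil) (nat_lit 2212) (nat_lit 7537) (nat_lit 3858)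
  (.node (.node .nil (nat_lit 2215) (nat_lit 18209) (nat_lit 2744) .nil) (nat_lit 2216) (nat_lit 20336)
  (nat_lit 2062) .nil)) (nat_lit 2221) (nat_lit 400) (nat_lit 888) (.node (.node (.node .nil (nat_lit 2222)
  (nat_lit 6337) (nat_lit 3527) .nil) (nat_lit 2229) (nat_lit 19441) (nat_lit 1853) .nil) (nat_lit 2230)
  (nat_lit 19985) (nat_lit 663) (.node .nil (nat_lit 2234) (nat_lit 15665) (nat_lit 2596) .nil))) (nat_lit
  2239) (nat_lit 20512) (nat_lit 2148) (.node (.node (.node (.node .nil (nat_lit 2241) (nat_lit 1009) (nat_lit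
  2788) .nil) (nat_lit 2242) (nat_lit 19632) (nat_lit 1733) .nil) (nat_lit 2244) (nat_lit 2624) (nat_lit 3490)
  (.node .nil (nat_lit 2248) (nat_lit 2736) (nat_lit 1734) .nil)) (nat_lit 2251) (nat_lit 12529) (nat_lit
  2097) (.node (.node (.node .nil (nat_lit 2253) (nat_lit 129) (nat_lit 599) .nil) (nat_lit 2256) (nat_lit
  9600) (nat_lit 3545) .nil) (nat_lit 2259) (nat_lit 15072) (nat_lit 3528) (.node .nil (nat_lit 2262) (nat_lit
  817) (nat_lit 2221) .nil)))) (nat_lit 2266) (nat_lit 19009) (nat_lit 30) (.node (.node (.node (.node (.node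
  .nil (nat_lit 2271) (nat_lit 21441) (nat_lit 4050) .nil) (nat_lit 2272) (nat_lit 10000) (nat_lit 1728) .nil)
  (nat_lit 2277) (nat_lit 4017) (nat_lit 1502) (.node (.node .nil (nat_lit 2278) (nat_lit 14993) (nat_lit 116)
  .nil) (nat_lit 2281) (nat_lit 9360) (nat_lit 1746) .nil)) (nat_lit 2284) (nat_lit 5568) (nat_lit 3492)
  (.node (.node (.node .nil (nat_lit 2287) (nat_lit 3936) (nat_lit 3509) .nil) (nat_lit 2290) (nat_lit 19120)
  (nat_lit 3548) .nil) (nat_lit 2292) (nat_lit 12880) (nat_lit 1723) (.node .nil (nat_lit 2295) (nat_lit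
  18144) (nat_lit 1706) .nil))) (nat_lit 2299) (nat_lit 10656) (nat_lit 3534) (.node (.node (.node (.node .nil
  (nat_lit 2301) (nat_lit 3184) (nat_lit 1705) .nil) (nat_lit 2302) (nat_lit 1937) (nat_lit 3876) .nil)
  (nat_lit 2307) (nat_lit 13392) (nat_lit 2577) (.node .nil (nat_lit 2310) (nat_lit 13473) (nat_lit 2686)
  .nil)) (nat_lit 2313) (nat_lit 15872) (nat_lit 2578) (.node (.node (.node .nil (nat_lit 2314) (nat_lit
  16432) (nat_lit 2563) .nil) (nat_lit 2319) (nat_lit 21392) (nat_lit 373) .nil) (nat_lit 2321) (nat_lit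
  14177) (nat_lit 2103) (.node .nil (nat_lit 2322) (nat_lit 17329) (nat_lit 3485) .nil)))))) (nat_lit 2324)
  (nat_lit 17872) (nat_lit 2683) (.node (.node (.node (.node (.node (.node (.node .nil (nat_lit 2328) (nat_lit
  8129) (nat_lit 3912) .nil) (nat_lit 2331) (nat_lit 4528) (nat_lit 270) .nil) (nat_lit 2338) (nat_lit 10080)
  (nat_lit 2565) (.node (.node .nil (nat_lit 2340) (nat_lit 4160) (nat_lit 354) .nil) (nat_lit 2343) (nat_lit
  6545) (nat_lit 2696) .nil)) (nat_lit 2347) (nat_lit 17360) (nat_lit 2583) (.node (.node (.node .nil (nat_lit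
  2349) (nat_lit 4192) (nat_lit 368) .nil) (nat_lit 2350) (nat_lit 1632) (nat_lit 353) .nil) (nat_lit 2352)
  (nat_lit 2001) (nat_lit 2241) (.node .nil (nat_lit 2357) (nat_lit 16512) (nat_lit 2671) .nil))) (nat_lit
  2358) (nat_lit 13456) (nat_lit 2686) (.node (.node (.node (.node .nil (nat_lit 2361) (nat_lit 1233) (nat_lit
  4030) .nil) (nat_lit 2364) (nat_lit 14769) (nat_lit 114) .nil) (nat_lit 2367) (nat_lit 3889) (nat_lit 1496)
  (.node .nil (nat_lit 2369) (nat_lit 9280) (nat_lit 1244) .nil)) (nat_lit 2370) (nat_lit 768) (nat_lit 1229)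
  (.node (.node (.node .nil (nat_lit 2375) (nat_lit 1120) (nat_lit 4027) .nil) (nat_lit 2376) (nat_lit 753)
  (nat_lit 3499) .nil) (nat_lit 2382) (nat_lit 1713) (nat_lit 1997) (.node .nil (nat_lit 2384) (nat_lit 6193)
  (nat_lit 763) .nil)))) (nat_lit 2387) (nat_lit 9089) (nat_lit 1873) (.node (.node (.node (.node (.node .nil
  (nat_lit 2389) (nat_lit 13633) (nat_lit 3383) .nil) (nat_lit 2393) (nat_lit 5809) (nat_lit 1412) .nil)
  (nat_lit 2394) (nat_lit 17521) (nat_lit 46) (.node (.node .nil (nat_lit 2396) (nat_lit 18032) (nat_lit 1205)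
  .nil) (nat_lit 2403) (nat_lit 15265) (nat_lit 3976) .nil)) (nat_lit 2405) (nat_lit 1216) (nat_lit 4030)
  (.node (.node (.node .nil (nat_lit 2410) (nat_lit 18688) (nat_lit 1227) .nil) (nat_lit 2412) (nat_lit 7008)
  (nat_lit 4012) .nil) (nat_lit 2415) (nat_lit 13233) (nat_lit 1851) (.node .nil (nat_lit 2417) (nat_lit 5280)
  (nat_lit 4037) .nil))) (nat_lit 2420) (nat_lit 12177) (nat_lit 3521) (.node (.node (.node (.node .nil
  (nat_lit 2423) (nat_lit 144) (nat_lit 1186) .nil) (nat_lit 2429) (nat_lit 3120) (nat_lit 1185) .nil)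
  (nat_lit 2430) (nat_lit 17200) (nat_lit 1200) (.node .nil (nat_lit 2433) (nat_lit 12640) (nat_lit 2584)
  .nil)) (nat_lit 2434) (nat_lit 5617) (nat_lit 2910) (.node (.node (.node .nil (nat_lit 2436) (nat_lit 11345)
  (nat_lit 312) .nil) (nat_lit 2440) (nat_lit 11441) (nat_lit 2443) .nil) (nat_lit 2443) (nat_lit 6769)
  (nat_lit 3105) (.node .nil (nat_lit 2445) (nat_lit 14896) (nat_lit 380) .nil))))) (nat_lit 2448) (nat_lit
  11760) (nat_lit 277) (.node (.node (.node (.node (.node (.node .nil (nat_lit 2454) (nat_lit 8753) (nat_lit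
  3261) .nil) (nat_lit 2457) (nat_lit 624) (nat_lit 263) .nil) (nat_lit 2458) (nat_lit 2528) (nat_lit 278)
  (.node (.node .nil (nat_lit 2463) (nat_lit 1873) (nat_lit 3010) .nil) (nat_lit 2464) (nat_lit 20528)
  (nat_lit 2572) .nil)) (nat_lit 2469) (nat_lit 6672) (nat_lit 378) (.node (.node (.node .nil (nat_lit 2470)
  (nat_lit 10736) (nat_lit 363) .nil) (nat_lit 2473) (nat_lit 5761) (nat_lit 2429) .nil) (nat_lit 2476)
  (nat_lit 14688) (nat_lit 360) (.node .nil (nat_lit 2479) (nat_lit 18065) (nat_lit 795) .nil))) (nat_lit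
  2484) (nat_lit 12433) (nat_lit 2529) (.node (.node (.node (.node .nil (nat_lit 2493) (nat_lit 10721)
  (nat_lit 3742) .nil) (nat_lit 2494) (nat_lit 9008) (nat_lit 2676) .nil) (nat_lit 2496) (nat_lit 19473)
  (nat_lit 1080) (.node .nil (nat_lit 2499) (nat_lit 7105) (nat_lit 402) .nil)) (nat_lit 2501) (nat_lit 13904)
  (nat_lit 4018) (.node (.node (.node .nil (nat_lit 2505) (nat_lit 20545) (nat_lit 839) .nil) (nat_lit 2506)
  (nat_lit 21408) (nat_lit 1223) .nil) (nat_lit 2508) (nat_lit 13985) (nat_lit 3211) (.node .nil (nat_lit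
  2513) (nat_lit 1393) (nat_lit 3095) .nil)))) (nat_lit 2514) (nat_lit 16113) (nat_lit 2493) (.node (.node
  (.node (.node (.node .nil (nat_lit 2519) (nat_lit 10801) (nat_lit 1649) .nil) (nat_lit 2520) (nat_lit 5120)
  (nat_lit 4059) .nil) (nat_lit 2523) (nat_lit 14400) (nat_lit 4042) (.node (.node .nil (nat_lit 2526)
  (nat_lit 4545) (nat_lit 270) .nil) (nat_lit 2529) (nat_lit 7488) (nat_lit 1232) .nil)) (nat_lit 2532)
  (nat_lit 8640) (nat_lit 4006) (.node (.node (.node .nil (nat_lit 2535) (nat_lit 19729) (nat_lit 3752) .nil)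
  (nat_lit 2536) (nat_lit 6448) (nat_lit 1218) .nil) (nat_lit 2542) (nat_lit 16064) (nat_lit 4005) (.node .nil
  (nat_lit 2549) (nat_lit 4433) (nat_lit 813) .nil))) (nat_lit 2550) (nat_lit 4656) (nat_lit 1210) (.node
  (.node (.node (.node .nil (nat_lit 2554) (nat_lit 1888) (nat_lit 4062) .nil) (nat_lit 2556) (nat_lit 16848)
  (nat_lit 1209) .nil) (nat_lit 2559) (nat_lit 20064) (nat_lit 1192) (.node .nil (nat_lit 2563) (nat_lit
  11073) (nat_lit 1446) .nil)) (nat_lit 2565) (nat_lit 5888) (nat_lit 172) (.node (.node (.node .nil (nat_lit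
  2569) (nat_lit 19393) (nat_lit 1907) .nil) (nat_lit 2570) (nat_lit 12608) (nat_lit 3033) .nil) (nat_lit
  2572) (nat_lit 16944) (nat_lit 190) (.node .nil (nat_lit 2577) (nat_lit 8288) (nat_lit 215) .nil)))))))
def ts1344_5 : T := (.node (.node (.node (.node (.node (.node (.node (.node .nil (nat_lit 2583) (nat_lit
  12000) (nat_lit 2992) .nil) (nat_lit 2584) (nat_lit 7649) (nat_lit 3932) .nil) (nat_lit 2587) (nat_lit
  14272) (nat_lit 212) (.node (.node .nil (nat_lit 2590) (nat_lit 17536) (nat_lit 2978) .nil) (nat_lit 2593)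
  (nat_lit 7137) (nat_lit 250) .nil)) (nat_lit 2596) (nat_lit 10288) (nat_lit 184) (.node (.node (.node .nil
  (nat_lit 2599) (nat_lit 1041) (nat_lit 2716) .nil) (nat_lit 2600) (nat_lit 1969) (nat_lit 1925) .nil)
  (nat_lit 2605) (nat_lit 20656) (nat_lit 170) (.node .nil (nat_lit 2606) (nat_lit 4833) (nat_lit 3555)
  .nil))) (nat_lit 2611) (nat_lit 6960) (nat_lit 210) (.node (.node (.node (.node .nil (nat_lit 2613) (nat_lit
  18576) (nat_lit 2997) .nil) (nat_lit 2614) (nat_lit 10609) (nat_lit 691) .nil) (nat_lit 2620) (nat_lit 8113)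
  (nat_lit 102) (.node .nil (nat_lit 2623) (nat_lit 3521) (nat_lit 1484) .nil)) (nat_lit 2625) (nat_lit 11617)
  (nat_lit 2752) (.node (.node (.node .nil (nat_lit 2626) (nat_lit 10881) (nat_lit 3946) .nil) (nat_lit 2628)
  (nat_lit 12305) (nat_lit 1292) .nil) (nat_lit 2632) (nat_lit 16497) (nat_lit 3519) (.node .nil (nat_lit
  2635) (nat_lit 11953) (nat_lit 2069) .nil)))) (nat_lit 2637) (nat_lit 673) (nat_lit 627) (.node (.node
  (.node (.node (.node .nil (nat_lit 2640) (nat_lit 18897) (nat_lit 751) .nil) (nat_lit 2646) (nat_lit 19937)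
  (nat_lit 2185) .nil) (nat_lit 2649) (nat_lit 20560) (nat_lit 3609) (.node (.node .nil (nat_lit 2650)
  (nat_lit 3361) (nat_lit 58) .nil) (nat_lit 2655) (nat_lit 176) (nat_lit 1406) .nil)) (nat_lit 2656) (nat_lit
  15969) (nat_lit 2614) (.node (.node (.node .nil (nat_lit 2661) (nat_lit 9792) (nat_lit 3684) .nil) (nat_lit
  2668) (nat_lit 17793) (nat_lit 645) .nil) (nat_lit 2671) (nat_lit 11168) (nat_lit 3687) (.node .nil (nat_lit
  2674) (nat_lit 17904) (nat_lit 3598) .nil))) (nat_lit 2676) (nat_lit 5200) (nat_lit 1385) (.node (.node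
  (.node (.node .nil (nat_lit 2679) (nat_lit 12976) (nat_lit 1400) .nil) (nat_lit 2683) (nat_lit 12593)
  (nat_lit 204) .nil) (nat_lit 2685) (nat_lit 16816) (nat_lit 1403) (.node .nil (nat_lit 2686) (nat_lit 8353)
  (nat_lit 3840) .nil)) (nat_lit 2689) (nat_lit 1856) (nat_lit 3010) (.node (.node (.node .nil (nat_lit 2690)
  (nat_lit 10321) (nat_lit 2890) .nil) (nat_lit 2695) (nat_lit 9713) (nat_lit 1158) .nil) (nat_lit 2696)
  (nat_lit 3617) (nat_lit 2463) (.node .nil (nat_lit 2702) (nat_lit 13184) (nat_lit 183) .nil))))) (nat_lit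
  2704) (nat_lit 4608) (nat_lit 207) (.node (.node (.node (.node (.node (.node .nil (nat_lit 2707) (nat_lit
  4768) (nat_lit 222) .nil) (nat_lit 2709) (nat_lit 18385) (nat_lit 2307) .nil) (nat_lit 2713) (nat_lit 19377)
  (nat_lit 432) (.node (.node .nil (nat_lit 2714) (nat_lit 9649) (nat_lit 1050) .nil) (nat_lit 2716) (nat_lit
  513) (nat_lit 3708) .nil)) (nat_lit 2723) (nat_lit 20800) (nat_lit 3015) (.node (.node (.node .nil (nat_lit
  2726) (nat_lit 21473) (nat_lit 1136) .nil) (nat_lit 2730) (nat_lit 13584) (nat_lit 3029) .nil) (nat_lit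
  2732) (nat_lit 19809) (nat_lit 1701) (.node .nil (nat_lit 2735) (nat_lit 17392) (nat_lit 163) .nil)))
  (nat_lit 2737) (nat_lit 1425) (nat_lit 1593) (.node (.node (.node (.node .nil (nat_lit 2740) (nat_lit 7873)
  (nat_lit 2549) .nil) (nat_lit 2743) (nat_lit 21024) (nat_lit 3004) .nil) (nat_lit 2744) (nat_lit 13136)
  (nat_lit 201) (.node .nil (nat_lit 2749) (nat_lit 11233) (nat_lit 3722) .nil)) (nat_lit 2750) (nat_lit
  13089) (nat_lit 2848) (.node (.node (.node .nil (nat_lit 2752) (nat_lit 6880) (nat_lit 1310) .nil) (nat_lit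
  2755) (nat_lit 7792) (nat_lit 1295) .nil) (nat_lit 2758) (nat_lit 15616) (nat_lit 3705) (.node .nil (nat_lit
  2761) (nat_lit 12288) (nat_lit 1292) .nil)))) (nat_lit 2762) (nat_lit 1073) (nat_lit 1785) (.node (.node
  (.node (.node (.node .nil (nat_lit 2767) (nat_lit 15120) (nat_lit 3691) .nil) (nat_lit 2769) (nat_lit 4401)
  (nat_lit 3075) .nil) (nat_lit 2770) (nat_lit 9905) (nat_lit 2473) (.node (.node .nil (nat_lit 2772) (nat_lit
  7920) (nat_lit 1381) .nil) (nat_lit 2776) (nat_lit 8768) (nat_lit 3585) .nil)) (nat_lit 2779) (nat_lit 8081)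
  (nat_lit 3798) (.node (.node (.node .nil (nat_lit 2781) (nat_lit 17217) (nat_lit 1200) .nil) (nat_lit 2786)
  (nat_lit 4209) (nat_lit 368) .nil) (nat_lit 2788) (nat_lit 496) (nat_lit 3708) (.node .nil (nat_lit 2791)
  (nat_lit 2881) (nat_lit 3772) .nil))) (nat_lit 2795) (nat_lit 4368) (nat_lit 1289) (.node (.node (.node
  (.node .nil (nat_lit 2797) (nat_lit 17953) (nat_lit 3177) .nil) (nat_lit 2798) (nat_lit 11921) (nat_lit
  2499) .nil) (nat_lit 2805) (nat_lit 3760) (nat_lit 1393) (.node .nil (nat_lit 2806) (nat_lit 12128) (nat_lit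
  1376) .nil)) (nat_lit 2809) (nat_lit 5008) (nat_lit 3605) (.node (.node (.node .nil (nat_lit 2812) (nat_lit
  14160) (nat_lit 1379) .nil) (nat_lit 2817) (nat_lit 21329) (nat_lit 3792) .nil) (nat_lit 2818) (nat_lit
  19152) (nat_lit 2523) (.node .nil (nat_lit 2820) (nat_lit 17600) (nat_lit 700) .nil)))))) (nat_lit 2824)
  (nat_lit 8864) (nat_lit 2520) (.node (.node (.node (.node (.node (.node (.node .nil (nat_lit 2827) (nat_lit
  9777) (nat_lit 3077) .nil) (nat_lit 2832) (nat_lit 18673) (nat_lit 1791) .nil) (nat_lit 2835) (nat_lit 3265)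
  (nat_lit 853) (.node (.node .nil (nat_lit 2838) (nat_lit 20753) (nat_lit 3225) .nil) (nat_lit 2842) (nat_lit
  881) (nat_lit 1066) .nil)) (nat_lit 2848) (nat_lit 8032) (nat_lit 2526) (.node (.node (.node .nil (nat_lit
  2853) (nat_lit 15552) (nat_lit 680) .nil) (nat_lit 2857) (nat_lit 9985) (nat_lit 2393) .nil) (nat_lit 2860)
  (nat_lit 6848) (nat_lit 698) (.node .nil (nat_lit 2863) (nat_lit 3056) (nat_lit 683) .nil))) (nat_lit 2866)
  (nat_lit 11504) (nat_lit 706) (.node (.node (.node (.node .nil (nat_lit 2868) (nat_lit 11312) (nat_lit 2469)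
  .nil) (nat_lit 2871) (nat_lit 16321) (nat_lit 3183) .nil) (nat_lit 2875) (nat_lit 7984) (nat_lit 720) (.node
  .nil (nat_lit 2878) (nat_lit 16128) (nat_lit 2470) .nil)) (nat_lit 2880) (nat_lit 14560) (nat_lit 1814)
  (.node (.node (.node .nil (nat_lit 2883) (nat_lit 14112) (nat_lit 1799) .nil) (nat_lit 2885) (nat_lit 6657)
  (nat_lit 3024) .nil) (nat_lit 2889) (nat_lit 17553) (nat_lit 867) (.node .nil (nat_lit 2890) (nat_lit 6032)
  (nat_lit 1813) .nil)))) (nat_lit 2892) (nat_lit 14208) (nat_lit 3186) (.node (.node (.node (.node (.node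
  .nil (nat_lit 2897) (nat_lit 7040) (nat_lit 3099) .nil) (nat_lit 2898) (nat_lit 1265) (nat_lit 2457) .nil)
  (nat_lit 2903) (nat_lit 545) (nat_lit 1621) (.node (.node .nil (nat_lit 2904) (nat_lit 16416) (nat_lit 3081)
  .nil) (nat_lit 2907) (nat_lit 9505) (nat_lit 3814) .nil)) (nat_lit 2910) (nat_lit 3041) (nat_lit 298) (.node
  (.node (.node .nil (nat_lit 2913) (nat_lit 7232) (nat_lit 1794) .nil) (nat_lit 2920) (nat_lit 13057)
  (nat_lit 917) .nil) (nat_lit 2925) (nat_lit 13952) (nat_lit 3174) (.node .nil (nat_lit 2931) (nat_lit 6384)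
  (nat_lit 3102) .nil))) (nat_lit 2933) (nat_lit 7200) (nat_lit 1913) (.node (.node (.node (.node .nil
  (nat_lit 2938) (nat_lit 18625) (nat_lit 3600) .nil) (nat_lit 2940) (nat_lit 12656) (nat_lit 1899) .nil)
  (nat_lit 2943) (nat_lit 14017) (nat_lit 476) (.node .nil (nat_lit 2944) (nat_lit 17281) (nat_lit 60) .nil))
  (nat_lit 2947) (nat_lit 11904) (nat_lit 2499) (.node (.node (.node .nil (nat_lit 2950) (nat_lit 6161)
  (nat_lit 2650) .nil) (nat_lit 2953) (nat_lit 16753) (nat_lit 1859) .nil) (nat_lit 2954) (nat_lit 2704)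
  (nat_lit 2513) (.node .nil (nat_lit 2959) (nat_lit 13552) (nat_lit 679) .nil))))) (nat_lit 2961) (nat_lit
  3664) (nat_lit 735) (.node (.node (.node (.node (.node (.node .nil (nat_lit 2962) (nat_lit 13824) (nat_lit
  718) .nil) (nat_lit 2964) (nat_lit 9888) (nat_lit 2473) .nil) (nat_lit 2968) (nat_lit 18128) (nat_lit 717)
  (.node (.node .nil (nat_lit 2971) (nat_lit 14336) (nat_lit 732) .nil) (nat_lit 2978) (nat_lit 12145)
  (nat_lit 1376) .nil)) (nat_lit 2980) (nat_lit 10048) (nat_lit 688) (.node (.node (.node .nil (nat_lit 2983)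
  (nat_lit 11744) (nat_lit 673) .nil) (nat_lit 2987) (nat_lit 7185) (nat_lit 543) .nil) (nat_lit 2989)
  (nat_lit 10176) (nat_lit 674) (.node .nil (nat_lit 2990) (nat_lit 10592) (nat_lit 691) .nil))) (nat_lit
  2992) (nat_lit 7169) (nat_lit 2277) (.node (.node (.node (.node .nil (nat_lit 2997) (nat_lit 13713) (nat_lit
  1833) .nil) (nat_lit 2998) (nat_lit 17713) (nat_lit 643) .nil) (nat_lit 3001) (nat_lit 19425) (nat_lit 3994)
  (.node .nil (nat_lit 3004) (nat_lit 18449) (nat_lit 86) .nil)) (nat_lit 3007) (nat_lit 14320) (nat_lit 2494)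
  (.node (.node (.node .nil (nat_lit 3010) (nat_lit 945) (nat_lit 3930) .nil) (nat_lit 3015) (nat_lit 17936)
  (nat_lit 3177) .nil) (nat_lit 3016) (nat_lit 18560) (nat_lit 1820) (.node .nil (nat_lit 3019) (nat_lit 9425)
  (nat_lit 2085) .nil)))) (nat_lit 3022) (nat_lit 6801) (nat_lit 2025) (.node (.node (.node (.node (.node .nil
  (nat_lit 3024) (nat_lit 3681) (nat_lit 735) .nil) (nat_lit 3027) (nat_lit 7696) (nat_lit 3090) .nil)
  (nat_lit 3029) (nat_lit 8449) (nat_lit 3347) (.node (.node .nil (nat_lit 3033) (nat_lit 7633) (nat_lit 1440)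
  .nil) (nat_lit 3036) (nat_lit 17664) (nat_lit 1895) .nil)) (nat_lit 3043) (nat_lit 7025) (nat_lit 4012)
  (.node (.node (.node .nil (nat_lit 3045) (nat_lit 6512) (nat_lit 3180) .nil) (nat_lit 3050) (nat_lit 19601)
  (nat_lit 2259) .nil) (nat_lit 3052) (nat_lit 18433) (nat_lit 693) (.node .nil (nat_lit 3055) (nat_lit 16304)
  (nat_lit 3183) .nil))) (nat_lit 3057) (nat_lit 1376) (nat_lit 3095) (.node (.node (.node (.node .nil
  (nat_lit 3060) (nat_lit 16049) (nat_lit 3557) .nil) (nat_lit 3063) (nat_lit 1552) (nat_lit 1904) .nil)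
  (nat_lit 3064) (nat_lit 9760) (nat_lit 3077) (.node .nil (nat_lit 3069) (nat_lit 15025) (nat_lit 2714)
  .nil)) (nat_lit 3070) (nat_lit 2928) (nat_lit 1890) (.node (.node (.node .nil (nat_lit 3075) (nat_lit 2288)
  (nat_lit 2129) .nil) (nat_lit 3077) (nat_lit 5664) (nat_lit 822) .nil) (nat_lit 3081) (nat_lit 11041)
  (nat_lit 3959) (.node .nil (nat_lit 3082) (nat_lit 9440) (nat_lit 2115) .nil)))))))
def ts1344_6 : T := (.node (.node (.node (.node (.node (.node (.node (.node .nil (nat_lit 3089) (nat_lit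
  13249) (nat_lit 39) .nil) (nat_lit 3090) (nat_lit 4336) (nat_lit 860) .nil) (nat_lit 3095) (nat_lit 688)
  (nat_lit 2090) (.node (.node .nil (nat_lit 3096) (nat_lit 20193) (nat_lit 1880) .nil) (nat_lit 3099)
  (nat_lit 3921) (nat_lit 754) .nil)) (nat_lit 3102) (nat_lit 3489) (nat_lit 3390) (.node (.node (.node .nil
  (nat_lit 3105) (nat_lit 3745) (nat_lit 2302) .nil) (nat_lit 3108) (nat_lit 17425) (nat_lit 1842) .nil)
  (nat_lit 3111) (nat_lit 577) (nat_lit 664) (.node .nil (nat_lit 3112) (nat_lit 1472) (nat_lit 2118) .nil)))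
  (nat_lit 3117) (nat_lit 592) (nat_lit 816) (.node (.node (.node (.node .nil (nat_lit 3118) (nat_lit 1777)
  (nat_lit 1511) .nil) (nat_lit 3123) (nat_lit 16833) (nat_lit 1403) .nil) (nat_lit 3126) (nat_lit 21456)
  (nat_lit 2110) (.node .nil (nat_lit 3132) (nat_lit 8304) (nat_lit 2109) .nil)) (nat_lit 3135) (nat_lit
  13344) (nat_lit 2092) (.node (.node (.node .nil (nat_lit 3137) (nat_lit 8688) (nat_lit 1692) .nil) (nat_lit
  3138) (nat_lit 17984) (nat_lit 1677) .nil) (nat_lit 3140) (nat_lit 9841) (nat_lit 3336) (.node .nil (nat_lit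
  3144) (nat_lit 225) (nat_lit 1467) .nil)))) (nat_lit 3149) (nat_lit 11104) (nat_lit 3576) (.node (.node
  (.node (.node (.node .nil (nat_lit 3152) (nat_lit 7777) (nat_lit 2795) .nil) (nat_lit 3155) (nat_lit 7681)
  (nat_lit 3905) .nil) (nat_lit 3158) (nat_lit 10833) (nat_lit 141) (.node (.node .nil (nat_lit 3161) (nat_lit
  8913) (nat_lit 3476) .nil) (nat_lit 3162) (nat_lit 12544) (nat_lit 3474) .nil)) (nat_lit 3167) (nat_lit
  20977) (nat_lit 2034) (.node (.node (.node .nil (nat_lit 3168) (nat_lit 20784) (nat_lit 1672) .nil) (nat_lit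
  3174) (nat_lit 8705) (nat_lit 2132) .nil) (nat_lit 3177) (nat_lit 12720) (nat_lit 1690) (.node .nil (nat_lit
  3180) (nat_lit 3585) (nat_lit 2689) .nil))) (nat_lit 3183) (nat_lit 10945) (nat_lit 3883) (.node (.node
  (.node (.node .nil (nat_lit 3186) (nat_lit 8896) (nat_lit 3476) .nil) (nat_lit 3195) (nat_lit 5105) (nat_lit
  2248) .nil) (nat_lit 3198) (nat_lit 19136) (nat_lit 1776) (.node .nil (nat_lit 3201) (nat_lit 21360)
  (nat_lit 2136) .nil)) (nat_lit 3202) (nat_lit 15329) (nat_lit 846) (.node (.node (.node .nil (nat_lit 3207)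
  (nat_lit 19777) (nat_lit 3202) .nil) (nat_lit 3208) (nat_lit 4081) (nat_lit 411) .nil) (nat_lit 3211)
  (nat_lit 8721) (nat_lit 1073) (.node .nil (nat_lit 3214) (nat_lit 4416) (nat_lit 813) .nil))))) (nat_lit
  3216) (nat_lit 3248) (nat_lit 853) (.node (.node (.node (.node (.node (.node .nil (nat_lit 3219) (nat_lit
  12113) (nat_lit 2913) .nil) (nat_lit 3221) (nat_lit 641) (nat_lit 263) .nil) (nat_lit 3225) (nat_lit 17761)
  (nat_lit 2484) (.node (.node .nil (nat_lit 3226) (nat_lit 1440) (nat_lit 854) .nil) (nat_lit 3228) (nat_lit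
  12512) (nat_lit 2097) .nil)) (nat_lit 3235) (nat_lit 15729) (nat_lit 952) (.node (.node (.node .nil (nat_lit
  3237) (nat_lit 8049) (nat_lit 2526) .nil) (nat_lit 3242) (nat_lit 21136) (nat_lit 2127) .nil) (nat_lit 3244)
  (nat_lit 15905) (nat_lit 3745) (.node .nil (nat_lit 3247) (nat_lit 12816) (nat_lit 825) .nil))) (nat_lit
  3249) (nat_lit 5537) (nat_lit 3645) (.node (.node (.node (.node .nil (nat_lit 3252) (nat_lit 3297) (nat_lit
  497) .nil) (nat_lit 3255) (nat_lit 5265) (nat_lit 1115) .nil) (nat_lit 3256) (nat_lit 1537) (nat_lit 2370)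
  (.node .nil (nat_lit 3261) (nat_lit 5041) (nat_lit 1678) .nil)) (nat_lit 3262) (nat_lit 5072) (nat_lit 2100)
  (.node (.node (.node .nil (nat_lit 3264) (nat_lit 2865) (nat_lit 3112) .nil) (nat_lit 3267) (nat_lit 9681)
  (nat_lit 2434) .nil) (nat_lit 3270) (nat_lit 4816) (nat_lit 3555) (.node .nil (nat_lit 3273) (nat_lit 1105)
  (nat_lit 2903) .nil)))) (nat_lit 3274) (nat_lit 5393) (nat_lit 3837) (.node (.node (.node (.node (.node .nil
  (nat_lit 3279) (nat_lit 15504) (nat_lit 3569) .nil) (nat_lit 3281) (nat_lit 10464) (nat_lit 3465) .nil)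
  (nat_lit 3284) (nat_lit 14785) (nat_lit 3019) (.node (.node .nil (nat_lit 3288) (nat_lit 417) (nat_lit 888)
  .nil) (nat_lit 3291) (nat_lit 9377) (nat_lit 1746) .nil)) (nat_lit 3293) (nat_lit 6081) (nat_lit 3252)
  (.node (.node (.node .nil (nat_lit 3298) (nat_lit 8240) (nat_lit 1665) .nil) (nat_lit 3300) (nat_lit 4448)
  (nat_lit 3558) .nil) (nat_lit 3303) (nat_lit 6113) (nat_lit 1720) (.node .nil (nat_lit 3307) (nat_lit 17008)
  (nat_lit 1683) .nil))) (nat_lit 3309) (nat_lit 15600) (nat_lit 3572) (.node (.node (.node (.node .nil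
  (nat_lit 3310) (nat_lit 15841) (nat_lit 455) .nil) (nat_lit 3312) (nat_lit 33) (nat_lit 1265) .nil) (nat_lit
  3318) (nat_lit 18544) (nat_lit 1786) (.node .nil (nat_lit 3321) (nat_lit 8193) (nat_lit 910) .nil)) (nat_lit
  3324) (nat_lit 1056) (nat_lit 1785) (.node (.node (.node .nil (nat_lit 3327) (nat_lit 10977) (nat_lit 2536)
  .nil) (nat_lit 3329) (nat_lit 21120) (nat_lit 2640) .nil) (nat_lit 3330) (nat_lit 16241) (nat_lit 894)
  (.node .nil (nat_lit 3332) (nat_lit 13217) (nat_lit 2328) .nil)))))) (nat_lit 3336) (nat_lit 5729) (nat_lit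
  427) (.node (.node (.node (.node (.node (.node (.node .nil (nat_lit 3341) (nat_lit 11185) (nat_lit 3687)
  .nil) (nat_lit 3344) (nat_lit 14961) (nat_lit 3835) .nil) (nat_lit 3347) (nat_lit 4800) (nat_lit 332) (.node
  (.node .nil (nat_lit 3353) (nat_lit 16689) (nat_lit 2436) .nil) (nat_lit 3354) (nat_lit 3425) (nat_lit 3118)
  .nil)) (nat_lit 3359) (nat_lit 3792) (nat_lit 2600) (.node (.node (.node .nil (nat_lit 3360) (nat_lit 17648)
  (nat_lit 2628) .nil) (nat_lit 3365) (nat_lit 17632) (nat_lit 306) .nil) (nat_lit 3366) (nat_lit 15217)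
  (nat_lit 3140) (.node .nil (nat_lit 3369) (nat_lit 18193) (nat_lit 349) .nil))) (nat_lit 3375) (nat_lit
  12993) (nat_lit 2875) (.node (.node (.node (.node .nil (nat_lit 3378) (nat_lit 17089) (nat_lit 2983) .nil)
  (nat_lit 3380) (nat_lit 6416) (nat_lit 2623) .nil) (nat_lit 3383) (nat_lit 8480) (nat_lit 2606) (.node .nil
  (nat_lit 3387) (nat_lit 849) (nat_lit 3288) .nil)) (nat_lit 3389) (nat_lit 21089) (nat_lit 1726) (.node
  (.node (.node .nil (nat_lit 3390) (nat_lit 1809) (nat_lit 788) .nil) (nat_lit 3392) (nat_lit 16928) (nat_lit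
  1164) .nil) (nat_lit 3397) (nat_lit 10209) (nat_lit 980) (.node .nil (nat_lit 3404) (nat_lit 20353) (nat_lit
  1195) .nil)))) (nat_lit 3409) (nat_lit 15040) (nat_lit 3969) (.node (.node (.node (.node (.node .nil
  (nat_lit 3410) (nat_lit 10113) (nat_lit 413) .nil) (nat_lit 3415) (nat_lit 3392) (nat_lit 1254) .nil)
  (nat_lit 3416) (nat_lit 17456) (nat_lit 3987) (.node (.node .nil (nat_lit 3422) (nat_lit 3169) (nat_lit
  2350) .nil) (nat_lit 3425) (nat_lit 2128) (nat_lit 1176) .nil)) (nat_lit 3428) (nat_lit 17488) (nat_lit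
  4078) (.node (.node (.node .nil (nat_lit 3431) (nat_lit 20640) (nat_lit 4095) .nil) (nat_lit 3432) (nat_lit
  6641) (nat_lit 2961) .nil) (nat_lit 3437) (nat_lit 16353) (nat_lit 1117) (.node .nil (nat_lit 3438) (nat_lit
  6224) (nat_lit 4077) .nil))) (nat_lit 3443) (nat_lit 10753) (nat_lit 363) (.node (.node (.node (.node .nil
  (nat_lit 3446) (nat_lit 11136) (nat_lit 1266) .nil) (nat_lit 3450) (nat_lit 4481) (nat_lit 1556) .nil)
  (nat_lit 3452) (nat_lit 16) (nat_lit 1265) (.node .nil (nat_lit 3455) (nat_lit 8881) (nat_lit 2520) .nil))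
  (nat_lit 3456) (nat_lit 7425) (nat_lit 2104) (.node (.node (.node .nil (nat_lit 3459) (nat_lit 12561)
  (nat_lit 3474) .nil) (nat_lit 3462) (nat_lit 14464) (nat_lit 303) .nil) (nat_lit 3465) (nat_lit 6144)
  (nat_lit 2650) (.node .nil (nat_lit 3466) (nat_lit 17312) (nat_lit 2635) .nil))))) (nat_lit 3471) (nat_lit
  18464) (nat_lit 317) (.node (.node (.node (.node (.node (.node .nil (nat_lit 3473) (nat_lit 11664) (nat_lit
  325) .nil) (nat_lit 3474) (nat_lit 7584) (nat_lit 340) .nil) (nat_lit 3476) (nat_lit 5137) (nat_lit 4059)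
  (.node (.node .nil (nat_lit 3483) (nat_lit 11521) (nat_lit 706) .nil) (nat_lit 3485) (nat_lit 11968)
  (nat_lit 2593) .nil)) (nat_lit 3490) (nat_lit 1344) (nat_lit 2637) (.node (.node (.node .nil (nat_lit 3492)
  (nat_lit 3024) (nat_lit 298) .nil) (nat_lit 3495) (nat_lit 12448) (nat_lit 315) .nil) (nat_lit 3499)
  (nat_lit 368) (nat_lit 2655) (.node .nil (nat_lit 3501) (nat_lit 11328) (nat_lit 312) .nil))) (nat_lit 3502)
  (nat_lit 19921) (nat_lit 1495) (.node (.node (.node (.node .nil (nat_lit 3504) (nat_lit 20992) (nat_lit 337)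
  .nil) (nat_lit 3509) (nat_lit 2048) (nat_lit 2599) .nil) (nat_lit 3510) (nat_lit 15105) (nat_lit 2695)
  (.node .nil (nat_lit 3513) (nat_lit 15744) (nat_lit 323) .nil)) (nat_lit 3516) (nat_lit 20913) (nat_lit
  2130) (.node (.node (.node .nil (nat_lit 3519) (nat_lit 11121) (nat_lit 3576) .nil) (nat_lit 3521) (nat_lit
  7297) (nat_lit 756) .nil) (nat_lit 3522) (nat_lit 15921) (nat_lit 1886) (.node .nil (nat_lit 3527) (nat_lit
  3457) (nat_lit 2194) .nil)))) (nat_lit 3528) (nat_lit 9696) (nat_lit 1158) (.node (.node (.node (.node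
  (.node .nil (nat_lit 3534) (nat_lit 6241) (nat_lit 4077) .nil) (nat_lit 3536) (nat_lit 13169) (nat_lit 2779)
  .nil) (nat_lit 3539) (nat_lit 15248) (nat_lit 3976) (.node (.node .nil (nat_lit 3541) (nat_lit 20464)
  (nat_lit 1263) .nil) (nat_lit 3545) (nat_lit 5585) (nat_lit 3492) .nil)) (nat_lit 3546) (nat_lit 19408)
  (nat_lit 3994) (.node (.node (.node .nil (nat_lit 3548) (nat_lit 14368) (nat_lit 1277) .nil) (nat_lit 3555)
  (nat_lit 2577) (nat_lit 1960) .nil) (nat_lit 3557) (nat_lit 10673) (nat_lit 3534) (.node .nil (nat_lit 3558)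
  (nat_lit 2320) (nat_lit 4071) .nil))) (nat_lit 3562) (nat_lit 8272) (nat_lit 1155) (.node (.node (.node
  (.node .nil (nat_lit 3564) (nat_lit 2785) (nat_lit 2737) .nil) (nat_lit 3567) (nat_lit 10161) (nat_lit 3867)
  .nil) (nat_lit 3569) (nat_lit 10128) (nat_lit 3981) (.node .nil (nat_lit 3572) (nat_lit 10241) (nat_lit
  1505) .nil)) (nat_lit 3575) (nat_lit 4897) (nat_lit 75) (.node (.node (.node .nil (nat_lit 3576) (nat_lit
  6560) (nat_lit 3999) .nil) (nat_lit 3581) (nat_lit 12912) (nat_lit 1257) .nil) (nat_lit 3585) (nat_lit 5056)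
  (nat_lit 2954) (.node .nil (nat_lit 3586) (nat_lit 19072) (nat_lit 2971) .nil)))))))
def ts1344_7 : T := (.node (.node (.node (.node (.node (.node (.node (.node .nil (nat_lit 3595) (nat_lit
  19217) (nat_lit 1045) .nil) (nat_lit 3598) (nat_lit 12625) (nat_lit 3033) .nil) (nat_lit 3600) (nat_lit
  13744) (nat_lit 135) (.node (.node .nil (nat_lit 3603) (nat_lit 11297) (nat_lit 2885) .nil) (nat_lit 3605)
  (nat_lit 2672) (nat_lit 3057) .nil)) (nat_lit 3609) (nat_lit 17105) (nat_lit 2448) (.node (.node (.node .nil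
  (nat_lit 3612) (nat_lit 11808) (nat_lit 3043) .nil) (nat_lit 3619) (nat_lit 9825) (nat_lit 924) .nil)
  (nat_lit 3621) (nat_lit 3649) (nat_lit 2554) (.node .nil (nat_lit 3622) (nat_lit 12785) (nat_lit 3152)
  .nil))) (nat_lit 3628) (nat_lit 3553) (nat_lit 3717) (.node (.node (.node (.node .nil (nat_lit 3631)
  (nat_lit 5649) (nat_lit 2863) .nil) (nat_lit 3633) (nat_lit 18400) (nat_lit 147) .nil) (nat_lit 3636)
  (nat_lit 11056) (nat_lit 3045) (.node .nil (nat_lit 3639) (nat_lit 20176) (nat_lit 3060) .nil)) (nat_lit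
  3645) (nat_lit 2992) (nat_lit 3063) (.node (.node (.node .nil (nat_lit 3648) (nat_lit 20129) (nat_lit 3084)
  .nil) (nat_lit 3651) (nat_lit 16145) (nat_lit 2470) .nil) (nat_lit 3654) (nat_lit 13025) (nat_lit 1642)
  (.node .nil (nat_lit 3657) (nat_lit 10849) (nat_lit 2931) .nil)))) (nat_lit 3658) (nat_lit 15808) (nat_lit
  1365) (.node (.node (.node (.node (.node .nil (nat_lit 3663) (nat_lit 11777) (nat_lit 277) .nil) (nat_lit
  3665) (nat_lit 12752) (nat_lit 3675) .nil) (nat_lit 3666) (nat_lit 13793) (nat_lit 393) (.node (.node .nil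
  (nat_lit 3668) (nat_lit 6944) (nat_lit 1325) .nil) (nat_lit 3672) (nat_lit 4353) (nat_lit 860) .nil))
  (nat_lit 3675) (nat_lit 7728) (nat_lit 3672) (.node (.node (.node .nil (nat_lit 3677) (nat_lit 6001)
  (nat_lit 3216) .nil) (nat_lit 3682) (nat_lit 10577) (nat_lit 2384) .nil) (nat_lit 3684) (nat_lit 5681)
  (nat_lit 822) (.node .nil (nat_lit 3687) (nat_lit 6592) (nat_lit 3621) .nil))) (nat_lit 3691) (nat_lit 9745)
  (nat_lit 3631) (.node (.node (.node (.node .nil (nat_lit 3693) (nat_lit 16097) (nat_lit 1097) .nil) (nat_lit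
  3694) (nat_lit 19825) (nat_lit 483) .nil) (nat_lit 3696) (nat_lit 12801) (nat_lit 1237) (.node .nil (nat_lit
  3702) (nat_lit 15825) (nat_lit 3763) .nil)) (nat_lit 3705) (nat_lit 10256) (nat_lit 3677) (.node (.node
  (.node .nil (nat_lit 3708) (nat_lit 240) (nat_lit 1323) .nil) (nat_lit 3711) (nat_lit 18753) (nat_lit 2508)
  .nil) (nat_lit 3712) (nat_lit 13361) (nat_lit 2092) (.node .nil (nat_lit 3715) (nat_lit 17296) (nat_lit
  2947) .nil))))) (nat_lit 3717) (nat_lit 1841) (nat_lit 2016) (.node (.node (.node (.node (.node (.node .nil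
  (nat_lit 3721) (nat_lit 9345) (nat_lit 3923) .nil) (nat_lit 3722) (nat_lit 6624) (nat_lit 2961) .nil)
  (nat_lit 3730) (nat_lit 20145) (nat_lit 1449) (.node (.node .nil (nat_lit 3735) (nat_lit 15152) (nat_lit
  3064) .nil) (nat_lit 3736) (nat_lit 10816) (nat_lit 141) .nil)) (nat_lit 3739) (nat_lit 13569) (nat_lit 726)
  (.node (.node (.node .nil (nat_lit 3742) (nat_lit 6273) (nat_lit 3354) .nil) (nat_lit 3745) (nat_lit 10496)
  (nat_lit 2950) .nil) (nat_lit 3748) (nat_lit 14577) (nat_lit 1814) (.node .nil (nat_lit 3751) (nat_lit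
  17617) (nat_lit 700) .nil))) (nat_lit 3752) (nat_lit 15280) (nat_lit 2964) (.node (.node (.node (.node .nil
  (nat_lit 3757) (nat_lit 19232) (nat_lit 226) .nil) (nat_lit 3758) (nat_lit 2513) (nat_lit 1475) .nil)
  (nat_lit 3763) (nat_lit 10432) (nat_lit 154) (.node .nil (nat_lit 3765) (nat_lit 11713) (nat_lit 3897)
  .nil)) (nat_lit 3766) (nat_lit 8385) (nat_lit 2707) (.node (.node (.node .nil (nat_lit 3772) (nat_lit 1489)
  (nat_lit 2118) .nil) (nat_lit 3775) (nat_lit 5185) (nat_lit 3564) .nil) (nat_lit 3777) (nat_lit 9136)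
  (nat_lit 1358) (.node .nil (nat_lit 3778) (nat_lit 9329) (nat_lit 1866) .nil)))) (nat_lit 3787) (nat_lit
  10337) (nat_lit 53) (.node (.node (.node (.node (.node .nil (nat_lit 3792) (nat_lit 19617) (nat_lit 2767)
  .nil) (nat_lit 3795) (nat_lit 18369) (nat_lit 3941) .nil) (nat_lit 3798) (nat_lit 4561) (nat_lit 169) (.node
  (.node .nil (nat_lit 3801) (nat_lit 17968) (nat_lit 3665) .nil) (nat_lit 3802) (nat_lit 21424) (nat_lit
  3648) .nil)) (nat_lit 3807) (nat_lit 3713) (nat_lit 2006) (.node (.node (.node .nil (nat_lit 3808) (nat_lit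
  20368) (nat_lit 1370) .nil) (nat_lit 3813) (nat_lit 6464) (nat_lit 3628) .nil) (nat_lit 3814) (nat_lit 5520)
  (nat_lit 3645) (.node .nil (nat_lit 3817) (nat_lit 5217) (nat_lit 1385) .nil))) (nat_lit 3823) (nat_lit
  9728) (nat_lit 3631) (.node (.node (.node (.node .nil (nat_lit 3826) (nat_lit 17473) (nat_lit 3987) .nil)
  (nat_lit 3828) (nat_lit 21296) (nat_lit 1313) .nil) (nat_lit 3831) (nat_lit 15360) (nat_lit 1328) (.node
  .nil (nat_lit 3835) (nat_lit 9585) (nat_lit 2284) .nil)) (nat_lit 3837) (nat_lit 2896) (nat_lit 1331) (.node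
  (.node (.node .nil (nat_lit 3838) (nat_lit 21168) (nat_lit 1314) .nil) (nat_lit 3840) (nat_lit 4752)
  (nat_lit 2458) .nil) (nat_lit 3843) (nat_lit 11424) (nat_lit 2443) (.node .nil (nat_lit 3846) (nat_lit
  11377) (nat_lit 634) .nil)))))) (nat_lit 3849) (nat_lit 16784) (nat_lit 2440) (.node (.node (.node (.node
  (.node (.node (.node .nil (nat_lit 3850) (nat_lit 1248) (nat_lit 2457) .nil) (nat_lit 3855) (nat_lit 18880)
  (nat_lit 751) .nil) (nat_lit 3857) (nat_lit 18977) (nat_lit 51) (.node (.node .nil (nat_lit 3858) (nat_lit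
  4241) (nat_lit 1433) .nil) (nat_lit 3860) (nat_lit 12416) (nat_lit 2529) .nil)) (nat_lit 3864) (nat_lit
  17776) (nat_lit 645) (.node (.node (.node .nil (nat_lit 3867) (nat_lit 5937) (nat_lit 742) .nil) (nat_lit
  3874) (nat_lit 3600) (nat_lit 2463) .nil) (nat_lit 3876) (nat_lit 977) (nat_lit 1830) (.node .nil (nat_lit
  3879) (nat_lit 7312) (nat_lit 745) .nil))) (nat_lit 3883) (nat_lit 6433) (nat_lit 2623) (.node (.node (.node
  (.node .nil (nat_lit 3885) (nat_lit 4705) (nat_lit 89) .nil) (nat_lit 3886) (nat_lit 6176) (nat_lit 763)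
  .nil) (nat_lit 3888) (nat_lit 17696) (nat_lit 643) (.node .nil (nat_lit 3893) (nat_lit 7856) (nat_lit 2549)
  .nil)) (nat_lit 3894) (nat_lit 13856) (nat_lit 2532) (.node (.node (.node .nil (nat_lit 3897) (nat_lit 6929)
  (nat_lit 1978) .nil) (nat_lit 3900) (nat_lit 21233) (nat_lit 2166) .nil) (nat_lit 3903) (nat_lit 8208)
  (nat_lit 2550) (.node .nil (nat_lit 3905) (nat_lit 4320) (nat_lit 1862) .nil)))) (nat_lit 3906) (nat_lit
  14945) (nat_lit 1914) (.node (.node (.node (.node (.node .nil (nat_lit 3911) (nat_lit 6752) (nat_lit 3105)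
  .nil) (nat_lit 3912) (nat_lit 4593) (nat_lit 1455) .nil) (nat_lit 3918) (nat_lit 20496) (nat_lit 3123)
  (.node (.node .nil (nat_lit 3923) (nat_lit 5425) (nat_lit 3925) .nil) (nat_lit 3925) (nat_lit 2913) (nat_lit
  1331) .nil)) (nat_lit 3929) (nat_lit 12337) (nat_lit 3456) (.node (.node (.node .nil (nat_lit 3930) (nat_lit
  464) (nat_lit 3144) .nil) (nat_lit 3932) (nat_lit 4305) (nat_lit 588) .nil) (nat_lit 3939) (nat_lit 16736)
  (nat_lit 1859) (.node .nil (nat_lit 3941) (nat_lit 13377) (nat_lit 3562) .nil))) (nat_lit 3946) (nat_lit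
  6401) (nat_lit 243) (.node (.node (.node (.node .nil (nat_lit 3948) (nat_lit 21009) (nat_lit 2709) .nil)
  (nat_lit 3951) (nat_lit 1152) (nat_lit 3111) .nil) (nat_lit 3953) (nat_lit 21217) (nat_lit 2569) (.node .nil
  (nat_lit 3956) (nat_lit 13696) (nat_lit 1833) .nil)) (nat_lit 3959) (nat_lit 6480) (nat_lit 1848) (.node
  (.node (.node .nil (nat_lit 3960) (nat_lit 16464) (nat_lit 3149) .nil) (nat_lit 3965) (nat_lit 6865)
  (nat_lit 698) .nil) (nat_lit 3966) (nat_lit 15488) (nat_lit 1834) (.node .nil (nat_lit 3969) (nat_lit 9664)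
  (nat_lit 2434) .nil))))) (nat_lit 3972) (nat_lit 7280) (nat_lit 756) (.node (.node (.node (.node (.node
  (.node .nil (nat_lit 3976) (nat_lit 9873) (nat_lit 399) .nil) (nat_lit 3979) (nat_lit 13297) (nat_lit 1061)
  .nil) (nat_lit 3981) (nat_lit 5920) (nat_lit 742) (.node (.node .nil (nat_lit 3984) (nat_lit 6705) (nat_lit
  3807) .nil) (nat_lit 3987) (nat_lit 12065) (nat_lit 2933) .nil)) (nat_lit 3990) (nat_lit 10960) (nat_lit
  2536) (.node (.node (.node .nil (nat_lit 3993) (nat_lit 15680) (nat_lit 669) .nil) (nat_lit 3994) (nat_lit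
  14801) (nat_lit 3082) .nil) (nat_lit 3999) (nat_lit 3632) (nat_lit 2554) (.node .nil (nat_lit 4000) (nat_lit
  10033) (nat_lit 1542) .nil))) (nat_lit 4005) (nat_lit 10688) (nat_lit 736) (.node (.node (.node (.node .nil
  (nat_lit 4006) (nat_lit 4944) (nat_lit 753) .nil) (nat_lit 4009) (nat_lit 16672) (nat_lit 2436) .nil)
  (nat_lit 4012) (nat_lit 3904) (nat_lit 754) (.node .nil (nat_lit 4018) (nat_lit 8672) (nat_lit 650) .nil))
  (nat_lit 4023) (nat_lit 18609) (nat_lit 1103) (.node (.node (.node .nil (nat_lit 4027) (nat_lit 560)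
  (nat_lit 664) .nil) (nat_lit 4029) (nat_lit 12737) (nat_lit 1690) .nil) (nat_lit 4030) (nat_lit 609)
  (nat_lit 816) (.node .nil (nat_lit 4032) (nat_lit 13425) (nat_lit 3132) .nil)))) (nat_lit 4035) (nat_lit
  14033) (nat_lit 2454) (.node (.node (.node (.node (.node .nil (nat_lit 4037) (nat_lit 2848) (nat_lit 3112)
  .nil) (nat_lit 4041) (nat_lit 18865) (nat_lit 2883) .nil) (nat_lit 4042) (nat_lit 9057) (nat_lit 3817)
  (.node (.node .nil (nat_lit 4049) (nat_lit 12688) (nat_lit 3155) .nil) (nat_lit 4050) (nat_lit 20289)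
  (nat_lit 441) .nil)) (nat_lit 4056) (nat_lit 13920) (nat_lit 3137) (.node (.node (.node .nil (nat_lit 4059)
  (nat_lit 2753) (nat_lit 1734) .nil) (nat_lit 4062) (nat_lit 960) (nat_lit 1830) .nil) (nat_lit 4065)
  (nat_lit 9313) (nat_lit 3274) (.node .nil (nat_lit 4068) (nat_lit 13408) (nat_lit 3132) .nil))) (nat_lit
  4071) (nat_lit 1184) (nat_lit 3117) (.node (.node (.node (.node .nil (nat_lit 4072) (nat_lit 18593) (nat_lit
  2997) .nil) (nat_lit 4077) (nat_lit 3408) (nat_lit 3118) .nil) (nat_lit 4078) (nat_lit 12081) (nat_lit 467)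
  (.node .nil (nat_lit 4083) (nat_lit 16208) (nat_lit 3158) .nil)) (nat_lit 4085) (nat_lit 13488) (nat_lit
  1841) (.node (.node (.node .nil (nat_lit 4086) (nat_lit 20625) (nat_lit 3715) .nil) (nat_lit 4090) (nat_lit
  8513) (nat_lit 1584) .nil) (nat_lit 4092) (nat_lit 15232) (nat_lit 1827) (.node .nil (nat_lit 4095) (nat_lit
  17408) (nat_lit 1842) .nil)))))))
def ts1344 : T := (.node (.node (.node ts1344_0 (nat_lit 561) (nat_lit 19584) (nat_lit 2259) ts1344_1)
  (nat_lit 1068) (nat_lit 13072) (nat_lit 2848) (.node ts1344_2 (nat_lit 1565) (nat_lit 4256) (nat_lit 1011)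
  ts1344_3)) (nat_lit 2083) (nat_lit 11936) (nat_lit 2069) (.node (.node ts1344_4 (nat_lit 2578) (nat_lit
  10481) (nat_lit 3465) ts1344_5) (nat_lit 3084) (nat_lit 15936) (nat_lit 804) (.node ts1344_6 (nat_lit 3592)
  (nat_lit 20833) (nat_lit 447) ts1344_7)))
theorem ts1344_chk : band (orbChk apS (gensOf cT) 1265 (4096) ts1344) (Nat.beq ts1344.size 1344) = true := by
  decide +kernel
theorem ts1344_card : (orbit (stabilizer M24 T0) (sext (unmask 8929281))).ncard = 1344 :=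
  orbit_ncard_of_chk acX (sext_rep (t := 8929281) (k := 1265) (by decide +kernel)).1 cT_chk stab_T0 (sext_rep (t := 8929281) (k := 1265) (by decide +kernel)).2 ts1344_chk


/-- The stabiliser of a trio in the group of the length-24 code has exactly three orbits on the 759 octads, of sizes 3, 84 and 672, and exactly four orbits on the 1771 sextets, of sizes 7, 84, 336 and 1344. -/
theorem result (T : Finset (Finset Cfsg.GolayPt)) (hT : T ∈ Cfsg.trios) : (∃ X₁ ∈ Cfsg.octads, ∃ X₂ ∈ Cfsg.octads, ∃ X₃ ∈ Cfsg.octads, (MulAction.orbit ↥(MulAction.stabilizer Cfsg.M24 T) X₁).ncard = 3 ∧ (MulAction.orbit ↥(MulAction.stabilizer Cfsg.M24 T) X₂).ncard = 84 ∧ (MulAction.orbit ↥(MulAction.stabilizer Cfsg.M24 T) X₃).ncard = 672 ∧ Cfsg.octads = MulAction.orbit ↥(MulAction.stabilizer Cfsg.M24 T) X₁ ∪ MulAction.orbit ↥(MulAction.stabilizer Cfsg.M24 T) X₂ ∪ MulAction.orbit ↥(MulAction.stabilizer Cfsg.M24 T) X₃) ∧ (∃ Y₁ ∈ Cfsg.sextets, ∃ Y₂ ∈ Cfsg.sextets,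 ∃ Y₃ ∈ Cfsg.sextets, ∃ Y₄ ∈ Cfsg.sextets, (MulAction.orbit ↥(MulAction.stabilizer Cfsg.M24 T) Y₁).ncard = 7 ∧ (MulAction.orbit ↥(MulAction.stabilizer Cfsg.M24 T) Y₂).ncard = 84 ∧ (MulAction.orbit ↥(MulAction.stabilizer Cfsg.M24 T) Y₃).ncard = 336 ∧ (MulAction.orbit ↥(MulAction.stabilizer Cfsg.M24 T) Y₄).ncard = 1344 ∧ Cfsg.sextets = MulAction.orbit ↥(MulAction.stabilizer Cfsg.M24 T) Y₁ ∪ MulAction.orbit ↥(MulAction.stabilizer Cfsg.M24 T) Y₂ ∪ MulAction.orbit ↥(MulAction.stabilizer Cfsg.M24 T) Y₃ ∪ MulAction.orbit ↥(MulAction.stabilizer Cfsg.M24 T) Y₄) := by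
  obtain ⟨g, rfl⟩ := exists_smul_T0 hT
  exact ⟨(three_orbits (fun (g : M24) _ hy => octad_smul hy g.2) (Set.toFinite _)
      (oct_rep (m := 1351424) (by decide +kernel)).1 (oct_rep (m := 52005) (by decide +kernel)).1 (oct_rep (m := 5279) (by decide +kernel)).1
      to3_card to84_card to672_card (by decide) (by rw [ncard_octads]) g),
    (four_orbits (fun (g : M24) _ hy => sextet_smul hy g.2) (Set.toFinite _)
      (sext_rep (t := 8388615) (k := 3489) (by decide +kernel)).1 (sext_rep (t := 147489) (k := 1847) (by decide +kernel)).1 (sext_rep (t := 1541) (k := 3479) (by decide +kernel)).1 (sext_rep (t := 8929281) (k := 1265) (by decide +kernel)).1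
      ts7_card ts84_card ts336_card ts1344_card (by decide) (by rw [ncard_sextets]) g)⟩

end Cfsg.Agent.S5612
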