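import Cfsg.Statements.S5616
import Cfsg.Agent.M24.Reps

set_option autoImplicit false
open scoped Pointwise
open Cfsg

namespace Cfsg.Agent.S5616

open Cfsg.Agent.M24 Finset MulAction
open scoped symmDiff Pointwise

def ts21 : T := (.node (.node (.node (.node (.node .nil (nat_lit 106) (nat_lit 33) (nat_lit 3489) .nil)
  (nat_lit 170) (nat_lit 81) (nat_lit 106) .nil) (nat_lit 202) (nat_lit 321) (nat_lit 746) (.node (.node .nil
  (nat_lit 226) (nat_lit 145) (nat_lit 263) .nil) (nat_lit 232) (nat_lit 224) (nat_lit 3792) .nil)) (nat_lit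
  235) (nat_lit 257) (nat_lit 816) (.node (.node (.node .nil (nat_lit 238) (nat_lit 128) (nat_lit 263) .nil)
  (nat_lit 250) (nat_lit 192) (nat_lit 490) .nil) (nat_lit 263) (nat_lit 65) (nat_lit 1545) (.node .nil
  (nat_lit 490) (nat_lit 96) (nat_lit 1258) .nil))) (nat_lit 746) (nat_lit 272) (nat_lit 2956) (.node (.node
  (.node (.node .nil (nat_lit 816) (nat_lit 160) (nat_lit 170) .nil) (nat_lit 1258) (nat_lit 48) (nat_lit
  1545) .nil) (nat_lit 1545) (nat_lit 16) (nat_lit 3489) (.node (.node .nil (nat_lit 1886) (nat_lit 209)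
  (nat_lit 490) .nil) (nat_lit 2393) (nat_lit 289) (nat_lit 250) .nil)) (nat_lit 2956) (nat_lit 177) (nat_lit
  170) (.node (.node (.node .nil (nat_lit 3063) (nat_lit 240) (nat_lit 816) .nil) (nat_lit 3489) (nat_lit 0)
  (nat_lit 3489) .nil) (nat_lit 3622) (nat_lit 304) (nat_lit 235) (.node .nil (nat_lit 3792) (nat_lit 113)
  (nat_lit 1258) .nil))))
theorem ts21_chk : band (orbChk apS (gensOf cY) 3489 (4096) ts21) (Nat.beq ts21.size 21) = true := by
  decide +kernel
theorem ts21_card : (orbit (stabilizer M24 Y0) (sext (unmask 8388615))).ncard = 21 :=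
  orbit_ncard_of_chk acX (sext_rep (t := 8388615) (k := 3489) (by decide +kernel)).1 cY_chk stab_Y0 (sext_rep (t := 8388615) (k := 3489) (by decide +kernel)).2 ts21_chk

def ts630_0 : T := (.node (.node (.node (.node (.node (.node (.node (.node .nil (nat_lit 27) (nat_lit 4000)
  (nat_lit 3870) .nil) (nat_lit 45) (nat_lit 1985) (nat_lit 2858) .nil) (nat_lit 51) (nat_lit 689) (nat_lit
  300) (.node .nil (nat_lit 53) (nat_lit 4128) (nat_lit 3585) .nil)) (nat_lit 54) (nat_lit 6448) (nat_lit 27)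
  (.node (.node (.node .nil (nat_lit 57) (nat_lit 8384) (nat_lit 4072) .nil) (nat_lit 77) (nat_lit 8561)
  (nat_lit 2474) .nil) (nat_lit 83) (nat_lit 9120) (nat_lit 3858) (.node .nil (nat_lit 85) (nat_lit 5057)
  (nat_lit 1661) .nil))) (nat_lit 86) (nat_lit 8241) (nat_lit 2923) (.node (.node (.node (.node .nil (nat_lit
  89) (nat_lit 672) (nat_lit 300) .nil) (nat_lit 101) (nat_lit 593) (nat_lit 2631) .nil) (nat_lit 113)
  (nat_lit 5601) (nat_lit 3936) (.node .nil (nat_lit 116) (nat_lit 3745) (nat_lit 1959) .nil)) (nat_lit 119)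
  (nat_lit 1344) (nat_lit 51) (.node (.node (.node .nil (nat_lit 125) (nat_lit 9217) (nat_lit 1424) .nil)
  (nat_lit 141) (nat_lit 8129) (nat_lit 1121) .nil) (nat_lit 150) (nat_lit 5185) (nat_lit 1696) (.node .nil
  (nat_lit 165) (nat_lit 449) (nat_lit 1932) .nil)))) (nat_lit 180) (nat_lit 8929) (nat_lit 2668) (.node
  (.node (.node (.node (.node .nil (nat_lit 197) (nat_lit 4641) (nat_lit 1292) .nil) (nat_lit 212) (nat_lit
  321) (nat_lit 2284) .nil) (nat_lit 245) (nat_lit 1184) (nat_lit 3609) (.node .nil (nat_lit 281) (nat_lit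
  5952) (nat_lit 1316) .nil)) (nat_lit 282) (nat_lit 8481) (nat_lit 281) (.node (.node (.node .nil (nat_lit
  297) (nat_lit 2608) (nat_lit 2792) .nil) (nat_lit 300) (nat_lit 353) (nat_lit 2290) .nil) (nat_lit 329)
  (nat_lit 9248) (nat_lit 1068) (.node .nil (nat_lit 332) (nat_lit 945) (nat_lit 2674) .nil))) (nat_lit 337)
  (nat_lit 2577) (nat_lit 3426) (.node (.node (.node (.node .nil (nat_lit 338) (nat_lit 6097) (nat_lit 116)
  .nil) (nat_lit 340) (nat_lit 5905) (nat_lit 1445) .nil) (nat_lit 344) (nat_lit 1921) (nat_lit 3925) (.node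
  .nil (nat_lit 347) (nat_lit 4800) (nat_lit 2838) .nil)) (nat_lit 349) (nat_lit 2272) (nat_lit 1217) (.node
  (.node (.node .nil (nat_lit 353) (nat_lit 3585) (nat_lit 344) .nil) (nat_lit 356) (nat_lit 512) (nat_lit
  2857) .nil) (nat_lit 373) (nat_lit 48) (nat_lit 2569) (.node .nil (nat_lit 377) (nat_lit 2064) (nat_lit
  3040) .nil))))) (nat_lit 383) (nat_lit 4401) (nat_lit 2910) (.node (.node (.node (.node (.node (.node .nil
  (nat_lit 393) (nat_lit 5329) (nat_lit 3966) .nil) (nat_lit 396) (nat_lit 4288) (nat_lit 1529) .nil) (nat_lit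
  402) (nat_lit 1968) (nat_lit 2858) (.node .nil (nat_lit 404) (nat_lit 4513) (nat_lit 2158) .nil)) (nat_lit
  408) (nat_lit 2336) (nat_lit 1300) (.node (.node (.node .nil (nat_lit 417) (nat_lit 6289) (nat_lit 3219)
  .nil) (nat_lit 420) (nat_lit 7696) (nat_lit 2865) .nil) (nat_lit 449) (nat_lit 6384) (nat_lit 1080) (.node
  .nil (nat_lit 452) (nat_lit 4768) (nat_lit 1525) .nil))) (nat_lit 464) (nat_lit 8496) (nat_lit 1304) (.node
  (.node (.node (.node .nil (nat_lit 469) (nat_lit 9809) (nat_lit 2868) .nil) (nat_lit 470) (nat_lit 7809)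
  (nat_lit 1570) .nil) (nat_lit 473) (nat_lit 7377) (nat_lit 452) (.node .nil (nat_lit 476) (nat_lit 2785)
  (nat_lit 2307) .nil)) (nat_lit 479) (nat_lit 8912) (nat_lit 2795) (.node (.node (.node .nil (nat_lit 500)
  (nat_lit 9392) (nat_lit 2617) .nil) (nat_lit 503) (nat_lit 817) (nat_lit 2040) .nil) (nat_lit 526) (nat_lit
  640) (nat_lit 1205) (.node .nil (nat_lit 531) (nat_lit 9425) (nat_lit 2122) .nil)))) (nat_lit 533) (nat_lit
  6689) (nat_lit 3483) (.node (.node (.node (.node (.node .nil (nat_lit 534) (nat_lit 3984) (nat_lit 1457)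
  .nil) (nat_lit 538) (nat_lit 3233) (nat_lit 2685) .nil) (nat_lit 547) (nat_lit 1537) (nat_lit 1136) (.node
  .nil (nat_lit 549) (nat_lit 8801) (nat_lit 417) .nil)) (nat_lit 550) (nat_lit 3216) (nat_lit 2685) (.node
  (.node (.node .nil (nat_lit 556) (nat_lit 9985) (nat_lit 918) .nil) (nat_lit 579) (nat_lit 9952) (nat_lit
  1396) .nil) (nat_lit 593) (nat_lit 9856) (nat_lit 2638) (.node .nil (nat_lit 594) (nat_lit 6417) (nat_lit
  2832) .nil))) (nat_lit 599) (nat_lit 3360) (nat_lit 1433) (.node (.node (.node (.node .nil (nat_lit 600)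
  (nat_lit 3024) (nat_lit 2666) .nil) (nat_lit 603) (nat_lit 1520) (nat_lit 1136) .nil) (nat_lit 609) (nat_lit
  6656) (nat_lit 1410) (.node .nil (nat_lit 627) (nat_lit 6768) (nat_lit 2744) .nil)) (nat_lit 629) (nat_lit
  1744) (nat_lit 1391) (.node (.node .nil (nat_lit 643) (nat_lit 896) (nat_lit 1388) .nil) (nat_lit 645)
  (nat_lit 7536) (nat_lit 2747) (.node .nil (nat_lit 646) (nat_lit 2241) (nat_lit 1020) .nil)))))) (nat_lit
  652) (nat_lit 1137) (nat_lit 3293) (.node (.node (.node (.node (.node (.node (.node .nil (nat_lit 658)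
  (nat_lit 2000) (nat_lit 1100) .nil) (nat_lit 660) (nat_lit 5873) (nat_lit 778) .nil) (nat_lit 663) (nat_lit
  7584) (nat_lit 1409) (.node .nil (nat_lit 664) (nat_lit 928) (nat_lit 2674) .nil)) (nat_lit 670) (nat_lit
  5888) (nat_lit 1445) (.node (.node (.node .nil (nat_lit 673) (nat_lit 1841) (nat_lit 2039) .nil) (nat_lit
  676) (nat_lit 7504) (nat_lit 1111) .nil) (nat_lit 679) (nat_lit 5425) (nat_lit 550) (.node .nil (nat_lit
  685) (nat_lit 753) (nat_lit 3335) .nil))) (nat_lit 693) (nat_lit 8577) (nat_lit 720) (.node (.node (.node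
  (.node .nil (nat_lit 694) (nat_lit 5088) (nat_lit 2925) .nil) (nat_lit 705) (nat_lit 4384) (nat_lit 2910)
  .nil) (nat_lit 720) (nat_lit 6065) (nat_lit 2199) (.node .nil (nat_lit 723) (nat_lit 7312) (nat_lit 1124)
  .nil)) (nat_lit 726) (nat_lit 6704) (nat_lit 1449) (.node (.node (.node .nil (nat_lit 741) (nat_lit 7457)
  (nat_lit 3178) .nil) (nat_lit 759) (nat_lit 8081) (nat_lit 3228) .nil) (nat_lit 778) (nat_lit 3568) (nat_lit
  344) (.node .nil (nat_lit 780) (nat_lit 7073) (nat_lit 404) .nil)))) (nat_lit 833) (nat_lit 7008) (nat_lit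
  3918) (.node (.node (.node (.node (.node .nil (nat_lit 834) (nat_lit 8448) (nat_lit 340) .nil) (nat_lit 840)
  (nat_lit 65) (nat_lit 2569) .nil) (nat_lit 851) (nat_lit 6080) (nat_lit 116) (.node .nil (nat_lit 857)
  (nat_lit 1633) (nat_lit 2025) .nil)) (nat_lit 887) (nat_lit 1904) (nat_lit 3925) (.node (.node (.node .nil
  (nat_lit 891) (nat_lit 4369) (nat_lit 2853) .nil) (nat_lit 897) (nat_lit 4785) (nat_lit 1525) .nil) (nat_lit
  898) (nat_lit 1792) (nat_lit 332) (.node .nil (nat_lit 900) (nat_lit 5024) (nat_lit 3739) .nil))) (nat_lit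
  904) (nat_lit 3264) (nat_lit 3954) (.node (.node (.node (.node .nil (nat_lit 909) (nat_lit 2321) (nat_lit
  3845) .nil) (nat_lit 910) (nat_lit 864) (nat_lit 165) .nil) (nat_lit 918) (nat_lit 8784) (nat_lit 417)
  (.node .nil (nat_lit 924) (nat_lit 3152) (nat_lit 3999) .nil)) (nat_lit 933) (nat_lit 2528) (nat_lit 119)
  (.node (.node (.node .nil (nat_lit 940) (nat_lit 10032) (nat_lit 83) .nil) (nat_lit 943) (nat_lit 5649)
  (nat_lit 969) .nil) (nat_lit 951) (nat_lit 7889) (nat_lit 3102) (.node .nil (nat_lit 958) (nat_lit 7921)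
  (nat_lit 3625) .nil))))) (nat_lit 960) (nat_lit 1393) (nat_lit 1711) (.node (.node (.node (.node (.node
  (.node .nil (nat_lit 963) (nat_lit 992) (nat_lit 356) .nil) (nat_lit 965) (nat_lit 7841) (nat_lit 3688)
  .nil) (nat_lit 969) (nat_lit 3409) (nat_lit 1176) (.node .nil (nat_lit 972) (nat_lit 9680) (nat_lit 3735)
  .nil)) (nat_lit 975) (nat_lit 9792) (nat_lit 141) (.node (.node (.node .nil (nat_lit 977) (nat_lit 4497)
  (nat_lit 2895) .nil) (nat_lit 980) (nat_lit 4608) (nat_lit 3987) .nil) (nat_lit 983) (nat_lit 4961) (nat_lit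
  3742) (.node .nil (nat_lit 993) (nat_lit 849) (nat_lit 1909) .nil))) (nat_lit 999) (nat_lit 8352) (nat_lit
  3653) (.node (.node (.node (.node .nil (nat_lit 1011) (nat_lit 7968) (nat_lit 3752) .nil) (nat_lit 1013)
  (nat_lit 6928) (nat_lit 383) .nil) (nat_lit 1014) (nat_lit 9504) (nat_lit 3941) (.node .nil (nat_lit 1017)
  (nat_lit 5937) (nat_lit 2210) .nil)) (nat_lit 1020) (nat_lit 1169) (nat_lit 101) (.node (.node (.node .nil
  (nat_lit 1023) (nat_lit 5505) (nat_lit 3443) .nil) (nat_lit 1038) (nat_lit 6641) (nat_lit 1076) .nil)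
  (nat_lit 1045) (nat_lit 7681) (nat_lit 1781) (.node .nil (nat_lit 1059) (nat_lit 4017) (nat_lit 3870)
  .nil)))) (nat_lit 1061) (nat_lit 9233) (nat_lit 2767) (.node (.node (.node (.node (.node .nil (nat_lit 1062)
  (nat_lit 800) (nat_lit 2040) .nil) (nat_lit 1068) (nat_lit 6993) (nat_lit 2296) .nil) (nat_lit 1073)
  (nat_lit 7488) (nat_lit 2319) (.node .nil (nat_lit 1076) (nat_lit 4161) (nat_lit 1839) .nil)) (nat_lit 1079)
  (nat_lit 6256) (nat_lit 1752) (.node (.node (.node .nil (nat_lit 1080) (nat_lit 3952) (nat_lit 2347) .nil)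
  (nat_lit 1085) (nat_lit 2800) (nat_lit 2278) .nil) (nat_lit 1091) (nat_lit 9345) (nat_lit 3486) (.node .nil
  (nat_lit 1093) (nat_lit 3137) (nat_lit 2127) .nil))) (nat_lit 1094) (nat_lit 4705) (nat_lit 1369) (.node
  (.node (.node (.node .nil (nat_lit 1100) (nat_lit 1056) (nat_lit 1794) .nil) (nat_lit 1105) (nat_lit 7776)
  (nat_lit 1995) .nil) (nat_lit 1108) (nat_lit 10000) (nat_lit 1542) (.node .nil (nat_lit 1111) (nat_lit 4993)
  (nat_lit 2233) .nil)) (nat_lit 1112) (nat_lit 8464) (nat_lit 2031) (.node (.node .nil (nat_lit 1117)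
  (nat_lit 6753) (nat_lit 1944) .nil) (nat_lit 1121) (nat_lit 5520) (nat_lit 2055) (.node .nil (nat_lit 1124)
  (nat_lit 4737) (nat_lit 2453) .nil)))))))
def ts630_1 : T := (.node (.node (.node (.node (.node (.node (.node (.node .nil (nat_lit 1133) (nat_lit 6224)
  (nat_lit 2542) .nil) (nat_lit 1136) (nat_lit 785) (nat_lit 3250) .nil) (nat_lit 1139) (nat_lit 9312)
  (nat_lit 1853) (.node .nil (nat_lit 1142) (nat_lit 3105) (nat_lit 2403) .nil)) (nat_lit 1145) (nat_lit 2768)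
  (nat_lit 2307) (.node (.node (.node .nil (nat_lit 1148) (nat_lit 9024) (nat_lit 2254) .nil) (nat_lit 1151)
  (nat_lit 5552) (nat_lit 1748) .nil) (nat_lit 1155) (nat_lit 7601) (nat_lit 85) (.node .nil (nat_lit 1176)
  (nat_lit 1824) (nat_lit 2039) .nil))) (nat_lit 1185) (nat_lit 6528) (nat_lit 2079) (.node (.node (.node
  (.node .nil (nat_lit 1200) (nat_lit 3777) (nat_lit 377) .nil) (nat_lit 1205) (nat_lit 336) (nat_lit 2290)
  .nil) (nat_lit 1217) (nat_lit 1201) (nat_lit 3609) (.node .nil (nat_lit 1232) (nat_lit 5280) (nat_lit 2043)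
  .nil)) (nat_lit 1237) (nat_lit 9697) (nat_lit 2878) (.node (.node (.node .nil (nat_lit 1253) (nat_lit 9665)
  (nat_lit 1796) .nil) (nat_lit 1265) (nat_lit 2881) (nat_lit 547) .nil) (nat_lit 1268) (nat_lit 1696)
  (nat_lit 2266) (.node .nil (nat_lit 1271) (nat_lit 4225) (nat_lit 2034) .nil)))) (nat_lit 1277) (nat_lit
  5825) (nat_lit 2259) (.node (.node (.node (.node (.node .nil (nat_lit 1290) (nat_lit 1120) (nat_lit 3293)
  .nil) (nat_lit 1292) (nat_lit 2657) (nat_lit 2810) .nil) (nat_lit 1297) (nat_lit 1888) (nat_lit 963) (.node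
  .nil (nat_lit 1300) (nat_lit 1248) (nat_lit 526) .nil)) (nat_lit 1304) (nat_lit 5969) (nat_lit 4061) (.node
  (.node (.node .nil (nat_lit 1313) (nat_lit 9921) (nat_lit 464) .nil) (nat_lit 1314) (nat_lit 7281) (nat_lit
  3270) .nil) (nat_lit 1316) (nat_lit 3632) (nat_lit 3522) (.node .nil (nat_lit 1320) (nat_lit 6560) (nat_lit
  3115) .nil))) (nat_lit 1325) (nat_lit 5793) (nat_lit 2848) (.node (.node (.node (.node .nil (nat_lit 1326)
  (nat_lit 2224) (nat_lit 1020) .nil) (nat_lit 1333) (nat_lit 6721) (nat_lit 1271) .nil) (nat_lit 1340)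
  (nat_lit 7264) (nat_lit 3270) (.node .nil (nat_lit 1365) (nat_lit 5408) (nat_lit 550) .nil)) (nat_lit 1369)
  (nat_lit 2689) (nat_lit 3207) (.node (.node (.node .nil (nat_lit 1381) (nat_lit 9296) (nat_lit 3562) .nil)
  (nat_lit 1388) (nat_lit 465) (nat_lit 2170) .nil) (nat_lit 1391) (nat_lit 913) (nat_lit 1388) (.node .nil
  (nat_lit 1393) (nat_lit 736) (nat_lit 3335) .nil))))) (nat_lit 1396) (nat_lit 8608) (nat_lit 3274) (.node
  (.node (.node (.node (.node (.node .nil (nat_lit 1399) (nat_lit 7553) (nat_lit 2747) .nil) (nat_lit 1405)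
  (nat_lit 5728) (nat_lit 3310) .nil) (nat_lit 1409) (nat_lit 5041) (nat_lit 3739) (.node .nil (nat_lit 1410)
  (nat_lit 4177) (nat_lit 909) .nil)) (nat_lit 1416) (nat_lit 9728) (nat_lit 759) (.node (.node (.node .nil
  (nat_lit 1424) (nat_lit 6897) (nat_lit 891) .nil) (nat_lit 1433) (nat_lit 1809) (nat_lit 332) .nil) (nat_lit
  1434) (nat_lit 8512) (nat_lit 3533) (.node .nil (nat_lit 1436) (nat_lit 2113) (nat_lit 2443) .nil)))
  (nat_lit 1440) (nat_lit 9760) (nat_lit 3135) (.node (.node (.node (.node .nil (nat_lit 1443) (nat_lit 5569)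
  (nat_lit 599) .nil) (nat_lit 1445) (nat_lit 3600) (nat_lit 3570) .nil) (nat_lit 1449) (nat_lit 4209)
  (nat_lit 3446) (.node .nil (nat_lit 1452) (nat_lit 2464) (nat_lit 3542) .nil)) (nat_lit 1455) (nat_lit 9489)
  (nat_lit 2215) (.node (.node (.node .nil (nat_lit 1457) (nat_lit 2192) (nat_lit 3359) .nil) (nat_lit 1464)
  (nat_lit 7745) (nat_lit 150) .nil) (nat_lit 1492) (nat_lit 2817) (nat_lit 2278) (.node .nil (nat_lit 1496)
  (nat_lit 6433) (nat_lit 534) .nil)))) (nat_lit 1505) (nat_lit 3728) (nat_lit 3095) (.node (.node (.node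
  (.node (.node .nil (nat_lit 1511) (nat_lit 2592) (nat_lit 960) .nil) (nat_lit 1525) (nat_lit 2736) (nat_lit
  3322) .nil) (nat_lit 1529) (nat_lit 2432) (nat_lit 3347) (.node .nil (nat_lit 1532) (nat_lit 9633) (nat_lit
  2827) .nil)) (nat_lit 1542) (nat_lit 8848) (nat_lit 594) (.node (.node (.node .nil (nat_lit 1556) (nat_lit
  6865) (nat_lit 3657) .nil) (nat_lit 1570) (nat_lit 5233) (nat_lit 1954) .nil) (nat_lit 1572) (nat_lit 9105)
  (nat_lit 627) (.node .nil (nat_lit 1575) (nat_lit 9152) (nat_lit 3262) .nil))) (nat_lit 1582) (nat_lit 6016)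
  (nat_lit 3226) (.node (.node (.node (.node .nil (nat_lit 1589) (nat_lit 4625) (nat_lit 3987) .nil) (nat_lit
  1590) (nat_lit 9328) (nat_lit 3486) .nil) (nat_lit 1602) (nat_lit 9473) (nat_lit 1314) (.node .nil (nat_lit
  1616) (nat_lit 4865) (nat_lit 1492) .nil)) (nat_lit 1619) (nat_lit 5473) (nat_lit 2242) (.node (.node .nil
  (nat_lit 1621) (nat_lit 2449) (nat_lit 3347) .nil) (nat_lit 1632) (nat_lit 6241) (nat_lit 2542) (.node .nil
  (nat_lit 1637) (nat_lit 2160) (nat_lit 652) .nil)))))) (nat_lit 1638) (nat_lit 6960) (nat_lit 3222) (.node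
  (.node (.node (.node (.node (.node (.node .nil (nat_lit 1647) (nat_lit 768) (nat_lit 3250) .nil) (nat_lit
  1649) (nat_lit 9009) (nat_lit 1038) .nil) (nat_lit 1652) (nat_lit 9521) (nat_lit 3273) (.node .nil (nat_lit
  1655) (nat_lit 9360) (nat_lit 3510) .nil)) (nat_lit 1659) (nat_lit 9968) (nat_lit 3167) (.node (.node (.node
  .nil (nat_lit 1661) (nat_lit 2977) (nat_lit 3838) .nil) (nat_lit 1666) (nat_lit 8256) (nat_lit 943) .nil)
  (nat_lit 1680) (nat_lit 6545) (nat_lit 2079) (.node .nil (nat_lit 1686) (nat_lit 6609) (nat_lit 3534)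
  .nil))) (nat_lit 1696) (nat_lit 3056) (nat_lit 857) (.node (.node (.node (.node .nil (nat_lit 1701) (nat_lit
  8432) (nat_lit 660) .nil) (nat_lit 1702) (nat_lit 3888) (nat_lit 3214) .nil) (nat_lit 1711) (nat_lit 704)
  (nat_lit 3242) (.node .nil (nat_lit 1728) (nat_lit 8624) (nat_lit 3485) .nil)) (nat_lit 1745) (nat_lit 2928)
  (nat_lit 3261) (.node (.node (.node .nil (nat_lit 1746) (nat_lit 8032) (nat_lit 679) .nil) (nat_lit 1748)
  (nat_lit 3345) (nat_lit 898) .nil) (nat_lit 1752) (nat_lit 3841) (nat_lit 2418) (.node .nil (nat_lit 1755)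
  (nat_lit 1712) (nat_lit 643) .nil)))) (nat_lit 1773) (nat_lit 257) (nat_lit 3471) (.node (.node (.node
  (.node (.node .nil (nat_lit 1776) (nat_lit 9553) (nat_lit 2719) .nil) (nat_lit 1781) (nat_lit 5137) (nat_lit
  600) .nil) (nat_lit 1782) (nat_lit 7025) (nat_lit 3918) (.node .nil (nat_lit 1785) (nat_lit 2721) (nat_lit
  2216) .nil)) (nat_lit 1794) (nat_lit 544) (nat_lit 1983) (.node (.node (.node .nil (nat_lit 1796) (nat_lit
  7936) (nat_lit 2152) .nil) (nat_lit 1830) (nat_lit 2945) (nat_lit 3261) .nil) (nat_lit 1836) (nat_lit 5168)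
  (nat_lit 1696) (.node .nil (nat_lit 1839) (nat_lit 2305) (nat_lit 3722) .nil))) (nat_lit 1847) (nat_lit 0)
  (nat_lit 1847) (.node (.node (.node (.node .nil (nat_lit 1853) (nat_lit 7121) (nat_lit 3708) .nil) (nat_lit
  1909) (nat_lit 432) (nat_lit 1932) .nil) (nat_lit 1913) (nat_lit 3920) (nat_lit 1637) (.node .nil (nat_lit
  1920) (nat_lit 4720) (nat_lit 2453) .nil)) (nat_lit 1923) (nat_lit 7713) (nat_lit 2865) (.node (.node (.node
  .nil (nat_lit 1926) (nat_lit 10048) (nat_lit 1602) .nil) (nat_lit 1930) (nat_lit 1873) (nat_lit 2310) .nil)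
  (nat_lit 1932) (nat_lit 225) (nat_lit 3287) (.node .nil (nat_lit 1935) (nat_lit 8833) (nat_lit 449)
  .nil))))) (nat_lit 1938) (nat_lit 1376) (nat_lit 1711) (.node (.node (.node (.node (.node (.node .nil
  (nat_lit 1944) (nat_lit 4240) (nat_lit 2193) .nil) (nat_lit 1953) (nat_lit 6336) (nat_lit 1913) .nil)
  (nat_lit 1954) (nat_lit 3088) (nat_lit 2403) (.node .nil (nat_lit 1959) (nat_lit 2032) (nat_lit 2222) .nil))
  (nat_lit 1963) (nat_lit 5696) (nat_lit 2375) (.node (.node (.node .nil (nat_lit 1965) (nat_lit 8960)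
  (nat_lit 1680) .nil) (nat_lit 1966) (nat_lit 4880) (nat_lit 2186) .nil) (nat_lit 1977) (nat_lit 4673)
  (nat_lit 2090) (.node .nil (nat_lit 1978) (nat_lit 9441) (nat_lit 1340) .nil))) (nat_lit 1983) (nat_lit 289)
  (nat_lit 3579) (.node (.node (.node (.node .nil (nat_lit 1985) (nat_lit 8337) (nat_lit 1405) .nil) (nat_lit
  1986) (nat_lit 2385) (nat_lit 2155) .nil) (nat_lit 1995) (nat_lit 5217) (nat_lit 2652) (.node .nil (nat_lit
  2000) (nat_lit 9936) (nat_lit 2205) .nil)) (nat_lit 2009) (nat_lit 4976) (nat_lit 2233) (.node (.node (.node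
  .nil (nat_lit 2025) (nat_lit 832) (nat_lit 1909) .nil) (nat_lit 2031) (nat_lit 5920) (nat_lit 2210) .nil)
  (nat_lit 2033) (nat_lit 5713) (nat_lit 2375) (.node .nil (nat_lit 2034) (nat_lit 2368) (nat_lit 2155)
  .nil)))) (nat_lit 2039) (nat_lit 960) (nat_lit 2470) (.node (.node (.node (.node (.node .nil (nat_lit 2040)
  (nat_lit 417) (nat_lit 2928) .nil) (nat_lit 2043) (nat_lit 3120) (nat_lit 2127) .nil) (nat_lit 2045)
  (nat_lit 6736) (nat_lit 1944) (.node .nil (nat_lit 2055) (nat_lit 3328) (nat_lit 898) .nil)) (nat_lit 2076)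
  (nat_lit 8064) (nat_lit 3228) (.node (.node (.node .nil (nat_lit 2079) (nat_lit 4064) (nat_lit 646) .nil)
  (nat_lit 2090) (nat_lit 2672) (nat_lit 3207) .nil) (nat_lit 2110) (nat_lit 7440) (nat_lit 3178) (.node .nil
  (nat_lit 2122) (nat_lit 7217) (nat_lit 980) .nil))) (nat_lit 2127) (nat_lit 1664) (nat_lit 910) (.node
  (.node (.node (.node .nil (nat_lit 2146) (nat_lit 5616) (nat_lit 3211) .nil) (nat_lit 2151) (nat_lit 8657)
  (nat_lit 2302) .nil) (nat_lit 2152) (nat_lit 5361) (nat_lit 3864) (.node .nil (nat_lit 2155) (nat_lit 1265)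
  (nat_lit 526) .nil)) (nat_lit 2158) (nat_lit 2560) (nat_lit 3426) (.node (.node .nil (nat_lit 2170) (nat_lit
  240) (nat_lit 3471) .nil) (nat_lit 2172) (nat_lit 5120) (nat_lit 600) (.node .nil (nat_lit 2186) (nat_lit
  2832) (nat_lit 603) .nil)))))))
def ts630_2 : T := (.node (.node (.node (.node (.node (.node (.node (.node .nil (nat_lit 2193) (nat_lit 2400)
  (nat_lit 3397) .nil) (nat_lit 2199) (nat_lit 3712) (nat_lit 658) .nil) (nat_lit 2203) (nat_lit 6880)
  (nat_lit 891) (.node .nil (nat_lit 2205) (nat_lit 8529) (nat_lit 1582) .nil)) (nat_lit 2206) (nat_lit 7632)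
  (nat_lit 694) (.node (.node (.node .nil (nat_lit 2210) (nat_lit 3617) (nat_lit 3570) .nil) (nat_lit 2215)
  (nat_lit 7328) (nat_lit 3422) .nil) (nat_lit 2216) (nat_lit 1456) (nat_lit 685) (.node .nil (nat_lit 2219)
  (nat_lit 5680) (nat_lit 3255) .nil))) (nat_lit 2222) (nat_lit 1073) (nat_lit 1794) (.node (.node (.node
  (.node .nil (nat_lit 2233) (nat_lit 2913) (nat_lit 3891) .nil) (nat_lit 2234) (nat_lit 9824) (nat_lit 3479)
  .nil) (nat_lit 2239) (nat_lit 8816) (nat_lit 3162) (.node .nil (nat_lit 2242) (nat_lit 3281) (nat_lit 3954)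
  .nil)) (nat_lit 2248) (nat_lit 7824) (nat_lit 3177) (.node (.node (.node .nil (nat_lit 2251) (nat_lit 2417)
  (nat_lit 3397) .nil) (nat_lit 2254) (nat_lit 6673) (nat_lit 1410) .nil) (nat_lit 2259) (nat_lit 3536)
  (nat_lit 887) (.node .nil (nat_lit 2266) (nat_lit 881) (nat_lit 165) .nil)))) (nat_lit 2268) (nat_lit 9840)
  (nat_lit 3204) (.node (.node (.node (.node (.node .nil (nat_lit 2271) (nat_lit 8209) (nat_lit 2146) .nil)
  (nat_lit 2272) (nat_lit 3424) (nat_lit 673) .nil) (nat_lit 2275) (nat_lit 2992) (nat_lit 3259) (.node .nil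
  (nat_lit 2278) (nat_lit 1505) (nat_lit 1647) .nil)) (nat_lit 2281) (nat_lit 7905) (nat_lit 393) (.node
  (.node (.node .nil (nat_lit 2284) (nat_lit 144) (nat_lit 840) .nil) (nat_lit 2287) (nat_lit 8592) (nat_lit
  3410) .nil) (nat_lit 2289) (nat_lit 7392) (nat_lit 897) (.node .nil (nat_lit 2290) (nat_lit 161) (nat_lit
  840) .nil))) (nat_lit 2296) (nat_lit 4448) (nat_lit 933) (.node (.node (.node (.node .nil (nat_lit 2299)
  (nat_lit 4592) (nat_lit 3519) .nil) (nat_lit 2302) (nat_lit 6192) (nat_lit 3186) .nil) (nat_lit 2307)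
  (nat_lit 1488) (nat_lit 1647) (.node .nil (nat_lit 2309) (nat_lit 6145) (nat_lit 1200) .nil)) (nat_lit 2310)
  (nat_lit 977) (nat_lit 2470) (.node (.node (.node .nil (nat_lit 2319) (nat_lit 4913) (nat_lit 2961) .nil)
  (nat_lit 2327) (nat_lit 7297) (nat_lit 1094) .nil) (nat_lit 2334) (nat_lit 6320) (nat_lit 1702) (.node .nil
  (nat_lit 2343) (nat_lit 6784) (nat_lit 2382) .nil))))) (nat_lit 2347) (nat_lit 2177) (nat_lit 652) (.node
  (.node (.node (.node (.node (.node .nil (nat_lit 2350) (nat_lit 8113) (nat_lit 2635) .nil) (nat_lit 2352)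
  (nat_lit 7248) (nat_lit 1977) .nil) (nat_lit 2357) (nat_lit 4897) (nat_lit 2186) (.node .nil (nat_lit 2358)
  (nat_lit 3873) (nat_lit 1436) .nil)) (nat_lit 2362) (nat_lit 80) (nat_lit 2439) (.node (.node (.node .nil
  (nat_lit 2364) (nat_lit 3457) (nat_lit 2749) .nil) (nat_lit 2367) (nat_lit 8305) (nat_lit 1963) .nil)
  (nat_lit 2375) (nat_lit 3472) (nat_lit 1930) (.node .nil (nat_lit 2382) (nat_lit 4273) (nat_lit 2251)
  .nil))) (nat_lit 2403) (nat_lit 1649) (nat_lit 993) (.node (.node (.node (.node .nil (nat_lit 2410) (nat_lit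
  8768) (nat_lit 2191) .nil) (nat_lit 2418) (nat_lit 2096) (nat_lit 2443) .nil) (nat_lit 2430) (nat_lit 4929)
  (nat_lit 1265) (.node .nil (nat_lit 2439) (nat_lit 33) (nat_lit 1847) .nil)) (nat_lit 2443) (nat_lit 1105)
  (nat_lit 3527) (.node (.node (.node .nil (nat_lit 2453) (nat_lit 2704) (nat_lit 2216) .nil) (nat_lit 2463)
  (nat_lit 5665) (nat_lit 2272) .nil) (nat_lit 2470) (nat_lit 497) (nat_lit 1773) (.node .nil (nat_lit 2474)
  (nat_lit 6048) (nat_lit 2199) .nil)))) (nat_lit 2488) (nat_lit 7761) (nat_lit 3307) (.node (.node (.node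
  (.node (.node .nil (nat_lit 2493) (nat_lit 8720) (nat_lit 1632) .nil) (nat_lit 2494) (nat_lit 193) (nat_lit
  2362) .nil) (nat_lit 2499) (nat_lit 721) (nat_lit 3242) (.node .nil (nat_lit 2502) (nat_lit 8705) (nat_lit
  1133) .nil)) (nat_lit 2506) (nat_lit 7169) (nat_lit 3741) (.node (.node (.node .nil (nat_lit 2530) (nat_lit
  9200) (nat_lit 2203) .nil) (nat_lit 2536) (nat_lit 9904) (nat_lit 1701) .nil) (nat_lit 2539) (nat_lit 6001)
  (nat_lit 3911) (.node .nil (nat_lit 2542) (nat_lit 3824) (nat_lit 2418) .nil))) (nat_lit 2544) (nat_lit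
  7089) (nat_lit 3462) (.node (.node (.node (.node .nil (nat_lit 2554) (nat_lit 8049) (nat_lit 679) .nil)
  (nat_lit 2569) (nat_lit 16) (nat_lit 1847) .nil) (nat_lit 2575) (nat_lit 2257) (nat_lit 245) (.node .nil
  (nat_lit 2603) (nat_lit 9888) (nat_lit 1985) .nil)) (nat_lit 2608) (nat_lit 529) (nat_lit 2857) (.node
  (.node .nil (nat_lit 2617) (nat_lit 7184) (nat_lit 2299) .nil) (nat_lit 2620) (nat_lit 6304) (nat_lit 2358)
  (.node .nil (nat_lit 2623) (nat_lit 7728) (nat_lit 1836) .nil)))))) (nat_lit 2628) (nat_lit 3905) (nat_lit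
  3214) (.node (.node (.node (.node (.node (.node (.node .nil (nat_lit 2631) (nat_lit 304) (nat_lit 2284)
  .nil) (nat_lit 2635) (nat_lit 5489) (nat_lit 2920) .nil) (nat_lit 2637) (nat_lit 9712) (nat_lit 1746) (.node
  .nil (nat_lit 2638) (nat_lit 8273) (nat_lit 943) .nil)) (nat_lit 2652) (nat_lit 3073) (nat_lit 857) (.node
  (.node (.node .nil (nat_lit 2655) (nat_lit 6177) (nat_lit 3663) .nil) (nat_lit 2666) (nat_lit 1616) (nat_lit
  2025) .nil) (nat_lit 2668) (nat_lit 6497) (nat_lit 3939) (.node .nil (nat_lit 2671) (nat_lit 3249) (nat_lit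
  629) .nil))) (nat_lit 2674) (nat_lit 480) (nat_lit 1773) (.node (.node (.node (.node .nil (nat_lit 2676)
  (nat_lit 176) (nat_lit 2362) .nil) (nat_lit 2680) (nat_lit 5808) (nat_lit 2259) .nil) (nat_lit 2685)
  (nat_lit 1729) (nat_lit 643) (.node .nil (nat_lit 2686) (nat_lit 9648) (nat_lit 1796) .nil)) (nat_lit 2713)
  (nat_lit 4321) (nat_lit 1621) (.node (.node (.node .nil (nat_lit 2719) (nat_lit 7569) (nat_lit 900) .nil)
  (nat_lit 2729) (nat_lit 5457) (nat_lit 2671) .nil) (nat_lit 2730) (nat_lit 6353) (nat_lit 1913) (.node .nil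
  (nat_lit 2737) (nat_lit 9617) (nat_lit 1464) .nil)))) (nat_lit 2738) (nat_lit 2049) (nat_lit 2222) (.node
  (.node (.node (.node (.node .nil (nat_lit 2744) (nat_lit 4256) (nat_lit 2251) .nil) (nat_lit 2747) (nat_lit
  5008) (nat_lit 1745) .nil) (nat_lit 2749) (nat_lit 1856) (nat_lit 2310) (.node .nil (nat_lit 2758) (nat_lit
  6513) (nat_lit 3849) .nil)) (nat_lit 2761) (nat_lit 4144) (nat_lit 1839) (.node (.node (.node .nil (nat_lit
  2762) (nat_lit 4305) (nat_lit 1529) .nil) (nat_lit 2767) (nat_lit 6976) (nat_lit 2296) .nil) (nat_lit 2781)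
  (nat_lit 2513) (nat_lit 3528) (.node .nil (nat_lit 2786) (nat_lit 9056) (nat_lit 2045) .nil))) (nat_lit
  2788) (nat_lit 4656) (nat_lit 2090) (.node (.node (.node (.node .nil (nat_lit 2792) (nat_lit 1408) (nat_lit
  2499) .nil) (nat_lit 2795) (nat_lit 6465) (nat_lit 1059) .nil) (nat_lit 2798) (nat_lit 9184) (nat_lit 1556)
  (.node .nil (nat_lit 2809) (nat_lit 5072) (nat_lit 2275) .nil)) (nat_lit 2810) (nat_lit 1425) (nat_lit 2499)
  (.node (.node (.node .nil (nat_lit 2812) (nat_lit 6849) (nat_lit 3090) .nil) (nat_lit 2823) (nat_lit 9872)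
  (nat_lit 3300) .nil) (nat_lit 2827) (nat_lit 7873) (nat_lit 3050) (.node .nil (nat_lit 2832) (nat_lit 3969)
  (nat_lit 2347) .nil))))) (nat_lit 2835) (nat_lit 4849) (nat_lit 1085) (.node (.node (.node (.node (.node
  (.node .nil (nat_lit 2838) (nat_lit 2753) (nat_lit 3322) .nil) (nat_lit 2848) (nat_lit 3521) (nat_lit 1297)
  .nil) (nat_lit 2851) (nat_lit 5537) (nat_lit 2055) (.node .nil (nat_lit 2853) (nat_lit 2481) (nat_lit 3542)
  .nil)) (nat_lit 2857) (nat_lit 272) (nat_lit 3579) (.node (.node (.node .nil (nat_lit 2858) (nat_lit 1041)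
  (nat_lit 2608) .nil) (nat_lit 2863) (nat_lit 9745) (nat_lit 759) .nil) (nat_lit 2865) (nat_lit 5152)
  (nat_lit 3327) (.node .nil (nat_lit 2866) (nat_lit 4561) (nat_lit 1511) .nil))) (nat_lit 2868) (nat_lit
  8176) (nat_lit 3378) (.node (.node (.node (.node .nil (nat_lit 2872) (nat_lit 5840) (nat_lit 3291) .nil)
  (nat_lit 2875) (nat_lit 6912) (nat_lit 705) .nil) (nat_lit 2878) (nat_lit 8001) (nat_lit 3863) (.node .nil
  (nat_lit 2885) (nat_lit 8673) (nat_lit 3926) .nil)) (nat_lit 2895) (nat_lit 2545) (nat_lit 119) (.node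
  (.node (.node .nil (nat_lit 2900) (nat_lit 7649) (nat_lit 694) .nil) (nat_lit 2910) (nat_lit 2496) (nat_lit
  3528) .nil) (nat_lit 2920) (nat_lit 3296) (nat_lit 3539) (.node .nil (nat_lit 2923) (nat_lit 5632) (nat_lit
  969) .nil)))) (nat_lit 2925) (nat_lit 3009) (nat_lit 3259) (.node (.node (.node (.node (.node .nil (nat_lit
  2928) (nat_lit 208) (nat_lit 3287) .nil) (nat_lit 2940) (nat_lit 7425) (nat_lit 347) .nil) (nat_lit 2961)
  (nat_lit 2864) (nat_lit 547) (.node .nil (nat_lit 2971) (nat_lit 7664) (nat_lit 3101) .nil)) (nat_lit 2978)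
  (nat_lit 8993) (nat_lit 1686) (.node (.node (.node .nil (nat_lit 2987) (nat_lit 7040) (nat_lit 977) .nil)
  (nat_lit 2992) (nat_lit 8737) (nat_lit 1632) .nil) (nat_lit 3001) (nat_lit 7521) (nat_lit 1111) (.node .nil
  (nat_lit 3040) (nat_lit 1088) (nat_lit 3527) .nil))) (nat_lit 3050) (nat_lit 5297) (nat_lit 2043) (.node
  (.node (.node (.node .nil (nat_lit 3081) (nat_lit 3760) (nat_lit 2738) .nil) (nat_lit 3087) (nat_lit 9585)
  (nat_lit 2971) .nil) (nat_lit 3090) (nat_lit 4336) (nat_lit 1452) (.node .nil (nat_lit 3095) (nat_lit 2017)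
  (nat_lit 1100) .nil)) (nat_lit 3099) (nat_lit 8545) (nat_lit 3772) (.node (.node .nil (nat_lit 3101)
  (nat_lit 5105) (nat_lit 2925) .nil) (nat_lit 3102) (nat_lit 5312) (nat_lit 1093) (.node .nil (nat_lit 3115)
  (nat_lit 4081) (nat_lit 646) .nil)))))))
def ts630_3 : T := (.node (.node (.node (.node (.node (.node (.node (.node .nil (nat_lit 3162) (nat_lit 6369)
  (nat_lit 3558) .nil) (nat_lit 3167) (nat_lit 8688) (nat_lit 1133) .nil) (nat_lit 3177) (nat_lit 5248)
  (nat_lit 1142) (.node .nil (nat_lit 3178) (nat_lit 4833) (nat_lit 476) .nil)) (nat_lit 3186) (nat_lit 3809)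
  (nat_lit 3595) (.node (.node (.node .nil (nat_lit 3204) (nat_lit 8224) (nat_lit 2923) .nil) (nat_lit 3207)
  (nat_lit 1440) (nat_lit 1393) .nil) (nat_lit 3211) (nat_lit 3392) (nat_lit 1176) (.node .nil (nat_lit 3213)
  (nat_lit 4480) (nat_lit 2895) .nil))) (nat_lit 3214) (nat_lit 2145) (nat_lit 1290) (.node (.node (.node
  (.node .nil (nat_lit 3219) (nat_lit 3856) (nat_lit 1436) .nil) (nat_lit 3221) (nat_lit 7793) (nat_lit 1995)
  .nil) (nat_lit 3222) (nat_lit 4433) (nat_lit 2781) (.node .nil (nat_lit 3225) (nat_lit 10016) (nat_lit 2978)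
  .nil)) (nat_lit 3226) (nat_lit 3697) (nat_lit 45) (.node (.node (.node .nil (nat_lit 3228) (nat_lit 5440)
  (nat_lit 2671) .nil) (nat_lit 3242) (nat_lit 368) (nat_lit 2676) .nil) (nat_lit 3244) (nat_lit 8160)
  (nat_lit 1443) (.node .nil (nat_lit 3247) (nat_lit 7857) (nat_lit 1232) .nil)))) (nat_lit 3250) (nat_lit
  400) (nat_lit 2928) (.node (.node (.node (.node (.node .nil (nat_lit 3255) (nat_lit 3440) (nat_lit 2749)
  .nil) (nat_lit 3259) (nat_lit 1601) (nat_lit 503) .nil) (nat_lit 3261) (nat_lit 1569) (nat_lit 1062) (.node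
  .nil (nat_lit 3262) (nat_lit 6832) (nat_lit 2713) .nil)) (nat_lit 3270) (nat_lit 4688) (nat_lit 1369) (.node
  (.node (.node .nil (nat_lit 3273) (nat_lit 7409) (nat_lit 897) .nil) (nat_lit 3274) (nat_lit 6128) (nat_lit
  1200) .nil) (nat_lit 3279) (nat_lit 7473) (nat_lit 1616) (.node .nil (nat_lit 3287) (nat_lit 97) (nat_lit
  2439) .nil))) (nat_lit 3291) (nat_lit 3553) (nat_lit 887) (.node (.node (.node (.node .nil (nat_lit 3293)
  (nat_lit 576) (nat_lit 2631) .nil) (nat_lit 3294) (nat_lit 9072) (nat_lit 1117) .nil) (nat_lit 3298)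
  (nat_lit 8416) (nat_lit 2680) (.node .nil (nat_lit 3300) (nat_lit 8289) (nat_lit 2219) .nil)) (nat_lit 3304)
  (nat_lit 2849) (nat_lit 603) (.node (.node (.node .nil (nat_lit 3307) (nat_lit 5200) (nat_lit 2652) .nil)
  (nat_lit 3310) (nat_lit 3489) (nat_lit 1930) .nil) (nat_lit 3322) (nat_lit 1473) (nat_lit 685) (.node .nil
  (nat_lit 3327) (nat_lit 3041) (nat_lit 2666) .nil))))) (nat_lit 3335) (nat_lit 385) (nat_lit 2676) (.node
  (.node (.node (.node (.node (.node .nil (nat_lit 3341) (nat_lit 8017) (nat_lit 1365) .nil) (nat_lit 3347)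
  (nat_lit 1297) (nat_lit 3923) .nil) (nat_lit 3359) (nat_lit 1152) (nat_lit 101) (.node .nil (nat_lit 3378)
  (nat_lit 5584) (nat_lit 3936) .nil)) (nat_lit 3387) (nat_lit 9169) (nat_lit 3262) (.node (.node (.node .nil
  (nat_lit 3390) (nat_lit 4817) (nat_lit 1145) .nil) (nat_lit 3392) (nat_lit 4944) (nat_lit 3742) .nil)
  (nat_lit 3397) (nat_lit 1280) (nat_lit 3923) (.node .nil (nat_lit 3398) (nat_lit 9777) (nat_lit 2350)
  .nil))) (nat_lit 3410) (nat_lit 6113) (nat_lit 3081) (.node (.node (.node (.node .nil (nat_lit 3422)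
  (nat_lit 4753) (nat_lit 1785) .nil) (nat_lit 3426) (nat_lit 1361) (nat_lit 51) .nil) (nat_lit 3432) (nat_lit
  9137) (nat_lit 3858) (.node .nil (nat_lit 3440) (nat_lit 7233) (nat_lit 197) .nil)) (nat_lit 3443) (nat_lit
  3313) (nat_lit 3539) (.node (.node (.node .nil (nat_lit 3446) (nat_lit 2353) (nat_lit 1300) .nil) (nat_lit
  3450) (nat_lit 6944) (nat_lit 3948) .nil) (nat_lit 3462) (nat_lit 4528) (nat_lit 337) (.node .nil (nat_lit
  3471) (nat_lit 112) (nat_lit 373) .nil)))) (nat_lit 3479) (nat_lit 8192) (nat_lit 113) (.node (.node (.node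
  (.node (.node .nil (nat_lit 3483) (nat_lit 4192) (nat_lit 408) .nil) (nat_lit 3485) (nat_lit 6160) (nat_lit
  3663) .nil) (nat_lit 3486) (nat_lit 7137) (nat_lit 2866) (.node .nil (nat_lit 3510) (nat_lit 7152) (nat_lit
  3741) .nil)) (nat_lit 3519) (nat_lit 2625) (nat_lit 2792) (.node (.node (.node .nil (nat_lit 3522) (nat_lit
  1953) (nat_lit 3960) .nil) (nat_lit 3524) (nat_lit 6480) (nat_lit 3939) .nil) (nat_lit 3527) (nat_lit 561)
  (nat_lit 1983) (.node .nil (nat_lit 3528) (nat_lit 1329) (nat_lit 89) .nil))) (nat_lit 3533) (nat_lit 5984)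
  (nat_lit 3911) (.node (.node (.node (.node .nil (nat_lit 3534) (nat_lit 4112) (nat_lit 349) .nil) (nat_lit
  3539) (nat_lit 1777) (nat_lit 664) .nil) (nat_lit 3542) (nat_lit 1312) (nat_lit 89) (.node .nil (nat_lit
  3551) (nat_lit 7953) (nat_lit 2152) .nil)) (nat_lit 3558) (nat_lit 3937) (nat_lit 1637) (.node (.node .nil
  (nat_lit 3562) (nat_lit 7104) (nat_lit 3708) .nil) (nat_lit 3570) (nat_lit 1936) (nat_lit 3960) (.node .nil
  (nat_lit 3579) (nat_lit 129) (nat_lit 373) .nil)))))) (nat_lit 3585) (nat_lit 2289) (nat_lit 1217) (.node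
  (.node (.node (.node (.node (.node (.node .nil (nat_lit 3592) (nat_lit 9265) (nat_lit 1782) .nil) (nat_lit
  3595) (nat_lit 2081) (nat_lit 3040) .nil) (nat_lit 3597) (nat_lit 9409) (nat_lit 3633) (.node .nil (nat_lit
  3603) (nat_lit 8753) (nat_lit 1079) .nil)) (nat_lit 3609) (nat_lit 608) (nat_lit 212) (.node (.node (.node
  .nil (nat_lit 3612) (nat_lit 7057) (nat_lit 977) .nil) (nat_lit 3615) (nat_lit 6576) (nat_lit 3843) .nil)
  (nat_lit 3625) (nat_lit 5344) (nat_lit 3864) (.node .nil (nat_lit 3633) (nat_lit 7201) (nat_lit 2299)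
  .nil))) (nat_lit 3653) (nat_lit 5761) (nat_lit 3932) (.node (.node (.node (.node .nil (nat_lit 3657)
  (nat_lit 4353) (nat_lit 1452) .nil) (nat_lit 3658) (nat_lit 8976) (nat_lit 4038) .nil) (nat_lit 3663)
  (nat_lit 3792) (nat_lit 3595) (.node .nil (nat_lit 3678) (nat_lit 8641) (nat_lit 3485) .nil)) (nat_lit 3688)
  (nat_lit 5265) (nat_lit 1142) (.node (.node (.node .nil (nat_lit 3708) (nat_lit 4545) (nat_lit 337) .nil)
  (nat_lit 3717) (nat_lit 3680) (nat_lit 45) .nil) (nat_lit 3721) (nat_lit 7360) (nat_lit 452) (.node .nil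
  (nat_lit 3722) (nat_lit 1216) (nat_lit 4062) .nil)))) (nat_lit 3727) (nat_lit 9377) (nat_lit 3510) (.node
  (.node (.node (.node (.node .nil (nat_lit 3735) (nat_lit 7984) (nat_lit 3863) .nil) (nat_lit 3739) (nat_lit
  2960) (nat_lit 3838) .nil) (nat_lit 3741) (nat_lit 4576) (nat_lit 297) (.node .nil (nat_lit 3742) (nat_lit
  2896) (nat_lit 3891) .nil)) (nat_lit 3752) (nat_lit 5376) (nat_lit 3880) (.node (.node (.node .nil (nat_lit
  3763) (nat_lit 8896) (nat_lit 54) .nil) (nat_lit 3769) (nat_lit 9089) (nat_lit 1117) .nil) (nat_lit 3772)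
  (nat_lit 6033) (nat_lit 3226) (.node .nil (nat_lit 3775) (nat_lit 6801) (nat_lit 396) .nil))) (nat_lit 3783)
  (nat_lit 5857) (nat_lit 3291) (.node (.node (.node (.node .nil (nat_lit 3807) (nat_lit 9281) (nat_lit 780)
  .nil) (nat_lit 3818) (nat_lit 8321) (nat_lit 2033) .nil) (nat_lit 3838) (nat_lit 1584) (nat_lit 503) (.node
  .nil (nat_lit 3843) (nat_lit 4097) (nat_lit 2575) .nil)) (nat_lit 3845) (nat_lit 1233) (nat_lit 4062) (.node
  (.node .nil (nat_lit 3849) (nat_lit 4049) (nat_lit 1326) .nil) (nat_lit 3857) (nat_lit 7617) (nat_lit 2809)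
  (.node .nil (nat_lit 3858) (nat_lit 6816) (nat_lit 2762) .nil))))) (nat_lit 3863) (nat_lit 5393) (nat_lit
  3880) (.node (.node (.node (.node (.node (.node .nil (nat_lit 3864) (nat_lit 3184) (nat_lit 1268) .nil)
  (nat_lit 3867) (nat_lit 8881) (nat_lit 1496) .nil) (nat_lit 3870) (nat_lit 2209) (nat_lit 3359) (.node .nil
  (nat_lit 3880) (nat_lit 3201) (nat_lit 1268) .nil)) (nat_lit 3883) (nat_lit 9456) (nat_lit 1314) (.node
  (.node (.node .nil (nat_lit 3888) (nat_lit 8145) (nat_lit 2851) .nil) (nat_lit 3891) (nat_lit 1552) (nat_lit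
  1062) .nil) (nat_lit 3905) (nat_lit 8864) (nat_lit 1496) (.node .nil (nat_lit 3908) (nat_lit 9600) (nat_lit
  1045) .nil))) (nat_lit 3911) (nat_lit 3665) (nat_lit 402) (.node (.node (.node (.node .nil (nat_lit 3912)
  (nat_lit 10065) (nat_lit 1652) .nil) (nat_lit 3917) (nat_lit 9536) (nat_lit 1073) .nil) (nat_lit 3918)
  (nat_lit 4465) (nat_lit 933) (.node .nil (nat_lit 3923) (nat_lit 657) (nat_lit 1205) .nil)) (nat_lit 3925)
  (nat_lit 1009) (nat_lit 356) (.node (.node (.node .nil (nat_lit 3926) (nat_lit 6209) (nat_lit 3186) .nil)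
  (nat_lit 3930) (nat_lit 8944) (nat_lit 2758) .nil) (nat_lit 3932) (nat_lit 3504) (nat_lit 1297) (.node .nil
  (nat_lit 3935) (nat_lit 8369) (nat_lit 3653) .nil)))) (nat_lit 3936) (nat_lit 3377) (nat_lit 1433) (.node
  (.node (.node (.node (.node .nil (nat_lit 3939) (nat_lit 4032) (nat_lit 1326) .nil) (nat_lit 3941) (nat_lit
  7345) (nat_lit 3422) .nil) (nat_lit 3945) (nat_lit 6400) (nat_lit 2832) (.node .nil (nat_lit 3946) (nat_lit
  2128) (nat_lit 1290) .nil)) (nat_lit 3948) (nat_lit 4416) (nat_lit 2781) (.node (.node (.node .nil (nat_lit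
  3954) (nat_lit 1761) (nat_lit 1391) .nil) (nat_lit 3960) (nat_lit 1024) (nat_lit 2608) .nil) (nat_lit 3966)
  (nat_lit 3169) (nat_lit 3999) (.node .nil (nat_lit 3987) (nat_lit 2640) (nat_lit 2810) .nil))) (nat_lit
  3989) (nat_lit 8400) (nat_lit 1325) (.node (.node (.node (.node .nil (nat_lit 3999) (nat_lit 1681) (nat_lit
  910) .nil) (nat_lit 4037) (nat_lit 9041) (nat_lit 533) .nil) (nat_lit 4038) (nat_lit 6593) (nat_lit 3843)
  (.node .nil (nat_lit 4061) (nat_lit 3649) (nat_lit 3522) .nil)) (nat_lit 4062) (nat_lit 625) (nat_lit 212)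
  (.node (.node .nil (nat_lit 4068) (nat_lit 6624) (nat_lit 2761) .nil) (nat_lit 4072) (nat_lit 5776) (nat_lit
  2848) (.node .nil (nat_lit 4078) (nat_lit 5745) (nat_lit 3310) .nil)))))))
def ts630 : T := (.node (.node ts630_0 (nat_lit 1127) (nat_lit 9569) (nat_lit 1155) ts630_1) (nat_lit 2191)
  (nat_lit 6273) (nat_lit 1752) (.node ts630_2 (nat_lit 3135) (nat_lit 8096) (nat_lit 2729) ts630_3))
theorem ts630_chk : band (orbChk apS (gensOf cY) 1847 (4096) ts630) (Nat.beq ts630.size 630) = true := by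
  decide +kernel
theorem ts630_card : (orbit (stabilizer M24 Y0) (sext (unmask 147489))).ncard = 630 :=
  orbit_ncard_of_chk acX (sext_rep (t := 147489) (k := 1847) (by decide +kernel)).1 cY_chk stab_Y0 (sext_rep (t := 147489) (k := 1847) (by decide +kernel)).2 ts630_chk

def ts1120_0 : T := (.node (.node (.node (.node (.node (.node (.node (.node .nil (nat_lit 15) (nat_lit 4993)
  (nat_lit 2022) .nil) (nat_lit 23) (nat_lit 2225) (nat_lit 2097) .nil) (nat_lit 29) (nat_lit 5216) (nat_lit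
  201) (.node .nil (nat_lit 30) (nat_lit 6368) (nat_lit 3795) .nil)) (nat_lit 39) (nat_lit 7360) (nat_lit 315)
  (.node (.node .nil (nat_lit 43) (nat_lit 1873) (nat_lit 3835) .nil) (nat_lit 46) (nat_lit 4113) (nat_lit
  1596) (.node .nil (nat_lit 58) (nat_lit 481) (nat_lit 795) .nil))) (nat_lit 60) (nat_lit 16224) (nat_lit
  3621) (.node (.node (.node (.node .nil (nat_lit 63) (nat_lit 7569) (nat_lit 3036) .nil) (nat_lit 71)
  (nat_lit 15776) (nat_lit 4095) .nil) (nat_lit 75) (nat_lit 13105) (nat_lit 3195) (.node .nil (nat_lit 78)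
  (nat_lit 14017) (nat_lit 1212) .nil)) (nat_lit 90) (nat_lit 6704) (nat_lit 3894) (.node (.node .nil (nat_lit
  92) (nat_lit 16672) (nat_lit 225) .nil) (nat_lit 95) (nat_lit 1856) (nat_lit 3835) (.node .nil (nat_lit 99)
  (nat_lit 14496) (nat_lit 222) .nil)))) (nat_lit 102) (nat_lit 12064) (nat_lit 275) (.node (.node (.node
  (.node (.node .nil (nat_lit 105) (nat_lit 1648) (nat_lit 3808) .nil) (nat_lit 108) (nat_lit 3344) (nat_lit
  3885) .nil) (nat_lit 111) (nat_lit 12896) (nat_lit 311) (.node .nil (nat_lit 114) (nat_lit 14961) (nat_lit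
  630) .nil)) (nat_lit 120) (nat_lit 5345) (nat_lit 3415) (.node (.node .nil (nat_lit 126) (nat_lit 2849)
  (nat_lit 2182) .nil) (nat_lit 135) (nat_lit 945) (nat_lit 2880) (.node .nil (nat_lit 139) (nat_lit 3552)
  (nat_lit 3598) .nil))) (nat_lit 142) (nat_lit 1569) (nat_lit 2423) (.node (.node (.node (.node .nil (nat_lit
  147) (nat_lit 15265) (nat_lit 3687) .nil) (nat_lit 149) (nat_lit 9169) (nat_lit 2998) .nil) (nat_lit 153)
  (nat_lit 7697) (nat_lit 326) (.node .nil (nat_lit 154) (nat_lit 2800) (nat_lit 3886) .nil)) (nat_lit 156)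
  (nat_lit 14048) (nat_lit 249) (.node (.node .nil (nat_lit 163) (nat_lit 112) (nat_lit 198) .nil) (nat_lit
  166) (nat_lit 11601) (nat_lit 2714) (.node .nil (nat_lit 169) (nat_lit 11936) (nat_lit 3832) .nil)))))
  (nat_lit 172) (nat_lit 9552) (nat_lit 3893) (.node (.node (.node (.node (.node (.node .nil (nat_lit 175)
  (nat_lit 14336) (nat_lit 303) .nil) (nat_lit 177) (nat_lit 2960) (nat_lit 4092) .nil) (nat_lit 178) (nat_lit
  14881) (nat_lit 4029) (.node .nil (nat_lit 183) (nat_lit 2161) (nat_lit 1914) .nil)) (nat_lit 184) (nat_lit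
  14080) (nat_lit 4056) (.node (.node .nil (nat_lit 187) (nat_lit 17728) (nat_lit 450) .nil) (nat_lit 189)
  (nat_lit 4337) (nat_lit 2139) (.node .nil (nat_lit 190) (nat_lit 8240) (nat_lit 15) .nil))) (nat_lit 195)
  (nat_lit 9601) (nat_lit 221) (.node (.node (.node (.node .nil (nat_lit 198) (nat_lit 48) (nat_lit 4047)
  .nil) (nat_lit 201) (nat_lit 2977) (nat_lit 4092) .nil) (nat_lit 204) (nat_lit 4512) (nat_lit 497) (.node
  .nil (nat_lit 207) (nat_lit 12353) (nat_lit 2605) .nil)) (nat_lit 209) (nat_lit 3473) (nat_lit 43) (.node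
  (.node .nil (nat_lit 210) (nat_lit 12272) (nat_lit 3874) .nil) (nat_lit 215) (nat_lit 10736) (nat_lit 3823)
  (.node .nil (nat_lit 216) (nat_lit 1969) (nat_lit 540) .nil)))) (nat_lit 219) (nat_lit 13904) (nat_lit 3846)
  (.node (.node (.node (.node (.node .nil (nat_lit 221) (nat_lit 5936) (nat_lit 209) .nil) (nat_lit 222)
  (nat_lit 10289) (nat_lit 1997) .nil) (nat_lit 225) (nat_lit 13441) (nat_lit 3089) (.node .nil (nat_lit 228)
  (nat_lit 9713) (nat_lit 1238) .nil)) (nat_lit 231) (nat_lit 13952) (nat_lit 291) (.node (.node .nil (nat_lit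
  240) (nat_lit 4529) (nat_lit 497) .nil) (nat_lit 243) (nat_lit 5633) (nat_lit 3303) (.node .nil (nat_lit
  249) (nat_lit 9792) (nat_lit 4080) .nil))) (nat_lit 252) (nat_lit 13233) (nat_lit 2817) (.node (.node (.node
  .nil (nat_lit 255) (nat_lit 11632) (nat_lit 39) .nil) (nat_lit 267) (nat_lit 14609) (nat_lit 3321) (.node
  .nil (nat_lit 269) (nat_lit 10672) (nat_lit 1481) .nil)) (nat_lit 270) (nat_lit 7665) (nat_lit 1086) (.node
  (.node .nil (nat_lit 275) (nat_lit 7712) (nat_lit 2842) .nil) (nat_lit 277) (nat_lit 1232) (nat_lit 1229)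
  (.node .nil (nat_lit 278) (nat_lit 6336) (nat_lit 2775) .nil)))))) (nat_lit 284) (nat_lit 15185) (nat_lit
  1224) (.node (.node (.node (.node (.node (.node (.node .nil (nat_lit 287) (nat_lit 6113) (nat_lit 2526)
  .nil) (nat_lit 291) (nat_lit 9696) (nat_lit 1238) .nil) (nat_lit 293) (nat_lit 1537) (nat_lit 2757) (.node
  .nil (nat_lit 294) (nat_lit 4177) (nat_lit 2003) .nil)) (nat_lit 298) (nat_lit 13808) (nat_lit 1266) (.node
  (.node .nil (nat_lit 303) (nat_lit 10145) (nat_lit 1508) .nil) (nat_lit 305) (nat_lit 15504) (nat_lit 3052)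
  (.node .nil (nat_lit 306) (nat_lit 5185) (nat_lit 756) .nil))) (nat_lit 308) (nat_lit 12080) (nat_lit 2593)
  (.node (.node (.node (.node .nil (nat_lit 311) (nat_lit 8592) (nat_lit 1083) .nil) (nat_lit 312) (nat_lit
  17377) (nat_lit 3541) .nil) (nat_lit 315) (nat_lit 4464) (nat_lit 1490) (.node .nil (nat_lit 317) (nat_lit
  16961) (nat_lit 1298) .nil)) (nat_lit 323) (nat_lit 12177) (nat_lit 3476) (.node (.node .nil (nat_lit 325)
  (nat_lit 10465) (nat_lit 2117) .nil) (nat_lit 326) (nat_lit 4673) (nat_lit 1363) (.node .nil (nat_lit 330)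
  (nat_lit 15696) (nat_lit 2614) .nil)))) (nat_lit 335) (nat_lit 80) (nat_lit 3067) (.node (.node (.node
  (.node (.node .nil (nat_lit 350) (nat_lit 13568) (nat_lit 2779) .nil) (nat_lit 354) (nat_lit 13136) (nat_lit
  1278) .nil) (nat_lit 359) (nat_lit 11120) (nat_lit 1331) (.node .nil (nat_lit 360) (nat_lit 9985) (nat_lit
  879) .nil)) (nat_lit 363) (nat_lit 7537) (nat_lit 3705) (.node (.node .nil (nat_lit 366) (nat_lit 3601)
  (nat_lit 1726) .nil) (nat_lit 368) (nat_lit 13697) (nat_lit 3256) (.node .nil (nat_lit 371) (nat_lit 8688)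
  (nat_lit 1502) .nil))) (nat_lit 374) (nat_lit 5281) (nat_lit 2409) (.node (.node (.node .nil (nat_lit 378)
  (nat_lit 1185) (nat_lit 921) .nil) (nat_lit 380) (nat_lit 12336) (nat_lit 2605) (.node .nil (nat_lit 387)
  (nat_lit 3457) (nat_lit 95) .nil)) (nat_lit 389) (nat_lit 16400) (nat_lit 1501) (.node (.node .nil (nat_lit
  390) (nat_lit 9904) (nat_lit 3015) .nil) (nat_lit 394) (nat_lit 8465) (nat_lit 616) (.node .nil (nat_lit
  399) (nat_lit 6881) (nat_lit 2735) .nil))))) (nat_lit 401) (nat_lit 14912) (nat_lit 1328) (.node (.node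
  (.node (.node (.node (.node .nil (nat_lit 407) (nat_lit 10256) (nat_lit 2791) .nil) (nat_lit 411) (nat_lit
  5248) (nat_lit 2830) .nil) (nat_lit 413) (nat_lit 17904) (nat_lit 1241) (.node .nil (nat_lit 414) (nat_lit
  12465) (nat_lit 1871) .nil)) (nat_lit 418) (nat_lit 15136) (nat_lit 1254) (.node (.node .nil (nat_lit 423)
  (nat_lit 4800) (nat_lit 1323) .nil) (nat_lit 424) (nat_lit 17185) (nat_lit 3748) (.node .nil (nat_lit 427)
  (nat_lit 17280) (nat_lit 1218) .nil))) (nat_lit 430) (nat_lit 17873) (nat_lit 2933) (.node (.node (.node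
  (.node .nil (nat_lit 432) (nat_lit 7552) (nat_lit 3036) .nil) (nat_lit 437) (nat_lit 7264) (nat_lit 2577)
  .nil) (nat_lit 438) (nat_lit 8000) (nat_lit 1035) (.node .nil (nat_lit 441) (nat_lit 9105) (nat_lit 836)
  .nil)) (nat_lit 442) (nat_lit 609) (nat_lit 3666) (.node (.node .nil (nat_lit 444) (nat_lit 13617) (nat_lit
  2947) .nil) (nat_lit 447) (nat_lit 6225) (nat_lit 1685) (.node .nil (nat_lit 450) (nat_lit 16257) (nat_lit
  773) .nil)))) (nat_lit 455) (nat_lit 6801) (nat_lit 3010) (.node (.node (.node (.node (.node .nil (nat_lit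
  456) (nat_lit 15008) (nat_lit 1052) .nil) (nat_lit 459) (nat_lit 8529) (nat_lit 306) .nil) (nat_lit 462)
  (nat_lit 15601) (nat_lit 2549) (.node .nil (nat_lit 467) (nat_lit 6769) (nat_lit 3813) .nil)) (nat_lit 480)
  (nat_lit 8208) (nat_lit 2772) (.node (.node .nil (nat_lit 483) (nat_lit 6689) (nat_lit 735) .nil) (nat_lit
  486) (nat_lit 17136) (nat_lit 1283) (.node .nil (nat_lit 497) (nat_lit 2529) (nat_lit 553) .nil))) (nat_lit
  498) (nat_lit 9520) (nat_lit 1518) (.node (.node (.node .nil (nat_lit 504) (nat_lit 10241) (nat_lit 30)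
  .nil) (nat_lit 507) (nat_lit 15456) (nat_lit 1482) (.node .nil (nat_lit 510) (nat_lit 13937) (nat_lit 1487)
  .nil)) (nat_lit 519) (nat_lit 528) (nat_lit 1169) (.node (.node .nil (nat_lit 523) (nat_lit 13329) (nat_lit
  1949) .nil) (nat_lit 525) (nat_lit 6864) (nat_lit 2735) (.node .nil (nat_lit 537) (nat_lit 4544) (nat_lit
  2626) .nil)))))))
def ts1120_1 : T := (.node (.node (.node (.node (.node (.node (.node (.node .nil (nat_lit 543) (nat_lit 10320)
  (nat_lit 1429) .nil) (nat_lit 553) (nat_lit 1329) (nat_lit 2897) .nil) (nat_lit 554) (nat_lit 14513)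
  (nat_lit 1607) (.node .nil (nat_lit 559) (nat_lit 16097) (nat_lit 3712) .nil)) (nat_lit 561) (nat_lit 1425)
  (nat_lit 1158) (.node (.node .nil (nat_lit 562) (nat_lit 10640) (nat_lit 2704) .nil) (nat_lit 564) (nat_lit
  9408) (nat_lit 1351) (.node .nil (nat_lit 568) (nat_lit 4753) (nat_lit 1713) .nil))) (nat_lit 571) (nat_lit
  9632) (nat_lit 2740) (.node (.node (.node (.node .nil (nat_lit 573) (nat_lit 7185) (nat_lit 3702) .nil)
  (nat_lit 574) (nat_lit 7968) (nat_lit 2937) .nil) (nat_lit 581) (nat_lit 10561) (nat_lit 801) (.node .nil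
  (nat_lit 582) (nat_lit 15392) (nat_lit 1209) .nil)) (nat_lit 585) (nat_lit 17297) (nat_lit 2513) (.node
  (.node .nil (nat_lit 586) (nat_lit 8320) (nat_lit 1360) .nil) (nat_lit 588) (nat_lit 4384) (nat_lit 2695)
  (.node .nil (nat_lit 596) (nat_lit 13600) (nat_lit 2947) .nil)))) (nat_lit 605) (nat_lit 10000) (nat_lit
  2983) (.node (.node (.node (.node (.node .nil (nat_lit 606) (nat_lit 7024) (nat_lit 1469) .nil) (nat_lit
  610) (nat_lit 1984) (nat_lit 2968) .nil) (nat_lit 612) (nat_lit 6912) (nat_lit 1103) (.node .nil (nat_lit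
  615) (nat_lit 7040) (nat_lit 2645) .nil)) (nat_lit 616) (nat_lit 5153) (nat_lit 2059) (.node (.node .nil
  (nat_lit 619) (nat_lit 6416) (nat_lit 3004) .nil) (nat_lit 621) (nat_lit 7473) (nat_lit 204) (.node .nil
  (nat_lit 622) (nat_lit 656) (nat_lit 2673) .nil))) (nat_lit 624) (nat_lit 14976) (nat_lit 1186) (.node
  (.node (.node .nil (nat_lit 630) (nat_lit 10961) (nat_lit 525) .nil) (nat_lit 633) (nat_lit 1408) (nat_lit
  1158) (.node .nil (nat_lit 634) (nat_lit 6448) (nat_lit 2716) .nil)) (nat_lit 639) (nat_lit 977) (nat_lit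
  58) (.node (.node .nil (nat_lit 649) (nat_lit 8913) (nat_lit 1050) .nil) (nat_lit 650) (nat_lit 10065)
  (nat_lit 2316) (.node .nil (nat_lit 655) (nat_lit 12801) (nat_lit 459) .nil))))) (nat_lit 657) (nat_lit
  17761) (nat_lit 3021) (.node (.node (.node (.node (.node (.node .nil (nat_lit 667) (nat_lit 9841) (nat_lit
  1260) .nil) (nat_lit 669) (nat_lit 16992) (nat_lit 3007) .nil) (nat_lit 674) (nat_lit 2768) (nat_lit 2944)
  (.node .nil (nat_lit 680) (nat_lit 4497) (nat_lit 1472) .nil)) (nat_lit 683) (nat_lit 11185) (nat_lit 2262)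
  (.node (.node .nil (nat_lit 688) (nat_lit 864) (nat_lit 1210) .nil) (nat_lit 691) (nat_lit 449) (nat_lit
  1793) (.node .nil (nat_lit 698) (nat_lit 13713) (nat_lit 1334) .nil))) (nat_lit 700) (nat_lit 4656) (nat_lit
  1363) (.node (.node (.node (.node .nil (nat_lit 703) (nat_lit 6993) (nat_lit 3569) .nil) (nat_lit 706)
  (nat_lit 12816) (nat_lit 1348) .nil) (nat_lit 708) (nat_lit 16432) (nat_lit 2707) (.node .nil (nat_lit 711)
  (nat_lit 15489) (nat_lit 166) .nil)) (nat_lit 712) (nat_lit 10080) (nat_lit 2938) (.node (.node .nil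
  (nat_lit 715) (nat_lit 17056) (nat_lit 1376) .nil) (nat_lit 717) (nat_lit 5360) (nat_lit 2743) (.node .nil
  (nat_lit 718) (nat_lit 16800) (nat_lit 1197) .nil)))) (nat_lit 729) (nat_lit 1456) (nat_lit 2650) (.node
  (.node (.node (.node (.node .nil (nat_lit 732) (nat_lit 11169) (nat_lit 615) .nil) (nat_lit 735) (nat_lit
  3968) (nat_lit 1421) .nil) (nat_lit 736) (nat_lit 16817) (nat_lit 1197) (.node .nil (nat_lit 742) (nat_lit
  13264) (nat_lit 2661) .nil)) (nat_lit 745) (nat_lit 11904) (nat_lit 1430) (.node (.node .nil (nat_lit 748)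
  (nat_lit 9777) (nat_lit 3677) .nil) (nat_lit 751) (nat_lit 5489) (nat_lit 843) (.node .nil (nat_lit 753)
  (nat_lit 5808) (nat_lit 1170) .nil))) (nat_lit 754) (nat_lit 5648) (nat_lit 2696) (.node (.node (.node .nil
  (nat_lit 756) (nat_lit 2944) (nat_lit 1375) .nil) (nat_lit 760) (nat_lit 10097) (nat_lit 2938) (.node .nil
  (nat_lit 763) (nat_lit 11745) (nat_lit 1644) .nil)) (nat_lit 765) (nat_lit 8384) (nat_lit 1403) (.node
  (.node .nil (nat_lit 766) (nat_lit 10512) (nat_lit 2913) .nil) (nat_lit 771) (nat_lit 6945) (nat_lit 1650)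
  (.node .nil (nat_lit 773) (nat_lit 12768) (nat_lit 3755) .nil)))))) (nat_lit 774) (nat_lit 5200) (nat_lit
  177) (.node (.node (.node (.node (.node (.node (.node .nil (nat_lit 777) (nat_lit 10609) (nat_lit 2387)
  .nil) (nat_lit 783) (nat_lit 13456) (nat_lit 149) .nil) (nat_lit 785) (nat_lit 16192) (nat_lit 3654) (.node
  .nil (nat_lit 786) (nat_lit 15617) (nat_lit 2962) .nil)) (nat_lit 788) (nat_lit 10192) (nat_lit 3979) (.node
  (.node .nil (nat_lit 791) (nat_lit 17232) (nat_lit 401) .nil) (nat_lit 792) (nat_lit 12433) (nat_lit 1203)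
  (.node .nil (nat_lit 795) (nat_lit 225) (nat_lit 2469) .nil))) (nat_lit 798) (nat_lit 11504) (nat_lit 437)
  (.node (.node (.node (.node .nil (nat_lit 801) (nat_lit 6577) (nat_lit 2750) .nil) (nat_lit 802) (nat_lit
  14545) (nat_lit 1960) .nil) (nat_lit 804) (nat_lit 2673) (nat_lit 633) (.node .nil (nat_lit 807) (nat_lit
  3537) (nat_lit 3951) .nil)) (nat_lit 808) (nat_lit 14689) (nat_lit 2185) (.node (.node .nil (nat_lit 813)
  (nat_lit 16913) (nat_lit 78) .nil) (nat_lit 814) (nat_lit 7520) (nat_lit 3705) (.node .nil (nat_lit 819)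
  (nat_lit 5457) (nat_lit 2632) .nil)))) (nat_lit 821) (nat_lit 9473) (nat_lit 3993) (.node (.node (.node
  (.node (.node .nil (nat_lit 822) (nat_lit 16273) (nat_lit 655) .nil) (nat_lit 825) (nat_lit 2912) (nat_lit
  142) .nil) (nat_lit 826) (nat_lit 1153) (nat_lit 2175) (.node .nil (nat_lit 828) (nat_lit 13777) (nat_lit
  3502) .nil)) (nat_lit 831) (nat_lit 10112) (nat_lit 3929) (.node (.node .nil (nat_lit 836) (nat_lit 5552)
  (nat_lit 3715) .nil) (nat_lit 839) (nat_lit 12032) (nat_lit 153) (.node .nil (nat_lit 843) (nat_lit 3169)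
  (nat_lit 1823) .nil))) (nat_lit 845) (nat_lit 17792) (nat_lit 3751) (.node (.node (.node .nil (nat_lit 846)
  (nat_lit 7232) (nat_lit 189) .nil) (nat_lit 848) (nat_lit 8705) (nat_lit 1502) (.node .nil (nat_lit 853)
  (nat_lit 16320) (nat_lit 4003) .nil)) (nat_lit 854) (nat_lit 8257) (nat_lit 15) (.node (.node .nil (nat_lit
  860) (nat_lit 2817) (nat_lit 3886) .nil) (nat_lit 863) (nat_lit 7841) (nat_lit 568) (.node .nil (nat_lit
  864) (nat_lit 13585) (nat_lit 2532) .nil))))) (nat_lit 867) (nat_lit 5392) (nat_lit 4024) (.node (.node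
  (.node (.node (.node (.node .nil (nat_lit 869) (nat_lit 13969) (nat_lit 291) .nil) (nat_lit 873) (nat_lit
  14144) (nat_lit 390) .nil) (nat_lit 874) (nat_lit 17344) (nat_lit 3996) (.node .nil (nat_lit 876) (nat_lit
  14401) (nat_lit 788) .nil)) (nat_lit 879) (nat_lit 6192) (nat_lit 3665) (.node (.node .nil (nat_lit 882)
  (nat_lit 16049) (nat_lit 2322) .nil) (nat_lit 884) (nat_lit 176) (nat_lit 335) (.node .nil (nat_lit 888)
  (nat_lit 4369) (nat_lit 1587) .nil))) (nat_lit 893) (nat_lit 11856) (nat_lit 363) (.node (.node (.node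
  (.node .nil (nat_lit 894) (nat_lit 15921) (nat_lit 994) .nil) (nat_lit 907) (nat_lit 8225) (nat_lit 2772)
  .nil) (nat_lit 912) (nat_lit 7168) (nat_lit 3702) (.node .nil (nat_lit 915) (nat_lit 5728) (nat_lit 108)
  .nil)) (nat_lit 917) (nat_lit 10416) (nat_lit 4027) (.node (.node .nil (nat_lit 921) (nat_lit 592) (nat_lit
  3666) .nil) (nat_lit 927) (nat_lit 11985) (nat_lit 4083) (.node .nil (nat_lit 928) (nat_lit 1200) (nat_lit
  442) .nil)))) (nat_lit 931) (nat_lit 14529) (nat_lit 2361) (.node (.node (.node (.node (.node .nil (nat_lit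
  934) (nat_lit 1376) (nat_lit 3693) .nil) (nat_lit 937) (nat_lit 16064) (nat_lit 414) .nil) (nat_lit 938)
  (nat_lit 400) (nat_lit 3972) (.node .nil (nat_lit 945) (nat_lit 3265) (nat_lit 2511) .nil)) (nat_lit 946)
  (nat_lit 16080) (nat_lit 3712) (.node (.node .nil (nat_lit 952) (nat_lit 12528) (nat_lit 190) .nil) (nat_lit
  955) (nat_lit 15793) (nat_lit 1774) (.node .nil (nat_lit 957) (nat_lit 12960) (nat_lit 371) .nil))) (nat_lit
  966) (nat_lit 15680) (nat_lit 169) (.node (.node (.node .nil (nat_lit 989) (nat_lit 10033) (nat_lit 447)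
  .nil) (nat_lit 994) (nat_lit 12305) (nat_lit 2659) (.node .nil (nat_lit 996) (nat_lit 3440) (nat_lit 95)
  .nil)) (nat_lit 1000) (nat_lit 9889) (nat_lit 1346) (.node (.node .nil (nat_lit 1003) (nat_lit 2864)
  (nat_lit 4012) .nil) (nat_lit 1006) (nat_lit 16832) (nat_lit 3681) (.node .nil (nat_lit 1008) (nat_lit
  16705) (nat_lit 2709) .nil)))))))
def ts1120_2 : T := (.node (.node (.node (.node (.node (.node (.node (.node .nil (nat_lit 1035) (nat_lit 4865)
  (nat_lit 3315) .nil) (nat_lit 1037) (nat_lit 2896) (nat_lit 1834) .nil) (nat_lit 1043) (nat_lit 4785)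
  (nat_lit 804) (.node .nil (nat_lit 1046) (nat_lit 14768) (nat_lit 2100) .nil)) (nat_lit 1049) (nat_lit 1729)
  (nat_lit 3077) (.node (.node .nil (nat_lit 1050) (nat_lit 5424) (nat_lit 2525) .nil) (nat_lit 1052) (nat_lit
  11056) (nat_lit 1546) (.node .nil (nat_lit 1065) (nat_lit 5136) (nat_lit 2059) .nil))) (nat_lit 1066)
  (nat_lit 8273) (nat_lit 3369) (.node (.node (.node (.node .nil (nat_lit 1071) (nat_lit 9537) (nat_lit 1518)
  .nil) (nat_lit 1074) (nat_lit 3840) (nat_lit 1813) .nil) (nat_lit 1083) (nat_lit 5233) (nat_lit 201) (.node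
  .nil (nat_lit 1086) (nat_lit 4641) (nat_lit 2062) .nil)) (nat_lit 1097) (nat_lit 2464) (nat_lit 1743) (.node
  (.node .nil (nat_lit 1098) (nat_lit 16577) (nat_lit 4009) .nil) (nat_lit 1103) (nat_lit 4128) (nat_lit 2328)
  (.node .nil (nat_lit 1106) (nat_lit 5025) (nat_lit 126) .nil)))) (nat_lit 1115) (nat_lit 15584) (nat_lit
  2549) (.node (.node (.node (.node (.node .nil (nat_lit 1118) (nat_lit 1633) (nat_lit 2702) .nil) (nat_lit
  1122) (nat_lit 3920) (nat_lit 1565) .nil) (nat_lit 1128) (nat_lit 13120) (nat_lit 2083) (.node .nil (nat_lit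
  1131) (nat_lit 11009) (nat_lit 3699) .nil)) (nat_lit 1146) (nat_lit 9329) (nat_lit 915) (.node (.node .nil
  (nat_lit 1157) (nat_lit 17409) (nat_lit 1412) .nil) (nat_lit 1158) (nat_lit 720) (nat_lit 2340) (.node .nil
  (nat_lit 1161) (nat_lit 15936) (nat_lit 1751) .nil))) (nat_lit 1162) (nat_lit 3697) (nat_lit 610) (.node
  (.node (.node .nil (nat_lit 1164) (nat_lit 15216) (nat_lit 1818) .nil) (nat_lit 1169) (nat_lit 257) (nat_lit
  163) (.node .nil (nat_lit 1170) (nat_lit 3393) (nat_lit 3509) .nil)) (nat_lit 1172) (nat_lit 5713) (nat_lit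
  2148) (.node (.node .nil (nat_lit 1186) (nat_lit 10993) (nat_lit 399) .nil) (nat_lit 1188) (nat_lit 3041)
  (nat_lit 1118) (.node .nil (nat_lit 1191) (nat_lit 4272) (nat_lit 1992) .nil))))) (nat_lit 1192) (nat_lit
  12673) (nat_lit 3758) (.node (.node (.node (.node (.node (.node .nil (nat_lit 1195) (nat_lit 13872) (nat_lit
  1569) .nil) (nat_lit 1197) (nat_lit 13792) (nat_lit 2550) .nil) (nat_lit 1198) (nat_lit 7873) (nat_lit 2943)
  (.node .nil (nat_lit 1203) (nat_lit 8161) (nat_lit 3183) .nil)) (nat_lit 1206) (nat_lit 16209) (nat_lit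
  1192) (.node (.node .nil (nat_lit 1209) (nat_lit 11473) (nat_lit 846) .nil) (nat_lit 1210) (nat_lit 432)
  (nat_lit 1793) (.node .nil (nat_lit 1212) (nat_lit 9761) (nat_lit 2953) .nil))) (nat_lit 1218) (nat_lit
  14992) (nat_lit 2241) (.node (.node (.node (.node .nil (nat_lit 1220) (nat_lit 3408) (nat_lit 1814) .nil)
  (nat_lit 1223) (nat_lit 10048) (nat_lit 2316) .nil) (nat_lit 1224) (nat_lit 11296) (nat_lit 1791) (.node
  .nil (nat_lit 1227) (nat_lit 12240) (nat_lit 2277) .nil)) (nat_lit 1229) (nat_lit 624) (nat_lit 1842) (.node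
  (.node .nil (nat_lit 1230) (nat_lit 7793) (nat_lit 2559) .nil) (nat_lit 1235) (nat_lit 9376) (nat_lit 2529)
  (.node .nil (nat_lit 1238) (nat_lit 6001) (nat_lit 1576) .nil)))) (nat_lit 1241) (nat_lit 17473) (nat_lit
  462) (.node (.node (.node (.node (.node .nil (nat_lit 1242) (nat_lit 14352) (nat_lit 2501) .nil) (nat_lit
  1244) (nat_lit 3712) (nat_lit 1554) .nil) (nat_lit 1248) (nat_lit 16657) (nat_lit 4035) (.node .nil (nat_lit
  1254) (nat_lit 11264) (nat_lit 2016) .nil)) (nat_lit 1257) (nat_lit 14208) (nat_lit 2067) (.node (.node .nil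
  (nat_lit 1260) (nat_lit 6096) (nat_lit 2526) .nil) (nat_lit 1263) (nat_lit 769) (nat_lit 2085) (.node .nil
  (nat_lit 1266) (nat_lit 9569) (nat_lit 3893) .nil))) (nat_lit 1275) (nat_lit 560) (nat_lit 1833) (.node
  (.node (.node .nil (nat_lit 1278) (nat_lit 8864) (nat_lit 1764) .nil) (nat_lit 1283) (nat_lit 14592)
  (nat_lit 3321) (.node .nil (nat_lit 1285) (nat_lit 9073) (nat_lit 2253) .nil)) (nat_lit 1286) (nat_lit 4880)
  (nat_lit 3380) (.node (.node .nil (nat_lit 1289) (nat_lit 11393) (nat_lit 573) .nil) (nat_lit 1295) (nat_lit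
  17200) (nat_lit 3344) (.node .nil (nat_lit 1298) (nat_lit 14112) (nat_lit 3545) .nil)))))) (nat_lit 1303)
  (nat_lit 15121) (nat_lit 2107) (.node (.node (.node (.node (.node (.node (.node .nil (nat_lit 1307) (nat_lit
  8720) (nat_lit 3581) .nil) (nat_lit 1309) (nat_lit 15233) (nat_lit 1818) .nil) (nat_lit 1310) (nat_lit
  16001) (nat_lit 2572) (.node .nil (nat_lit 1323) (nat_lit 2688) (nat_lit 561) .nil)) (nat_lit 1328) (nat_lit
  10864) (nat_lit 3375) (.node (.node .nil (nat_lit 1331) (nat_lit 6977) (nat_lit 294) .nil) (nat_lit 1334)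
  (nat_lit 9393) (nat_lit 2529) (.node .nil (nat_lit 1338) (nat_lit 17696) (nat_lit 785) .nil))) (nat_lit
  1343) (nat_lit 15056) (nat_lit 732) (.node (.node (.node (.node .nil (nat_lit 1345) (nat_lit 12993) (nat_lit
  848) .nil) (nat_lit 1346) (nat_lit 6144) (nat_lit 3281) .nil) (nat_lit 1348) (nat_lit 8544) (nat_lit 774)
  (.node .nil (nat_lit 1351) (nat_lit 5793) (nat_lit 1665) .nil)) (nat_lit 1352) (nat_lit 8992) (nat_lit 751)
  (.node (.node .nil (nat_lit 1357) (nat_lit 10177) (nat_lit 2464) .nil) (nat_lit 1358) (nat_lit 17713)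
  (nat_lit 1206) (.node .nil (nat_lit 1360) (nat_lit 5040) (nat_lit 1003) .nil)))) (nat_lit 1363) (nat_lit
  2609) (nat_lit 934) (.node (.node (.node (.node (.node .nil (nat_lit 1366) (nat_lit 8816) (nat_lit 3132)
  .nil) (nat_lit 1370) (nat_lit 17249) (nat_lit 401) .nil) (nat_lit 1375) (nat_lit 1584) (nat_lit 3096) (.node
  .nil (nat_lit 1376) (nat_lit 14289) (nat_lit 650) .nil)) (nat_lit 1379) (nat_lit 11376) (nat_lit 573) (.node
  (.node .nil (nat_lit 1382) (nat_lit 15089) (nat_lit 1883) .nil) (nat_lit 1385) (nat_lit 7249) (nat_lit 189)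
  (.node .nil (nat_lit 1386) (nat_lit 161) (nat_lit 3499) .nil))) (nat_lit 1400) (nat_lit 17393) (nat_lit
  3421) (.node (.node (.node .nil (nat_lit 1403) (nat_lit 5104) (nat_lit 825) .nil) (nat_lit 1406) (nat_lit
  5168) (nat_lit 756) (.node .nil (nat_lit 1412) (nat_lit 15424) (nat_lit 798) .nil)) (nat_lit 1415) (nat_lit
  17680) (nat_lit 3332) (.node (.node .nil (nat_lit 1419) (nat_lit 1217) (nat_lit 442) .nil) (nat_lit 1421)
  (nat_lit 2176) (nat_lit 826) (.node .nil (nat_lit 1422) (nat_lit 14737) (nat_lit 2429) .nil))))) (nat_lit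
  1427) (nat_lit 1393) (nat_lit 3693) (.node (.node (.node (.node (.node (.node .nil (nat_lit 1429) (nat_lit
  6433) (nat_lit 3004) .nil) (nat_lit 1430) (nat_lit 7585) (nat_lit 1706) .nil) (nat_lit 1446) (nat_lit 10657)
  (nat_lit 2704) (.node .nil (nat_lit 1458) (nat_lit 16240) (nat_lit 773) .nil)) (nat_lit 1463) (nat_lit 7089)
  (nat_lit 1904) (.node (.node .nil (nat_lit 1467) (nat_lit 10544) (nat_lit 801) .nil) (nat_lit 1469) (nat_lit
  4225) (nat_lit 2129) (.node .nil (nat_lit 1470) (nat_lit 9425) (nat_lit 1351) .nil))) (nat_lit 1472)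
  (nat_lit 2513) (nat_lit 3521) (.node (.node (.node (.node .nil (nat_lit 1475) (nat_lit 9344) (nat_lit 3297)
  .nil) (nat_lit 1477) (nat_lit 8033) (nat_lit 1286) .nil) (nat_lit 1481) (nat_lit 6672) (nat_lit 735) (.node
  .nil (nat_lit 1482) (nat_lit 11552) (nat_lit 3269) .nil)) (nat_lit 1484) (nat_lit 17488) (nat_lit 786)
  (.node (.node .nil (nat_lit 1487) (nat_lit 9681) (nat_lit 2599) .nil) (nat_lit 1490) (nat_lit 2496) (nat_lit
  3521) (.node .nil (nat_lit 1495) (nat_lit 10913) (nat_lit 1520) .nil)))) (nat_lit 1499) (nat_lit 14929)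
  (nat_lit 3840) (.node (.node (.node (.node (.node .nil (nat_lit 1501) (nat_lit 13041) (nat_lit 2769) .nil)
  (nat_lit 1502) (nat_lit 5296) (nat_lit 3112) .nil) (nat_lit 1506) (nat_lit 10944) (nat_lit 525) (.node .nil
  (nat_lit 1508) (nat_lit 6289) (nat_lit 1244) .nil)) (nat_lit 1512) (nat_lit 1792) (nat_lit 3123) (.node
  (.node .nil (nat_lit 1515) (nat_lit 2193) (nat_lit 826) .nil) (nat_lit 1518) (nat_lit 5872) (nat_lit 996)
  (.node .nil (nat_lit 1520) (nat_lit 6832) (nat_lit 3383) .nil))) (nat_lit 1523) (nat_lit 4161) (nat_lit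
  3309) (.node (.node (.node .nil (nat_lit 1526) (nat_lit 12593) (nat_lit 1066) .nil) (nat_lit 1530) (nat_lit
  14752) (nat_lit 777) (.node .nil (nat_lit 1535) (nat_lit 3937) (nat_lit 1565) .nil)) (nat_lit 1539) (nat_lit
  15744) (nat_lit 927) (.node (.node .nil (nat_lit 1541) (nat_lit 15472) (nat_lit 3144) .nil) (nat_lit 1546)
  (nat_lit 6929) (nat_lit 1103) (.node .nil (nat_lit 1548) (nat_lit 8352) (nat_lit 3180) .nil)))))))
def ts1120_3 : T := (.node (.node (.node (.node (.node (.node (.node (.node .nil (nat_lit 1553) (nat_lit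
  11841) (nat_lit 1678) .nil) (nat_lit 1554) (nat_lit 2001) (nat_lit 2968) .nil) (nat_lit 1559) (nat_lit
  12129) (nat_lit 863) (.node .nil (nat_lit 1560) (nat_lit 15409) (nat_lit 1209) .nil)) (nat_lit 1563)
  (nat_lit 14096) (nat_lit 667) (.node (.node .nil (nat_lit 1565) (nat_lit 2129) (nat_lit 3198) .nil) (nat_lit
  1566) (nat_lit 12560) (nat_lit 854) (.node .nil (nat_lit 1569) (nat_lit 9649) (nat_lit 2740) .nil)))
  (nat_lit 1576) (nat_lit 3505) (nat_lit 2179) (.node (.node (.node (.node .nil (nat_lit 1579) (nat_lit 5328)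
  (nat_lit 3415) .nil) (nat_lit 1584) (nat_lit 12097) (nat_lit 1876) .nil) (nat_lit 1587) (nat_lit 2432)
  (nat_lit 3155) (.node .nil (nat_lit 1593) (nat_lit 11792) (nat_lit 621) .nil)) (nat_lit 1596) (nat_lit 2272)
  (nat_lit 928) (.node (.node .nil (nat_lit 1599) (nat_lit 17217) (nat_lit 178) .nil) (nat_lit 1601) (nat_lit
  9584) (nat_lit 3501) (.node .nil (nat_lit 1604) (nat_lit 9217) (nat_lit 243) .nil)))) (nat_lit 1607)
  (nat_lit 10336) (nat_lit 634) (.node (.node (.node (.node (.node .nil (nat_lit 1608) (nat_lit 11153)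
  (nat_lit 2563) .nil) (nat_lit 1611) (nat_lit 3857) (nat_lit 1813) .nil) (nat_lit 1613) (nat_lit 15168)
  (nat_lit 3140) (.node .nil (nat_lit 1614) (nat_lit 6753) (nat_lit 4050) .nil)) (nat_lit 1626) (nat_lit 896)
  (nat_lit 691) (.node (.node .nil (nat_lit 1628) (nat_lit 14240) (nat_lit 3428) .nil) (nat_lit 1631) (nat_lit
  14785) (nat_lit 562) (.node .nil (nat_lit 1641) (nat_lit 16880) (nat_lit 869) .nil))) (nat_lit 1642)
  (nat_lit 2481) (nat_lit 1743) (.node (.node (.node .nil (nat_lit 1644) (nat_lit 7424) (nat_lit 680) .nil)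
  (nat_lit 1650) (nat_lit 4145) (nat_lit 2328) (.node .nil (nat_lit 1656) (nat_lit 14704) (nat_lit 581) .nil))
  (nat_lit 1662) (nat_lit 14129) (nat_lit 1000) (.node (.node .nil (nat_lit 1665) (nat_lit 3376) (nat_lit
  3509) .nil) (nat_lit 1668) (nat_lit 16480) (nat_lit 3192) (.node .nil (nat_lit 1671) (nat_lit 3680) (nat_lit
  610) .nil))))) (nat_lit 1672) (nat_lit 2064) (nat_lit 3473) (.node (.node (.node (.node (.node (.node .nil
  (nat_lit 1675) (nat_lit 12496) (nat_lit 907) .nil) (nat_lit 1677) (nat_lit 15041) (nat_lit 3855) .nil)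
  (nat_lit 1678) (nat_lit 7505) (nat_lit 537) (.node .nil (nat_lit 1683) (nat_lit 15297) (nat_lit 1289) .nil))
  (nat_lit 1685) (nat_lit 3665) (nat_lit 216) (.node (.node .nil (nat_lit 1689) (nat_lit 688) (nat_lit 3249)
  .nil) (nat_lit 1690) (nat_lit 15072) (nat_lit 683) (.node .nil (nat_lit 1692) (nat_lit 9009) (nat_lit 751)
  .nil))) (nat_lit 1705) (nat_lit 3729) (nat_lit 1554) (.node (.node (.node (.node .nil (nat_lit 1706)
  (nat_lit 4592) (nat_lit 3431) .nil) (nat_lit 1708) (nat_lit 1680) (nat_lit 688) .nil) (nat_lit 1713)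
  (nat_lit 2656) (nat_lit 633) (.node .nil (nat_lit 1714) (nat_lit 8336) (nat_lit 3171) .nil)) (nat_lit 1719)
  (nat_lit 13760) (nat_lit 3502) (.node (.node .nil (nat_lit 1720) (nat_lit 14224) (nat_lit 605) .nil)
  (nat_lit 1723) (nat_lit 8881) (nat_lit 1764) (.node .nil (nat_lit 1725) (nat_lit 11344) (nat_lit 912)
  .nil)))) (nat_lit 1726) (nat_lit 1937) (nat_lit 3619) (.node (.node (.node (.node (.node .nil (nat_lit 1733)
  (nat_lit 15761) (nat_lit 3682) .nil) (nat_lit 1734) (nat_lit 385) (nat_lit 884) .nil) (nat_lit 1737)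
  (nat_lit 5825) (nat_lit 1170) (.node .nil (nat_lit 1738) (nat_lit 13841) (nat_lit 2436) .nil)) (nat_lit
  1743) (nat_lit 1296) (nat_lit 622) (.node (.node .nil (nat_lit 1751) (nat_lit 12321) (nat_lit 3732) .nil)
  (nat_lit 1757) (nat_lit 11521) (nat_lit 437) (.node .nil (nat_lit 1758) (nat_lit 11456) (nat_lit 846)
  .nil))) (nat_lit 1764) (nat_lit 5409) (nat_lit 4024) (.node (.node (.node .nil (nat_lit 1768) (nat_lit
  13297) (nat_lit 1352) .nil) (nat_lit 1774) (nat_lit 12049) (nat_lit 153) (.node .nil (nat_lit 1786) (nat_lit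
  8144) (nat_lit 3183) .nil)) (nat_lit 1788) (nat_lit 16112) (nat_lit 952) (.node (.node .nil (nat_lit 1791)
  (nat_lit 7136) (nat_lit 3490) .nil) (nat_lit 1793) (nat_lit 208) (nat_lit 2469) (.node .nil (nat_lit 1799)
  (nat_lit 4609) (nat_lit 3431) .nil)))))) (nat_lit 1800) (nat_lit 14624) (nat_lit 2433) (.node (.node (.node
  (.node (.node (.node (.node .nil (nat_lit 1803) (nat_lit 16897) (nat_lit 1943) .nil) (nat_lit 1805) (nat_lit
  15856) (nat_lit 2124) .nil) (nat_lit 1808) (nat_lit 8048) (nat_lit 2181) (.node .nil (nat_lit 1813) (nat_lit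
  2081) (nat_lit 3473) .nil)) (nat_lit 1814) (nat_lit 1841) (nat_lit 135) (.node (.node .nil (nat_lit 1817)
  (nat_lit 16528) (nat_lit 2209) .nil) (nat_lit 1818) (nat_lit 11329) (nat_lit 2679) (.node .nil (nat_lit
  1820) (nat_lit 2097) (nat_lit 4006) .nil))) (nat_lit 1823) (nat_lit 1697) (nat_lit 688) (.node (.node (.node
  (.node .nil (nat_lit 1824) (nat_lit 15312) (nat_lit 1865) .nil) (nat_lit 1827) (nat_lit 10592) (nat_lit
  2387) .nil) (nat_lit 1829) (nat_lit 17776) (nat_lit 1668) (.node .nil (nat_lit 1833) (nat_lit 272) (nat_lit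
  1901) .nil)) (nat_lit 1834) (nat_lit 1552) (nat_lit 2423) (.node (.node .nil (nat_lit 1841) (nat_lit 17313)
  (nat_lit 1164) .nil) (nat_lit 1842) (nat_lit 304) (nat_lit 2163) (.node .nil (nat_lit 1848) (nat_lit 13153)
  (nat_lit 1723) .nil)))) (nat_lit 1851) (nat_lit 9488) (nat_lit 2135) (.node (.node (.node (.node (.node .nil
  (nat_lit 1854) (nat_lit 15520) (nat_lit 2458) .nil) (nat_lit 1856) (nat_lit 12368) (nat_lit 2445) .nil)
  (nat_lit 1859) (nat_lit 12417) (nat_lit 1786) (.node .nil (nat_lit 1862) (nat_lit 1744) (nat_lit 1626)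
  .nil)) (nat_lit 1865) (nat_lit 11425) (nat_lit 2523) (.node (.node .nil (nat_lit 1866) (nat_lit 1249)
  (nat_lit 1229) .nil) (nat_lit 1868) (nat_lit 5696) (nat_lit 2148) (.node .nil (nat_lit 1871) (nat_lit 8193)
  (nat_lit 3082) .nil))) (nat_lit 1873) (nat_lit 12657) (nat_lit 1548) (.node (.node (.node .nil (nat_lit
  1874) (nat_lit 7729) (nat_lit 2842) .nil) (nat_lit 1876) (nat_lit 7808) (nat_lit 2400) (.node .nil (nat_lit
  1879) (nat_lit 2144) (nat_lit 1914) .nil)) (nat_lit 1880) (nat_lit 8609) (nat_lit 1083) (.node (.node .nil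
  (nat_lit 1883) (nat_lit 11201) (nat_lit 2349) .nil) (nat_lit 1885) (nat_lit 6464) (nat_lit 2372) (.node .nil
  (nat_lit 1889) (nat_lit 15713) (nat_lit 2614) .nil))))) (nat_lit 1890) (nat_lit 17361) (nat_lit 1824) (.node
  (.node (.node (.node (.node (.node .nil (nat_lit 1892) (nat_lit 3120) (nat_lit 1708) .nil) (nat_lit 1895)
  (nat_lit 3904) (nat_lit 2230) .nil) (nat_lit 1899) (nat_lit 7936) (nat_lit 2399) (.node .nil (nat_lit 1901)
  (nat_lit 129) (nat_lit 198) .nil)) (nat_lit 1902) (nat_lit 15808) (nat_lit 2194) (.node (.node .nil (nat_lit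
  1904) (nat_lit 4257) (nat_lit 2006) .nil) (nat_lit 1907) (nat_lit 4320) (nat_lit 2139) (.node .nil (nat_lit
  1910) (nat_lit 1057) (nat_lit 519) .nil))) (nat_lit 1914) (nat_lit 1136) (nat_lit 2175) (.node (.node (.node
  (.node .nil (nat_lit 1916) (nat_lit 6177) (nat_lit 3366) .nil) (nat_lit 1925) (nat_lit 1665) (nat_lit 3808)
  .nil) (nat_lit 1937) (nat_lit 9921) (nat_lit 3015) (.node .nil (nat_lit 1943) (nat_lit 14001) (nat_lit 3606)
  .nil)) (nat_lit 1947) (nat_lit 15153) (nat_lit 1254) (.node (.node .nil (nat_lit 1949) (nat_lit 9056)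
  (nat_lit 2396) .nil) (nat_lit 1950) (nat_lit 3216) (nat_lit 1862) (.node .nil (nat_lit 1960) (nat_lit 10368)
  (nat_lit 1885) .nil)))) (nat_lit 1971) (nat_lit 14800) (nat_lit 2115) (.node (.node (.node (.node (.node
  .nil (nat_lit 1988) (nat_lit 9136) (nat_lit 2160) .nil) (nat_lit 1991) (nat_lit 4432) (nat_lit 1642) .nil)
  (nat_lit 1992) (nat_lit 2385) (nat_lit 1866) (.node .nil (nat_lit 1997) (nat_lit 6400) (nat_lit 2132) .nil))
  (nat_lit 1998) (nat_lit 10768) (nat_lit 1614) (.node (.node .nil (nat_lit 2003) (nat_lit 2321) (nat_lit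
  1419) .nil) (nat_lit 2005) (nat_lit 10721) (nat_lit 90) (.node .nil (nat_lit 2006) (nat_lit 2368) (nat_lit
  1866) .nil))) (nat_lit 2012) (nat_lit 11809) (nat_lit 621) (.node (.node (.node .nil (nat_lit 2015) (nat_lit
  16177) (nat_lit 3963) .nil) (nat_lit 2016) (nat_lit 7121) (nat_lit 1191) (.node .nil (nat_lit 2021) (nat_lit
  12609) (nat_lit 3168) .nil)) (nat_lit 2022) (nat_lit 2832) (nat_lit 2182) (.node (.node .nil (nat_lit 2026)
  (nat_lit 2049) (nat_lit 2950) .nil) (nat_lit 2028) (nat_lit 15361) (nat_lit 3671) (.node .nil (nat_lit 2046)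
  (nat_lit 9041) (nat_lit 3745) .nil)))))))
def ts1120_4 : T := (.node (.node (.node (.node (.node (.node (.node (.node .nil (nat_lit 2061) (nat_lit 496)
  (nat_lit 3516) .nil) (nat_lit 2062) (nat_lit 2592) (nat_lit 934) .nil) (nat_lit 2067) (nat_lit 9968)
  (nat_lit 879) (.node .nil (nat_lit 2069) (nat_lit 5665) (nat_lit 2696) .nil)) (nat_lit 2070) (nat_lit 4928)
  (nat_lit 674) (.node (.node .nil (nat_lit 2073) (nat_lit 8769) (nat_lit 120) .nil) (nat_lit 2074) (nat_lit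
  5472) (nat_lit 843) (.node .nil (nat_lit 2083) (nat_lit 8849) (nat_lit 867) .nil))) (nat_lit 2085) (nat_lit
  368) (nat_lit 884) (.node (.node (.node (.node .nil (nat_lit 2086) (nat_lit 11680) (nat_lit 3438) .nil)
  (nat_lit 2089) (nat_lit 4833) (nat_lit 3138) .nil) (nat_lit 2092) (nat_lit 12976) (nat_lit 848) (.node .nil
  (nat_lit 2097) (nat_lit 1168) (nat_lit 921) .nil)) (nat_lit 2098) (nat_lit 5569) (nat_lit 3715) (.node
  (.node .nil (nat_lit 2100) (nat_lit 10625) (nat_lit 2898) .nil) (nat_lit 2103) (nat_lit 13537) (nat_lit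
  1604) (.node .nil (nat_lit 2104) (nat_lit 16352) (nat_lit 957) .nil)))) (nat_lit 2107) (nat_lit 11249)
  (nat_lit 3252) (.node (.node (.node (.node (.node .nil (nat_lit 2109) (nat_lit 14193) (nat_lit 2405) .nil)
  (nat_lit 2115) (nat_lit 10689) (nat_lit 483) .nil) (nat_lit 2117) (nat_lit 6513) (nat_lit 1074) (.node .nil
  (nat_lit 2118) (nat_lit 737) (nat_lit 2340) .nil)) (nat_lit 2121) (nat_lit 10753) (nat_lit 3778) (.node
  (.node .nil (nat_lit 2124) (nat_lit 12160) (nat_lit 3476) .nil) (nat_lit 2129) (nat_lit 2353) (nat_lit 277)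
  (.node .nil (nat_lit 2130) (nat_lit 15633) (nat_lit 3075) .nil))) (nat_lit 2132) (nat_lit 3776) (nat_lit
  3216) (.node (.node (.node .nil (nat_lit 2135) (nat_lit 5857) (nat_lit 1220) .nil) (nat_lit 2136) (nat_lit
  12944) (nat_lit 3449) (.node .nil (nat_lit 2139) (nat_lit 2417) (nat_lit 3636) .nil)) (nat_lit 2141)
  (nat_lit 11232) (nat_lit 3252) (.node (.node .nil (nat_lit 2145) (nat_lit 10881) (nat_lit 3375) .nil)
  (nat_lit 2148) (nat_lit 3329) (nat_lit 1512) (.node .nil (nat_lit 2157) (nat_lit 7280) (nat_lit 888)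
  .nil))))) (nat_lit 2160) (nat_lit 5584) (nat_lit 945) (.node (.node (.node (.node (.node (.node .nil
  (nat_lit 2163) (nat_lit 144) (nat_lit 3499) .nil) (nat_lit 2166) (nat_lit 17601) (nat_lit 1310) .nil)
  (nat_lit 2169) (nat_lit 14305) (nat_lit 760) (.node .nil (nat_lit 2175) (nat_lit 577) (nat_lit 1833) .nil))
  (nat_lit 2179) (nat_lit 1888) (nat_lit 639) (.node (.node .nil (nat_lit 2181) (nat_lit 4896) (nat_lit 3496)
  .nil) (nat_lit 2182) (nat_lit 1505) (nat_lit 1263) (.node .nil (nat_lit 2185) (nat_lit 10528) (nat_lit 3137)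
  .nil))) (nat_lit 2188) (nat_lit 6016) (nat_lit 3468) (.node (.node (.node (.node .nil (nat_lit 2194)
  (nat_lit 12112) (nat_lit 863) .nil) (nat_lit 2196) (nat_lit 3201) (nat_lit 1049) .nil) (nat_lit 2200)
  (nat_lit 14481) (nat_lit 3817) (.node .nil (nat_lit 2209) (nat_lit 13184) (nat_lit 649) .nil)) (nat_lit
  2212) (nat_lit 9088) (nat_lit 836) (.node (.node .nil (nat_lit 2221) (nat_lit 16609) (nat_lit 2580) .nil)
  (nat_lit 2224) (nat_lit 17632) (nat_lit 937) (.node .nil (nat_lit 2229) (nat_lit 11024) (nat_lit 612)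
  .nil)))) (nat_lit 2230) (nat_lit 2112) (nat_lit 3198) (.node (.node (.node (.node (.node .nil (nat_lit 2241)
  (nat_lit 11041) (nat_lit 612) .nil) (nat_lit 2244) (nat_lit 15552) (nat_lit 3456) .nil) (nat_lit 2253)
  (nat_lit 5537) (nat_lit 2196) (.node .nil (nat_lit 2256) (nat_lit 417) (nat_lit 3972) .nil)) (nat_lit 2261)
  (nat_lit 16017) (nat_lit 1859) (.node (.node .nil (nat_lit 2262) (nat_lit 7057) (nat_lit 2645) .nil)
  (nat_lit 2277) (nat_lit 7985) (nat_lit 2937) (.node .nil (nat_lit 2292) (nat_lit 1361) (nat_lit 1689)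
  .nil))) (nat_lit 2295) (nat_lit 1025) (nat_lit 2959) (.node (.node (.node .nil (nat_lit 2301) (nat_lit 8448)
  (nat_lit 616) .nil) (nat_lit 2313) (nat_lit 4208) (nat_lit 2129) (.node .nil (nat_lit 2314) (nat_lit 6528)
  (nat_lit 1611) .nil)) (nat_lit 2316) (nat_lit 6241) (nat_lit 1671) (.node (.node .nil (nat_lit 2321)
  (nat_lit 14465) (nat_lit 407) .nil) (nat_lit 2322) (nat_lit 12448) (nat_lit 1871) (.node .nil (nat_lit 2324)
  (nat_lit 13073) (nat_lit 2384) .nil)))))) (nat_lit 2328) (nat_lit 2289) (nat_lit 928) (.node (.node (.node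
  (.node (.node (.node (.node .nil (nat_lit 2331) (nat_lit 12208) (nat_lit 1899) .nil) (nat_lit 2337) (nat_lit
  1344) (nat_lit 1689) .nil) (nat_lit 2338) (nat_lit 3488) (nat_lit 2179) (.node .nil (nat_lit 2340) (nat_lit
  353) (nat_lit 1386) .nil)) (nat_lit 2344) (nat_lit 15248) (nat_lit 1725) (.node (.node .nil (nat_lit 2349)
  (nat_lit 7072) (nat_lit 1904) .nil) (nat_lit 2361) (nat_lit 10353) (nat_lit 634) (.node .nil (nat_lit 2369)
  (nat_lit 3361) (nat_lit 3885) .nil))) (nat_lit 2370) (nat_lit 13857) (nat_lit 571) (.node (.node (.node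
  (.node .nil (nat_lit 2372) (nat_lit 3825) (nat_lit 2026) .nil) (nat_lit 2376) (nat_lit 17041) (nat_lit 3354)
  .nil) (nat_lit 2381) (nat_lit 16417) (nat_lit 1501) (.node .nil (nat_lit 2384) (nat_lit 8801) (nat_lit 717)
  .nil)) (nat_lit 2387) (nat_lit 6608) (nat_lit 1895) (.node (.node .nil (nat_lit 2389) (nat_lit 13393)
  (nat_lit 2570) .nil) (nat_lit 2390) (nat_lit 3889) (nat_lit 1820) (.node .nil (nat_lit 2394) (nat_lit 10401)
  (nat_lit 3564) .nil)))) (nat_lit 2396) (nat_lit 5520) (nat_lit 2196) (.node (.node (.node (.node (.node .nil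
  (nat_lit 2399) (nat_lit 4817) (nat_lit 1323) .nil) (nat_lit 2400) (nat_lit 4736) (nat_lit 1713) .nil)
  (nat_lit 2405) (nat_lit 9936) (nat_lit 1916) (.node .nil (nat_lit 2409) (nat_lit 3009) (nat_lit 3264) .nil))
  (nat_lit 2412) (nat_lit 12912) (nat_lit 1880) (.node (.node .nil (nat_lit 2415) (nat_lit 16864) (nat_lit
  2370) .nil) (nat_lit 2417) (nat_lit 14176) (nat_lit 1937) (.node .nil (nat_lit 2420) (nat_lit 17008)
  (nat_lit 1628) .nil))) (nat_lit 2423) (nat_lit 801) (nat_lit 1734) (.node (.node (.node .nil (nat_lit 2427)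
  (nat_lit 15665) (nat_lit 3126) .nil) (nat_lit 2429) (nat_lit 10577) (nat_lit 2535) (.node .nil (nat_lit
  2433) (nat_lit 10448) (nat_lit 2117) .nil)) (nat_lit 2434) (nat_lit 9809) (nat_lit 4080) (.node (.node .nil
  (nat_lit 2436) (nat_lit 9616) (nat_lit 2440) .nil) (nat_lit 2440) (nat_lit 5953) (nat_lit 209) (.node .nil
  (nat_lit 2445) (nat_lit 8129) (nat_lit 2070) .nil))))) (nat_lit 2448) (nat_lit 13921) (nat_lit 3846) (.node
  (.node (.node (.node (.node (.node .nil (nat_lit 2454) (nat_lit 6353) (nat_lit 2775) .nil) (nat_lit 2457)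
  (nat_lit 4049) (nat_lit 3377) .nil) (nat_lit 2458) (nat_lit 11649) (nat_lit 39) (.node .nil (nat_lit 2460)
  (nat_lit 9728) (nat_lit 2188) .nil)) (nat_lit 2464) (nat_lit 6304) (nat_lit 1705) (.node (.node .nil
  (nat_lit 2469) (nat_lit 97) (nat_lit 3067) .nil) (nat_lit 2473) (nat_lit 17153) (nat_lit 267) (.node .nil
  (nat_lit 2476) (nat_lit 15968) (nat_lit 1856) .nil))) (nat_lit 2479) (nat_lit 14576) (nat_lit 2394) (.node
  (.node (.node (.node .nil (nat_lit 2484) (nat_lit 13520) (nat_lit 1604) .nil) (nat_lit 2496) (nat_lit 11536)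
  (nat_lit 2157) .nil) (nat_lit 2501) (nat_lit 10160) (nat_lit 2464) (.node .nil (nat_lit 2505) (nat_lit
  12513) (nat_lit 907) .nil)) (nat_lit 2508) (nat_lit 13553) (nat_lit 2892) (.node (.node .nil (nat_lit 2511)
  (nat_lit 1761) (nat_lit 1626) .nil) (nat_lit 2513) (nat_lit 15201) (nat_lit 3164) (.node .nil (nat_lit 2514)
  (nat_lit 3952) (nat_lit 1879) .nil)))) (nat_lit 2519) (nat_lit 12385) (nat_lit 2445) (.node (.node (.node
  (.node (.node .nil (nat_lit 2520) (nat_lit 5264) (nat_lit 2409) .nil) (nat_lit 2523) (nat_lit 7200) (nat_lit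
  1907) .nil) (nat_lit 2525) (nat_lit 3137) (nat_lit 1708) (.node .nil (nat_lit 2526) (nat_lit 3584) (nat_lit
  1726) .nil)) (nat_lit 2529) (nat_lit 5776) (nat_lit 1665) (.node (.node .nil (nat_lit 2532) (nat_lit 9264)
  (nat_lit 1868) .nil) (nat_lit 2535) (nat_lit 6592) (nat_lit 2390) (.node .nil (nat_lit 2549) (nat_lit 11728)
  (nat_lit 1644) .nil))) (nat_lit 2550) (nat_lit 9505) (nat_lit 2135) (.node (.node (.node .nil (nat_lit 2553)
  (nat_lit 3088) (nat_lit 1925) .nil) (nat_lit 2556) (nat_lit 2017) (nat_lit 1910) (.node .nil (nat_lit 2559)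
  (nat_lit 4721) (nat_lit 2656) .nil)) (nat_lit 2563) (nat_lit 7008) (nat_lit 2313) (.node (.node .nil
  (nat_lit 2565) (nat_lit 15376) (nat_lit 1758) .nil) (nat_lit 2566) (nat_lit 16305) (nat_lit 706) (.node .nil
  (nat_lit 2570) (nat_lit 9121) (nat_lit 2098) .nil)))))))
def ts1120_5 : T := (.node (.node (.node (.node (.node (.node (.node (.node .nil (nat_lit 2577) (nat_lit 4352)
  (nat_lit 1587) .nil) (nat_lit 2578) (nat_lit 7952) (nat_lit 2089) .nil) (nat_lit 2580) (nat_lit 13312)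
  (nat_lit 2046) (.node .nil (nat_lit 2583) (nat_lit 12289) (nat_lit 3874) .nil)) (nat_lit 2584) (nat_lit
  15824) (nat_lit 1559) (.node (.node .nil (nat_lit 2587) (nat_lit 0) (nat_lit 2587) .nil) (nat_lit 2590)
  (nat_lit 15440) (nat_lit 2496) (.node .nil (nat_lit 2593) (nat_lit 7776) (nat_lit 2559) .nil))) (nat_lit
  2594) (nat_lit 12849) (nat_lit 3039) (.node (.node (.node (.node .nil (nat_lit 2596) (nat_lit 3569) (nat_lit
  3598) .nil) (nat_lit 2599) (nat_lit 5984) (nat_lit 1576) .nil) (nat_lit 2600) (nat_lit 11408) (nat_lit 2523)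
  (.node .nil (nat_lit 2605) (nat_lit 8112) (nat_lit 2070) .nil)) (nat_lit 2606) (nat_lit 12640) (nat_lit
  1548) (.node (.node .nil (nat_lit 2611) (nat_lit 17552) (nat_lit 1733) .nil) (nat_lit 2613) (nat_lit 16032)
  (nat_lit 2322) (.node .nil (nat_lit 2614) (nat_lit 11953) (nat_lit 3832) .nil)))) (nat_lit 2625) (nat_lit
  4417) (nat_lit 1097) (.node (.node (.node (.node (.node .nil (nat_lit 2626) (nat_lit 2544) (nat_lit 2337)
  .nil) (nat_lit 2632) (nat_lit 3152) (nat_lit 1823) .nil) (nat_lit 2640) (nat_lit 16944) (nat_lit 1563)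
  (.node .nil (nat_lit 2645) (nat_lit 4240) (nat_lit 2006) .nil)) (nat_lit 2646) (nat_lit 16497) (nat_lit
  3192) (.node (.node .nil (nat_lit 2649) (nat_lit 17888) (nat_lit 1599) .nil) (nat_lit 2650) (nat_lit 752)
  (nat_lit 2085) (.node .nil (nat_lit 2656) (nat_lit 2641) (nat_lit 1427) .nil))) (nat_lit 2659) (nat_lit
  8065) (nat_lit 2181) (.node (.node (.node .nil (nat_lit 2661) (nat_lit 8976) (nat_lit 2074) .nil) (nat_lit
  2673) (nat_lit 321) (nat_lit 2163) (.node .nil (nat_lit 2679) (nat_lit 7153) (nat_lit 3490) .nil)) (nat_lit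
  2683) (nat_lit 9440) (nat_lit 1737) (.node (.node .nil (nat_lit 2689) (nat_lit 14065) (nat_lit 2434) .nil)
  (nat_lit 2690) (nat_lit 9313) (nat_lit 1172) (.node .nil (nat_lit 2692) (nat_lit 14657) (nat_lit 325)
  .nil))))) (nat_lit 2695) (nat_lit 2449) (nat_lit 3155) (.node (.node (.node (.node (.node (.node .nil
  (nat_lit 2696) (nat_lit 3297) (nat_lit 2997) .nil) (nat_lit 2701) (nat_lit 16848) (nat_lit 1738) .nil)
  (nat_lit 2702) (nat_lit 832) (nat_lit 2256) (.node .nil (nat_lit 2704) (nat_lit 6641) (nat_lit 1122) .nil))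
  (nat_lit 2707) (nat_lit 13056) (nat_lit 2073) (.node (.node .nil (nat_lit 2709) (nat_lit 13473) (nat_lit
  3237) .nil) (nat_lit 2714) (nat_lit 7329) (nat_lit 2883) (.node .nil (nat_lit 2716) (nat_lit 3808) (nat_lit
  2026) .nil))) (nat_lit 2720) (nat_lit 3248) (nat_lit 2511) (.node (.node (.node (.node .nil (nat_lit 2723)
  (nat_lit 14832) (nat_lit 2005) .nil) (nat_lit 2726) (nat_lit 15025) (nat_lit 3465) .nil) (nat_lit 2732)
  (nat_lit 7441) (nat_lit 680) (.node .nil (nat_lit 2735) (nat_lit 4096) (nat_lit 1596) .nil)) (nat_lit 2740)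
  (nat_lit 5968) (nat_lit 2338) (.node (.node .nil (nat_lit 2743) (nat_lit 3073) (nat_lit 105) .nil) (nat_lit
  2750) (nat_lit 3872) (nat_lit 1820) (.node .nil (nat_lit 2752) (nat_lit 17840) (nat_lit 1803) .nil))))
  (nat_lit 2755) (nat_lit 14849) (nat_lit 1998) (.node (.node (.node (.node (.node .nil (nat_lit 2757)
  (nat_lit 784) (nat_lit 1734) .nil) (nat_lit 2769) (nat_lit 8752) (nat_lit 1579) .nil) (nat_lit 2770)
  (nat_lit 2208) (nat_lit 2097) (.node .nil (nat_lit 2772) (nat_lit 4976) (nat_lit 2022) .nil)) (nat_lit 2775)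
  (nat_lit 3744) (nat_lit 2556) (.node (.node .nil (nat_lit 2776) (nat_lit 17264) (nat_lit 1551) .nil)
  (nat_lit 2779) (nat_lit 9248) (nat_lit 2069) (.node .nil (nat_lit 2782) (nat_lit 8640) (nat_lit 2520)
  .nil))) (nat_lit 2785) (nat_lit 8929) (nat_lit 2818) (.node (.node (.node .nil (nat_lit 2791) (nat_lit 6385)
  (nat_lit 3795) .nil) (nat_lit 2797) (nat_lit 4624) (nat_lit 2062) (.node .nil (nat_lit 2803) (nat_lit 13025)
  (nat_lit 3060) .nil)) (nat_lit 2805) (nat_lit 10480) (nat_lit 2314) (.node (.node .nil (nat_lit 2806)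
  (nat_lit 8961) (nat_lit 819) .nil) (nat_lit 2817) (nat_lit 8944) (nat_lit 819) (.node .nil (nat_lit 2818)
  (nat_lit 5441) (nat_lit 2525) .nil)))))) (nat_lit 2820) (nat_lit 12145) (nat_lit 3084) (.node (.node (.node
  (.node (.node (.node (.node .nil (nat_lit 2824) (nat_lit 17649) (nat_lit 1788) .nil) (nat_lit 2830) (nat_lit
  2992) (nat_lit 3264) .nil) (nat_lit 2842) (nat_lit 4688) (nat_lit 3117) (.node .nil (nat_lit 2860) (nat_lit
  15648) (nat_lit 3126) .nil)) (nat_lit 2871) (nat_lit 14817) (nat_lit 3360) (.node (.node .nil (nat_lit 2880)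
  (nat_lit 464) (nat_lit 795) .nil) (nat_lit 2883) (nat_lit 4401) (nat_lit 2695) (.node .nil (nat_lit 2889)
  (nat_lit 14320) (nat_lit 831) .nil))) (nat_lit 2890) (nat_lit 17088) (nat_lit 3365) (.node (.node (.node
  (.node .nil (nat_lit 2892) (nat_lit 9232) (nat_lit 754) .nil) (nat_lit 2897) (nat_lit 673) (nat_lit 2673)
  .nil) (nat_lit 2898) (nat_lit 6625) (nat_lit 1895) (.node .nil (nat_lit 2903) (nat_lit 10384) (nat_lit 3564)
  .nil)) (nat_lit 2904) (nat_lit 1441) (nat_lit 2118) (.node (.node .nil (nat_lit 2907) (nat_lit 1712)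
  (nat_lit 3077) .nil) (nat_lit 2913) (nat_lit 6545) (nat_lit 1611) (.node .nil (nat_lit 2931) (nat_lit 8784)
  (nat_lit 717) .nil)))) (nat_lit 2933) (nat_lit 17024) (nat_lit 3354) (.node (.node (.node (.node (.node .nil
  (nat_lit 2937) (nat_lit 4848) (nat_lit 3315) .nil) (nat_lit 2938) (nat_lit 6257) (nat_lit 1162) .nil)
  (nat_lit 2943) (nat_lit 4768) (nat_lit 804) (.node .nil (nat_lit 2944) (nat_lit 1473) (nat_lit 2650) .nil))
  (nat_lit 2947) (nat_lit 9281) (nat_lit 1868) (.node (.node .nil (nat_lit 2949) (nat_lit 17824) (nat_lit 718)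
  .nil) (nat_lit 2950) (nat_lit 1072) (nat_lit 3284) (.node .nil (nat_lit 2953) (nat_lit 6048) (nat_lit 807)
  .nil))) (nat_lit 2954) (nat_lit 8401) (nat_lit 1403) (.node (.node (.node .nil (nat_lit 2959) (nat_lit 513)
  (nat_lit 3516) .nil) (nat_lit 2962) (nat_lit 11761) (nat_lit 2732) (.node .nil (nat_lit 2964) (nat_lit
  16545) (nat_lit 3965) .nil)) (nat_lit 2967) (nat_lit 10305) (nat_lit 619) (.node (.node .nil (nat_lit 2968)
  (nat_lit 1040) (nat_lit 519) .nil) (nat_lit 2974) (nat_lit 17584) (nat_lit 3536) (.node .nil (nat_lit 2977)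
  (nat_lit 2785) (nat_lit 2944) .nil))))) (nat_lit 2980) (nat_lit 7744) (nat_lit 3106) (.node (.node (.node
  (.node (.node (.node .nil (nat_lit 2983) (nat_lit 6209) (nat_lit 3665) .nil) (nat_lit 2989) (nat_lit 16785)
  (nat_lit 368) .nil) (nat_lit 2990) (nat_lit 1952) (nat_lit 540) (.node .nil (nat_lit 2997) (nat_lit 1776)
  (nat_lit 3330) .nil)) (nat_lit 2998) (nat_lit 5601) (nat_lit 945) (.node (.node .nil (nat_lit 3002) (nat_lit
  5761) (nat_lit 2369) .nil) (nat_lit 3004) (nat_lit 3793) (nat_lit 3216) (.node .nil (nat_lit 3007) (nat_lit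
  14161) (nat_lit 390) .nil))) (nat_lit 3010) (nat_lit 4032) (nat_lit 3377) (.node (.node (.node (.node .nil
  (nat_lit 3012) (nat_lit 10849) (nat_lit 455) .nil) (nat_lit 3015) (nat_lit 6161) (nat_lit 3281) .nil)
  (nat_lit 3016) (nat_lit 16688) (nat_lit 783) (.node .nil (nat_lit 3019) (nat_lit 13889) (nat_lit 1569)
  .nil)) (nat_lit 3021) (nat_lit 16288) (nat_lit 706) (.node (.node .nil (nat_lit 3022) (nat_lit 13505)
  (nat_lit 3814) .nil) (nat_lit 3024) (nat_lit 16624) (nat_lit 523) (.node .nil (nat_lit 3027) (nat_lit 13424)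
  (nat_lit 3089) .nil)))) (nat_lit 3029) (nat_lit 17536) (nat_lit 966) (.node (.node (.node (.node (.node .nil
  (nat_lit 3030) (nat_lit 12736) (nat_lit 3548) .nil) (nat_lit 3033) (nat_lit 15953) (nat_lit 1751) .nil)
  (nat_lit 3036) (nat_lit 4577) (nat_lit 3600) (.node .nil (nat_lit 3039) (nat_lit 8561) (nat_lit 774) .nil))
  (nat_lit 3043) (nat_lit 14272) (nat_lit 989) (.node (.node .nil (nat_lit 3045) (nat_lit 8176) (nat_lit 3082)
  .nil) (nat_lit 3049) (nat_lit 7633) (nat_lit 2797) (.node .nil (nat_lit 3052) (nat_lit 11616) (nat_lit 3118)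
  .nil))) (nat_lit 3055) (nat_lit 13728) (nat_lit 564) (.node (.node (.node .nil (nat_lit 3057) (nat_lit 5616)
  (nat_lit 3303) .nil) (nat_lit 3058) (nat_lit 12688) (nat_lit 765) (.node .nil (nat_lit 3060) (nat_lit 8737)
  (nat_lit 3581) .nil)) (nat_lit 3064) (nat_lit 13632) (nat_lit 3267) (.node (.node .nil (nat_lit 3067)
  (nat_lit 33) (nat_lit 2587) .nil) (nat_lit 3069) (nat_lit 11105) (nat_lit 4042) (.node .nil (nat_lit 3070)
  (nat_lit 14384) (nat_lit 788) .nil)))))))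
def ts1120_6 : T := (.node (.node (.node (.node (.node (.node (.node (.node .nil (nat_lit 3077) (nat_lit 881)
  (nat_lit 1210) .nil) (nat_lit 3078) (nat_lit 16368) (nat_lit 1345) .nil) (nat_lit 3082) (nat_lit 4961)
  (nat_lit 860) (.node .nil (nat_lit 3084) (nat_lit 7856) (nat_lit 2943) .nil)) (nat_lit 3089) (nat_lit 9152)
  (nat_lit 2998) (.node (.node .nil (nat_lit 3092) (nat_lit 13744) (nat_lit 2683) .nil) (nat_lit 3096)
  (nat_lit 817) (nat_lit 938) (.node .nil (nat_lit 3105) (nat_lit 13680) (nat_lit 1146) .nil))) (nat_lit 3106)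
  (nat_lit 4704) (nat_lit 2656) (.node (.node (.node (.node .nil (nat_lit 3108) (nat_lit 11216) (nat_lit 1463)
  .nil) (nat_lit 3111) (nat_lit 17808) (nat_lit 2989) .nil) (nat_lit 3112) (nat_lit 3024) (nat_lit 1118)
  (.node .nil (nat_lit 3117) (nat_lit 2624) (nat_lit 1427) .nil)) (nat_lit 3118) (nat_lit 7345) (nat_lit 2625)
  (.node (.node .nil (nat_lit 3120) (nat_lit 17569) (nat_lit 71) .nil) (nat_lit 3123) (nat_lit 928) (nat_lit
  2880) (.node .nil (nat_lit 3126) (nat_lit 11921) (nat_lit 1430) .nil)))) (nat_lit 3129) (nat_lit 8480)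
  (nat_lit 1406) (.node (.node (.node (.node (.node .nil (nat_lit 3132) (nat_lit 5377) (nat_lit 2743) .nil)
  (nat_lit 3137) (nat_lit 6560) (nat_lit 2750) .nil) (nat_lit 3138) (nat_lit 2705) (nat_lit 561) (.node .nil
  (nat_lit 3140) (nat_lit 11281) (nat_lit 2016) .nil)) (nat_lit 3143) (nat_lit 11488) (nat_lit 1385) (.node
  (.node .nil (nat_lit 3144) (nat_lit 11584) (nat_lit 2714) .nil) (nat_lit 3149) (nat_lit 14560) (nat_lit
  2903) (.node .nil (nat_lit 3150) (nat_lit 14368) (nat_lit 1357) .nil))) (nat_lit 3152) (nat_lit 17441)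
  (nat_lit 711) (.node (.node (.node .nil (nat_lit 3155) (nat_lit 1281) (nat_lit 4049) .nil) (nat_lit 3158)
  (nat_lit 3425) (nat_lit 1814) (.node .nil (nat_lit 3161) (nat_lit 7489) (nat_lit 240) .nil)) (nat_lit 3164)
  (nat_lit 11312) (nat_lit 2679) (.node (.node .nil (nat_lit 3168) (nat_lit 8288) (nat_lit 1106) .nil)
  (nat_lit 3171) (nat_lit 5057) (nat_lit 1003) (.node .nil (nat_lit 3174) (nat_lit 17521) (nat_lit 2860)
  .nil))))) (nat_lit 3180) (nat_lit 5089) (nat_lit 1037) (.node (.node (.node (.node (.node (.node .nil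
  (nat_lit 3183) (nat_lit 4944) (nat_lit 2977) .nil) (nat_lit 3192) (nat_lit 13088) (nat_lit 1366) .nil)
  (nat_lit 3195) (nat_lit 8833) (nat_lit 3132) (.node .nil (nat_lit 3198) (nat_lit 1121) (nat_lit 1275) .nil))
  (nat_lit 3201) (nat_lit 14033) (nat_lit 748) (.node (.node .nil (nat_lit 3202) (nat_lit 13169) (nat_lit
  4090) .nil) (nat_lit 3208) (nat_lit 13648) (nat_lit 2690) (.node .nil (nat_lit 3216) (nat_lit 2032) (nat_lit
  2950) .nil))) (nat_lit 3232) (nat_lit 17745) (nat_lit 822) (.node (.node (.node (.node .nil (nat_lit 3235)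
  (nat_lit 16385) (nat_lit 3616) .nil) (nat_lit 3237) (nat_lit 9185) (nat_lit 3057) .nil) (nat_lit 3249)
  (nat_lit 336) (nat_lit 1386) (.node .nil (nat_lit 3252) (nat_lit 7104) (nat_lit 1191) .nil)) (nat_lit 3256)
  (nat_lit 9361) (nat_lit 3297) (.node (.node .nil (nat_lit 3264) (nat_lit 1616) (nat_lit 2702) .nil) (nat_lit
  3267) (nat_lit 9296) (nat_lit 1172) (.node .nil (nat_lit 3269) (nat_lit 7312) (nat_lit 2883) .nil))))
  (nat_lit 3281) (nat_lit 3616) (nat_lit 2990) (.node (.node (.node (.node (.node .nil (nat_lit 3284) (nat_lit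
  545) (nat_lit 1169) .nil) (nat_lit 3288) (nat_lit 12720) (nat_lit 2954) .nil) (nat_lit 3297) (nat_lit 5745)
  (nat_lit 108) (.node .nil (nat_lit 3303) (nat_lit 3280) (nat_lit 2997) .nil)) (nat_lit 3309) (nat_lit 2304)
  (nat_lit 1419) (.node (.node .nil (nat_lit 3312) (nat_lit 6033) (nat_lit 3468) .nil) (nat_lit 3315) (nat_lit
  2720) (nat_lit 2904) (.node .nil (nat_lit 3318) (nat_lit 15105) (nat_lit 2141) .nil))) (nat_lit 3321)
  (nat_lit 10433) (nat_lit 4027) (.node (.node (.node .nil (nat_lit 3324) (nat_lit 9953) (nat_lit 1916) .nil)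
  (nat_lit 3329) (nat_lit 16561) (nat_lit 4005) (.node .nil (nat_lit 3330) (nat_lit 913) (nat_lit 691) .nil))
  (nat_lit 3332) (nat_lit 16160) (nat_lit 3963) (.node (.node .nil (nat_lit 3336) (nat_lit 17456) (nat_lit
  3730) .nil) (nat_lit 3342) (nat_lit 14640) (nat_lit 325) (.node .nil (nat_lit 3344) (nat_lit 14721) (nat_lit
  581) .nil)))))) (nat_lit 3349) (nat_lit 13665) (nat_lit 2690) (.node (.node (.node (.node (.node (.node
  (.node .nil (nat_lit 3353) (nat_lit 16640) (nat_lit 4018) .nil) (nat_lit 3354) (nat_lit 14257) (nat_lit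
  3428) .nil) (nat_lit 3356) (nat_lit 14896) (nat_lit 3711) (.node .nil (nat_lit 3360) (nat_lit 10704)
  (nat_lit 90) .nil)) (nat_lit 3363) (nat_lit 16977) (nat_lit 873) (.node (.node .nil (nat_lit 3365) (nat_lit
  14448) (nat_lit 407) .nil) (nat_lit 3366) (nat_lit 3633) (nat_lit 2990) (.node .nil (nat_lit 3369) (nat_lit
  5008) (nat_lit 126) .nil))) (nat_lit 3370) (nat_lit 15568) (nat_lit 3684) (.node (.node (.node (.node .nil
  (nat_lit 3375) (nat_lit 6817) (nat_lit 2457) .nil) (nat_lit 3377) (nat_lit 2240) (nat_lit 378) .nil)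
  (nat_lit 3380) (nat_lit 2737) (nat_lit 2904) (.node .nil (nat_lit 3383) (nat_lit 4064) (nat_lit 3757) .nil))
  (nat_lit 3384) (nat_lit 16752) (nat_lit 350) (.node (.node .nil (nat_lit 3389) (nat_lit 17328) (nat_lit 147)
  .nil) (nat_lit 3404) (nat_lit 8080) (nat_lit 3959) (.node .nil (nat_lit 3409) (nat_lit 9857) (nat_lit 287)
  .nil)))) (nat_lit 3412) (nat_lit 8657) (nat_lit 2520) (.node (.node (.node (.node (.node .nil (nat_lit 3415)
  (nat_lit 3056) (nat_lit 105) .nil) (nat_lit 3416) (nat_lit 16336) (nat_lit 3994) .nil) (nat_lit 3421)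
  (nat_lit 15344) (nat_lit 3671) (.node .nil (nat_lit 3425) (nat_lit 17105) (nat_lit 3365) .nil)) (nat_lit
  3428) (nat_lit 10016) (nat_lit 447) (.node (.node .nil (nat_lit 3431) (nat_lit 2577) (nat_lit 2292) .nil)
  (nat_lit 3437) (nat_lit 8624) (nat_lit 411) (.node .nil (nat_lit 3438) (nat_lit 7392) (nat_lit 3969) .nil)))
  (nat_lit 3449) (nat_lit 8672) (nat_lit 374) (.node (.node (.node .nil (nat_lit 3452) (nat_lit 17617)
  (nat_lit 2613) .nil) (nat_lit 3455) (nat_lit 9024) (nat_lit 3745) (.node .nil (nat_lit 3456) (nat_lit 11696)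
  (nat_lit 3718) .nil)) (nat_lit 3459) (nat_lit 7761) (nat_lit 3106) (.node (.node .nil (nat_lit 3465)
  (nat_lit 11073) (nat_lit 771) .nil) (nat_lit 3466) (nat_lit 16928) (nat_lit 184) (.node .nil (nat_lit 3468)
  (nat_lit 3520) (nat_lit 3951) .nil))))) (nat_lit 3473) (nat_lit 1089) (nat_lit 3284) (.node (.node (.node
  (.node (.node (.node .nil (nat_lit 3474) (nat_lit 16768) (nat_lit 444) .nil) (nat_lit 3476) (nat_lit 7889)
  (nat_lit 1043) .nil) (nat_lit 3490) (nat_lit 4288) (nat_lit 3696) (.node .nil (nat_lit 3492) (nat_lit 7904)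
  (nat_lit 423) .nil)) (nat_lit 3495) (nat_lit 14864) (nat_lit 4029) (.node (.node .nil (nat_lit 3496)
  (nat_lit 2753) (nat_lit 729) .nil) (nat_lit 3499) (nat_lit 65) (nat_lit 4047) (.node .nil (nat_lit 3501)
  (nat_lit 5904) (nat_lit 387) .nil))) (nat_lit 3502) (nat_lit 9456) (nat_lit 3993) (.node (.node (.node
  (.node .nil (nat_lit 3504) (nat_lit 17169) (nat_lit 3342) .nil) (nat_lit 3509) (nat_lit 1824) (nat_lit 135)
  .nil) (nat_lit 3513) (nat_lit 6128) (nat_lit 366) (.node .nil (nat_lit 3514) (nat_lit 16128) (nat_lit 3956)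
  .nil)) (nat_lit 3516) (nat_lit 240) (nat_lit 163) (.node (.node .nil (nat_lit 3521) (nat_lit 1313) (nat_lit
  622) .nil) (nat_lit 3536) (nat_lit 15888) (nat_lit 3982) (.node .nil (nat_lit 3541) (nat_lit 15329) (nat_lit
  1865) .nil)))) (nat_lit 3545) (nat_lit 9873) (nat_lit 3513) (.node (.node (.node (.node (.node .nil (nat_lit
  3546) (nat_lit 11888) (nat_lit 432) .nil) (nat_lit 3548) (nat_lit 8497) (nat_lit 1406) .nil) (nat_lit 3555)
  (nat_lit 14417) (nat_lit 3746) (.node .nil (nat_lit 3557) (nat_lit 10976) (nat_lit 399) .nil)) (nat_lit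
  3561) (nat_lit 5921) (nat_lit 387) (.node (.node .nil (nat_lit 3564) (nat_lit 6481) (nat_lit 2372) .nil)
  (nat_lit 3567) (nat_lit 8305) (nat_lit 1106) (.node .nil (nat_lit 3569) (nat_lit 4193) (nat_lit 3668)
  .nil))) (nat_lit 3572) (nat_lit 17072) (nat_lit 175) (.node (.node (.node .nil (nat_lit 3575) (nat_lit 6848)
  (nat_lit 3765) .nil) (nat_lit 3576) (nat_lit 7680) (nat_lit 326) (.node .nil (nat_lit 3581) (nat_lit 5313)
  (nat_lit 1188) .nil)) (nat_lit 3586) (nat_lit 11088) (nat_lit 4042) (.node (.node .nil (nat_lit 3588)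
  (nat_lit 8576) (nat_lit 29) .nil) (nat_lit 3598) (nat_lit 1920) (nat_lit 3619) (.node .nil (nat_lit 3600)
  (nat_lit 2561) (nat_lit 2337) .nil)))))))
def ts1120_7 : T := (.node (.node (.node (.node (.node (.node (.node (.node .nil (nat_lit 3606) (nat_lit 9745)
  (nat_lit 3312) .nil) (nat_lit 3616) (nat_lit 13009) (nat_lit 1307) .nil) (nat_lit 3619) (nat_lit 993)
  (nat_lit 2061) (.node .nil (nat_lit 3621) (nat_lit 12753) (nat_lit 3548) .nil)) (nat_lit 3628) (nat_lit
  5072) (nat_lit 3797) (.node (.node .nil (nat_lit 3631) (nat_lit 12705) (nat_lit 765) .nil) (nat_lit 3636)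
  (nat_lit 1264) (nat_lit 4049) (.node .nil (nat_lit 3639) (nat_lit 12784) (nat_lit 459) .nil))) (nat_lit
  3645) (nat_lit 15728) (nat_lit 4085) (.node (.node (.node (.node .nil (nat_lit 3648) (nat_lit 14432)
  (nat_lit 504) .nil) (nat_lit 3651) (nat_lit 17664) (nat_lit 4066) .nil) (nat_lit 3654) (nat_lit 12625)
  (nat_lit 586) (.node .nil (nat_lit 3665) (nat_lit 3648) (nat_lit 216) .nil)) (nat_lit 3666) (nat_lit 289)
  (nat_lit 1901) (.node (.node .nil (nat_lit 3668) (nat_lit 2336) (nat_lit 277) .nil) (nat_lit 3671) (nat_lit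
  11441) (nat_lit 4010) (.node .nil (nat_lit 3672) (nat_lit 15873) (nat_lit 2124) .nil)))) (nat_lit 3675)
  (nat_lit 13488) (nat_lit 3814) (.node (.node (.node (.node (.node .nil (nat_lit 3677) (nat_lit 6065)
  (nat_lit 139) .nil) (nat_lit 3681) (nat_lit 13825) (nat_lit 1601) .nil) (nat_lit 3682) (nat_lit 12000)
  (nat_lit 270) (.node .nil (nat_lit 3684) (nat_lit 11713) (nat_lit 3718) .nil)) (nat_lit 3687) (nat_lit
  11361) (nat_lit 912) (.node (.node .nil (nat_lit 3691) (nat_lit 7825) (nat_lit 2400) .nil) (nat_lit 3693)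
  (nat_lit 705) (nat_lit 3249) (.node .nil (nat_lit 3694) (nat_lit 7921) (nat_lit 423) .nil))) (nat_lit 3696)
  (nat_lit 2400) (nat_lit 3636) (.node (.node (.node .nil (nat_lit 3699) (nat_lit 6896) (nat_lit 46) .nil)
  (nat_lit 3702) (nat_lit 4305) (nat_lit 3696) (.node .nil (nat_lit 3705) (nat_lit 4560) (nat_lit 3600) .nil))
  (nat_lit 3711) (nat_lit 10832) (nat_lit 455) (.node (.node .nil (nat_lit 3712) (nat_lit 12480) (nat_lit 480)
  .nil) (nat_lit 3715) (nat_lit 3233) (nat_lit 1862) (.node .nil (nat_lit 3718) (nat_lit 7409) (nat_lit 3969)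
  .nil))))) (nat_lit 3730) (nat_lit 15536) (nat_lit 3802) (.node (.node (.node (.node (.node (.node .nil
  (nat_lit 3732) (nat_lit 8097) (nat_lit 3959) .nil) (nat_lit 3736) (nat_lit 13984) (nat_lit 228) .nil)
  (nat_lit 3745) (nat_lit 5504) (nat_lit 3852) (.node .nil (nat_lit 3746) (nat_lit 10208) (nat_lit 278) .nil))
  (nat_lit 3748) (nat_lit 14672) (nat_lit 3777) (.node (.node .nil (nat_lit 3751) (nat_lit 16721) (nat_lit
  3675) .nil) (nat_lit 3755) (nat_lit 8512) (nat_lit 306) (.node .nil (nat_lit 3757) (nat_lit 2257) (nat_lit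
  378) .nil))) (nat_lit 3758) (nat_lit 8369) (nat_lit 3180) (.node (.node (.node (.node .nil (nat_lit 3760)
  (nat_lit 4449) (nat_lit 1642) .nil) (nat_lit 3765) (nat_lit 4081) (nat_lit 3757) .nil) (nat_lit 3766)
  (nat_lit 17424) (nat_lit 507) (.node .nil (nat_lit 3777) (nat_lit 10497) (nat_lit 2314) .nil)) (nat_lit
  3778) (nat_lit 6736) (nat_lit 4050) (.node (.node .nil (nat_lit 3787) (nat_lit 8416) (nat_lit 4086) .nil)
  (nat_lit 3795) (nat_lit 3761) (nat_lit 2556) (.node .nil (nat_lit 3797) (nat_lit 2880) (nat_lit 293)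
  .nil)))) (nat_lit 3798) (nat_lit 7377) (nat_lit 315) (.node (.node (.node (.node (.node .nil (nat_lit 3801)
  (nat_lit 7456) (nat_lit 204) .nil) (nat_lit 3802) (nat_lit 11664) (nat_lit 3798) .nil) (nat_lit 3808)
  (nat_lit 849) (nat_lit 2256) (.node .nil (nat_lit 3813) (nat_lit 4017) (nat_lit 23) .nil)) (nat_lit 3814)
  (nat_lit 9200) (nat_lit 243) (.node (.node .nil (nat_lit 3817) (nat_lit 10273) (nat_lit 2791) .nil) (nat_lit
  3823) (nat_lit 6721) (nat_lit 3894) (.node .nil (nat_lit 3825) (nat_lit 12864) (nat_lit 3588) .nil)))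
  (nat_lit 3826) (nat_lit 10224) (nat_lit 30) (.node (.node (.node .nil (nat_lit 3828) (nat_lit 10929)
  (nat_lit 3575) .nil) (nat_lit 3831) (nat_lit 10784) (nat_lit 467) (.node .nil (nat_lit 3832) (nat_lit 7601)
  (nat_lit 1799) .nil)) (nat_lit 3835) (nat_lit 960) (nat_lit 58) (.node (.node .nil (nat_lit 3837) (nat_lit
  5681) (nat_lit 4032) .nil) (nat_lit 3840) (nat_lit 10896) (nat_lit 1520) (.node .nil (nat_lit 3846) (nat_lit
  9664) (nat_lit 2599) .nil)))))) (nat_lit 3850) (nat_lit 16736) (nat_lit 3022) (.node (.node (.node (.node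
  (.node (.node (.node .nil (nat_lit 3852) (nat_lit 3184) (nat_lit 1049) .nil) (nat_lit 3855) (nat_lit 11136)
  (nat_lit 2563) .nil) (nat_lit 3860) (nat_lit 12225) (nat_lit 574) (.node .nil (nat_lit 3874) (nat_lit 8016)
  (nat_lit 1286) .nil)) (nat_lit 3876) (nat_lit 12881) (nat_lit 3588) (.node (.node .nil (nat_lit 3879)
  (nat_lit 15904) (nat_lit 1227) .nil) (nat_lit 3885) (nat_lit 1809) (nat_lit 3123) (.node .nil (nat_lit 3886)
  (nat_lit 1488) (nat_lit 1263) .nil))) (nat_lit 3893) (nat_lit 5889) (nat_lit 996) (.node (.node (.node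
  (.node .nil (nat_lit 3894) (nat_lit 3984) (nat_lit 1515) .nil) (nat_lit 3897) (nat_lit 16465) (nat_lit 2324)
  .nil) (nat_lit 3900) (nat_lit 10801) (nat_lit 467) (.node .nil (nat_lit 3903) (nat_lit 11569) (nat_lit 3269)
  .nil)) (nat_lit 3906) (nat_lit 6784) (nat_lit 3010) (.node (.node .nil (nat_lit 3929) (nat_lit 6272)
  (nat_lit 1244) .nil) (nat_lit 3951) (nat_lit 1905) (nat_lit 639) (.node .nil (nat_lit 3953) (nat_lit 16592)
  (nat_lit 2580) .nil)))) (nat_lit 3956) (nat_lit 12545) (nat_lit 190) (.node (.node (.node (.node (.node .nil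
  (nat_lit 3959) (nat_lit 4913) (nat_lit 3496) .nil) (nat_lit 3963) (nat_lit 12576) (nat_lit 1066) .nil)
  (nat_lit 3965) (nat_lit 13201) (nat_lit 649) (.node .nil (nat_lit 3969) (nat_lit 4480) (nat_lit 1472) .nil))
  (nat_lit 3972) (nat_lit 193) (nat_lit 335) (.node (.node .nil (nat_lit 3975) (nat_lit 11825) (nat_lit 3161)
  .nil) (nat_lit 3976) (nat_lit 10128) (nat_lit 1508) (.node .nil (nat_lit 3979) (nat_lit 6321) (nat_lit 1705)
  .nil))) (nat_lit 3981) (nat_lit 7297) (nat_lit 888) (.node (.node (.node .nil (nat_lit 3982) (nat_lit 12193)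
  (nat_lit 3694) .nil) (nat_lit 3984) (nat_lit 16513) (nat_lit 1128) (.node .nil (nat_lit 3990) (nat_lit
  13377) (nat_lit 441) .nil)) (nat_lit 3993) (nat_lit 5840) (nat_lit 1220) (.node (.node .nil (nat_lit 3994)
  (nat_lit 12928) (nat_lit 2782) .nil) (nat_lit 3996) (nat_lit 15280) (nat_lit 1289) (.node .nil (nat_lit
  4000) (nat_lit 17505) (nat_lit 2130) .nil))))) (nat_lit 4003) (nat_lit 12833) (nat_lit 1348) (.node (.node
  (.node (.node (.node (.node .nil (nat_lit 4005) (nat_lit 13216) (nat_lit 2785) .nil) (nat_lit 4006) (nat_lit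
  1104) (nat_lit 1275) .nil) (nat_lit 4009) (nat_lit 13281) (nat_lit 2661) (.node .nil (nat_lit 4010) (nat_lit
  7217) (nat_lit 1907) .nil)) (nat_lit 4012) (nat_lit 1520) (nat_lit 2757) (.node (.node .nil (nat_lit 4017)
  (nat_lit 15984) (nat_lit 2572) .nil) (nat_lit 4018) (nat_lit 13361) (nat_lit 2212) (.node .nil (nat_lit
  4023) (nat_lit 17121) (nat_lit 99) .nil))) (nat_lit 4024) (nat_lit 3105) (nat_lit 1925) (.node (.node (.node
  (.node .nil (nat_lit 4027) (nat_lit 6496) (nat_lit 1074) .nil) (nat_lit 4029) (nat_lit 10817) (nat_lit 3906)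
  .nil) (nat_lit 4030) (nat_lit 6656) (nat_lit 1535) (.node .nil (nat_lit 4032) (nat_lit 3312) (nat_lit 1512)
  .nil)) (nat_lit 4035) (nat_lit 13409) (nat_lit 1988) (.node (.node .nil (nat_lit 4041) (nat_lit 12257)
  (nat_lit 2277) .nil) (nat_lit 4042) (nat_lit 6961) (nat_lit 1523) (.node .nil (nat_lit 4047) (nat_lit 16)
  (nat_lit 2587) .nil)))) (nat_lit 4049) (nat_lit 641) (nat_lit 1842) (.node (.node (.node (.node (.node .nil
  (nat_lit 4050) (nat_lit 4000) (nat_lit 2770) .nil) (nat_lit 4052) (nat_lit 13344) (nat_lit 1285) .nil)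
  (nat_lit 4056) (nat_lit 9824) (nat_lit 1260) (.node .nil (nat_lit 4059) (nat_lit 13248) (nat_lit 2806)
  .nil)) (nat_lit 4065) (nat_lit 15840) (nat_lit 2820) (.node (.node .nil (nat_lit 4066) (nat_lit 16145)
  (nat_lit 1566) .nil) (nat_lit 4071) (nat_lit 11777) (nat_lit 3801) (.node .nil (nat_lit 4075) (nat_lit 8433)
  (nat_lit 1065) .nil))) (nat_lit 4077) (nat_lit 7616) (nat_lit 2797) (.node (.node (.node .nil (nat_lit 4080)
  (nat_lit 6080) (nat_lit 2596) .nil) (nat_lit 4083) (nat_lit 7648) (nat_lit 1086) (.node .nil (nat_lit 4085)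
  (nat_lit 11968) (nat_lit 3049) .nil)) (nat_lit 4086) (nat_lit 5121) (nat_lit 825) (.node (.node .nil
  (nat_lit 4090) (nat_lit 8896) (nat_lit 1050) .nil) (nat_lit 4092) (nat_lit 1601) (nat_lit 3096) (.node .nil
  (nat_lit 4095) (nat_lit 12017) (nat_lit 270) .nil)))))))
def ts1120 : T := (.node (.node (.node ts1120_0 (nat_lit 540) (nat_lit 1008) (nat_lit 2959) ts1120_1) (nat_lit
  1031) (nat_lit 16448) (nat_lit 2324) (.node ts1120_2 (nat_lit 1551) (nat_lit 14944) (nat_lit 630) ts1120_3))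
  (nat_lit 2059) (nat_lit 2929) (nat_lit 142) (.node (.node ts1120_4 (nat_lit 2572) (nat_lit 12400) (nat_lit
  1786) ts1120_5) (nat_lit 3075) (nat_lit 11873) (nat_lit 363) (.node ts1120_6 (nat_lit 3605) (nat_lit 17856)
  (nat_lit 317) ts1120_7)))
theorem ts1120_chk : band (orbChk apS (gensOf cY) 2587 (4096) ts1120) (Nat.beq ts1120.size 1120) = true := by
  decide +kernel
theorem ts1120_card : (orbit (stabilizer M24 Y0) (sext (unmask 2097921))).ncard = 1120 :=
  orbit_ncard_of_chk acX (sext_rep (t := 2097921) (k := 2587) (by decide +kernel)).1 cY_chk stab_Y0 (sext_rep (t := 2097921) (k := 2587) (by decide +kernel)).2 ts1120_chk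

noncomputable def f (Y : Finset GolayPt) (S : Finset (Finset GolayPt)) : ℕ :=
  (S.filter fun t => (t ∩ Y).Nonempty).card

theorem f_smul (g : M24) (Y : Finset GolayPt) (S : Finset (Finset GolayPt)) :
    f (g • Y) (g • S) = f Y S := by
  rw [f, f, ← card_smul_finset g (S.filter _)]
  congr 1
  ext t
  simp only [mem_filter, mem_smul_finset]
  constructor
  · rintro ⟨⟨u, hu, rfl⟩, h⟩
    rw [← smul_finset_inter, smul_finset_nonempty] at h
    exact ⟨u, ⟨hu, h⟩, rfl⟩
  · rintro ⟨u, ⟨hu, h⟩, rfl⟩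
    exact ⟨⟨u, hu, rfl⟩, by rwa [← smul_finset_inter, smul_finset_nonempty]⟩

theorem meets (t : Finset GolayPt) :
    (t ∩ Y0).Nonempty ↔ (!Nat.beq (Nat.land (mask t) 8388611) 0) = true := by
  rw [← not_disjoint_iff_nonempty_inter, disjoint_iff_mask, mask_Y0, Bool.not_eq_true',
    ← Bool.not_eq_true, Nat.beq_eq]

theorem val1 : f Y0 (sext (unmask 8388615)) = 1 := by
  rw [f, (sextet_eq_list (sext_rep (t := 8388615) (k := 3489) (by decide +kernel)).1 (l := [147496, 268544, 1082880, 2621632, 4268048, 8388615])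
    (sext_rep (t := 8388615) (k := 3489) (by decide +kernel)).2 (by decide +kernel)).2 _ (fun m => !Nat.beq (Nat.land m 8388611) 0) meets]
  decide +kernel

theorem val2 : f Y0 (sext (unmask 147489)) = 2 := by
  rw [f, (sextet_eq_list (sext_rep (t := 147489) (k := 1847) (by decide +kernel)).1 (l := [147489, 294992, 537088, 2165760, 5243264, 8388622])
    (sext_rep (t := 147489) (k := 1847) (by decide +kernel)).2 (by decide +kernel)).2 _ (fun m => !Nat.beq (Nat.land m 8388611) 0) meets]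
  decide +kernel

theorem val3 : f Y0 (sext (unmask 2097921)) = 3 := by
  rw [f, (sextet_eq_list (sext_rep (t := 2097921) (k := 2587) (by decide +kernel)).1 (l := [294978, 589984, 1074176, 2097921, 4331520, 8388636])
    (sext_rep (t := 2097921) (k := 2587) (by decide +kernel)).2 (by decide +kernel)).2 _ (fun m => !Nat.beq (Nat.land m 8388611) 0) meets]
  decide +kernel

theorem f_orbit {X S : Finset (Finset GolayPt)} (h : S ∈ orbit (stabilizer M24 Y0) X) :
    f Y0 S = f Y0 X := by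
  obtain ⟨⟨g, hg⟩, rfl⟩ := h
  change f Y0 (g • X) = _
  conv_lhs => rw [← mem_stabilizer_iff.1 hg]
  exact f_smul g Y0 X

theorem cover {S : Finset (Finset GolayPt)} (hS : S ∈ sextets) :
    S ∈ orbit (stabilizer M24 Y0) (sext (unmask 8388615)) ∨ S ∈ orbit (stabilizer M24 Y0) (sext (unmask 147489)) ∨
      S ∈ orbit (stabilizer M24 Y0) (sext (unmask 2097921)) := by
  have s₁ : orbit (stabilizer M24 Y0) (sext (unmask 8388615)) ⊆ sextets := by
    rintro _ ⟨g, rfl⟩; exact acX.smul_mem g.1 (sext_rep (t := 8388615) (k := 3489) (by decide +kernel)).1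
  have s₂ : orbit (stabilizer M24 Y0) (sext (unmask 147489)) ⊆ sextets := by
    rintro _ ⟨g, rfl⟩; exact acX.smul_mem g.1 (sext_rep (t := 147489) (k := 1847) (by decide +kernel)).1
  have s₃ : orbit (stabilizer M24 Y0) (sext (unmask 2097921)) ⊆ sextets := by
    rintro _ ⟨g, rfl⟩; exact acX.smul_mem g.1 (sext_rep (t := 2097921) (k := 2587) (by decide +kernel)).1
  have := Set.eq_of_subset_of_ncard_le (Set.union_subset (Set.union_subset s₁ s₂) s₃) (by
    rw [Set.ncard_union_eq (Set.disjoint_union_left.2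
      ⟨orbit_disjoint_of_ncard (by rw [ts21_card, ts1120_card]; norm_num),
       orbit_disjoint_of_ncard (by rw [ts630_card, ts1120_card]; norm_num)⟩),
      Set.ncard_union_eq (orbit_disjoint_of_ncard (by rw [ts21_card, ts630_card]; norm_num)),
      ts21_card, ts630_card, ts1120_card, ncard_sextets]) (Set.toFinite _)
  rw [← this] at hS
  simpa [or_assoc] using hS

theorem level {X : Finset (Finset GolayPt)} (hX : X ∈ sextets) :
    {S | S ∈ sextets ∧ f Y0 S = f Y0 X} = orbit (stabilizer M24 Y0) X := by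
  ext S
  constructor
  · rintro ⟨hS, e⟩
    rcases cover hS with h | h | h <;> rcases cover hX with h' | h' | h' <;>
      first
      | (rw [orbit_eq_iff.2 h']; exact h)
      | (rw [f_orbit h, f_orbit h'] at e; simp only [val1, val2, val3] at e; omega)
  · intro h
    refine ⟨?_, f_orbit h⟩
    obtain ⟨g, rfl⟩ := h
    exact acX.smul_mem g.1 hX

theorem card_level (g : M24) (n : ℕ) : {S | S ∈ sextets ∧ f (g • Y0) S = n}.ncard =
    {S | S ∈ sextets ∧ f Y0 S = n}.ncard := by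
  rw [← Set.ncard_smul_set g {S | S ∈ sextets ∧ f Y0 S = n}]
  congr 1
  ext S
  rw [Set.mem_smul_set_iff_inv_smul_mem]
  simp only [Set.mem_ofPred_eq]
  rw [← f_smul g Y0, smul_inv_smul]
  refine and_congr_left fun _ => ⟨fun h => acX.smul_mem _ h, fun h => ?_⟩
  simpa using acX.smul_mem g h


/-- Let Y be a set of 3 of the 24 points. The sextets of the length-24 code whose tetrads meeting Y number 1, 2 or 3 are respectively 21, 630 and 1120 in number, and two sextets with the same number of tetrads meeting Y are conjugate under the setwise stabiliser of Y in the code's group. -/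
theorem result (Y : Finset Cfsg.GolayPt) (hY : Y.card = 3) : {S : Finset (Finset Cfsg.GolayPt) | S ∈ Cfsg.sextets ∧ (S.filter fun t => (t ∩ Y).Nonempty).card = 1}.ncard = 21 ∧ {S : Finset (Finset Cfsg.GolayPt) | S ∈ Cfsg.sextets ∧ (S.filter fun t => (t ∩ Y).Nonempty).card = 2}.ncard = 630 ∧ {S : Finset (Finset Cfsg.GolayPt) | S ∈ Cfsg.sextets ∧ (S.filter fun t => (t ∩ Y).Nonempty).card = 3}.ncard = 1120 ∧ ∀ S S' : Finset (Finset Cfsg.GolayPt), S ∈ Cfsg.sextets → S' ∈ Cfsg.sextets → (S.filter fun t => (t ∩ Y).Nonempty).card = (S'.filter fun t => (t ∩ Y).Nonempty).card → ∃ g ∈ Cfsg.M24, g • Y = Y ∧ g • S = S' := by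
  obtain ⟨g, hg, rfl⟩ := trans_sets (card_Y0.trans hY.symm) (by rw [card_Y0]; norm_num)
  set k : M24 := ⟨g, hg⟩
  refine ⟨(card_level k 1).trans ?_, (card_level k 2).trans ?_, (card_level k 3).trans ?_,
    fun S S' hS hS' e => ?_⟩
  · rw [← val1, level (sext_rep (t := 8388615) (k := 3489) (by decide +kernel)).1, ts21_card]
  · rw [← val2, level (sext_rep (t := 147489) (k := 1847) (by decide +kernel)).1, ts630_card]
  · rw [← val3, level (sext_rep (t := 2097921) (k := 2587) (by decide +kernel)).1, ts1120_card]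
  · change f (k • Y0) S = f (k • Y0) S' at e
    have : k⁻¹ • S' ∈ orbit (stabilizer M24 Y0) (k⁻¹ • S) := by
      rw [← level (acX.smul_mem _ hS)]
      refine ⟨acX.smul_mem _ hS', ?_⟩
      rw [← f_smul k, ← f_smul k Y0 (k⁻¹ • S), smul_inv_smul, smul_inv_smul, e]
    obtain ⟨⟨h, hh⟩, e'⟩ := this
    change h • k⁻¹ • S = _ at e'
    refine ⟨(k * h * k⁻¹ : M24), Subtype.property _, ?_, ?_⟩
    · change (k * h * k⁻¹) • k • Y0 = k • Y0
      rw [mul_smul, mul_smul, inv_smul_smul, mem_stabilizer_iff.1 hh]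
    · rw [← M24_smul_fam, mul_smul, mul_smul, e', smul_inv_smul]

end Cfsg.Agent.S5616
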