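import Cfsg.Statements.S5617
import Cfsg.Agent.M24.Reps

set_option autoImplicit false
open scoped Pointwise
open Cfsg

namespace Cfsg.Agent.S5617

open Cfsg.Agent.M24 Finset MulAction
open scoped symmDiff Pointwise

def ts396_0 : T := (.node (.node (.node (.node (.node (.node (.node (.node .nil (nat_lit 15) (nat_lit 5584)
  (nat_lit 581) .nil) (nat_lit 30) (nat_lit 6080) (nat_lit 2384) (.node .nil (nat_lit 43) (nat_lit 4129)
  (nat_lit 670) .nil)) (nat_lit 53) (nat_lit 977) (nat_lit 1235) (.node (.node .nil (nat_lit 54) (nat_lit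
  5121) (nat_lit 3499) .nil) (nat_lit 57) (nat_lit 513) (nat_lit 3155) .nil)) (nat_lit 78) (nat_lit 6321)
  (nat_lit 723) (.node (.node (.node .nil (nat_lit 106) (nat_lit 2753) (nat_lit 437) .nil) (nat_lit 116)
  (nat_lit 1041) (nat_lit 2040) .nil) (nat_lit 120) (nat_lit 6305) (nat_lit 3960) (.node (.node .nil (nat_lit
  135) (nat_lit 1937) (nat_lit 149) .nil) (nat_lit 149) (nat_lit 1056) (nat_lit 212) .nil))) (nat_lit 153)
  (nat_lit 3168) (nat_lit 3235) (.node (.node (.node (.node .nil (nat_lit 154) (nat_lit 881) (nat_lit 4000)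
  .nil) (nat_lit 163) (nat_lit 2080) (nat_lit 3941) .nil) (nat_lit 175) (nat_lit 5344) (nat_lit 786) (.node
  (.node .nil (nat_lit 178) (nat_lit 5264) (nat_lit 1136) .nil) (nat_lit 189) (nat_lit 3201) (nat_lit 1470)
  .nil)) (nat_lit 190) (nat_lit 2881) (nat_lit 3270) (.node (.node (.node .nil (nat_lit 198) (nat_lit 2289)
  (nat_lit 958) .nil) (nat_lit 212) (nat_lit 545) (nat_lit 3443) .nil) (nat_lit 215) (nat_lit 3856) (nat_lit
  3818) (.node (.node .nil (nat_lit 216) (nat_lit 2112) (nat_lit 3247) .nil) (nat_lit 226) (nat_lit 3409)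
  (nat_lit 216) .nil)))) (nat_lit 238) (nat_lit 4816) (nat_lit 798) (.node (.node (.node (.node (.node .nil
  (nat_lit 252) (nat_lit 2001) (nat_lit 1685) .nil) (nat_lit 267) (nat_lit 2161) (nat_lit 2520) (.node .nil
  (nat_lit 282) (nat_lit 3712) (nat_lit 3222) .nil)) (nat_lit 305) (nat_lit 2257) (nat_lit 3315) (.node (.node
  .nil (nat_lit 306) (nat_lit 176) (nat_lit 2679) .nil) (nat_lit 330) (nat_lit 1728) (nat_lit 1935) .nil))
  (nat_lit 368) (nat_lit 6017) (nat_lit 4056) (.node (.node (.node .nil (nat_lit 387) (nat_lit 1792) (nat_lit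
  53) .nil) (nat_lit 399) (nat_lit 1809) (nat_lit 53) .nil) (nat_lit 401) (nat_lit 1713) (nat_lit 1656) (.node
  (.node .nil (nat_lit 427) (nat_lit 4352) (nat_lit 1748) .nil) (nat_lit 437) (nat_lit 1601) (nat_lit 1310)
  .nil))) (nat_lit 441) (nat_lit 3056) (nat_lit 1011) (.node (.node (.node (.node .nil (nat_lit 442) (nat_lit
  2593) (nat_lit 1254) .nil) (nat_lit 450) (nat_lit 992) (nat_lit 57) .nil) (nat_lit 462) (nat_lit 4833)
  (nat_lit 798) (.node (.node .nil (nat_lit 464) (nat_lit 1584) (nat_lit 1310) .nil) (nat_lit 467) (nat_lit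
  1505) (nat_lit 3115) .nil)) (nat_lit 479) (nat_lit 16) (nat_lit 1883) (.node (.node (.node .nil (nat_lit
  490) (nat_lit 5312) (nat_lit 1752) .nil) (nat_lit 500) (nat_lit 5088) (nat_lit 3976) .nil) (nat_lit 503)
  (nat_lit 2817) (nat_lit 3917) (.node (.node .nil (nat_lit 504) (nat_lit 5761) (nat_lit 3765) .nil) (nat_lit
  519) (nat_lit 5185) (nat_lit 2661) .nil))))) (nat_lit 534) (nat_lit 112) (nat_lit 2322) (.node (.node (.node
  (.node (.node (.node .nil (nat_lit 547) (nat_lit 6224) (nat_lit 2193) .nil) (nat_lit 559) (nat_lit 2576)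
  (nat_lit 1254) (.node .nil (nat_lit 561) (nat_lit 5985) (nat_lit 1998) .nil)) (nat_lit 581) (nat_lit 4224)
  (nat_lit 3129) (.node (.node .nil (nat_lit 585) (nat_lit 5825) (nat_lit 2230) .nil) (nat_lit 586) (nat_lit
  4176) (nat_lit 3708) .nil)) (nat_lit 596) (nat_lit 2977) (nat_lit 1923) (.node (.node (.node .nil (nat_lit
  599) (nat_lit 2656) (nat_lit 2334) .nil) (nat_lit 600) (nat_lit 3776) (nat_lit 2907) .nil) (nat_lit 609)
  (nat_lit 4785) (nat_lit 848) (.node (.node .nil (nat_lit 657) (nat_lit 3680) (nat_lit 3297) .nil) (nat_lit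
  658) (nat_lit 2225) (nat_lit 1085) .nil))) (nat_lit 670) (nat_lit 2704) (nat_lit 3748) (.node (.node (.node
  (.node .nil (nat_lit 679) (nat_lit 4768) (nat_lit 848) .nil) (nat_lit 693) (nat_lit 3937) (nat_lit 3619)
  .nil) (nat_lit 694) (nat_lit 33) (nat_lit 1883) (.node (.node .nil (nat_lit 705) (nat_lit 1024) (nat_lit
  2040) .nil) (nat_lit 706) (nat_lit 3361) (nat_lit 163) .nil)) (nat_lit 718) (nat_lit 481) (nat_lit 2083)
  (.node (.node (.node .nil (nat_lit 723) (nat_lit 5793) (nat_lit 1814) .nil) (nat_lit 732) (nat_lit 1313)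
  (nat_lit 1774) .nil) (nat_lit 735) (nat_lit 5056) (nat_lit 3752) (.node (.node .nil (nat_lit 746) (nat_lit
  2961) (nat_lit 2885) .nil) (nat_lit 759) (nat_lit 5281) (nat_lit 1136) .nil)))) (nat_lit 771) (nat_lit 4592)
  (nat_lit 1985) (.node (.node (.node (.node (.node .nil (nat_lit 783) (nat_lit 1104) (nat_lit 2998) .nil)
  (nat_lit 786) (nat_lit 3920) (nat_lit 3284) (.node .nil (nat_lit 798) (nat_lit 3344) (nat_lit 163) .nil))
  (nat_lit 822) (nat_lit 4336) (nat_lit 1602) (.node (.node .nil (nat_lit 833) (nat_lit 337) (nat_lit 2070)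
  .nil) (nat_lit 848) (nat_lit 3313) (nat_lit 4003) .nil)) (nat_lit 851) (nat_lit 4913) (nat_lit 1755) (.node
  (.node (.node .nil (nat_lit 863) (nat_lit 2321) (nat_lit 3675) .nil) (nat_lit 884) (nat_lit 4288) (nat_lit
  2172) .nil) (nat_lit 887) (nat_lit 4257) (nat_lit 1469) (.node (.node .nil (nat_lit 888) (nat_lit 4544)
  (nat_lit 1035) .nil) (nat_lit 931) (nat_lit 5568) (nat_lit 1686) .nil))) (nat_lit 940) (nat_lit 960)
  (nat_lit 1235) (.node (.node (.node (.node .nil (nat_lit 943) (nat_lit 3824) (nat_lit 2785) .nil) (nat_lit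
  945) (nat_lit 5649) (nat_lit 1539) .nil) (nat_lit 946) (nat_lit 5872) (nat_lit 3459) (.node (.node .nil
  (nat_lit 958) (nat_lit 1281) (nat_lit 2043) .nil) (nat_lit 980) (nat_lit 208) (nat_lit 2347) .nil)) (nat_lit
  1011) (nat_lit 1856) (nat_lit 3471) (.node (.node (.node .nil (nat_lit 1020) (nat_lit 6065) (nat_lit 3496)
  .nil) (nat_lit 1023) (nat_lit 4753) (nat_lit 1232) .nil) (nat_lit 1035) (nat_lit 3089) (nat_lit 2556) (.node
  (.node .nil (nat_lit 1045) (nat_lit 3440) (nat_lit 2476) .nil) (nat_lit 1046) (nat_lit 4016) (nat_lit 1950)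
  .nil)))))) (nat_lit 1049) (nat_lit 1200) (nat_lit 1499) (.node (.node (.node (.node (.node (.node (.node
  .nil (nat_lit 1085) (nat_lit 1249) (nat_lit 1111) .nil) (nat_lit 1093) (nat_lit 5376) (nat_lit 693) (.node
  .nil (nat_lit 1094) (nat_lit 4065) (nat_lit 599) .nil)) (nat_lit 1097) (nat_lit 5297) (nat_lit 943) (.node
  (.node .nil (nat_lit 1111) (nat_lit 641) (nat_lit 1506) .nil) (nat_lit 1121) (nat_lit 464) (nat_lit 2083)
  .nil)) (nat_lit 1122) (nat_lit 3569) (nat_lit 305) (.node (.node (.node .nil (nat_lit 1136) (nat_lit 3809)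
  (nat_lit 4092) .nil) (nat_lit 1155) (nat_lit 6241) (nat_lit 2193) .nil) (nat_lit 1170) (nat_lit 2784)
  (nat_lit 3167) (.node (.node .nil (nat_lit 1195) (nat_lit 5601) (nat_lit 887) .nil) (nat_lit 1206) (nat_lit
  3489) (nat_lit 3138) .nil))) (nat_lit 1217) (nat_lit 4704) (nat_lit 2420) (.node (.node (.node (.node .nil
  (nat_lit 1232) (nat_lit 3281) (nat_lit 1399) .nil) (nat_lit 1235) (nat_lit 496) (nat_lit 3155) .nil)
  (nat_lit 1254) (nat_lit 1488) (nat_lit 3536) (.node (.node .nil (nat_lit 1268) (nat_lit 736) (nat_lit 2295)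
  .nil) (nat_lit 1271) (nat_lit 144) (nat_lit 1733) .nil)) (nat_lit 1297) (nat_lit 3761) (nat_lit 1937) (.node
  (.node (.node .nil (nat_lit 1298) (nat_lit 5216) (nat_lit 600) .nil) (nat_lit 1310) (nat_lit 849) (nat_lit
  1641) .nil) (nat_lit 1333) (nat_lit 305) (nat_lit 1271) (.node (.node .nil (nat_lit 1334) (nat_lit 1873)
  (nat_lit 3471) .nil) (nat_lit 1345) (nat_lit 560) (nat_lit 1907) .nil)))) (nat_lit 1346) (nat_lit 193)
  (nat_lit 2679) (.node (.node (.node (.node (.node .nil (nat_lit 1358) (nat_lit 3072) (nat_lit 1334) .nil)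
  (nat_lit 1363) (nat_lit 3601) (nat_lit 3522) (.node .nil (nat_lit 1375) (nat_lit 401) (nat_lit 1346) .nil))
  (nat_lit 1386) (nat_lit 864) (nat_lit 4000) (.node (.node .nil (nat_lit 1399) (nat_lit 2032) (nat_lit 2242)
  .nil) (nat_lit 1419) (nat_lit 4864) (nat_lit 3835) .nil)) (nat_lit 1429) (nat_lit 4193) (nat_lit 3708)
  (.node (.node (.node .nil (nat_lit 1433) (nat_lit 3329) (nat_lit 1788) .nil) (nat_lit 1434) (nat_lit 1664)
  (nat_lit 1518) .nil) (nat_lit 1452) (nat_lit 2176) (nat_lit 2655) (.node (.node .nil (nat_lit 1458) (nat_lit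
  2016) (nat_lit 783) .nil) (nat_lit 1469) (nat_lit 2833) (nat_lit 1434) .nil))) (nat_lit 1470) (nat_lit 1969)
  (nat_lit 3298) (.node (.node (.node (.node .nil (nat_lit 1499) (nat_lit 624) (nat_lit 1506) .nil) (nat_lit
  1506) (nat_lit 320) (nat_lit 2070) .nil) (nat_lit 1518) (nat_lit 896) (nat_lit 1121) (.node (.node .nil
  (nat_lit 1520) (nat_lit 5904) (nat_lit 3377) .nil) (nat_lit 1523) (nat_lit 5888) (nat_lit 771) .nil))
  (nat_lit 1535) (nat_lit 5024) (nat_lit 3956) (.node (.node (.node .nil (nat_lit 1539) (nat_lit 4304)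
  (nat_lit 190) .nil) (nat_lit 1551) (nat_lit 3504) (nat_lit 3273) .nil) (nat_lit 1553) (nat_lit 4800)
  (nat_lit 1433) (.node (.node .nil (nat_lit 1579) (nat_lit 4961) (nat_lit 2439) .nil) (nat_lit 1589) (nat_lit
  6176) (nat_lit 3855) .nil))))) (nat_lit 1593) (nat_lit 5856) (nat_lit 888) (.node (.node (.node (.node
  (.node (.node .nil (nat_lit 1602) (nat_lit 2897) (nat_lit 330) .nil) (nat_lit 1613) (nat_lit 6129) (nat_lit
  178) (.node .nil (nat_lit 1614) (nat_lit 3953) (nat_lit 2506) .nil)) (nat_lit 1616) (nat_lit 4097) (nat_lit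
  3975) (.node (.node .nil (nat_lit 1619) (nat_lit 1344) (nat_lit 2983) .nil) (nat_lit 1631) (nat_lit 4480)
  (nat_lit 2000) .nil)) (nat_lit 1637) (nat_lit 817) (nat_lit 2900) (.node (.node (.node .nil (nat_lit 1641)
  (nat_lit 433) (nat_lit 980) .nil) (nat_lit 1642) (nat_lit 2400) (nat_lit 1619) .nil) (nat_lit 1652) (nat_lit
  3697) (nat_lit 3297) (.node (.node .nil (nat_lit 1655) (nat_lit 3552) (nat_lit 305) .nil) (nat_lit 1656)
  (nat_lit 913) (nat_lit 1121) .nil))) (nat_lit 1671) (nat_lit 1168) (nat_lit 2943) (.node (.node (.node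
  (.node .nil (nat_lit 1685) (nat_lit 1089) (nat_lit 1345) .nil) (nat_lit 1686) (nat_lit 4144) (nat_lit 106)
  .nil) (nat_lit 1689) (nat_lit 3968) (nat_lit 559) (.node (.node .nil (nat_lit 1708) (nat_lit 129) (nat_lit
  2322) .nil) (nat_lit 1711) (nat_lit 4161) (nat_lit 106) .nil)) (nat_lit 1725) (nat_lit 4560) (nat_lit 2233)
  (.node (.node (.node .nil (nat_lit 1733) (nat_lit 65) (nat_lit 479) .nil) (nat_lit 1734) (nat_lit 3649)
  (nat_lit 2215) .nil) (nat_lit 1737) (nat_lit 3840) (nat_lit 2358) (.node (.node .nil (nat_lit 1748) (nat_lit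
  2912) (nat_lit 3668) .nil) (nat_lit 1752) (nat_lit 3873) (nat_lit 3818) .nil)))) (nat_lit 1755) (nat_lit
  3425) (nat_lit 1938) (.node (.node (.node (.node (.node .nil (nat_lit 1774) (nat_lit 673) (nat_lit 833)
  .nil) (nat_lit 1788) (nat_lit 2064) (nat_lit 2229) .nil) (nat_lit 1791) (nat_lit 1425) (nat_lit 1268) (.node
  (.node .nil (nat_lit 1803) (nat_lit 1905) (nat_lit 705) .nil) (nat_lit 1814) (nat_lit 4465) (nat_lit 3572)
  .nil)) (nat_lit 1836) (nat_lit 5104) (nat_lit 3499) (.node (.node (.node .nil (nat_lit 1841) (nat_lit 5392)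
  (nat_lit 2761) .nil) (nat_lit 1865) (nat_lit 6160) (nat_lit 1841) .nil) (nat_lit 1866) (nat_lit 6145)
  (nat_lit 490) (.node (.node .nil (nat_lit 1883) (nat_lit 0) (nat_lit 1883) .nil) (nat_lit 1889) (nat_lit
  2720) (nat_lit 464) .nil))) (nat_lit 1904) (nat_lit 4000) (nat_lit 2757) (.node (.node (.node (.node .nil
  (nat_lit 1907) (nat_lit 288) (nat_lit 1271) .nil) (nat_lit 1923) (nat_lit 1777) (nat_lit 940) .nil) (nat_lit
  1932) (nat_lit 4433) (nat_lit 596) (.node (.node .nil (nat_lit 1935) (nat_lit 928) (nat_lit 718) .nil)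
  (nat_lit 1937) (nat_lit 2385) (nat_lit 3425) .nil)) (nat_lit 1938) (nat_lit 2129) (nat_lit 1049) (.node
  (.node (.node .nil (nat_lit 1950) (nat_lit 2640) (nat_lit 2523) .nil) (nat_lit 1960) (nat_lit 369) (nat_lit
  306) .nil) (nat_lit 1963) (nat_lit 6192) (nat_lit 2136) (.node (.node .nil (nat_lit 1977) (nat_lit 2097)
  (nat_lit 1671) .nil) (nat_lit 1985) (nat_lit 3136) (nat_lit 135) .nil)))))))
def ts396_1 : T := (.node (.node (.node (.node (.node (.node (.node (.node .nil (nat_lit 1998) (nat_lit 4848)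
  (nat_lit 706) .nil) (nat_lit 2000) (nat_lit 3041) (nat_lit 3658) (.node .nil (nat_lit 2026) (nat_lit 5168)
  (nat_lit 2132) .nil)) (nat_lit 2040) (nat_lit 528) (nat_lit 3443) (.node (.node .nil (nat_lit 2043) (nat_lit
  656) (nat_lit 833) .nil) (nat_lit 2055) (nat_lit 6288) (nat_lit 3852) .nil)) (nat_lit 2070) (nat_lit 161)
  (nat_lit 1733) (.node (.node (.node .nil (nat_lit 2083) (nat_lit 241) (nat_lit 534) .nil) (nat_lit 2097)
  (nat_lit 4672) (nat_lit 189) .nil) (nat_lit 2117) (nat_lit 352) (nat_lit 306) (.node (.node .nil (nat_lit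
  2121) (nat_lit 5328) (nat_lit 3397) .nil) (nat_lit 2122) (nat_lit 5457) (nat_lit 2779) .nil))) (nat_lit
  2132) (nat_lit 3729) (nat_lit 3222) (.node (.node (.node (.node .nil (nat_lit 2135) (nat_lit 1681) (nat_lit
  1518) .nil) (nat_lit 2136) (nat_lit 5441) (nat_lit 1046) .nil) (nat_lit 2145) (nat_lit 689) (nat_lit 2117)
  (.node (.node .nil (nat_lit 2172) (nat_lit 2864) (nat_lit 3270) .nil) (nat_lit 2193) (nat_lit 5521) (nat_lit
  1616) .nil)) (nat_lit 2194) (nat_lit 5729) (nat_lit 3880) (.node (.node (.node .nil (nat_lit 2206) (nat_lit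
  721) (nat_lit 1960) .nil) (nat_lit 2215) (nat_lit 2304) (nat_lit 3675) .nil) (nat_lit 2229) (nat_lit 1136)
  (nat_lit 2940) (.node (.node .nil (nat_lit 2230) (nat_lit 4512) (nat_lit 1358) .nil) (nat_lit 2233) (nat_lit
  3104) (nat_lit 1803) .nil)))) (nat_lit 2241) (nat_lit 945) (nat_lit 718) (.node (.node (.node (.node (.node
  .nil (nat_lit 2242) (nat_lit 1121) (nat_lit 2998) .nil) (nat_lit 2254) (nat_lit 5681) (nat_lit 822) (.node
  .nil (nat_lit 2259) (nat_lit 5488) (nat_lit 4052) .nil)) (nat_lit 2268) (nat_lit 3216) (nat_lit 3473) (.node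
  (.node .nil (nat_lit 2271) (nat_lit 6256) (nat_lit 931) .nil) (nat_lit 2295) (nat_lit 384) (nat_lit 1346)
  .nil)) (nat_lit 2307) (nat_lit 6097) (nat_lit 2384) (.node (.node (.node .nil (nat_lit 2319) (nat_lit 2737)
  (nat_lit 464) .nil) (nat_lit 2322) (nat_lit 48) (nat_lit 479) .nil) (nat_lit 2334) (nat_lit 1537) (nat_lit
  1637) (.node (.node .nil (nat_lit 2347) (nat_lit 97) (nat_lit 694) .nil) (nat_lit 2358) (nat_lit 2464)
  (nat_lit 2889) .nil))) (nat_lit 2369) (nat_lit 1408) (nat_lit 1268) (.node (.node (.node (.node .nil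
  (nat_lit 2384) (nat_lit 4993) (nat_lit 1206) .nil) (nat_lit 2387) (nat_lit 2608) (nat_lit 467) .nil)
  (nat_lit 2399) (nat_lit 4529) (nat_lit 1358) (.node (.node .nil (nat_lit 2420) (nat_lit 3264) (nat_lit 1399)
  .nil) (nat_lit 2423) (nat_lit 2944) (nat_lit 2885) .nil)) (nat_lit 2439) (nat_lit 3456) (nat_lit 267) (.node
  (.node (.node .nil (nat_lit 2458) (nat_lit 832) (nat_lit 1641) .nil) (nat_lit 2476) (nat_lit 2144) (nat_lit
  2520) .nil) (nat_lit 2479) (nat_lit 3793) (nat_lit 2907) (.node (.node .nil (nat_lit 2494) (nat_lit 5937)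
  (nat_lit 3310) .nil) (nat_lit 2506) (nat_lit 2561) (nat_lit 2838) .nil))))) (nat_lit 2520) (nat_lit 1217)
  (nat_lit 1499) (.node (.node (.node (.node (.node (.node .nil (nat_lit 2523) (nat_lit 1520) (nat_lit 1637)
  .nil) (nat_lit 2556) (nat_lit 1888) (nat_lit 705) (.node .nil (nat_lit 2559) (nat_lit 2240) (nat_lit 3315)
  .nil)) (nat_lit 2599) (nat_lit 3473) (nat_lit 267) (.node (.node .nil (nat_lit 2637) (nat_lit 4321) (nat_lit
  190) .nil) (nat_lit 2652) (nat_lit 3121) (nat_lit 1803) .nil)) (nat_lit 2655) (nat_lit 1232) (nat_lit 1111)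
  (.node (.node (.node .nil (nat_lit 2661) (nat_lit 3744) (nat_lit 1937) .nil) (nat_lit 2679) (nat_lit 80)
  (nat_lit 694) .nil) (nat_lit 2732) (nat_lit 2673) (nat_lit 2334) (.node (.node .nil (nat_lit 2737) (nat_lit
  6049) (nat_lit 1579) .nil) (nat_lit 2757) (nat_lit 2625) (nat_lit 467) .nil))) (nat_lit 2761) (nat_lit 3985)
  (nat_lit 2387) (.node (.node (.node (.node .nil (nat_lit 2762) (nat_lit 5553) (nat_lit 43) .nil) (nat_lit
  2779) (nat_lit 4033) (nat_lit 1950) .nil) (nat_lit 2785) (nat_lit 2448) (nat_lit 3152) (.node (.node .nil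
  (nat_lit 2803) (nat_lit 4400) (nat_lit 2423) .nil) (nat_lit 2823) (nat_lit 2512) (nat_lit 1791) .nil))
  (nat_lit 2838) (nat_lit 1472) (nat_lit 3562) (.node (.node (.node .nil (nat_lit 2851) (nat_lit 225) (nat_lit
  2347) .nil) (nat_lit 2860) (nat_lit 1440) (nat_lit 3628) .nil) (nat_lit 2863) (nat_lit 5697) (nat_lit 427)
  (.node (.node .nil (nat_lit 2885) (nat_lit 1760) (nat_lit 2241) .nil) (nat_lit 2889) (nat_lit 1393) (nat_lit
  2206) .nil)))) (nat_lit 2900) (nat_lit 416) (nat_lit 980) (.node (.node (.node (.node (.node .nil (nat_lit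
  2904) (nat_lit 3296) (nat_lit 4003) .nil) (nat_lit 2907) (nat_lit 2417) (nat_lit 1619) .nil) (nat_lit 2913)
  (nat_lit 4048) (nat_lit 599) (.node (.node .nil (nat_lit 2931) (nat_lit 5424) (nat_lit 1904) .nil) (nat_lit
  2940) (nat_lit 592) (nat_lit 1333) .nil)) (nat_lit 2943) (nat_lit 609) (nat_lit 1333) (.node (.node (.node
  .nil (nat_lit 2956) (nat_lit 5233) (nat_lit 600) .nil) (nat_lit 2962) (nat_lit 4929) (nat_lit 1045) .nil)
  (nat_lit 2974) (nat_lit 4385) (nat_lit 3221) (.node (.node .nil (nat_lit 2980) (nat_lit 1552) (nat_lit 2458)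
  .nil) (nat_lit 2983) (nat_lit 704) (nat_lit 1960) .nil))) (nat_lit 2998) (nat_lit 577) (nat_lit 1907) (.node
  (.node (.node (.node .nil (nat_lit 3036) (nat_lit 5072) (nat_lit 1122) .nil) (nat_lit 3067) (nat_lit 3616)
  (nat_lit 198) .nil) (nat_lit 3075) (nat_lit 4721) (nat_lit 2420) (.node (.node .nil (nat_lit 3087) (nat_lit
  1824) (nat_lit 450) .nil) (nat_lit 3089) (nat_lit 3393) (nat_lit 1977) .nil)) (nat_lit 3115) (nat_lit 800)
  (nat_lit 2900) (.node (.node (.node .nil (nat_lit 3129) (nat_lit 2801) (nat_lit 3167) .nil) (nat_lit 3138)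
  (nat_lit 2193) (nat_lit 2655) .nil) (nat_lit 3149) (nat_lit 1361) (nat_lit 2983) (.node (.node .nil (nat_lit
  3150) (nat_lit 5968) (nat_lit 462) .nil) (nat_lit 3152) (nat_lit 1376) (nat_lit 2206) .nil)))))) (nat_lit
  3155) (nat_lit 256) (nat_lit 1708) (.node (.node (.node (.node (.node (.node (.node .nil (nat_lit 3167)
  (nat_lit 1633) (nat_lit 1386) .nil) (nat_lit 3177) (nat_lit 1616) (nat_lit 1386) (.node .nil (nat_lit 3178)
  (nat_lit 4497) (nat_lit 441) .nil)) (nat_lit 3192) (nat_lit 5041) (nat_lit 3956) (.node (.node .nil (nat_lit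
  3207) (nat_lit 4657) (nat_lit 153) .nil) (nat_lit 3221) (nat_lit 2929) (nat_lit 3668) .nil)) (nat_lit 3222)
  (nat_lit 2368) (nat_lit 3425) (.node (.node (.node .nil (nat_lit 3225) (nat_lit 4272) (nat_lit 3876) .nil)
  (nat_lit 3235) (nat_lit 1952) (nat_lit 3298) .nil) (nat_lit 3244) (nat_lit 6000) (nat_lit 3751) (.node
  (.node .nil (nat_lit 3247) (nat_lit 1185) (nat_lit 2943) .nil) (nat_lit 3261) (nat_lit 3248) (nat_lit 1458)
  .nil))) (nat_lit 3269) (nat_lit 6208) (nat_lit 2122) (.node (.node (.node (.node .nil (nat_lit 3270)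
  (nat_lit 1696) (nat_lit 1656) .nil) (nat_lit 3273) (nat_lit 2208) (nat_lit 1085) .nil) (nat_lit 3284)
  (nat_lit 2529) (nat_lit 3455) (.node (.node .nil (nat_lit 3288) (nat_lit 5712) (nat_lit 3880) .nil) (nat_lit
  3291) (nat_lit 5152) (nat_lit 282) .nil)) (nat_lit 3297) (nat_lit 2336) (nat_lit 732) (.node (.node (.node
  .nil (nat_lit 3298) (nat_lit 1073) (nat_lit 212) .nil) (nat_lit 3310) (nat_lit 4640) (nat_lit 153) .nil)
  (nat_lit 3315) (nat_lit 1264) (nat_lit 2043) (.node (.node .nil (nat_lit 3324) (nat_lit 3184) (nat_lit 1470)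
  .nil) (nat_lit 3327) (nat_lit 6113) (nat_lit 4065) .nil)))) (nat_lit 3377) (nat_lit 4608) (nat_lit 1986)
  (.node (.node (.node (.node (.node .nil (nat_lit 3397) (nat_lit 3905) (nat_lit 2823) .nil) (nat_lit 3425)
  (nat_lit 1329) (nat_lit 2145) (.node .nil (nat_lit 3440) (nat_lit 5505) (nat_lit 4052) .nil)) (nat_lit 3443)
  (nat_lit 273) (nat_lit 1708) (.node (.node .nil (nat_lit 3455) (nat_lit 1457) (nat_lit 3628) .nil) (nat_lit
  3459) (nat_lit 4577) (nat_lit 2233) .nil)) (nat_lit 3468) (nat_lit 2497) (nat_lit 2369) (.node (.node (.node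
  .nil (nat_lit 3471) (nat_lit 1009) (nat_lit 57) .nil) (nat_lit 3473) (nat_lit 1984) (nat_lit 1685) .nil)
  (nat_lit 3474) (nat_lit 3632) (nat_lit 2215) (.node (.node .nil (nat_lit 3486) (nat_lit 4736) (nat_lit 1232)
  .nil) (nat_lit 3492) (nat_lit 5776) (nat_lit 1814) .nil))) (nat_lit 3496) (nat_lit 4977) (nat_lit 2599)
  (.node (.node (.node (.node .nil (nat_lit 3499) (nat_lit 3665) (nat_lit 863) .nil) (nat_lit 3509) (nat_lit
  5952) (nat_lit 3075) .nil) (nat_lit 3510) (nat_lit 5809) (nat_lit 3178) (.node (.node .nil (nat_lit 3513)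
  (nat_lit 1920) (nat_lit 116) .nil) (nat_lit 3521) (nat_lit 3888) (nat_lit 3468) .nil)) (nat_lit 3522)
  (nat_lit 2272) (nat_lit 958) (.node (.node (.node .nil (nat_lit 3534) (nat_lit 5361) (nat_lit 786) .nil)
  (nat_lit 3536) (nat_lit 785) (nat_lit 1375) .nil) (nat_lit 3562) (nat_lit 768) (nat_lit 1375) (.node (.node
  .nil (nat_lit 3572) (nat_lit 3008) (nat_lit 3087) .nil) (nat_lit 3576) (nat_lit 6033) (nat_lit 3769)
  .nil))))) (nat_lit 3579) (nat_lit 3024) (nat_lit 3658) (.node (.node (.node (.node (.node (.node .nil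
  (nat_lit 3619) (nat_lit 2544) (nat_lit 2838) .nil) (nat_lit 3628) (nat_lit 753) (nat_lit 2295) (.node .nil
  (nat_lit 3631) (nat_lit 2993) (nat_lit 399) .nil)) (nat_lit 3633) (nat_lit 4625) (nat_lit 1986) (.node
  (.node .nil (nat_lit 3658) (nat_lit 1841) (nat_lit 450) .nil) (nat_lit 3668) (nat_lit 1745) (nat_lit 1935)
  .nil)) (nat_lit 3672) (nat_lit 4688) (nat_lit 2268) (.node (.node (.node .nil (nat_lit 3675) (nat_lit 1296)
  (nat_lit 1774) .nil) (nat_lit 3693) (nat_lit 5840) (nat_lit 2399) .nil) (nat_lit 3699) (nat_lit 3233)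
  (nat_lit 3473) (.node (.node .nil (nat_lit 3708) (nat_lit 2769) (nat_lit 3177) .nil) (nat_lit 3711) (nat_lit
  5201) (nat_lit 1297) .nil))) (nat_lit 3748) (nat_lit 1569) (nat_lit 2458) (.node (.node (.node (.node .nil
  (nat_lit 3751) (nat_lit 4881) (nat_lit 226) .nil) (nat_lit 3752) (nat_lit 3536) (nat_lit 658) .nil) (nat_lit
  3765) (nat_lit 4449) (nat_lit 3631) (.node (.node .nil (nat_lit 3769) (nat_lit 4944) (nat_lit 2439) .nil)
  (nat_lit 3778) (nat_lit 5664) (nat_lit 2637) .nil)) (nat_lit 3813) (nat_lit 5536) (nat_lit 3817) (.node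
  (.node (.node .nil (nat_lit 3817) (nat_lit 4112) (nat_lit 670) .nil) (nat_lit 3818) (nat_lit 2481) (nat_lit
  2889) .nil) (nat_lit 3835) (nat_lit 3376) (nat_lit 1977) (.node (.node .nil (nat_lit 3843) (nat_lit 5472)
  (nat_lit 1094) .nil) (nat_lit 3852) (nat_lit 5632) (nat_lit 1539) .nil)))) (nat_lit 3855) (nat_lit 5409)
  (nat_lit 2761) (.node (.node (.node (.node (.node .nil (nat_lit 3876) (nat_lit 2849) (nat_lit 2135) .nil)
  (nat_lit 3880) (nat_lit 4368) (nat_lit 3221) .nil) (nat_lit 3883) (nat_lit 5249) (nat_lit 2479) (.node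
  (.node .nil (nat_lit 3917) (nat_lit 1649) (nat_lit 154) .nil) (nat_lit 3941) (nat_lit 1153) (nat_lit 2940)
  .nil)) (nat_lit 3945) (nat_lit 5616) (nat_lit 3225) (.node (.node (.node .nil (nat_lit 3956) (nat_lit 3521)
  (nat_lit 3273) .nil) (nat_lit 3960) (nat_lit 5744) (nat_lit 1932) .nil) (nat_lit 3963) (nat_lit 5921)
  (nat_lit 3377) (.node (.node .nil (nat_lit 3972) (nat_lit 2353) (nat_lit 732) .nil) (nat_lit 3975) (nat_lit
  2689) (nat_lit 2980) .nil))) (nat_lit 3976) (nat_lit 3584) (nat_lit 3522) (.node (.node (.node (.node .nil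
  (nat_lit 3990) (nat_lit 4208) (nat_lit 1170) .nil) (nat_lit 4000) (nat_lit 448) (nat_lit 2851) .nil)
  (nat_lit 4003) (nat_lit 2049) (nat_lit 2242) (.node (.node .nil (nat_lit 4017) (nat_lit 5009) (nat_lit 1551)
  .nil) (nat_lit 4037) (nat_lit 4241) (nat_lit 503) .nil)) (nat_lit 4041) (nat_lit 4417) (nat_lit 2423) (.node
  (.node (.node .nil (nat_lit 4042) (nat_lit 6273) (nat_lit 15) .nil) (nat_lit 4052) (nat_lit 4080) (nat_lit
  2732) .nil) (nat_lit 4056) (nat_lit 4896) (nat_lit 1755) (.node (.node .nil (nat_lit 4065) (nat_lit 5137)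
  (nat_lit 657) .nil) (nat_lit 4092) (nat_lit 2432) (nat_lit 3149) .nil)))))))
def ts396 : T := (.node ts396_0 (nat_lit 1986) (nat_lit 3153) (nat_lit 135) ts396_1)
theorem ts396_chk : band (orbChk apS (gensOf cDD) 1883 (4096) ts396) (Nat.beq ts396.size 396) = true := by
  decide +kernel
theorem ts396_card : (orbit (stabilizer M24 ({D0, univ \ D0} : Finset (Finset GolayPt))) (sext (unmask 294945))).ncard = 396 :=
  orbit_ncard_of_chk acX (sext_rep (t := 294945) (k := 1883) (by decide +kernel)).1 cDD_chk stab_DD (sext_rep (t := 294945) (k := 1883) (by decide +kernel)).2 ts396_chk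

def ts495_0 : T := (.node (.node (.node (.node (.node (.node (.node .nil (nat_lit 29) (nat_lit 2080) (nat_lit
  1890) .nil) (nat_lit 39) (nat_lit 1937) (nat_lit 2590) (.node .nil (nat_lit 58) (nat_lit 720) (nat_lit 966)
  .nil)) (nat_lit 77) (nat_lit 7312) (nat_lit 3195) (.node (.node .nil (nat_lit 83) (nat_lit 880) (nat_lit
  1323) .nil) (nat_lit 92) (nat_lit 3665) (nat_lit 3102) (.node .nil (nat_lit 95) (nat_lit 32) (nat_lit 2396)
  .nil))) (nat_lit 101) (nat_lit 6912) (nat_lit 2714) (.node (.node (.node .nil (nat_lit 102) (nat_lit 5233)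
  (nat_lit 2357) .nil) (nat_lit 105) (nat_lit 1809) (nat_lit 2253) (.node .nil (nat_lit 119) (nat_lit 6720)
  (nat_lit 4029) .nil)) (nat_lit 139) (nat_lit 3856) (nat_lit 2436) (.node (.node .nil (nat_lit 150) (nat_lit
  177) (nat_lit 1824) .nil) (nat_lit 172) (nat_lit 7680) (nat_lit 3360) (.node .nil (nat_lit 177) (nat_lit
  2753) (nat_lit 3390) .nil)))) (nat_lit 197) (nat_lit 1409) (nat_lit 2758) (.node (.node (.node (.node .nil
  (nat_lit 201) (nat_lit 1232) (nat_lit 1978) .nil) (nat_lit 202) (nat_lit 6497) (nat_lit 2878) (.node .nil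
  (nat_lit 219) (nat_lit 640) (nat_lit 669) .nil)) (nat_lit 225) (nat_lit 1632) (nat_lit 347) (.node (.node
  .nil (nat_lit 240) (nat_lit 960) (nat_lit 2638) .nil) (nat_lit 243) (nat_lit 3009) (nat_lit 1901) (.node
  .nil (nat_lit 255) (nat_lit 6736) (nat_lit 2059) .nil))) (nat_lit 263) (nat_lit 1696) (nat_lit 3060) (.node
  (.node (.node .nil (nat_lit 277) (nat_lit 7665) (nat_lit 3989) .nil) (nat_lit 278) (nat_lit 2880) (nat_lit
  225) (.node .nil (nat_lit 281) (nat_lit 145) (nat_lit 1813) .nil)) (nat_lit 291) (nat_lit 7600) (nat_lit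
  354) (.node (.node .nil (nat_lit 300) (nat_lit 737) (nat_lit 966) .nil) (nat_lit 303) (nat_lit 4769)
  (nat_lit 2750) .nil)))) (nat_lit 317) (nat_lit 6177) (nat_lit 1139) (.node (.node (.node (.node (.node .nil
  (nat_lit 325) (nat_lit 4673) (nat_lit 2827) .nil) (nat_lit 326) (nat_lit 5793) (nat_lit 627) (.node .nil
  (nat_lit 329) (nat_lit 3633) (nat_lit 907) .nil)) (nat_lit 340) (nat_lit 7041) (nat_lit 3262) (.node (.node
  .nil (nat_lit 344) (nat_lit 6432) (nat_lit 680) .nil) (nat_lit 347) (nat_lit 896) (nat_lit 3226) (.node .nil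
  (nat_lit 353) (nat_lit 4145) (nat_lit 2157) .nil))) (nat_lit 354) (nat_lit 6256) (nat_lit 366) (.node (.node
  (.node .nil (nat_lit 366) (nat_lit 4400) (nat_lit 3353) .nil) (nat_lit 371) (nat_lit 3761) (nat_lit 1696)
  (.node .nil (nat_lit 380) (nat_lit 5889) (nat_lit 1880) .nil)) (nat_lit 383) (nat_lit 5744) (nat_lit 1548)
  (.node (.node .nil (nat_lit 396) (nat_lit 705) (nat_lit 2381) .nil) (nat_lit 402) (nat_lit 2848) (nat_lit
  2848) (.node .nil (nat_lit 413) (nat_lit 4528) (nat_lit 2405) .nil)))) (nat_lit 414) (nat_lit 6369) (nat_lit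
  1920) (.node (.node (.node (.node .nil (nat_lit 420) (nat_lit 6672) (nat_lit 1169) .nil) (nat_lit 423)
  (nat_lit 2657) (nat_lit 3027) (.node .nil (nat_lit 424) (nat_lit 5153) (nat_lit 2603) .nil)) (nat_lit 438)
  (nat_lit 7265) (nat_lit 3174) (.node (.node .nil (nat_lit 449) (nat_lit 992) (nat_lit 3595) .nil) (nat_lit
  476) (nat_lit 576) (nat_lit 2409) (.node .nil (nat_lit 486) (nat_lit 6321) (nat_lit 2296) .nil))) (nat_lit
  507) (nat_lit 7889) (nat_lit 1997) (.node (.node (.node .nil (nat_lit 523) (nat_lit 6784) (nat_lit 3696)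
  .nil) (nat_lit 533) (nat_lit 160) (nat_lit 1824) (.node .nil (nat_lit 537) (nat_lit 2512) (nat_lit 2903)
  .nil)) (nat_lit 538) (nat_lit 3904) (nat_lit 1381) (.node (.node .nil (nat_lit 556) (nat_lit 4496) (nat_lit
  2772) .nil) (nat_lit 562) (nat_lit 5040) (nat_lit 900) .nil))))) (nat_lit 573) (nat_lit 1824) (nat_lit 449)
  (.node (.node (.node (.node (.node (.node .nil (nat_lit 574) (nat_lit 7089) (nat_lit 1590) .nil) (nat_lit
  582) (nat_lit 7729) (nat_lit 2382) (.node .nil (nat_lit 603) (nat_lit 6305) (nat_lit 1659) .nil)) (nat_lit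
  610) (nat_lit 6225) (nat_lit 2600) (.node (.node .nil (nat_lit 621) (nat_lit 3552) (nat_lit 2776) .nil)
  (nat_lit 622) (nat_lit 6240) (nat_lit 1258) (.node .nil (nat_lit 624) (nat_lit 3872) (nat_lit 3514) .nil)))
  (nat_lit 627) (nat_lit 3984) (nat_lit 904) (.node (.node (.node .nil (nat_lit 639) (nat_lit 5297) (nat_lit
  1309) .nil) (nat_lit 643) (nat_lit 496) (nat_lit 2502) (.node .nil (nat_lit 652) (nat_lit 4448) (nat_lit
  2947) .nil)) (nat_lit 655) (nat_lit 3201) (nat_lit 2824) (.node (.node .nil (nat_lit 669) (nat_lit 336)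
  (nat_lit 150) .nil) (nat_lit 676) (nat_lit 544) (nat_lit 3426) (.node .nil (nat_lit 680) (nat_lit 4593)
  (nat_lit 278) .nil)))) (nat_lit 683) (nat_lit 6400) (nat_lit 3879) (.node (.node (.node (.node .nil (nat_lit
  698) (nat_lit 2241) (nat_lit 4059) .nil) (nat_lit 717) (nat_lit 1649) (nat_lit 347) (.node .nil (nat_lit
  720) (nat_lit 1905) (nat_lit 3694) .nil)) (nat_lit 741) (nat_lit 7168) (nat_lit 3438) (.node (.node .nil
  (nat_lit 742) (nat_lit 7408) (nat_lit 860) .nil) (nat_lit 745) (nat_lit 272) (nat_lit 281) (.node .nil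
  (nat_lit 756) (nat_lit 6288) (nat_lit 1659) .nil))) (nat_lit 760) (nat_lit 3729) (nat_lit 1416) (.node
  (.node (.node .nil (nat_lit 763) (nat_lit 7377) (nat_lit 3312) .nil) (nat_lit 780) (nat_lit 6081) (nat_lit
  957) (.node .nil (nat_lit 785) (nat_lit 7489) (nat_lit 3208) .nil)) (nat_lit 804) (nat_lit 784) (nat_lit
  869) (.node (.node .nil (nat_lit 807) (nat_lit 4032) (nat_lit 3415) .nil) (nat_lit 808) (nat_lit 1185)
  (nat_lit 219) .nil)))) (nat_lit 821) (nat_lit 3968) (nat_lit 2160) (.node (.node (.node (.node (.node .nil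
  (nat_lit 825) (nat_lit 7249) (nat_lit 1902) .nil) (nat_lit 826) (nat_lit 3825) (nat_lit 3606) (.node .nil
  (nat_lit 834) (nat_lit 6273) (nat_lit 366) .nil)) (nat_lit 845) (nat_lit 353) (nat_lit 150) (.node (.node
  .nil (nat_lit 846) (nat_lit 3681) (nat_lit 2542) .nil) (nat_lit 860) (nat_lit 5952) (nat_lit 3741) (.node
  .nil (nat_lit 869) (nat_lit 417) (nat_lit 2928) .nil))) (nat_lit 873) (nat_lit 2544) (nat_lit 3870) (.node
  (.node (.node .nil (nat_lit 874) (nat_lit 1360) (nat_lit 300) .nil) (nat_lit 891) (nat_lit 3185) (nat_lit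
  3389) (.node .nil (nat_lit 900) (nat_lit 3265) (nat_lit 720) .nil)) (nat_lit 904) (nat_lit 2400) (nat_lit
  3653) (.node (.node .nil (nat_lit 907) (nat_lit 2145) (nat_lit 808) .nil) (nat_lit 917) (nat_lit 3921)
  (nat_lit 1381) (.node .nil (nat_lit 918) (nat_lit 128) (nat_lit 1813) .nil)))) (nat_lit 921) (nat_lit 2369)
  (nat_lit 3557) (.node (.node (.node (.node .nil (nat_lit 928) (nat_lit 1728) (nat_lit 2212) .nil) (nat_lit
  957) (nat_lit 4224) (nat_lit 4038) (.node .nil (nat_lit 965) (nat_lit 7872) (nat_lit 574) .nil)) (nat_lit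
  966) (nat_lit 385) (nat_lit 2179) (.node (.node .nil (nat_lit 969) (nat_lit 7457) (nat_lit 2427) .nil)
  (nat_lit 983) (nat_lit 2672) (nat_lit 1817) (.node .nil (nat_lit 993) (nat_lit 657) (nat_lit 669) .nil)))
  (nat_lit 994) (nat_lit 3392) (nat_lit 1690) (.node (.node (.node .nil (nat_lit 1006) (nat_lit 801) (nat_lit
  869) .nil) (nat_lit 1008) (nat_lit 6064) (nat_lit 957) (.node .nil (nat_lit 1031) (nat_lit 7361) (nat_lit
  380) .nil)) (nat_lit 1050) (nat_lit 608) (nat_lit 3049) (.node (.node .nil (nat_lit 1059) (nat_lit 5280)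
  (nat_lit 1565) .nil) (nat_lit 1068) (nat_lit 2048) (nat_lit 1112) .nil))))))
def ts495_1 : T := (.node (.node (.node (.node (.node (.node (.node .nil (nat_lit 1073) (nat_lit 5600)
  (nat_lit 826) .nil) (nat_lit 1074) (nat_lit 4193) (nat_lit 1455) (.node .nil (nat_lit 1086) (nat_lit 7280)
  (nat_lit 383) .nil)) (nat_lit 1098) (nat_lit 1760) (nat_lit 240) (.node (.node .nil (nat_lit 1108) (nat_lit
  913) (nat_lit 3226) .nil) (nat_lit 1112) (nat_lit 1121) (nat_lit 1050) (.node .nil (nat_lit 1115) (nat_lit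
  561) (nat_lit 3426) .nil))) (nat_lit 1133) (nat_lit 1664) (nat_lit 1108) (.node (.node (.node .nil (nat_lit
  1139) (nat_lit 4304) (nat_lit 3332) .nil) (nat_lit 1148) (nat_lit 5824) (nat_lit 3905) (.node .nil (nat_lit
  1151) (nat_lit 5536) (nat_lit 371) .nil)) (nat_lit 1164) (nat_lit 593) (nat_lit 2409) (.node (.node .nil
  (nat_lit 1169) (nat_lit 4849) (nat_lit 1628) .nil) (nat_lit 1188) (nat_lit 1472) (nat_lit 1006) (.node .nil
  (nat_lit 1191) (nat_lit 2256) (nat_lit 3548) .nil)))) (nat_lit 1192) (nat_lit 5105) (nat_lit 2575) (.node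
  (.node (.node (.node .nil (nat_lit 1205) (nat_lit 3377) (nat_lit 1338) .nil) (nat_lit 1209) (nat_lit 1088)
  (nat_lit 1164) (.node .nil (nat_lit 1210) (nat_lit 4752) (nat_lit 2750) .nil)) (nat_lit 1218) (nat_lit 7744)
  (nat_lit 1862) (.node (.node .nil (nat_lit 1229) (nat_lit 96) (nat_lit 1283) .nil) (nat_lit 1230) (nat_lit
  3696) (nat_lit 2865) (.node .nil (nat_lit 1244) (nat_lit 3808) (nat_lit 3606) .nil))) (nat_lit 1253)
  (nat_lit 5184) (nat_lit 994) (.node (.node (.node .nil (nat_lit 1257) (nat_lit 3233) (nat_lit 2340) .nil)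
  (nat_lit 1258) (nat_lit 4368) (nat_lit 423) (.node .nil (nat_lit 1275) (nat_lit 4481) (nat_lit 2025) .nil))
  (nat_lit 1283) (nat_lit 49) (nat_lit 2396) (.node (.node .nil (nat_lit 1292) (nat_lit 1745) (nat_lit 2212)
  .nil) (nat_lit 1295) (nat_lit 1073) (nat_lit 476) .nil)))) (nat_lit 1309) (nat_lit 3504) (nat_lit 29) (.node
  (.node (.node (.node (.node .nil (nat_lit 1316) (nat_lit 7617) (nat_lit 834) .nil) (nat_lit 1320) (nat_lit
  7217) (nat_lit 3010) (.node .nil (nat_lit 1323) (nat_lit 464) (nat_lit 4012) .nil)) (nat_lit 1338) (nat_lit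
  1985) (nat_lit 1295) (.node (.node .nil (nat_lit 1357) (nat_lit 3104) (nat_lit 2820) .nil) (nat_lit 1360)
  (nat_lit 6593) (nat_lit 1210) (.node .nil (nat_lit 1381) (nat_lit 2352) (nat_lit 3557) .nil))) (nat_lit
  1382) (nat_lit 4384) (nat_lit 983) (.node (.node (.node .nil (nat_lit 1385) (nat_lit 4576) (nat_lit 402)
  .nil) (nat_lit 1396) (nat_lit 4784) (nat_lit 1776) (.node .nil (nat_lit 1400) (nat_lit 7056) (nat_lit 2695)
  .nil)) (nat_lit 1403) (nat_lit 2033) (nat_lit 1572) (.node (.node .nil (nat_lit 1412) (nat_lit 7024)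
  (nat_lit 3262) .nil) (nat_lit 1415) (nat_lit 4465) (nat_lit 177) (.node .nil (nat_lit 1416) (nat_lit 2208)
  (nat_lit 201) .nil)))) (nat_lit 1430) (nat_lit 6624) (nat_lit 2457) (.node (.node (.node (.node .nil
  (nat_lit 1440) (nat_lit 5968) (nat_lit 1576) .nil) (nat_lit 1443) (nat_lit 4000) (nat_lit 2074) (.node .nil
  (nat_lit 1455) (nat_lit 2529) (nat_lit 2903) .nil)) (nat_lit 1457) (nat_lit 3168) (nat_lit 3389) (.node
  (.node .nil (nat_lit 1477) (nat_lit 4704) (nat_lit 3250) .nil) (nat_lit 1481) (nat_lit 2480) (nat_lit 197)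
  (.node .nil (nat_lit 1482) (nat_lit 7649) (nat_lit 2842) .nil))) (nat_lit 1492) (nat_lit 4049) (nat_lit
  3415) (.node (.node (.node .nil (nat_lit 1495) (nat_lit 5264) (nat_lit 2453) .nil) (nat_lit 1496) (nat_lit
  3888) (nat_lit 3024) (.node .nil (nat_lit 1505) (nat_lit 2016) (nat_lit 1572) .nil)) (nat_lit 1532) (nat_lit
  6577) (nat_lit 1713) (.node (.node .nil (nat_lit 1548) (nat_lit 3953) (nat_lit 921) .nil) (nat_lit 1554)
  (nat_lit 5857) (nat_lit 1492) .nil))))) (nat_lit 1565) (nat_lit 3489) (nat_lit 1068) (.node (.node (.node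
  (.node (.node (.node .nil (nat_lit 1566) (nat_lit 6545) (nat_lit 3412) .nil) (nat_lit 1572) (nat_lit 1104)
  (nat_lit 1050) (.node .nil (nat_lit 1575) (nat_lit 2993) (nat_lit 263) .nil)) (nat_lit 1576) (nat_lit 4128)
  (nat_lit 2157) (.node (.node .nil (nat_lit 1590) (nat_lit 5425) (nat_lit 1714) .nil) (nat_lit 1601) (nat_lit
  6705) (nat_lit 2098) (.node .nil (nat_lit 1628) (nat_lit 3088) (nat_lit 2530) .nil))) (nat_lit 1638)
  (nat_lit 1568) (nat_lit 2596) (.node (.node (.node .nil (nat_lit 1659) (nat_lit 4417) (nat_lit 3353) .nil)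
  (nat_lit 1668) (nat_lit 4864) (nat_lit 1357) (.node .nil (nat_lit 1672) (nat_lit 224) (nat_lit 2362) .nil))
  (nat_lit 1675) (nat_lit 7505) (nat_lit 780) (.node (.node .nil (nat_lit 1690) (nat_lit 2001) (nat_lit 1209)
  .nil) (nat_lit 1696) (nat_lit 2224) (nat_lit 4059) (.node .nil (nat_lit 1713) (nat_lit 4737) (nat_lit 1575)
  .nil)))) (nat_lit 1714) (nat_lit 3601) (nat_lit 3935) (.node (.node (.node (.node .nil (nat_lit 1726)
  (nat_lit 7521) (nat_lit 2015) .nil) (nat_lit 1738) (nat_lit 3313) (nat_lit 39) (.node .nil (nat_lit 1751)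
  (nat_lit 6944) (nat_lit 102) .nil)) (nat_lit 1773) (nat_lit 3024) (nat_lit 928) (.node (.node .nil (nat_lit
  1776) (nat_lit 3057) (nat_lit 1292) .nil) (nat_lit 1796) (nat_lit 7808) (nat_lit 2890) (.node .nil (nat_lit
  1799) (nat_lit 2721) (nat_lit 2625) .nil))) (nat_lit 1800) (nat_lit 6865) (nat_lit 3001) (.node (.node
  (.node .nil (nat_lit 1813) (nat_lit 64) (nat_lit 95) .nil) (nat_lit 1817) (nat_lit 1521) (nat_lit 3084)
  (.node .nil (nat_lit 1818) (nat_lit 5664) (nat_lit 538) .nil)) (nat_lit 1824) (nat_lit 81) (nat_lit 95)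
  (.node (.node .nil (nat_lit 1827) (nat_lit 6048) (nat_lit 4078) .nil) (nat_lit 1839) (nat_lit 3936) (nat_lit
  921) .nil)))) (nat_lit 1842) (nat_lit 6352) (nat_lit 1275) (.node (.node (.node (.node (.node .nil (nat_lit
  1853) (nat_lit 7825) (nat_lit 3946) .nil) (nat_lit 1854) (nat_lit 816) (nat_lit 2188) (.node .nil (nat_lit
  1862) (nat_lit 6608) (nat_lit 1396) .nil)) (nat_lit 1876) (nat_lit 1600) (nat_lit 83) (.node (.node .nil
  (nat_lit 1879) (nat_lit 7904) (nat_lit 3681) .nil) (nat_lit 1880) (nat_lit 4064) (nat_lit 3108) (.node .nil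
  (nat_lit 1890) (nat_lit 1136) (nat_lit 4066) .nil))) (nat_lit 1901) (nat_lit 1713) (nat_lit 3060) (.node
  (.node (.node .nil (nat_lit 1902) (nat_lit 5680) (nat_lit 917) .nil) (nat_lit 1916) (nat_lit 5408) (nat_lit
  1714) (.node .nil (nat_lit 1920) (nat_lit 4513) (nat_lit 2772) .nil)) (nat_lit 1949) (nat_lit 3425) (nat_lit
  1505) (.node (.node .nil (nat_lit 1959) (nat_lit 7713) (nat_lit 202) .nil) (nat_lit 1978) (nat_lit 672)
  (nat_lit 845) (.node .nil (nat_lit 1997) (nat_lit 7297) (nat_lit 383) .nil)))) (nat_lit 2003) (nat_lit 7440)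
  (nat_lit 1440) (.node (.node (.node (.node .nil (nat_lit 2012) (nat_lit 5073) (nat_lit 1738) .nil) (nat_lit
  2015) (nat_lit 6112) (nat_lit 2519) (.node .nil (nat_lit 2021) (nat_lit 6800) (nat_lit 2577) .nil)) (nat_lit
  2022) (nat_lit 1217) (nat_lit 993) (.node (.node .nil (nat_lit 2025) (nat_lit 2768) (nat_lit 1638) .nil)
  (nat_lit 2039) (nat_lit 1681) (nat_lit 1108) (.node .nil (nat_lit 2059) (nat_lit 4944) (nat_lit 891) .nil)))
  (nat_lit 2069) (nat_lit 5136) (nat_lit 2603) (.node (.node (.node .nil (nat_lit 2073) (nat_lit 4832)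
  (nat_lit 1628) .nil) (nat_lit 2074) (nat_lit 2417) (nat_lit 3653) (.node .nil (nat_lit 2092) (nat_lit 1489)
  (nat_lit 1006) .nil)) (nat_lit 2098) (nat_lit 4896) (nat_lit 3727) (.node (.node .nil (nat_lit 2109)
  (nat_lit 1057) (nat_lit 1115) .nil) (nat_lit 2110) (nat_lit 5504) (nat_lit 760) .nil))))))
def ts495_2 : T := (.node (.node (.node (.node (.node (.node (.node .nil (nat_lit 2139) (nat_lit 7185)
  (nat_lit 3438) .nil) (nat_lit 2146) (nat_lit 7553) (nat_lit 317) (.node .nil (nat_lit 2157) (nat_lit 2497)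
  (nat_lit 197) .nil)) (nat_lit 2158) (nat_lit 4641) (nat_lit 2493) (.node (.node .nil (nat_lit 2160) (nat_lit
  2385) (nat_lit 4080) .nil) (nat_lit 2163) (nat_lit 449) (nat_lit 1672) (.node .nil (nat_lit 2175) (nat_lit
  7632) (nat_lit 756) .nil))) (nat_lit 2179) (nat_lit 192) (nat_lit 1229) (.node (.node (.node .nil (nat_lit
  2188) (nat_lit 432) (nat_lit 1672) .nil) (nat_lit 2191) (nat_lit 3521) (nat_lit 29) (.node .nil (nat_lit
  2205) (nat_lit 4561) (nat_lit 3792) .nil)) (nat_lit 2212) (nat_lit 945) (nat_lit 643) (.node (.node .nil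
  (nat_lit 2216) (nat_lit 3648) (nat_lit 3102) .nil) (nat_lit 2219) (nat_lit 4961) (nat_lit 891) (.node .nil
  (nat_lit 2234) (nat_lit 5473) (nat_lit 1230) .nil)))) (nat_lit 2253) (nat_lit 977) (nat_lit 2638) (.node
  (.node (.node (.node .nil (nat_lit 2256) (nat_lit 3457) (nat_lit 1403) .nil) (nat_lit 2277) (nat_lit 6897)
  (nat_lit 424) (.node .nil (nat_lit 2278) (nat_lit 5249) (nat_lit 2256) .nil)) (nat_lit 2281) (nat_lit 5520)
  (nat_lit 3090) (.node (.node .nil (nat_lit 2292) (nat_lit 400) (nat_lit 2928) .nil) (nat_lit 2296) (nat_lit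
  4432) (nat_lit 1799) (.node .nil (nat_lit 2299) (nat_lit 5216) (nat_lit 2357) .nil))) (nat_lit 2316)
  (nat_lit 5312) (nat_lit 2191) (.node (.node (.node .nil (nat_lit 2321) (nat_lit 5201) (nat_lit 1949) .nil)
  (nat_lit 2340) (nat_lit 1888) (nat_lit 3694) (.node .nil (nat_lit 2343) (nat_lit 5440) (nat_lit 92) .nil))
  (nat_lit 2344) (nat_lit 4160) (nat_lit 537) (.node (.node .nil (nat_lit 2357) (nat_lit 3440) (nat_lit 1403)
  .nil) (nat_lit 2361) (nat_lit 6992) (nat_lit 2316) .nil)))) (nat_lit 2362) (nat_lit 113) (nat_lit 1283)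
  (.node (.node (.node (.node (.node .nil (nat_lit 2370) (nat_lit 1392) (nat_lit 2758) .nil) (nat_lit 2381)
  (nat_lit 368) (nat_lit 2179) (.node .nil (nat_lit 2382) (nat_lit 6560) (nat_lit 1713) .nil)) (nat_lit 2396)
  (nat_lit 17) (nat_lit 3126) (.node (.node .nil (nat_lit 2405) (nat_lit 2800) (nat_lit 3682) .nil) (nat_lit
  2409) (nat_lit 304) (nat_lit 533) (.node .nil (nat_lit 2410) (nat_lit 6144) (nat_lit 3111) .nil))) (nat_lit
  2427) (nat_lit 5985) (nat_lit 1576) (.node (.node (.node .nil (nat_lit 2436) (nat_lit 2305) (nat_lit 2501)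
  .nil) (nat_lit 2440) (nat_lit 5456) (nat_lit 846) (.node .nil (nat_lit 2443) (nat_lit 1969) (nat_lit 2109)
  .nil)) (nat_lit 2453) (nat_lit 3472) (nat_lit 1068) (.node (.node .nil (nat_lit 2454) (nat_lit 1920)
  (nat_lit 2590) .nil) (nat_lit 2457) (nat_lit 4801) (nat_lit 1776) (.node .nil (nat_lit 2464) (nat_lit 4176)
  (nat_lit 1455) .nil)))) (nat_lit 2493) (nat_lit 2912) (nat_lit 717) (.node (.node (.node (.node .nil
  (nat_lit 2501) (nat_lit 1281) (nat_lit 2798) .nil) (nat_lit 2502) (nat_lit 257) (nat_lit 918) (.node .nil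
  (nat_lit 2505) (nat_lit 7585) (nat_lit 622) .nil)) (nat_lit 2519) (nat_lit 4272) (nat_lit 2578) (.node
  (.node .nil (nat_lit 2529) (nat_lit 5808) (nat_lit 1443) .nil) (nat_lit 2530) (nat_lit 1777) (nat_lit 240)
  (.node .nil (nat_lit 2542) (nat_lit 2176) (nat_lit 2022) .nil))) (nat_lit 2544) (nat_lit 6641) (nat_lit
  3645) (.node (.node (.node .nil (nat_lit 2563) (nat_lit 5329) (nat_lit 621) .nil) (nat_lit 2572) (nat_lit
  5697) (nat_lit 917) (.node .nil (nat_lit 2575) (nat_lit 3328) (nat_lit 3918) .nil)) (nat_lit 2577) (nat_lit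
  5025) (nat_lit 3232) (.node (.node .nil (nat_lit 2578) (nat_lit 2608) (nat_lit 2092) .nil) (nat_lit 2590)
  (nat_lit 1040) (nat_lit 1115) .nil))))) (nat_lit 2596) (nat_lit 865) (nat_lit 2163) (.node (.node (.node
  (.node (.node (.node .nil (nat_lit 2600) (nat_lit 4336) (nat_lit 3050) .nil) (nat_lit 2603) (nat_lit 3361)
  (nat_lit 2443) (.node .nil (nat_lit 2613) (nat_lit 4241) (nat_lit 4038) .nil)) (nat_lit 2614) (nat_lit 3776)
  (nat_lit 698) (.node (.node .nil (nat_lit 2617) (nat_lit 7761) (nat_lit 1862) .nil) (nat_lit 2625) (nat_lit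
  1536) (nat_lit 3335) (.node .nil (nat_lit 2626) (nat_lit 5776) (nat_lit 821) .nil))) (nat_lit 2638) (nat_lit
  513) (nat_lit 2502) (.node (.node (.node .nil (nat_lit 2640) (nat_lit 2577) (nat_lit 3979) .nil) (nat_lit
  2666) (nat_lit 5840) (nat_lit 1492) (.node .nil (nat_lit 2676) (nat_lit 2465) (nat_lit 3309) .nil)) (nat_lit
  2680) (nat_lit 2945) (nat_lit 1133) (.node (.node .nil (nat_lit 2683) (nat_lit 7536) (nat_lit 3777) .nil)
  (nat_lit 2692) (nat_lit 5056) (nat_lit 1738) (.node .nil (nat_lit 2695) (nat_lit 5361) (nat_lit 2944)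
  .nil)))) (nat_lit 2696) (nat_lit 4689) (nat_lit 2680) (.node (.node (.node (.node .nil (nat_lit 2709)
  (nat_lit 4881) (nat_lit 1357) .nil) (nat_lit 2713) (nat_lit 6880) (nat_lit 424) (.node .nil (nat_lit 2714)
  (nat_lit 5169) (nat_lit 1205) .nil)) (nat_lit 2720) (nat_lit 6752) (nat_lit 3164) (.node (.node .nil
  (nat_lit 2723) (nat_lit 6961) (nat_lit 2278) .nil) (nat_lit 2735) (nat_lit 5904) (nat_lit 3609) (.node .nil
  (nat_lit 2738) (nat_lit 5393) (nat_lit 3923) .nil))) (nat_lit 2749) (nat_lit 6480) (nat_lit 2878) (.node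
  (.node (.node .nil (nat_lit 2750) (nat_lit 3040) (nat_lit 1292) .nil) (nat_lit 2758) (nat_lit 752) (nat_lit
  2292) (.node .nil (nat_lit 2772) (nat_lit 2785) (nat_lit 1638) .nil)) (nat_lit 2775) (nat_lit 1200) (nat_lit
  993) (.node (.node .nil (nat_lit 2776) (nat_lit 2113) (nat_lit 3814) .nil) (nat_lit 2786) (nat_lit 7137)
  (nat_lit 3021) .nil)))) (nat_lit 2797) (nat_lit 3296) (nat_lit 39) (.node (.node (.node (.node (.node .nil
  (nat_lit 2798) (nat_lit 689) (nat_lit 845) .nil) (nat_lit 2812) (nat_lit 3153) (nat_lit 3456) (.node .nil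
  (nat_lit 2820) (nat_lit 1792) (nat_lit 2253) .nil)) (nat_lit 2824) (nat_lit 1873) (nat_lit 2997) (.node
  (.node .nil (nat_lit 2827) (nat_lit 2929) (nat_lit 717) .nil) (nat_lit 2842) (nat_lit 6384) (nat_lit 413)
  (.node .nil (nat_lit 2848) (nat_lit 1617) (nat_lit 83) .nil))) (nat_lit 2865) (nat_lit 2193) (nat_lit 2022)
  (.node (.node (.node .nil (nat_lit 2866) (nat_lit 5633) (nat_lit 3742) .nil) (nat_lit 2878) (nat_lit 4656)
  (nat_lit 2827) (.node .nil (nat_lit 2890) (nat_lit 6832) (nat_lit 2692) .nil)) (nat_lit 2903) (nat_lit 1424)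
  (nat_lit 3558) (.node (.node .nil (nat_lit 2925) (nat_lit 7569) (nat_lit 3064) .nil) (nat_lit 2928) (nat_lit
  209) (nat_lit 1229) (.node .nil (nat_lit 2944) (nat_lit 3569) (nat_lit 2776) .nil)))) (nat_lit 2947)
  (nat_lit 2736) (nat_lit 3390) (.node (.node (.node (.node .nil (nat_lit 2959) (nat_lit 2865) (nat_lit 2848)
  .nil) (nat_lit 2961) (nat_lit 4625) (nat_lit 3437) (.node .nil (nat_lit 2987) (nat_lit 6096) (nat_lit 3039)
  .nil)) (nat_lit 2997) (nat_lit 1009) (nat_lit 3595) (.node (.node .nil (nat_lit 3001) (nat_lit 5120)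
  (nat_lit 3832) .nil) (nat_lit 3002) (nat_lit 7696) (nat_lit 202) (.node .nil (nat_lit 3010) (nat_lit 5649)
  (nat_lit 139) .nil))) (nat_lit 3021) (nat_lit 5553) (nat_lit 371) (.node (.node (.node .nil (nat_lit 3022)
  (nat_lit 6512) (nat_lit 325) .nil) (nat_lit 3024) (nat_lit 2337) (nat_lit 3654) (.node .nil (nat_lit 3027)
  (nat_lit 1505) (nat_lit 1854) .nil)) (nat_lit 3039) (nat_lit 4256) (nat_lit 2640) (.node (.node .nil
  (nat_lit 3045) (nat_lit 3280) (nat_lit 2454) .nil) (nat_lit 3049) (nat_lit 321) (nat_lit 533) .nil))))))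
def ts495_3 : T := (.node (.node (.node (.node (.node (.node (.node .nil (nat_lit 3060) (nat_lit 928) (nat_lit
  643) .nil) (nat_lit 3063) (nat_lit 2065) (nat_lit 1112) (.node .nil (nat_lit 3064) (nat_lit 6192) (nat_lit
  3828) .nil)) (nat_lit 3084) (nat_lit 833) (nat_lit 2188) (.node (.node .nil (nat_lit 3090) (nat_lit 3744)
  (nat_lit 1696) .nil) (nat_lit 3101) (nat_lit 3537) (nat_lit 3897) (.node .nil (nat_lit 3102) (nat_lit 2160)
  (nat_lit 2775) .nil))) (nat_lit 3108) (nat_lit 2449) (nat_lit 874) (.node (.node (.node .nil (nat_lit 3111)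
  (nat_lit 4289) (nat_lit 2578) .nil) (nat_lit 3112) (nat_lit 4353) (nat_lit 3050) (.node .nil (nat_lit 3126)
  (nat_lit 0) (nat_lit 3126) .nil)) (nat_lit 3137) (nat_lit 3616) (nat_lit 907) (.node (.node .nil (nat_lit
  3164) (nat_lit 4976) (nat_lit 1257) .nil) (nat_lit 3174) (nat_lit 5712) (nat_lit 1839) (.node .nil (nat_lit
  3195) (nat_lit 5761) (nat_lit 1548) .nil)))) (nat_lit 3204) (nat_lit 7120) (nat_lit 2118) (.node (.node
  (.node (.node .nil (nat_lit 3208) (nat_lit 6017) (nat_lit 353) .nil) (nat_lit 3211) (nat_lit 6657) (nat_lit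
  2073) (.node .nil (nat_lit 3226) (nat_lit 481) (nat_lit 4012) .nil)) (nat_lit 3232) (nat_lit 3248) (nat_lit
  720) (.node (.node .nil (nat_lit 3249) (nat_lit 2288) (nat_lit 2501) .nil) (nat_lit 3250) (nat_lit 2960)
  (nat_lit 2039) (.node .nil (nat_lit 3262) (nat_lit 5344) (nat_lit 2944) .nil))) (nat_lit 3274) (nat_lit
  5088) (nat_lit 2575) (.node (.node (.node .nil (nat_lit 3287) (nat_lit 4608) (nat_lit 3437) .nil) (nat_lit
  3309) (nat_lit 1377) (nat_lit 300) (.node .nil (nat_lit 3312) (nat_lit 5921) (nat_lit 3609) .nil)) (nat_lit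
  3332) (nat_lit 2625) (nat_lit 2092) (.node (.node .nil (nat_lit 3335) (nat_lit 848) (nat_lit 2163) .nil)
  (nat_lit 3336) (nat_lit 5568) (nat_lit 2614) .nil)))) (nat_lit 3349) (nat_lit 6528) (nat_lit 3412) (.node
  (.node (.node (.node (.node .nil (nat_lit 3353) (nat_lit 2689) (nat_lit 1817) .nil) (nat_lit 3354) (nat_lit
  7472) (nat_lit 3857) (.node .nil (nat_lit 3360) (nat_lit 6448) (nat_lit 3287) .nil)) (nat_lit 3363) (nat_lit
  6817) (nat_lit 562) (.node (.node .nil (nat_lit 3375) (nat_lit 7073) (nat_lit 2738) .nil) (nat_lit 3378)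
  (nat_lit 6337) (nat_lit 1415) (.node .nil (nat_lit 3389) (nat_lit 1856) (nat_lit 2997) .nil))) (nat_lit
  3390) (nat_lit 1553) (nat_lit 3335) (.node (.node (.node .nil (nat_lit 3398) (nat_lit 6977) (nat_lit 639)
  .nil) (nat_lit 3412) (nat_lit 4721) (nat_lit 3250) (.node .nil (nat_lit 3415) (nat_lit 2432) (nat_lit 874)
  .nil)) (nat_lit 3416) (nat_lit 6033) (nat_lit 1074) (.node (.node .nil (nat_lit 3426) (nat_lit 289) (nat_lit
  281) .nil) (nat_lit 3437) (nat_lit 2897) (nat_lit 225) (.node .nil (nat_lit 3438) (nat_lit 5616) (nat_lit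
  3742) .nil)))) (nat_lit 3452) (nat_lit 2833) (nat_lit 1876) (.node (.node (.node (.node .nil (nat_lit 3456)
  (nat_lit 1841) (nat_lit 449) .nil) (nat_lit 3485) (nat_lit 6209) (nat_lit 3828) (.node .nil (nat_lit 3495)
  (nat_lit 3216) (nat_lit 2340) .nil)) (nat_lit 3514) (nat_lit 2320) (nat_lit 3654) (.node (.node .nil
  (nat_lit 3533) (nat_lit 7345) (nat_lit 2666) .nil) (nat_lit 3539) (nat_lit 6161) (nat_lit 3111) (.node .nil
  (nat_lit 3548) (nat_lit 1264) (nat_lit 2798) .nil))) (nat_lit 3551) (nat_lit 3793) (nat_lit 1191) (.node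
  (.node (.node .nil (nat_lit 3557) (nat_lit 1313) (nat_lit 396) .nil) (nat_lit 3558) (nat_lit 769) (nat_lit
  2292) (.node .nil (nat_lit 3561) (nat_lit 7009) (nat_lit 2316) .nil)) (nat_lit 3575) (nat_lit 3136) (nat_lit
  573) (.node (.node .nil (nat_lit 3588) (nat_lit 7392) (nat_lit 4018) .nil) (nat_lit 3592) (nat_lit 6465)
  (nat_lit 2961) .nil))))) (nat_lit 3595) (nat_lit 529) (nat_lit 745) (.node (.node (.node (.node (.node
  (.node .nil (nat_lit 3605) (nat_lit 2593) (nat_lit 1188) .nil) (nat_lit 3606) (nat_lit 2273) (nat_lit 3548)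
  (.node .nil (nat_lit 3609) (nat_lit 4081) (nat_lit 3108) .nil)) (nat_lit 3616) (nat_lit 7793) (nat_lit 119)
  (.node (.node .nil (nat_lit 3645) (nat_lit 4817) (nat_lit 3906) .nil) (nat_lit 3653) (nat_lit 1345) (nat_lit
  58) (.node .nil (nat_lit 3654) (nat_lit 1296) (nat_lit 396) .nil))) (nat_lit 3657) (nat_lit 7105) (nat_lit
  2234) (.node (.node (.node .nil (nat_lit 3671) (nat_lit 7840) (nat_lit 2713) .nil) (nat_lit 3681) (nat_lit
  7425) (nat_lit 860) (.node .nil (nat_lit 3682) (nat_lit 1585) (nat_lit 2596) .nil)) (nat_lit 3694) (nat_lit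
  1025) (nat_lit 676) (.node (.node .nil (nat_lit 3696) (nat_lit 4993) (nat_lit 1257) .nil) (nat_lit 3712)
  (nat_lit 4929) (nat_lit 2812) (.node .nil (nat_lit 3715) (nat_lit 2704) (nat_lit 2625) .nil)))) (nat_lit
  3727) (nat_lit 3121) (nat_lit 2820) (.node (.node (.node (.node .nil (nat_lit 3730) (nat_lit 7153) (nat_lit
  1073) .nil) (nat_lit 3741) (nat_lit 4113) (nat_lit 1481) (.node .nil (nat_lit 3742) (nat_lit 3841) (nat_lit
  3249) .nil)) (nat_lit 3755) (nat_lit 5008) (nat_lit 3232) (.node (.node .nil (nat_lit 3766) (nat_lit 7200)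
  (nat_lit 3010) .nil) (nat_lit 3777) (nat_lit 6129) (nat_lit 2519) (.node .nil (nat_lit 3792) (nat_lit 2817)
  (nat_lit 3682) .nil))) (nat_lit 3795) (nat_lit 7233) (nat_lit 1818) (.node (.node (.node .nil (nat_lit 3807)
  (nat_lit 7777) (nat_lit 3994) .nil) (nat_lit 3814) (nat_lit 1168) (nat_lit 219) (.node .nil (nat_lit 3828)
  (nat_lit 4321) (nat_lit 3332) .nil)) (nat_lit 3831) (nat_lit 7329) (nat_lit 1148) (.node (.node .nil
  (nat_lit 3832) (nat_lit 3344) (nat_lit 2443) .nil) (nat_lit 3840) (nat_lit 3713) (nat_lit 2865) .nil))))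
  (nat_lit 3857) (nat_lit 6000) (nat_lit 353) (.node (.node (.node (.node (.node .nil (nat_lit 3858) (nat_lit
  5376) (nat_lit 3923) .nil) (nat_lit 3870) (nat_lit 1440) (nat_lit 804) (.node .nil (nat_lit 3879) (nat_lit
  4544) (nat_lit 3792) .nil)) (nat_lit 3893) (nat_lit 1153) (nat_lit 4066) (.node (.node .nil (nat_lit 3894)
  (nat_lit 3409) (nat_lit 1690) .nil) (nat_lit 3897) (nat_lit 2097) (nat_lit 1890) (.node .nil (nat_lit 3905)
  (nat_lit 4017) (nat_lit 2074) .nil))) (nat_lit 3906) (nat_lit 3072) (nat_lit 1098) (.node (.node (.node .nil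
  (nat_lit 3918) (nat_lit 1952) (nat_lit 2109) .nil) (nat_lit 3923) (nat_lit 3584) (nat_lit 3935) (.node .nil
  (nat_lit 3932) (nat_lit 5729) (nat_lit 1839) .nil)) (nat_lit 3935) (nat_lit 2128) (nat_lit 808) (.node
  (.node .nil (nat_lit 3946) (nat_lit 6849) (nat_lit 2692) .nil) (nat_lit 3959) (nat_lit 4096) (nat_lit 1481)
  (.node .nil (nat_lit 3979) (nat_lit 1457) (nat_lit 804) .nil)))) (nat_lit 3989) (nat_lit 6417) (nat_lit
  1385) (.node (.node (.node (.node .nil (nat_lit 3993) (nat_lit 7856) (nat_lit 1751) .nil) (nat_lit 3994)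
  (nat_lit 6689) (nat_lit 1169) (.node .nil (nat_lit 4012) (nat_lit 241) (nat_lit 2362) .nil)) (nat_lit 4018)
  (nat_lit 5937) (nat_lit 3959) (.node (.node .nil (nat_lit 4029) (nat_lit 4913) (nat_lit 3727) .nil) (nat_lit
  4030) (nat_lit 2977) (nat_lit 2039) (.node .nil (nat_lit 4038) (nat_lit 2560) (nat_lit 3979) .nil)))
  (nat_lit 4059) (nat_lit 1249) (nat_lit 1978) (.node (.node (.node .nil (nat_lit 4066) (nat_lit 625) (nat_lit
  3049) .nil) (nat_lit 4077) (nat_lit 5872) (nat_lit 1880) (.node .nil (nat_lit 4078) (nat_lit 4209) (nat_lit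
  873) .nil)) (nat_lit 4080) (nat_lit 1328) (nat_lit 58) (.node (.node .nil (nat_lit 4083) (nat_lit 6769)
  (nat_lit 3164) .nil) (nat_lit 4095) (nat_lit 5585) (nat_lit 1244) .nil))))))
def ts495 : T := (.node (.node ts495_0 (nat_lit 1071) (nat_lit 6929) (nat_lit 2714) ts495_1) (nat_lit 2118)
  (nat_lit 5488) (nat_lit 3840) (.node ts495_2 (nat_lit 3050) (nat_lit 2640) (nat_lit 3027) ts495_3))
theorem ts495_chk : band (orbChk apS (gensOf cDD) 3126 (4096) ts495) (Nat.beq ts495.size 495) = true := by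
  decide +kernel
theorem ts495_card : (orbit (stabilizer M24 ({D0, univ \ D0} : Finset (Finset GolayPt))) (sext (unmask 274433))).ncard = 495 :=
  orbit_ncard_of_chk acX (sext_rep (t := 274433) (k := 3126) (by decide +kernel)).1 cDD_chk stab_DD (sext_rep (t := 274433) (k := 3126) (by decide +kernel)).2 ts495_chk

def ts880_0 : T := (.node (.node (.node (.node (.node (.node (.node .nil (nat_lit 23) (nat_lit 6001) (nat_lit
  377) .nil) (nat_lit 27) (nat_lit 3568) (nat_lit 1325) (.node .nil (nat_lit 45) (nat_lit 13761) (nat_lit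
  1106) .nil)) (nat_lit 46) (nat_lit 6928) (nat_lit 1198) (.node (.node .nil (nat_lit 51) (nat_lit 13616)
  (nat_lit 972) .nil) (nat_lit 60) (nat_lit 2801) (nat_lit 999) .nil)) (nat_lit 63) (nat_lit 1153) (nat_lit
  2719) (.node (.node (.node .nil (nat_lit 71) (nat_lit 7760) (nat_lit 579) .nil) (nat_lit 75) (nat_lit 10737)
  (nat_lit 3431) (.node .nil (nat_lit 85) (nat_lit 3777) (nat_lit 2858) .nil)) (nat_lit 86) (nat_lit 865)
  (nat_lit 594) (.node (.node .nil (nat_lit 89) (nat_lit 5265) (nat_lit 938) .nil) (nat_lit 90) (nat_lit 3169)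
  (nat_lit 2770) .nil))) (nat_lit 99) (nat_lit 3072) (nat_lit 2261) (.node (.node (.node (.node .nil (nat_lit
  108) (nat_lit 12929) (nat_lit 1913) .nil) (nat_lit 111) (nat_lit 6016) (nat_lit 1186) (.node .nil (nat_lit
  113) (nat_lit 2849) (nat_lit 2124) .nil)) (nat_lit 114) (nat_lit 1697) (nat_lit 308) (.node (.node .nil
  (nat_lit 125) (nat_lit 1569) (nat_lit 204) .nil) (nat_lit 126) (nat_lit 4689) (nat_lit 2484) .nil)) (nat_lit
  141) (nat_lit 5793) (nat_lit 3801) (.node (.node (.node .nil (nat_lit 142) (nat_lit 5344) (nat_lit 1529)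
  .nil) (nat_lit 147) (nat_lit 11873) (nat_lit 2196) (.node .nil (nat_lit 156) (nat_lit 3856) (nat_lit 222)
  .nil)) (nat_lit 165) (nat_lit 9072) (nat_lit 3370) (.node (.node .nil (nat_lit 166) (nat_lit 7537) (nat_lit
  3143) .nil) (nat_lit 169) (nat_lit 12528) (nat_lit 349) .nil)))) (nat_lit 170) (nat_lit 2464) (nat_lit 3951)
  (.node (.node (.node (.node (.node .nil (nat_lit 180) (nat_lit 12784) (nat_lit 1599) .nil) (nat_lit 183)
  (nat_lit 225) (nat_lit 3058) (.node .nil (nat_lit 184) (nat_lit 12737) (nat_lit 2570) .nil)) (nat_lit 187)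
  (nat_lit 11920) (nat_lit 1146) (.node (.node .nil (nat_lit 195) (nat_lit 11376) (nat_lit 2434) .nil)
  (nat_lit 204) (nat_lit 816) (nat_lit 3015) .nil)) (nat_lit 207) (nat_lit 2017) (nat_lit 1162) (.node (.node
  (.node .nil (nat_lit 209) (nat_lit 2785) (nat_lit 711) .nil) (nat_lit 210) (nat_lit 7392) (nat_lit 663)
  (.node .nil (nat_lit 221) (nat_lit 10704) (nat_lit 210) .nil)) (nat_lit 222) (nat_lit 2209) (nat_lit 831)
  (.node (.node .nil (nat_lit 228) (nat_lit 11841) (nat_lit 1556) .nil) (nat_lit 231) (nat_lit 6192) (nat_lit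
  788) .nil))) (nat_lit 232) (nat_lit 13649) (nat_lit 3732) (.node (.node (.node (.node .nil (nat_lit 235)
  (nat_lit 13376) (nat_lit 3939) .nil) (nat_lit 245) (nat_lit 10592) (nat_lit 1587) (.node .nil (nat_lit 249)
  (nat_lit 9281) (nat_lit 2337) .nil)) (nat_lit 250) (nat_lit 8241) (nat_lit 89) (.node (.node .nil (nat_lit
  269) (nat_lit 6960) (nat_lit 1484) .nil) (nat_lit 270) (nat_lit 1025) (nat_lit 1644) .nil)) (nat_lit 275)
  (nat_lit 1985) (nat_lit 2393) (.node (.node (.node .nil (nat_lit 284) (nat_lit 5776) (nat_lit 3801) .nil)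
  (nat_lit 287) (nat_lit 12561) (nat_lit 473) (.node .nil (nat_lit 293) (nat_lit 4256) (nat_lit 813) .nil))
  (nat_lit 294) (nat_lit 9456) (nat_lit 3359) (.node (.node .nil (nat_lit 297) (nat_lit 2881) (nat_lit 3186)
  .nil) (nat_lit 298) (nat_lit 11728) (nat_lit 360) .nil))))) (nat_lit 308) (nat_lit 880) (nat_lit 2104)
  (.node (.node (.node (.node (.node (.node .nil (nat_lit 311) (nat_lit 6369) (nat_lit 2623) .nil) (nat_lit
  312) (nat_lit 833) (nat_lit 3015) (.node .nil (nat_lit 315) (nat_lit 5616) (nat_lit 2685) .nil)) (nat_lit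
  323) (nat_lit 737) (nat_lit 3527) (.node (.node .nil (nat_lit 332) (nat_lit 5904) (nat_lit 1472) .nil)
  (nat_lit 335) (nat_lit 208) (nat_lit 3058) .nil)) (nat_lit 337) (nat_lit 13585) (nat_lit 778) (.node (.node
  (.node .nil (nat_lit 338) (nat_lit 13105) (nat_lit 2674) .nil) (nat_lit 349) (nat_lit 9361) (nat_lit 2954)
  (.node .nil (nat_lit 350) (nat_lit 2385) (nat_lit 754) .nil)) (nat_lit 356) (nat_lit 2561) (nat_lit 2009)
  (.node (.node .nil (nat_lit 359) (nat_lit 8865) (nat_lit 3745) .nil) (nat_lit 360) (nat_lit 8464) (nat_lit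
  3926) .nil))) (nat_lit 363) (nat_lit 4368) (nat_lit 356) (.node (.node (.node (.node .nil (nat_lit 373)
  (nat_lit 13936) (nat_lit 2100) .nil) (nat_lit 374) (nat_lit 10641) (nat_lit 2324) (.node .nil (nat_lit 377)
  (nat_lit 3584) (nat_lit 1091) .nil)) (nat_lit 378) (nat_lit 11473) (nat_lit 404) (.node (.node .nil (nat_lit
  389) (nat_lit 1952) (nat_lit 634) .nil) (nat_lit 390) (nat_lit 7681) (nat_lit 1793) .nil)) (nat_lit 393)
  (nat_lit 4305) (nat_lit 1785) (.node (.node (.node .nil (nat_lit 394) (nat_lit 2160) (nat_lit 63) .nil)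
  (nat_lit 404) (nat_lit 8272) (nat_lit 2415) (.node .nil (nat_lit 407) (nat_lit 11408) (nat_lit 1885) .nil))
  (nat_lit 408) (nat_lit 9089) (nat_lit 332) (.node (.node .nil (nat_lit 411) (nat_lit 3760) (nat_lit 2858)
  .nil) (nat_lit 417) (nat_lit 7376) (nat_lit 2284) .nil)))) (nat_lit 418) (nat_lit 13089) (nat_lit 1127)
  (.node (.node (.node (.node (.node .nil (nat_lit 430) (nat_lit 7089) (nat_lit 3303) .nil) (nat_lit 432)
  (nat_lit 8257) (nat_lit 2730) (.node .nil (nat_lit 444) (nat_lit 3233) (nat_lit 554) .nil)) (nat_lit 447)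
  (nat_lit 5392) (nat_lit 444) (.node (.node .nil (nat_lit 452) (nat_lit 2753) (nat_lit 3410) .nil) (nat_lit
  455) (nat_lit 769) (nat_lit 1066) .nil)) (nat_lit 456) (nat_lit 13216) (nat_lit 3585) (.node (.node (.node
  .nil (nat_lit 459) (nat_lit 8833) (nat_lit 3242) .nil) (nat_lit 469) (nat_lit 3745) (nat_lit 2791) (.node
  .nil (nat_lit 470) (nat_lit 10448) (nat_lit 1873) .nil)) (nat_lit 473) (nat_lit 9393) (nat_lit 615) (.node
  (.node .nil (nat_lit 480) (nat_lit 11505) (nat_lit 3636) .nil) (nat_lit 483) (nat_lit 6913) (nat_lit 1868)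
  .nil))) (nat_lit 497) (nat_lit 11713) (nat_lit 2433) (.node (.node (.node (.node .nil (nat_lit 498) (nat_lit
  720) (nat_lit 3527) .nil) (nat_lit 510) (nat_lit 11456) (nat_lit 432) (.node .nil (nat_lit 525) (nat_lit
  13968) (nat_lit 3135) .nil)) (nat_lit 526) (nat_lit 10321) (nat_lit 3409) (.node (.node .nil (nat_lit 531)
  (nat_lit 3648) (nat_lit 1391) .nil) (nat_lit 540) (nat_lit 10129) (nat_lit 924) .nil)) (nat_lit 543)
  (nat_lit 12833) (nat_lit 2788) (.node (.node (.node .nil (nat_lit 549) (nat_lit 12705) (nat_lit 4047) .nil)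
  (nat_lit 550) (nat_lit 8160) (nat_lit 1260) .nil) (nat_lit 553) (nat_lit 12897) (nat_lit 1871) (.node (.node
  .nil (nat_lit 554) (nat_lit 1809) (nat_lit 3639) .nil) (nat_lit 564) (nat_lit 8417) (nat_lit 2170)
  .nil))))))
def ts880_1 : T := (.node (.node (.node (.node (.node (.node (.node .nil (nat_lit 571) (nat_lit 11393)
  (nat_lit 2434) .nil) (nat_lit 579) (nat_lit 4864) (nat_lit 3702) (.node .nil (nat_lit 588) (nat_lit 5329)
  (nat_lit 1794) .nil)) (nat_lit 593) (nat_lit 4113) (nat_lit 2103) (.node (.node .nil (nat_lit 594) (nat_lit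
  433) (nat_lit 335) .nil) (nat_lit 605) (nat_lit 465) (nat_lit 183) .nil)) (nat_lit 606) (nat_lit 9217)
  (nat_lit 2511) (.node (.node (.node .nil (nat_lit 612) (nat_lit 3152) (nat_lit 2770) .nil) (nat_lit 615)
  (nat_lit 6160) (nat_lit 1248) (.node .nil (nat_lit 616) (nat_lit 5761) (nat_lit 1124) .nil)) (nat_lit 619)
  (nat_lit 9664) (nat_lit 2199) (.node (.node .nil (nat_lit 629) (nat_lit 1472) (nat_lit 455) .nil) (nat_lit
  630) (nat_lit 10784) (nat_lit 4085) .nil))) (nat_lit 633) (nat_lit 10832) (nat_lit 3504) (.node (.node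
  (.node (.node .nil (nat_lit 634) (nat_lit 1040) (nat_lit 898) .nil) (nat_lit 645) (nat_lit 8897) (nat_lit
  1348) (.node .nil (nat_lit 646) (nat_lit 12993) (nat_lit 3132) .nil)) (nat_lit 649) (nat_lit 6880) (nat_lit
  2046) (.node (.node .nil (nat_lit 650) (nat_lit 11105) (nat_lit 1212) .nil) (nat_lit 660) (nat_lit 6416)
  (nat_lit 156) .nil)) (nat_lit 663) (nat_lit 4544) (nat_lit 3758) (.node (.node (.node .nil (nat_lit 664)
  (nat_lit 3408) (nat_lit 3307) .nil) (nat_lit 667) (nat_lit 10400) (nat_lit 729) (.node .nil (nat_lit 673)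
  (nat_lit 11201) (nat_lit 1570) .nil)) (nat_lit 674) (nat_lit 12369) (nat_lit 3930) (.node (.node .nil
  (nat_lit 685) (nat_lit 9920) (nat_lit 3432) .nil) (nat_lit 688) (nat_lit 12720) (nat_lit 2570) .nil))))
  (nat_lit 691) (nat_lit 11216) (nat_lit 1080) (.node (.node (.node (.node (.node .nil (nat_lit 700) (nat_lit
  4448) (nat_lit 1661) .nil) (nat_lit 703) (nat_lit 6096) (nat_lit 2127) (.node .nil (nat_lit 708) (nat_lit
  12449) (nat_lit 1647) .nil)) (nat_lit 711) (nat_lit 1521) (nat_lit 3863) (.node (.node .nil (nat_lit 712)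
  (nat_lit 6560) (nat_lit 2034) .nil) (nat_lit 715) (nat_lit 2305) (nat_lit 1943) .nil)) (nat_lit 726)
  (nat_lit 10929) (nat_lit 2210) (.node (.node (.node .nil (nat_lit 729) (nat_lit 7072) (nat_lit 3303) .nil)
  (nat_lit 736) (nat_lit 3488) (nat_lit 275) (.node .nil (nat_lit 748) (nat_lit 13009) (nat_lit 3465) .nil))
  (nat_lit 751) (nat_lit 3521) (nat_lit 1265) (.node (.node .nil (nat_lit 753) (nat_lit 7297) (nat_lit 700)
  .nil) (nat_lit 754) (nat_lit 1281) (nat_lit 3012) .nil))) (nat_lit 765) (nat_lit 8432) (nat_lit 1649) (.node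
  (.node (.node (.node .nil (nat_lit 766) (nat_lit 8593) (nat_lit 836) .nil) (nat_lit 773) (nat_lit 10177)
  (nat_lit 1161) (.node .nil (nat_lit 774) (nat_lit 5121) (nat_lit 3569) .nil)) (nat_lit 777) (nat_lit 9713)
  (nat_lit 3081) (.node (.node .nil (nat_lit 778) (nat_lit 11328) (nat_lit 1995) .nil) (nat_lit 788) (nat_lit
  3729) (nat_lit 828) .nil)) (nat_lit 791) (nat_lit 13569) (nat_lit 2628) (.node (.node (.node .nil (nat_lit
  792) (nat_lit 13793) (nat_lit 3004) .nil) (nat_lit 795) (nat_lit 12752) (nat_lit 3294) .nil) (nat_lit 801)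
  (nat_lit 10512) (nat_lit 3864) (.node (.node .nil (nat_lit 802) (nat_lit 3265) (nat_lit 3735) .nil) (nat_lit
  813) (nat_lit 2481) (nat_lit 3951) .nil))))) (nat_lit 814) (nat_lit 401) (nat_lit 1559) (.node (.node (.node
  (.node (.node (.node .nil (nat_lit 816) (nat_lit 5072) (nat_lit 1037) .nil) (nat_lit 819) (nat_lit 6352)
  (nat_lit 2623) (.node .nil (nat_lit 828) (nat_lit 2113) (nat_lit 2266) .nil)) (nat_lit 831) (nat_lit 1168)
  (nat_lit 1608) (.node (.node .nil (nat_lit 836) (nat_lit 5504) (nat_lit 1410) .nil) (nat_lit 839) (nat_lit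
  11616) (nat_lit 2992) .nil)) (nat_lit 840) (nat_lit 6608) (nat_lit 2549) (.node (.node (.node .nil (nat_lit
  843) (nat_lit 2273) (nat_lit 1626) .nil) (nat_lit 853) (nat_lit 3248) (nat_lit 3735) (.node .nil (nat_lit
  854) (nat_lit 8289) (nat_lit 2415) .nil)) (nat_lit 857) (nat_lit 5808) (nat_lit 736) (.node (.node .nil
  (nat_lit 864) (nat_lit 11232) (nat_lit 3860) .nil) (nat_lit 867) (nat_lit 12592) (nat_lit 294) .nil)))
  (nat_lit 876) (nat_lit 7441) (nat_lit 3140) (.node (.node (.node (.node .nil (nat_lit 879) (nat_lit 10304)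
  (nat_lit 3409) .nil) (nat_lit 882) (nat_lit 12817) (nat_lit 2569) (.node .nil (nat_lit 893) (nat_lit 4097)
  (nat_lit 3057) .nil)) (nat_lit 894) (nat_lit 10193) (nat_lit 649) (.node (.node .nil (nat_lit 897) (nat_lit
  7792) (nat_lit 3663) .nil) (nat_lit 898) (nat_lit 529) (nat_lit 1052) .nil)) (nat_lit 909) (nat_lit 13025)
  (nat_lit 1508) (.node (.node (.node .nil (nat_lit 910) (nat_lit 12193) (nat_lit 3228) .nil) (nat_lit 912)
  (nat_lit 13121) (nat_lit 2769) (.node .nil (nat_lit 915) (nat_lit 1313) (nat_lit 937) .nil)) (nat_lit 924)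
  (nat_lit 6817) (nat_lit 593) (.node (.node .nil (nat_lit 927) (nat_lit 10113) (nat_lit 2857) .nil) (nat_lit
  933) (nat_lit 5601) (nat_lit 3586) .nil)))) (nat_lit 934) (nat_lit 12144) (nat_lit 2795) (.node (.node
  (.node (.node (.node .nil (nat_lit 937) (nat_lit 672) (nat_lit 2222) .nil) (nat_lit 938) (nat_lit 3137)
  (nat_lit 4090) (.node .nil (nat_lit 951) (nat_lit 3553) (nat_lit 207) .nil)) (nat_lit 952) (nat_lit 9312)
  (nat_lit 955) (.node (.node .nil (nat_lit 955) (nat_lit 6113) (nat_lit 2127) .nil) (nat_lit 960) (nat_lit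
  7809) (nat_lit 3663) .nil)) (nat_lit 963) (nat_lit 4832) (nat_lit 113) (.node (.node (.node .nil (nat_lit
  972) (nat_lit 11632) (nat_lit 564) .nil) (nat_lit 975) (nat_lit 14033) (nat_lit 4023) (.node .nil (nat_lit
  977) (nat_lit 7745) (nat_lit 2554) .nil)) (nat_lit 989) (nat_lit 9264) (nat_lit 2337) (.node (.node .nil
  (nat_lit 996) (nat_lit 1841) (nat_lit 3369) .nil) (nat_lit 999) (nat_lit 1553) (nat_lit 1105) .nil)))
  (nat_lit 1000) (nat_lit 3105) (nat_lit 1449) (.node (.node (.node (.node .nil (nat_lit 1003) (nat_lit 6657)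
  (nat_lit 3281) .nil) (nat_lit 1013) (nat_lit 11264) (nat_lit 4032) (.node .nil (nat_lit 1014) (nat_lit 1392)
  (nat_lit 498) .nil)) (nat_lit 1017) (nat_lit 5936) (nat_lit 951) (.node (.node .nil (nat_lit 1037) (nat_lit
  3009) (nat_lit 3888) .nil) (nat_lit 1038) (nat_lit 1185) (nat_lit 1608) .nil)) (nat_lit 1043) (nat_lit
  13489) (nat_lit 2429) (.node (.node (.node .nil (nat_lit 1052) (nat_lit 256) (nat_lit 2470) .nil) (nat_lit
  1061) (nat_lit 12497) (nat_lit 1238) .nil) (nat_lit 1062) (nat_lit 176) (nat_lit 2656) (.node (.node .nil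
  (nat_lit 1065) (nat_lit 13841) (nat_lit 3158) .nil) (nat_lit 1066) (nat_lit 384) (nat_lit 1559) .nil))))))
def ts880_2 : T := (.node (.node (.node (.node (.node (.node (.node .nil (nat_lit 1079) (nat_lit 14064)
  (nat_lit 373) .nil) (nat_lit 1080) (nat_lit 8000) (nat_lit 816) (.node .nil (nat_lit 1083) (nat_lit 3888)
  (nat_lit 3330) .nil)) (nat_lit 1091) (nat_lit 2049) (nat_lit 3555) (.node (.node .nil (nat_lit 1100)
  (nat_lit 9296) (nat_lit 703) .nil) (nat_lit 1103) (nat_lit 4800) (nat_lit 3213) .nil)) (nat_lit 1105)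
  (nat_lit 801) (nat_lit 814) (.node (.node (.node .nil (nat_lit 1106) (nat_lit 12001) (nat_lit 2646) .nil)
  (nat_lit 1117) (nat_lit 9857) (nat_lit 2990) (.node .nil (nat_lit 1118) (nat_lit 6384) (nat_lit 1944) .nil))
  (nat_lit 1124) (nat_lit 3441) (nat_lit 2045) (.node (.node .nil (nat_lit 1127) (nat_lit 10336) (nat_lit
  2668) .nil) (nat_lit 1128) (nat_lit 6753) (nat_lit 3965) .nil))) (nat_lit 1131) (nat_lit 8545) (nat_lit
  1541) (.node (.node (.node (.node .nil (nat_lit 1142) (nat_lit 5984) (nat_lit 377) .nil) (nat_lit 1145)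
  (nat_lit 3712) (nat_lit 828) (.node .nil (nat_lit 1146) (nat_lit 8640) (nat_lit 3342) .nil)) (nat_lit 1157)
  (nat_lit 11520) (nat_lit 1285) (.node (.node .nil (nat_lit 1158) (nat_lit 65) (nat_lit 1829) .nil) (nat_lit
  1161) (nat_lit 6865) (nat_lit 1757) .nil)) (nat_lit 1162) (nat_lit 1072) (nat_lit 1856) (.node (.node (.node
  .nil (nat_lit 1172) (nat_lit 3680) (nat_lit 3600) .nil) (nat_lit 1176) (nat_lit 9376) (nat_lit 615) (.node
  .nil (nat_lit 1185) (nat_lit 10993) (nat_lit 3387) .nil)) (nat_lit 1186) (nat_lit 3601) (nat_lit 1091)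
  (.node (.node .nil (nat_lit 1197) (nat_lit 3280) (nat_lit 996) .nil) (nat_lit 1198) (nat_lit 4208) (nat_lit
  3542) .nil)))) (nat_lit 1200) (nat_lit 144) (nat_lit 1158) (.node (.node (.node (.node (.node .nil (nat_lit
  1203) (nat_lit 2577) (nat_lit 1014) .nil) (nat_lit 1212) (nat_lit 7872) (nat_lit 2289) (.node .nil (nat_lit
  1220) (nat_lit 10657) (nat_lit 3446) .nil)) (nat_lit 1223) (nat_lit 2241) (nat_lit 1038) (.node (.node .nil
  (nat_lit 1224) (nat_lit 1360) (nat_lit 2430) .nil) (nat_lit 1227) (nat_lit 3393) (nat_lit 3214) .nil))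
  (nat_lit 1237) (nat_lit 8496) (nat_lit 3612) (.node (.node (.node .nil (nat_lit 1238) (nat_lit 9329)
  (nat_lit 955) .nil) (nat_lit 1241) (nat_lit 7777) (nat_lit 579) (.node .nil (nat_lit 1242) (nat_lit 12881)
  (nat_lit 2875) .nil)) (nat_lit 1248) (nat_lit 3697) (nat_lit 3600) (.node (.node .nil (nat_lit 1260)
  (nat_lit 5200) (nat_lit 1000) .nil) (nat_lit 1263) (nat_lit 4993) (nat_lit 4072) .nil))) (nat_lit 1265)
  (nat_lit 2000) (nat_lit 1162) (.node (.node (.node (.node .nil (nat_lit 1266) (nat_lit 13265) (nat_lit 221)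
  .nil) (nat_lit 1277) (nat_lit 6688) (nat_lit 2301) (.node .nil (nat_lit 1278) (nat_lit 6593) (nat_lit 2141)
  .nil)) (nat_lit 1285) (nat_lit 8336) (nat_lit 2818) (.node (.node .nil (nat_lit 1286) (nat_lit 4032)
  (nat_lit 1328) .nil) (nat_lit 1289) (nat_lit 9024) (nat_lit 1909) .nil)) (nat_lit 1290) (nat_lit 8672)
  (nat_lit 2375) (.node (.node (.node .nil (nat_lit 1300) (nat_lit 9184) (nat_lit 23) .nil) (nat_lit 1303)
  (nat_lit 2064) (nat_lit 3621) .nil) (nat_lit 1304) (nat_lit 12289) (nat_lit 165) (.node (.node .nil (nat_lit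
  1307) (nat_lit 848) (nat_lit 594) .nil) (nat_lit 1313) (nat_lit 4497) (nat_lit 3318) .nil))))) (nat_lit
  1314) (nat_lit 10689) (nat_lit 1422) (.node (.node (.node (.node (.node (.node .nil (nat_lit 1325) (nat_lit
  2032) (nat_lit 3555) .nil) (nat_lit 1326) (nat_lit 8657) (nat_lit 3342) (.node .nil (nat_lit 1328) (nat_lit
  2320) (nat_lit 2689) .nil)) (nat_lit 1331) (nat_lit 4400) (nat_lit 1203) (.node (.node .nil (nat_lit 1340)
  (nat_lit 7713) (nat_lit 963) .nil) (nat_lit 1343) (nat_lit 10497) (nat_lit 2747) .nil)) (nat_lit 1348)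
  (nat_lit 5729) (nat_lit 3259) (.node (.node (.node .nil (nat_lit 1351) (nat_lit 10976) (nat_lit 1340) .nil)
  (nat_lit 1352) (nat_lit 6497) (nat_lit 1083) (.node .nil (nat_lit 1365) (nat_lit 5952) (nat_lit 27) .nil))
  (nat_lit 1366) (nat_lit 13329) (nat_lit 630) (.node (.node .nil (nat_lit 1369) (nat_lit 12240) (nat_lit
  3180) .nil) (nat_lit 1370) (nat_lit 12400) (nat_lit 606) .nil))) (nat_lit 1376) (nat_lit 12304) (nat_lit
  408) (.node (.node (.node (.node .nil (nat_lit 1379) (nat_lit 2896) (nat_lit 4010) .nil) (nat_lit 1388)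
  (nat_lit 11425) (nat_lit 1885) (.node .nil (nat_lit 1391) (nat_lit 2081) (nat_lit 3621) .nil)) (nat_lit
  1393) (nat_lit 10256) (nat_lit 2701) (.node (.node .nil (nat_lit 1405) (nat_lit 7856) (nat_lit 1786) .nil)
  (nat_lit 1406) (nat_lit 6529) (nat_lit 2448) .nil)) (nat_lit 1409) (nat_lit 4465) (nat_lit 1661) (.node
  (.node (.node .nil (nat_lit 1410) (nat_lit 3313) (nat_lit 3845) .nil) (nat_lit 1421) (nat_lit 8097) (nat_lit
  3837) (.node .nil (nat_lit 1422) (nat_lit 7345) (nat_lit 1925) .nil)) (nat_lit 1424) (nat_lit 4592) (nat_lit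
  3030) (.node (.node .nil (nat_lit 1427) (nat_lit 10385) (nat_lit 2224) .nil) (nat_lit 1436) (nat_lit 8624)
  (nat_lit 1953) .nil)))) (nat_lit 1445) (nat_lit 1633) (nat_lit 1307) (.node (.node (.node (.node (.node .nil
  (nat_lit 1446) (nat_lit 12321) (nat_lit 3171) .nil) (nat_lit 1449) (nat_lit 1729) (nat_lit 3483) (.node .nil
  (nat_lit 1463) (nat_lit 4609) (nat_lit 3030) .nil)) (nat_lit 1464) (nat_lit 9249) (nat_lit 2606) (.node
  (.node .nil (nat_lit 1467) (nat_lit 11489) (nat_lit 854) .nil) (nat_lit 1472) (nat_lit 3536) (nat_lit 207)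
  .nil)) (nat_lit 1475) (nat_lit 8080) (nat_lit 3837) (.node (.node (.node .nil (nat_lit 1484) (nat_lit 4225)
  (nat_lit 3542) .nil) (nat_lit 1487) (nat_lit 6945) (nat_lit 1198) (.node .nil (nat_lit 1490) (nat_lit 12624)
  (nat_lit 1512) .nil)) (nat_lit 1501) (nat_lit 1888) (nat_lit 1965) (.node (.node .nil (nat_lit 1502)
  (nat_lit 7632) (nat_lit 2463) .nil) (nat_lit 1508) (nat_lit 10048) (nat_lit 2649) .nil))) (nat_lit 1511)
  (nat_lit 11808) (nat_lit 1131) (.node (.node (.node (.node .nil (nat_lit 1512) (nat_lit 9489) (nat_lit 3760)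
  .nil) (nat_lit 1515) (nat_lit 12177) (nat_lit 1992) (.node .nil (nat_lit 1525) (nat_lit 3457) (nat_lit 389)
  .nil)) (nat_lit 1526) (nat_lit 6705) (nat_lit 2301) (.node (.node .nil (nat_lit 1529) (nat_lit 3201)
  (nat_lit 2309) .nil) (nat_lit 1530) (nat_lit 2817) (nat_lit 125) .nil)) (nat_lit 1541) (nat_lit 5473)
  (nat_lit 1197) (.node (.node (.node .nil (nat_lit 1542) (nat_lit 13825) (nat_lit 3541) .nil) (nat_lit 1545)
  (nat_lit 976) (nat_lit 3718) .nil) (nat_lit 1546) (nat_lit 9153) (nat_lit 1365) (.node (.node .nil (nat_lit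
  1556) (nat_lit 8560) (nat_lit 2532) .nil) (nat_lit 1559) (nat_lit 193) (nat_lit 2656) .nil))))))
def ts880_3 : T := (.node (.node (.node (.node (.node (.node (.node .nil (nat_lit 1563) (nat_lit 5825)
  (nat_lit 736) .nil) (nat_lit 1569) (nat_lit 11345) (nat_lit 1995) (.node .nil (nat_lit 1570) (nat_lit 7969)
  (nat_lit 3763) .nil)) (nat_lit 1582) (nat_lit 10609) (nat_lit 1587) (.node (.node .nil (nat_lit 1584)
  (nat_lit 7569) (nat_lit 126) .nil) (nat_lit 1587) (nat_lit 7232) (nat_lit 3392) .nil)) (nat_lit 1596)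
  (nat_lit 3296) (nat_lit 3845) (.node (.node (.node .nil (nat_lit 1599) (nat_lit 9600) (nat_lit 311) .nil)
  (nat_lit 1604) (nat_lit 11664) (nat_lit 765) (.node .nil (nat_lit 1607) (nat_lit 320) (nat_lit 3279) .nil))
  (nat_lit 1608) (nat_lit 608) (nat_lit 3722) (.node (.node .nil (nat_lit 1611) (nat_lit 12049) (nat_lit 1662)
  .nil) (nat_lit 1621) (nat_lit 5184) (nat_lit 2536) .nil))) (nat_lit 1626) (nat_lit 1200) (nat_lit 2989)
  (.node (.node (.node (.node .nil (nat_lit 1632) (nat_lit 3328) (nat_lit 2155) .nil) (nat_lit 1644) (nat_lit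
  512) (nat_lit 1052) (.node .nil (nat_lit 1647) (nat_lit 9232) (nat_lit 2606) .nil)) (nat_lit 1649) (nat_lit
  5425) (nat_lit 853) (.node (.node .nil (nat_lit 1650) (nat_lit 1232) (nat_lit 3404) .nil) (nat_lit 1661)
  (nat_lit 2609) (nat_lit 3029) .nil)) (nat_lit 1662) (nat_lit 8752) (nat_lit 315) (.node (.node (.node .nil
  (nat_lit 1665) (nat_lit 7249) (nat_lit 3392) .nil) (nat_lit 1666) (nat_lit 5312) (nat_lit 1794) (.node .nil
  (nat_lit 1677) (nat_lit 5921) (nat_lit 1472) .nil)) (nat_lit 1678) (nat_lit 12385) (nat_lit 3256) (.node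
  (.node .nil (nat_lit 1680) (nat_lit 13313) (nat_lit 2805) .nil) (nat_lit 1683) (nat_lit 14001) (nat_lit 909)
  .nil)))) (nat_lit 1692) (nat_lit 2656) (nat_lit 3666) (.node (.node (.node (.node (.node .nil (nat_lit 1701)
  (nat_lit 8721) (nat_lit 3622) .nil) (nat_lit 1702) (nat_lit 13248) (nat_lit 3476) (.node .nil (nat_lit 1705)
  (nat_lit 13536) (nat_lit 4049) .nil)) (nat_lit 1706) (nat_lit 9345) (nat_lit 4062) (.node (.node .nil
  (nat_lit 1719) (nat_lit 10624) (nat_lit 1665) .nil) (nat_lit 1720) (nat_lit 3505) (nat_lit 275) .nil))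
  (nat_lit 1723) (nat_lit 3345) (nat_lit 2155) (.node (.node (.node .nil (nat_lit 1728) (nat_lit 11057)
  (nat_lit 3691) .nil) (nat_lit 1743) (nat_lit 12033) (nat_lit 3987) (.node .nil (nat_lit 1745) (nat_lit
  13809) (nat_lit 2526) .nil)) (nat_lit 1746) (nat_lit 9904) (nat_lit 3099) (.node (.node .nil (nat_lit 1757)
  (nat_lit 4145) (nat_lit 350) .nil) (nat_lit 1758) (nat_lit 13952) (nat_lit 108) .nil))) (nat_lit 1764)
  (nat_lit 5248) (nat_lit 938) (.node (.node (.node (.node .nil (nat_lit 1768) (nat_lit 11313) (nat_lit 1421)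
  .nil) (nat_lit 1781) (nat_lit 6720) (nat_lit 2239) (.node .nil (nat_lit 1782) (nat_lit 9104) (nat_lit 1677)
  .nil)) (nat_lit 1785) (nat_lit 2512) (nat_lit 1224) (.node (.node .nil (nat_lit 1786) (nat_lit 4929)
  (nat_lit 2880) .nil) (nat_lit 1793) (nat_lit 4817) (nat_lit 3213) .nil)) (nat_lit 1794) (nat_lit 3184)
  (nat_lit 2309) (.node (.node (.node .nil (nat_lit 1805) (nat_lit 4912) (nat_lit 2880) .nil) (nat_lit 1808)
  (nat_lit 13281) (nat_lit 2872) .nil) (nat_lit 1820) (nat_lit 6288) (nat_lit 85) (.node (.node .nil (nat_lit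
  1823) (nat_lit 10752) (nat_lit 3687) .nil) (nat_lit 1829) (nat_lit 16) (nat_lit 3489) .nil))))) (nat_lit
  1830) (nat_lit 2432) (nat_lit 915) (.node (.node (.node (.node (.node (.node .nil (nat_lit 1833) (nat_lit
  7905) (nat_lit 1899) .nil) (nat_lit 1834) (nat_lit 10272) (nat_lit 4068) (.node .nil (nat_lit 1847) (nat_lit
  12609) (nat_lit 294) .nil)) (nat_lit 1848) (nat_lit 3873) (nat_lit 222) (.node (.node .nil (nat_lit 1851)
  (nat_lit 273) (nat_lit 2470) .nil) (nat_lit 1856) (nat_lit 544) (nat_lit 1851) .nil)) (nat_lit 1859)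
  (nat_lit 12672) (nat_lit 2313) (.node (.node (.node .nil (nat_lit 1868) (nat_lit 4193) (nat_lit 1830) .nil)
  (nat_lit 1871) (nat_lit 9776) (nat_lit 1406) (.node .nil (nat_lit 1873) (nat_lit 7121) (nat_lit 2067) .nil))
  (nat_lit 1874) (nat_lit 7169) (nat_lit 363) (.node (.node .nil (nat_lit 1885) (nat_lit 8224) (nat_lit 89)
  .nil) (nat_lit 1886) (nat_lit 11040) (nat_lit 3691) .nil))) (nat_lit 1892) (nat_lit 12640) (nat_lit 3501)
  (.node (.node (.node (.node .nil (nat_lit 1895) (nat_lit 12481) (nat_lit 1464) .nil) (nat_lit 1899) (nat_lit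
  4976) (nat_lit 4072) (.node .nil (nat_lit 1909) (nat_lit 5840) (nat_lit 1720) .nil)) (nat_lit 1910) (nat_lit
  6512) (nat_lit 2186) (.node (.node .nil (nat_lit 1913) (nat_lit 9808) (nat_lit 2767) .nil) (nat_lit 1914)
  (nat_lit 10000) (nat_lit 1277) .nil)) (nat_lit 1925) (nat_lit 4480) (nat_lit 3318) (.node (.node (.node .nil
  (nat_lit 1926) (nat_lit 10561) (nat_lit 3096) .nil) (nat_lit 1930) (nat_lit 7952) (nat_lit 3763) (.node .nil
  (nat_lit 1943) (nat_lit 1217) (nat_lit 2989) .nil)) (nat_lit 1944) (nat_lit 3825) (nat_lit 2645) (.node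
  (.node .nil (nat_lit 1947) (nat_lit 4273) (nat_lit 813) .nil) (nat_lit 1953) (nat_lit 5536) (nat_lit 1632)
  .nil)))) (nat_lit 1954) (nat_lit 4624) (nat_lit 2130) (.node (.node (.node (.node (.node .nil (nat_lit 1965)
  (nat_lit 993) (nat_lit 3718) .nil) (nat_lit 1966) (nat_lit 6897) (nat_lit 2046) (.node .nil (nat_lit 1971)
  (nat_lit 8817) (nat_lit 2251) .nil)) (nat_lit 1983) (nat_lit 2992) (nat_lit 3888) (.node (.node .nil
  (nat_lit 1988) (nat_lit 9536) (nat_lit 3322) .nil) (nat_lit 1991) (nat_lit 5025) (nat_lit 3891) .nil))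
  (nat_lit 1992) (nat_lit 8960) (nat_lit 141) (.node (.node (.node .nil (nat_lit 1995) (nat_lit 8128) (nat_lit
  3775) .nil) (nat_lit 2005) (nat_lit 13601) (nat_lit 510) (.node .nil (nat_lit 2006) (nat_lit 1456) (nat_lit
  2525) .nil)) (nat_lit 2009) (nat_lit 1377) (nat_lit 2430) (.node (.node .nil (nat_lit 2016) (nat_lit 1008)
  (nat_lit 1644) .nil) (nat_lit 2028) (nat_lit 12657) (nat_lit 3501) .nil))) (nat_lit 2031) (nat_lit 11745)
  (nat_lit 1237) (.node (.node (.node (.node .nil (nat_lit 2033) (nat_lit 5697) (nat_lit 664) .nil) (nat_lit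
  2034) (nat_lit 3952) (nat_lit 843) (.node .nil (nat_lit 2045) (nat_lit 1936) (nat_lit 270) .nil)) (nat_lit
  2046) (nat_lit 4176) (nat_lit 3900) (.node (.node .nil (nat_lit 2061) (nat_lit 1680) (nat_lit 308) .nil)
  (nat_lit 2062) (nat_lit 11360) (nat_lit 3846) .nil)) (nat_lit 2067) (nat_lit 4336) (nat_lit 2148) (.node
  (.node (.node .nil (nat_lit 2076) (nat_lit 11168) (nat_lit 2593) .nil) (nat_lit 2079) (nat_lit 13681)
  (nat_lit 497) .nil) (nat_lit 2085) (nat_lit 13921) (nat_lit 1242) (.node (.node .nil (nat_lit 2086) (nat_lit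
  13696) (nat_lit 2535) .nil) (nat_lit 2089) (nat_lit 4432) (nat_lit 2978) .nil))))))
def ts880_4 : T := (.node (.node (.node (.node (.node (.node (.node .nil (nat_lit 2100) (nat_lit 12912)
  (nat_lit 3264) .nil) (nat_lit 2103) (nat_lit 2368) (nat_lit 754) (.node .nil (nat_lit 2104) (nat_lit 448)
  (nat_lit 183) .nil)) (nat_lit 2107) (nat_lit 7409) (nat_lit 663) (.node (.node .nil (nat_lit 2115) (nat_lit
  6768) (nat_lit 893) .nil) (nat_lit 2124) (nat_lit 1584) (nat_lit 312) .nil)) (nat_lit 2127) (nat_lit 3665)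
  (nat_lit 1391) (.node (.node (.node .nil (nat_lit 2129) (nat_lit 2256) (nat_lit 1626) .nil) (nat_lit 2130)
  (nat_lit 2737) (nat_lit 2650) (.node .nil (nat_lit 2141) (nat_lit 3984) (nat_lit 2605) .nil)) (nat_lit 2148)
  (nat_lit 2544) (nat_lit 2009) (.node (.node .nil (nat_lit 2151) (nat_lit 9409) (nat_lit 3721) .nil) (nat_lit
  2152) (nat_lit 9840) (nat_lit 2990) .nil))) (nat_lit 2155) (nat_lit 1873) (nat_lit 1545) (.node (.node
  (.node (.node .nil (nat_lit 2166) (nat_lit 11888) (nat_lit 766) .nil) (nat_lit 2169) (nat_lit 13728)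
  (nat_lit 187) (.node .nil (nat_lit 2170) (nat_lit 5409) (nat_lit 444) .nil)) (nat_lit 2181) (nat_lit 4161)
  (nat_lit 3665) (.node (.node .nil (nat_lit 2182) (nat_lit 10368) (nat_lit 2224) .nil) (nat_lit 2185)
  (nat_lit 13296) (nat_lit 2805) .nil)) (nat_lit 2186) (nat_lit 3904) (nat_lit 1223) (.node (.node (.node .nil
  (nat_lit 2196) (nat_lit 8577) (nat_lit 2532) .nil) (nat_lit 2199) (nat_lit 6433) (nat_lit 156) (.node .nil
  (nat_lit 2200) (nat_lit 4385) (nat_lit 356) .nil)) (nat_lit 2203) (nat_lit 8368) (nat_lit 4050) (.node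
  (.node .nil (nat_lit 2209) (nat_lit 5088) (nat_lit 3092) .nil) (nat_lit 2210) (nat_lit 7665) (nat_lit 1103)
  .nil)))) (nat_lit 2221) (nat_lit 5152) (nat_lit 99) (.node (.node (.node (.node (.node .nil (nat_lit 2222)
  (nat_lit 337) (nat_lit 3279) .nil) (nat_lit 2224) (nat_lit 7057) (nat_lit 2690) (.node .nil (nat_lit 2239)
  (nat_lit 4065) (nat_lit 2938) .nil)) (nat_lit 2244) (nat_lit 13521) (nat_lit 3450) (.node (.node .nil
  (nat_lit 2248) (nat_lit 4785) (nat_lit 1530) .nil) (nat_lit 2251) (nat_lit 5648) (nat_lit 1227) .nil))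
  (nat_lit 2261) (nat_lit 1712) (nat_lit 3483) (.node (.node (.node .nil (nat_lit 2262) (nat_lit 1296)
  (nat_lit 937) .nil) (nat_lit 2266) (nat_lit 1121) (nat_lit 2871) (.node .nil (nat_lit 2272) (nat_lit 8513)
  (nat_lit 3612) .nil)) (nat_lit 2275) (nat_lit 3216) (nat_lit 554) (.node (.node .nil (nat_lit 2284) (nat_lit
  4513) (nat_lit 1692) .nil) (nat_lit 2287) (nat_lit 10289) (nat_lit 4068) .nil))) (nat_lit 2289) (nat_lit
  4961) (nat_lit 2473) (.node (.node (.node (.node .nil (nat_lit 2290) (nat_lit 4721) (nat_lit 209) .nil)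
  (nat_lit 2301) (nat_lit 4048) (nat_lit 2938) (.node .nil (nat_lit 2302) (nat_lit 3937) (nat_lit 2129) .nil))
  (nat_lit 2309) (nat_lit 1777) (nat_lit 3996) (.node (.node .nil (nat_lit 2310) (nat_lit 8209) (nat_lit 1764)
  .nil) (nat_lit 2313) (nat_lit 9521) (nat_lit 1820) .nil)) (nat_lit 2314) (nat_lit 13152) (nat_lit 2752)
  (.node (.node (.node .nil (nat_lit 2324) (nat_lit 7265) (nat_lit 2089) .nil) (nat_lit 2327) (nat_lit 13712)
  (nat_lit 3490) .nil) (nat_lit 2328) (nat_lit 13857) (nat_lit 169) (.node (.node .nil (nat_lit 2331) (nat_lit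
  6224) (nat_lit 469) .nil) (nat_lit 2337) (nat_lit 6064) (nat_lit 531) .nil))))) (nat_lit 2338) (nat_lit
  5521) (nat_lit 1410) (.node (.node (.node (.node (.node (.node .nil (nat_lit 2349) (nat_lit 11937) (nat_lit
  1146) .nil) (nat_lit 2350) (nat_lit 1648) (nat_lit 86) (.node .nil (nat_lit 2352) (nat_lit 4529) (nat_lit
  2895) .nil)) (nat_lit 2364) (nat_lit 13072) (nat_lit 1393) (.node (.node .nil (nat_lit 2367) (nat_lit 9985)
  (nat_lit 2743) .nil) (nat_lit 2372) (nat_lit 12097) (nat_lit 3255) .nil)) (nat_lit 2375) (nat_lit 5568)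
  (nat_lit 1723) (.node (.node (.node .nil (nat_lit 2376) (nat_lit 9872) (nat_lit 1278) .nil) (nat_lit 2389)
  (nat_lit 8353) (nat_lit 2818) (.node .nil (nat_lit 2390) (nat_lit 1969) (nat_lit 634) .nil)) (nat_lit 2393)
  (nat_lit 1057) (nat_lit 898) (.node (.node .nil (nat_lit 2394) (nat_lit 12544) (nat_lit 473) .nil) (nat_lit
  2400) (nat_lit 13553) (nat_lit 4049) .nil))) (nat_lit 2403) (nat_lit 12576) (nat_lit 3117) (.node (.node
  (.node (.node .nil (nat_lit 2412) (nat_lit 10465) (nat_lit 1873) .nil) (nat_lit 2415) (nat_lit 5296)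
  (nat_lit 90) (.node .nil (nat_lit 2417) (nat_lit 4353) (nat_lit 2148) .nil)) (nat_lit 2418) (nat_lit 6448)
  (nat_lit 1848) (.node (.node .nil (nat_lit 2429) (nat_lit 11072) (nat_lit 1405) .nil) (nat_lit 2430)
  (nat_lit 705) (nat_lit 2460) .nil)) (nat_lit 2433) (nat_lit 8449) (nat_lit 1649) (.node (.node (.node .nil
  (nat_lit 2434) (nat_lit 8193) (nat_lit 3849) .nil) (nat_lit 2445) (nat_lit 5008) (nat_lit 3891) (.node .nil
  (nat_lit 2448) (nat_lit 3920) (nat_lit 2129) .nil)) (nat_lit 2460) (nat_lit 352) (nat_lit 1062) (.node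
  (.node .nil (nat_lit 2463) (nat_lit 4753) (nat_lit 60) .nil) (nat_lit 2469) (nat_lit 3633) (nat_lit 1303)
  .nil)))) (nat_lit 2470) (nat_lit 129) (nat_lit 3183) (.node (.node (.node (.node (.node .nil (nat_lit 2473)
  (nat_lit 2928) (nat_lit 1445) .nil) (nat_lit 2474) (nat_lit 7921) (nat_lit 1263) (.node .nil (nat_lit 2484)
  (nat_lit 2768) (nat_lit 711) .nil)) (nat_lit 2488) (nat_lit 9472) (nat_lit 3760) (.node (.node .nil (nat_lit
  2496) (nat_lit 9888) (nat_lit 840) .nil) (nat_lit 2499) (nat_lit 13504) (nat_lit 3450) .nil)) (nat_lit 2508)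
  (nat_lit 11249) (nat_lit 3546) (.node (.node (.node .nil (nat_lit 2511) (nat_lit 6033) (nat_lit 1186) .nil)
  (nat_lit 2513) (nat_lit 5889) (nat_lit 751) (.node .nil (nat_lit 2514) (nat_lit 12432) (nat_lit 1647) .nil))
  (nat_lit 2525) (nat_lit 752) (nat_lit 1066) (.node (.node .nil (nat_lit 2526) (nat_lit 12128) (nat_lit 2584)
  .nil) (nat_lit 2532) (nat_lit 5489) (nat_lit 1596) .nil))) (nat_lit 2535) (nat_lit 11793) (nat_lit 3908)
  (.node (.node (.node (.node .nil (nat_lit 2536) (nat_lit 3088) (nat_lit 1449) .nil) (nat_lit 2539) (nat_lit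
  12689) (nat_lit 1988) (.node .nil (nat_lit 2549) (nat_lit 4000) (nat_lit 715) .nil)) (nat_lit 2550) (nat_lit
  7889) (nat_lit 2289) (.node (.node .nil (nat_lit 2553) (nat_lit 7648) (nat_lit 3772) .nil) (nat_lit 2554)
  (nat_lit 4849) (nat_lit 113) .nil)) (nat_lit 2565) (nat_lit 13232) (nat_lit 374) (.node (.node (.node .nil
  (nat_lit 2566) (nat_lit 11776) (nat_lit 3908) .nil) (nat_lit 2569) (nat_lit 9616) (nat_lit 3329) .nil)
  (nat_lit 2570) (nat_lit 9568) (nat_lit 819) (.node (.node .nil (nat_lit 2580) (nat_lit 6209) (nat_lit 788)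
  .nil) (nat_lit 2583) (nat_lit 1536) (nat_lit 1105) .nil))))))
def ts880_5 : T := (.node (.node (.node (.node (.node (.node (.node .nil (nat_lit 2587) (nat_lit 13985)
  (nat_lit 748) .nil) (nat_lit 2593) (nat_lit 7937) (nat_lit 1991) (.node .nil (nat_lit 2594) (nat_lit 8145)
  (nat_lit 3775) .nil)) (nat_lit 2605) (nat_lit 2288) (nat_lit 1943) (.node (.node .nil (nat_lit 2606)
  (nat_lit 6048) (nat_lit 2469) .nil) (nat_lit 2608) (nat_lit 3057) (nat_lit 114) .nil)) (nat_lit 2611)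
  (nat_lit 13408) (nat_lit 3783) (.node (.node (.node .nil (nat_lit 2620) (nat_lit 7601) (nat_lit 2290) .nil)
  (nat_lit 2623) (nat_lit 3809) (nat_lit 394) (.node .nil (nat_lit 2628) (nat_lit 11185) (nat_lit 1930) .nil))
  (nat_lit 2631) (nat_lit 13777) (nat_lit 3826) (.node (.node .nil (nat_lit 2632) (nat_lit 13184) (nat_lit
  3341) .nil) (nat_lit 2635) (nat_lit 2192) (nat_lit 831) .nil))) (nat_lit 2645) (nat_lit 2177) (nat_lit 63)
  (.node (.node (.node (.node .nil (nat_lit 2646) (nat_lit 8689) (nat_lit 2375) .nil) (nat_lit 2649) (nat_lit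
  6737) (nat_lit 2239) (.node .nil (nat_lit 2650) (nat_lit 1489) (nat_lit 455) .nil)) (nat_lit 2656) (nat_lit
  80) (nat_lit 3052) (.node (.node .nil (nat_lit 2659) (nat_lit 10896) (nat_lit 1502) .nil) (nat_lit 2668)
  (nat_lit 7024) (nat_lit 1947) .nil)) (nat_lit 2671) (nat_lit 4944) (nat_lit 2473) (.node (.node (.node .nil
  (nat_lit 2673) (nat_lit 8993) (nat_lit 857) .nil) (nat_lit 2674) (nat_lit 10352) (nat_lit 3787) (.node .nil
  (nat_lit 2685) (nat_lit 3376) (nat_lit 3214) .nil)) (nat_lit 2686) (nat_lit 7280) (nat_lit 700) (.node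
  (.node .nil (nat_lit 2689) (nat_lit 1249) (nat_lit 3404) .nil) (nat_lit 2690) (nat_lit 4289) (nat_lit 1076)
  .nil)))) (nat_lit 2701) (nat_lit 6977) (nat_lit 1484) (.node (.node (.node (.node (.node .nil (nat_lit 2702)
  (nat_lit 7584) (nat_lit 2290) .nil) (nat_lit 2704) (nat_lit 13633) (nat_lit 2809) (.node .nil (nat_lit 2707)
  (nat_lit 10144) (nat_lit 3984) .nil)) (nat_lit 2716) (nat_lit 13361) (nat_lit 633) (.node (.node .nil
  (nat_lit 2719) (nat_lit 593) (nat_lit 2817) .nil) (nat_lit 2726) (nat_lit 10545) (nat_lit 1874) .nil))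
  (nat_lit 2729) (nat_lit 12513) (nat_lit 1706) (.node (.node (.node .nil (nat_lit 2730) (nat_lit 5280)
  (nat_lit 612) .nil) (nat_lit 2740) (nat_lit 7488) (nat_lit 2868) (.node .nil (nat_lit 2743) (nat_lit 6672)
  (nat_lit 1286) .nil)) (nat_lit 2744) (nat_lit 13873) (nat_lit 287) (.node (.node .nil (nat_lit 2747)
  (nat_lit 7136) (nat_lit 2417) .nil) (nat_lit 2752) (nat_lit 10480) (nat_lit 2747) .nil))) (nat_lit 2755)
  (nat_lit 10160) (nat_lit 1161) (.node (.node (.node (.node .nil (nat_lit 2767) (nat_lit 6544) (nat_lit 2302)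
  .nil) (nat_lit 2769) (nat_lit 10416) (nat_lit 430) (.node .nil (nat_lit 2770) (nat_lit 1760) (nat_lit 3996)
  .nil)) (nat_lit 2781) (nat_lit 13904) (nat_lit 3545) (.node (.node .nil (nat_lit 2782) (nat_lit 9952)
  (nat_lit 1003) .nil) (nat_lit 2788) (nat_lit 9633) (nat_lit 3329) .nil)) (nat_lit 2791) (nat_lit 2128)
  (nat_lit 3615) (.node (.node (.node .nil (nat_lit 2792) (nat_lit 7329) (nat_lit 1409) .nil) (nat_lit 2795)
  (nat_lit 8928) (nat_lit 616) .nil) (nat_lit 2805) (nat_lit 10769) (nat_lit 2740) (.node (.node .nil (nat_lit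
  2806) (nat_lit 11968) (nat_lit 1290) .nil) (nat_lit 2809) (nat_lit 11649) (nat_lit 564) .nil))))) (nat_lit
  2810) (nat_lit 12065) (nat_lit 2892) (.node (.node (.node (.node (.node (.node .nil (nat_lit 2817) (nat_lit
  288) (nat_lit 1200) .nil) (nat_lit 2818) (nat_lit 5361) (nat_lit 1529) (.node .nil (nat_lit 2830) (nat_lit
  10016) (nat_lit 1781) .nil)) (nat_lit 2832) (nat_lit 7505) (nat_lit 2868) (.node (.node .nil (nat_lit 2835)
  (nat_lit 8321) (nat_lit 588) .nil) (nat_lit 2853) (nat_lit 8704) (nat_lit 3622) .nil)) (nat_lit 2857)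
  (nat_lit 6800) (nat_lit 593) (.node (.node (.node .nil (nat_lit 2858) (nat_lit 2145) (nat_lit 3615) .nil)
  (nat_lit 2868) (nat_lit 4641) (nat_lit 2130) (.node .nil (nat_lit 2871) (nat_lit 576) (nat_lit 2817) .nil))
  (nat_lit 2872) (nat_lit 10721) (nat_lit 210) (.node (.node .nil (nat_lit 2875) (nat_lit 9744) (nat_lit 1910)
  .nil) (nat_lit 2880) (nat_lit 2913) (nat_lit 4010) .nil))) (nat_lit 2883) (nat_lit 10880) (nat_lit 2702)
  (.node (.node (.node (.node .nil (nat_lit 2892) (nat_lit 8800) (nat_lit 2251) .nil) (nat_lit 2895) (nat_lit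
  2673) (nat_lit 3666) (.node .nil (nat_lit 2897) (nat_lit 13040) (nat_lit 4009) .nil)) (nat_lit 2898)
  (nat_lit 6256) (nat_lit 411) (.node (.node .nil (nat_lit 2910) (nat_lit 9056) (nat_lit 3564) .nil) (nat_lit
  2920) (nat_lit 912) (nat_lit 605) .nil)) (nat_lit 2923) (nat_lit 112) (nat_lit 3183) (.node (.node (.node
  .nil (nat_lit 2933) (nat_lit 12337) (nat_lit 2937) .nil) (nat_lit 2937) (nat_lit 9137) (nat_lit 1017) (.node
  .nil (nat_lit 2938) (nat_lit 2337) (nat_lit 2689) .nil)) (nat_lit 2949) (nat_lit 10080) (nat_lit 3953)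
  (.node (.node .nil (nat_lit 2950) (nat_lit 1424) (nat_lit 323) .nil) (nat_lit 2953) (nat_lit 8064) (nat_lit
  774) .nil)))) (nat_lit 2954) (nat_lit 6145) (nat_lit 1172) (.node (.node (.node (.node (.node .nil (nat_lit
  2964) (nat_lit 5744) (nat_lit 1124) .nil) (nat_lit 2967) (nat_lit 11984) (nat_lit 2646) (.node .nil (nat_lit
  2968) (nat_lit 7104) (nat_lit 2067) .nil)) (nat_lit 2971) (nat_lit 13169) (nat_lit 801) (.node (.node .nil
  (nat_lit 2977) (nat_lit 12353) (nat_lit 1546) .nil) (nat_lit 2978) (nat_lit 2592) (nat_lit 3029) .nil))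
  (nat_lit 2989) (nat_lit 625) (nat_lit 3722) (.node (.node (.node .nil (nat_lit 2990) (nat_lit 6577) (nat_lit
  2034) .nil) (nat_lit 2992) (nat_lit 8401) (nat_lit 447) (.node .nil (nat_lit 3004) (nat_lit 12112) (nat_lit
  645) .nil)) (nat_lit 3007) (nat_lit 11009) (nat_lit 71) (.node (.node .nil (nat_lit 3012) (nat_lit 657)
  (nat_lit 1607) .nil) (nat_lit 3015) (nat_lit 416) (nat_lit 335) .nil))) (nat_lit 3016) (nat_lit 13425)
  (nat_lit 3783) (.node (.node (.node (.node .nil (nat_lit 3019) (nat_lit 5057) (nat_lit 1983) .nil) (nat_lit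
  3029) (nat_lit 1409) (nat_lit 498) (.node .nil (nat_lit 3030) (nat_lit 2720) (nat_lit 2650) .nil)) (nat_lit
  3033) (nat_lit 9681) (nat_lit 2418) (.node (.node .nil (nat_lit 3040) (nat_lit 7361) (nat_lit 1313) .nil)
  (nat_lit 3043) (nat_lit 12864) (nat_lit 3033) .nil)) (nat_lit 3052) (nat_lit 33) (nat_lit 3489) (.node
  (.node (.node .nil (nat_lit 3055) (nat_lit 10208) (nat_lit 1966) .nil) (nat_lit 3057) (nat_lit 2352)
  (nat_lit 3838) .nil) (nat_lit 3058) (nat_lit 97) (nat_lit 3052) (.node (.node .nil (nat_lit 3069) (nat_lit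
  9425) (nat_lit 2580) .nil) (nat_lit 3070) (nat_lit 5712) (nat_lit 3259) .nil))))))
def ts880_6 : T := (.node (.node (.node (.node (.node (.node (.node .nil (nat_lit 3078) (nat_lit 13473)
  (nat_lit 1728) .nil) (nat_lit 3081) (nat_lit 6465) (nat_lit 1848) (.node .nil (nat_lit 3082) (nat_lit 10961)
  (nat_lit 3648) .nil)) (nat_lit 3092) (nat_lit 3025) (nat_lit 2061) (.node (.node .nil (nat_lit 3095)
  (nat_lit 14048) (nat_lit 2781) .nil) (nat_lit 3096) (nat_lit 7184) (nat_lit 2200) .nil)) (nat_lit 3099)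
  (nat_lit 6625) (nat_lit 2549) (.node (.node (.node .nil (nat_lit 3105) (nat_lit 12769) (nat_lit 3294) .nil)
  (nat_lit 3106) (nat_lit 12256) (nat_lit 2910) (.node .nil (nat_lit 3117) (nat_lit 9440) (nat_lit 2331)
  .nil)) (nat_lit 3118) (nat_lit 11152) (nat_lit 1833) (.node (.node .nil (nat_lit 3120) (nat_lit 241)
  (nat_lit 2923) .nil) (nat_lit 3123) (nat_lit 6081) (nat_lit 531) .nil))) (nat_lit 3132) (nat_lit 9969)
  (nat_lit 1003) (.node (.node (.node (.node .nil (nat_lit 3135) (nat_lit 12976) (nat_lit 3132) .nil) (nat_lit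
  3140) (nat_lit 4576) (nat_lit 4086) (.node .nil (nat_lit 3143) (nat_lit 4656) (nat_lit 452) .nil)) (nat_lit
  3144) (nat_lit 11024) (nat_lit 897) (.node (.node .nil (nat_lit 3158) (nat_lit 12417) (nat_lit 606) .nil)
  (nat_lit 3161) (nat_lit 11856) (nat_lit 2196) .nil)) (nat_lit 3162) (nat_lit 12961) (nat_lit 2782) (.node
  (.node (.node .nil (nat_lit 3168) (nat_lit 10801) (nat_lit 4085) .nil) (nat_lit 3171) (nat_lit 9121)
  (nat_lit 1677) (.node .nil (nat_lit 3180) (nat_lit 9041) (nat_lit 1909) .nil)) (nat_lit 3183) (nat_lit 48)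
  (nat_lit 1829) (.node (.node .nil (nat_lit 3186) (nat_lit 1601) (nat_lit 312) .nil) (nat_lit 3198) (nat_lit
  480) (nat_lit 3120) .nil)))) (nat_lit 3201) (nat_lit 6480) (nat_lit 1083) (.node (.node (.node (.node (.node
  .nil (nat_lit 3202) (nat_lit 12800) (nat_lit 2569) .nil) (nat_lit 3213) (nat_lit 2832) (nat_lit 2124) (.node
  .nil (nat_lit 3214) (nat_lit 1905) (nat_lit 1965) .nil)) (nat_lit 3216) (nat_lit 12208) (nat_lit 3886)
  (.node (.node .nil (nat_lit 3219) (nat_lit 7201) (nat_lit 2200) .nil) (nat_lit 3228) (nat_lit 8976) (nat_lit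
  857) .nil)) (nat_lit 3237) (nat_lit 7217) (nat_lit 1331) (.node (.node (.node .nil (nat_lit 3242) (nat_lit
  5665) (nat_lit 1227) .nil) (nat_lit 3252) (nat_lit 12464) (nat_lit 1464) (.node .nil (nat_lit 3255) (nat_lit
  8881) (nat_lit 3070) .nil)) (nat_lit 3256) (nat_lit 9200) (nat_lit 2511) (.node (.node .nil (nat_lit 3259)
  (nat_lit 3424) (nat_lit 2045) .nil) (nat_lit 3264) (nat_lit 9793) (nat_lit 1406) .nil))) (nat_lit 3267)
  (nat_lit 14016) (nat_lit 2565) (.node (.node (.node (.node .nil (nat_lit 3279) (nat_lit 161) (nat_lit 1158)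
  .nil) (nat_lit 3281) (nat_lit 4017) (nat_lit 715) (.node .nil (nat_lit 3293) (nat_lit 3841) (nat_lit 2635)
  .nil)) (nat_lit 3294) (nat_lit 9585) (nat_lit 819) (.node (.node .nil (nat_lit 3300) (nat_lit 8848) (nat_lit
  3745) .nil) (nat_lit 3303) (nat_lit 4321) (nat_lit 3936) .nil)) (nat_lit 3304) (nat_lit 8785) (nat_lit 3736)
  (.node (.node (.node .nil (nat_lit 3307) (nat_lit 1921) (nat_lit 2016) .nil) (nat_lit 3318) (nat_lit 2624)
  (nat_lit 2950) .nil) (nat_lit 3321) (nat_lit 13745) (nat_lit 2349) (.node (.node .nil (nat_lit 3322)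
  (nat_lit 6305) (nat_lit 85) .nil) (nat_lit 3329) (nat_lit 6401) (nat_lit 1944) .nil))))) (nat_lit 3330)
  (nat_lit 2224) (nat_lit 1038) (.node (.node (.node (.node (.node (.node .nil (nat_lit 3341) (nat_lit 10529)
  (nat_lit 3864) .nil) (nat_lit 3342) (nat_lit 5553) (nat_lit 1632) (.node .nil (nat_lit 3344) (nat_lit 4896)
  (nat_lit 297) .nil)) (nat_lit 3347) (nat_lit 11553) (nat_lit 2389) (.node (.node .nil (nat_lit 3356)
  (nat_lit 8113) (nat_lit 2221) .nil) (nat_lit 3359) (nat_lit 6241) (nat_lit 469) .nil)) (nat_lit 3365)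
  (nat_lit 4240) (nat_lit 170) (.node (.node (.node .nil (nat_lit 3366) (nat_lit 8768) (nat_lit 3736) .nil)
  (nat_lit 3369) (nat_lit 961) (nat_lit 3198) (.node .nil (nat_lit 3370) (nat_lit 5872) (nat_lit 751) .nil))
  (nat_lit 3380) (nat_lit 3969) (nat_lit 843) (.node (.node .nil (nat_lit 3383) (nat_lit 11296) (nat_lit 1421)
  .nil) (nat_lit 3384) (nat_lit 7985) (nat_lit 3019) .nil))) (nat_lit 3387) (nat_lit 7728) (nat_lit 2554)
  (.node (.node (.node (.node .nil (nat_lit 3392) (nat_lit 4417) (nat_lit 1203) .nil) (nat_lit 3404) (nat_lit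
  640) (nat_lit 1607) (.node .nil (nat_lit 3409) (nat_lit 7008) (nat_lit 293) .nil)) (nat_lit 3410) (nat_lit
  1504) (nat_lit 3863) (.node (.node .nil (nat_lit 3421) (nat_lit 2641) (nat_lit 2950) .nil) (nat_lit 3422)
  (nat_lit 11905) (nat_lit 766) .nil)) (nat_lit 3428) (nat_lit 10816) (nat_lit 166) (.node (.node (.node .nil
  (nat_lit 3431) (nat_lit 7425) (nat_lit 3757) .nil) (nat_lit 3432) (nat_lit 6640) (nat_lit 3281) (.node .nil
  (nat_lit 3446) (nat_lit 7312) (nat_lit 1409) .nil)) (nat_lit 3449) (nat_lit 11761) (nat_lit 2272) (.node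
  (.node .nil (nat_lit 3450) (nat_lit 11120) (nat_lit 2550) .nil) (nat_lit 3462) (nat_lit 7841) (nat_lit 1805)
  .nil)))) (nat_lit 3465) (nat_lit 10033) (nat_lit 1781) (.node (.node (.node (.node (.node .nil (nat_lit
  3466) (nat_lit 11601) (nat_lit 3981) .nil) (nat_lit 3476) (nat_lit 10672) (nat_lit 2792) (.node .nil
  (nat_lit 3479) (nat_lit 13889) (nat_lit 184) .nil)) (nat_lit 3483) (nat_lit 897) (nat_lit 2104) (.node
  (.node .nil (nat_lit 3489) (nat_lit 0) (nat_lit 3489) .nil) (nat_lit 3490) (nat_lit 11825) (nat_lit 1131)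
  .nil)) (nat_lit 3501) (nat_lit 9504) (nat_lit 1820) (.node (.node (.node .nil (nat_lit 3502) (nat_lit 2960)
  (nat_lit 2350) .nil) (nat_lit 3504) (nat_lit 7552) (nat_lit 126) (.node .nil (nat_lit 3516) (nat_lit 9696)
  (nat_lit 3081) .nil)) (nat_lit 3519) (nat_lit 12273) (nat_lit 2910) (.node (.node .nil (nat_lit 3524)
  (nat_lit 13664) (nat_lit 497) .nil) (nat_lit 3527) (nat_lit 369) (nat_lit 1062) .nil))) (nat_lit 3528)
  (nat_lit 10913) (nat_lit 1502) (.node (.node (.node (.node .nil (nat_lit 3541) (nat_lit 12161) (nat_lit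
  2795) .nil) (nat_lit 3542) (nat_lit 2449) (nat_lit 915) (.node .nil (nat_lit 3545) (nat_lit 12849) (nat_lit
  619) .nil)) (nat_lit 3546) (nat_lit 8032) (nat_lit 2209) (.node (.node .nil (nat_lit 3555) (nat_lit 1089)
  (nat_lit 1856) .nil) (nat_lit 3564) (nat_lit 5857) (nat_lit 1720) .nil)) (nat_lit 3567) (nat_lit 8608)
  (nat_lit 2338) (.node (.node (.node .nil (nat_lit 3569) (nat_lit 3040) (nat_lit 114) .nil) (nat_lit 3570)
  (nat_lit 10944) (nat_lit 3648) .nil) (nat_lit 3581) (nat_lit 5216) (nat_lit 3077) (.node (.node .nil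
  (nat_lit 3585) (nat_lit 10577) (nat_lit 3237) .nil) (nat_lit 3586) (nat_lit 3361) (nat_lit 1501) .nil))))))
def ts880_7 : T := (.node (.node (.node (.node (.node (.node (.node .nil (nat_lit 3598) (nat_lit 3792)
  (nat_lit 394) .nil) (nat_lit 3600) (nat_lit 2096) (nat_lit 2266) (.node .nil (nat_lit 3603) (nat_lit 8945)
  (nat_lit 616) .nil)) (nat_lit 3612) (nat_lit 5456) (nat_lit 1197) (.node (.node .nil (nat_lit 3615) (nat_lit
  1136) (nat_lit 2719) .nil) (nat_lit 3621) (nat_lit 1105) (nat_lit 4035) .nil)) (nat_lit 3622) (nat_lit 5585)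
  (nat_lit 1723) (.node (.node (.node .nil (nat_lit 3625) (nat_lit 11952) (nat_lit 1326) .nil) (nat_lit 3636)
  (nat_lit 8304) (nat_lit 588) (.node .nil (nat_lit 3639) (nat_lit 944) (nat_lit 3198) .nil)) (nat_lit 3648)
  (nat_lit 7696) (nat_lit 963) (.node (.node .nil (nat_lit 3651) (nat_lit 5104) (nat_lit 3569) .nil) (nat_lit
  3663) (nat_lit 4881) (nat_lit 3702) .nil))) (nat_lit 3665) (nat_lit 2400) (nat_lit 2262) (.node (.node
  (.node (.node .nil (nat_lit 3666) (nat_lit 1441) (nat_lit 323) .nil) (nat_lit 3677) (nat_lit 13440) (nat_lit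
  1185) (.node .nil (nat_lit 3678) (nat_lit 13056) (nat_lit 2707) .nil)) (nat_lit 3684) (nat_lit 11536)
  (nat_lit 2389) (.node (.node .nil (nat_lit 3687) (nat_lit 7473) (nat_lit 1424) .nil) (nat_lit 3688) (nat_lit
  10065) (nat_lit 1128) .nil)) (nat_lit 3691) (nat_lit 7825) (nat_lit 3344) (.node (.node (.node .nil (nat_lit
  3702) (nat_lit 2864) (nat_lit 3186) .nil) (nat_lit 3705) (nat_lit 1792) (nat_lit 3639) (.node .nil (nat_lit
  3717) (nat_lit 9729) (nat_lit 1352) .nil)) (nat_lit 3718) (nat_lit 497) (nat_lit 3120) (.node (.node .nil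
  (nat_lit 3721) (nat_lit 6176) (nat_lit 1145) .nil) (nat_lit 3722) (nat_lit 305) (nat_lit 1200) .nil))))
  (nat_lit 3732) (nat_lit 11681) (nat_lit 765) (.node (.node (.node (.node (.node .nil (nat_lit 3735) (nat_lit
  1824) (nat_lit 3369) .nil) (nat_lit 3736) (nat_lit 5633) (nat_lit 2685) (.node .nil (nat_lit 3739) (nat_lit
  4128) (nat_lit 350) .nil)) (nat_lit 3745) (nat_lit 5680) (nat_lit 664) (.node (.node .nil (nat_lit 3746)
  (nat_lit 8481) (nat_lit 3926) .nil) (nat_lit 3757) (nat_lit 4561) (nat_lit 3758) .nil)) (nat_lit 3758)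
  (nat_lit 2689) (nat_lit 2006) (.node (.node (.node .nil (nat_lit 3760) (nat_lit 6273) (nat_lit 411) .nil)
  (nat_lit 3763) (nat_lit 5040) (nat_lit 1983) (.node .nil (nat_lit 3772) (nat_lit 4768) (nat_lit 1530) .nil))
  (nat_lit 3775) (nat_lit 5169) (nat_lit 99) (.node (.node .nil (nat_lit 3783) (nat_lit 10864) (nat_lit 1584)
  .nil) (nat_lit 3787) (nat_lit 7041) (nat_lit 1947) .nil))) (nat_lit 3797) (nat_lit 13137) (nat_lit 470)
  (.node (.node (.node (.node .nil (nat_lit 3798) (nat_lit 689) (nat_lit 2222) .nil) (nat_lit 3801) (nat_lit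
  3473) (nat_lit 2390) (.node .nil (nat_lit 3802) (nat_lit 10225) (nat_lit 46) .nil)) (nat_lit 3808) (nat_lit
  9648) (nat_lit 660) (.node (.node .nil (nat_lit 3823) (nat_lit 4704) (nat_lit 209) .nil) (nat_lit 3825)
  (nat_lit 11696) (nat_lit 2433) .nil)) (nat_lit 3826) (nat_lit 12080) (nat_lit 1971) (.node (.node (.node
  .nil (nat_lit 3837) (nat_lit 5137) (nat_lit 2608) .nil) (nat_lit 3838) (nat_lit 1264) (nat_lit 3012) .nil)
  (nat_lit 3845) (nat_lit 1856) (nat_lit 1545) (.node (.node .nil (nat_lit 3846) (nat_lit 8177) (nat_lit 3581)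
  .nil) (nat_lit 3849) (nat_lit 5233) (nat_lit 3077) .nil))))) (nat_lit 3850) (nat_lit 11089) (nat_lit 1405)
  (.node (.node (.node (.node (.node (.node .nil (nat_lit 3860) (nat_lit 8017) (nat_lit 816) .nil) (nat_lit
  3863) (nat_lit 784) (nat_lit 814) (.node .nil (nat_lit 3864) (nat_lit 7152) (nat_lit 363) .nil)) (nat_lit
  3867) (nat_lit 9825) (nat_lit 712) (.node (.node .nil (nat_lit 3874) (nat_lit 6833) (nat_lit 3739) .nil)
  (nat_lit 3885) (nat_lit 13393) (nat_lit 3939) .nil)) (nat_lit 3886) (nat_lit 9009) (nat_lit 1563) (.node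
  (.node (.node .nil (nat_lit 3888) (nat_lit 1665) (nat_lit 86) .nil) (nat_lit 3891) (nat_lit 2977) (nat_lit
  2350) (.node .nil (nat_lit 3900) (nat_lit 2417) (nat_lit 2262) .nil)) (nat_lit 3903) (nat_lit 10240)
  (nat_lit 1487) (.node (.node .nil (nat_lit 3908) (nat_lit 8528) (nat_lit 1541) .nil) (nat_lit 3911) (nat_lit
  1345) (nat_lit 3798) .nil))) (nat_lit 3912) (nat_lit 12225) (nat_lit 3886) (.node (.node (.node (.node .nil
  (nat_lit 3925) (nat_lit 5969) (nat_lit 27) .nil) (nat_lit 3926) (nat_lit 5440) (nat_lit 802) (.node .nil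
  (nat_lit 3929) (nat_lit 11569) (nat_lit 2203) .nil)) (nat_lit 3930) (nat_lit 9168) (nat_lit 3925) (.node
  (.node .nil (nat_lit 3936) (nat_lit 2529) (nat_lit 1224) .nil) (nat_lit 3939) (nat_lit 10849) (nat_lit 3504)
  .nil)) (nat_lit 3948) (nat_lit 13457) (nat_lit 3144) (.node (.node (.node .nil (nat_lit 3951) (nat_lit 1328)
  (nat_lit 3798) .nil) (nat_lit 3953) (nat_lit 6785) (nat_lit 893) (.node .nil (nat_lit 3954) (nat_lit 4672)
  (nat_lit 2484) .nil)) (nat_lit 3965) (nat_lit 4080) (nat_lit 3057) (.node (.node .nil (nat_lit 3966)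
  (nat_lit 11280) (nat_lit 1475) .nil) (nat_lit 3969) (nat_lit 9937) (nat_lit 3432) .nil)))) (nat_lit 3981)
  (nat_lit 8384) (nat_lit 447) (.node (.node (.node (.node (.node .nil (nat_lit 3982) (nat_lit 11584) (nat_lit
  3981) .nil) (nat_lit 3984) (nat_lit 6848) (nat_lit 1757) (.node .nil (nat_lit 3987) (nat_lit 8737) (nat_lit
  933) .nil)) (nat_lit 3996) (nat_lit 929) (nat_lit 605) (.node (.node .nil (nat_lit 3999) (nat_lit 12017)
  (nat_lit 2853) .nil) (nat_lit 4005) (nat_lit 6337) (nat_lit 3598) .nil)) (nat_lit 4006) (nat_lit 9761)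
  (nat_lit 1910) (.node (.node (.node .nil (nat_lit 4009) (nat_lit 10096) (nat_lit 2857) .nil) (nat_lit 4010)
  (nat_lit 1616) (nat_lit 1307) (.node .nil (nat_lit 4023) (nat_lit 13344) (nat_lit 633) .nil)) (nat_lit 4024)
  (nat_lit 4736) (nat_lit 60) (.node (.node .nil (nat_lit 4027) (nat_lit 6320) (nat_lit 3598) .nil) (nat_lit
  4032) (nat_lit 8049) (nat_lit 3651) .nil))) (nat_lit 4035) (nat_lit 561) (nat_lit 1851) (.node (.node (.node
  (.node .nil (nat_lit 4047) (nat_lit 9553) (nat_lit 4027) .nil) (nat_lit 4049) (nat_lit 11137) (nat_lit 2550)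
  (.node .nil (nat_lit 4050) (nat_lit 5376) (nat_lit 2275) .nil)) (nat_lit 4061) (nat_lit 13200) (nat_lit
  2726) (.node (.node .nil (nat_lit 4062) (nat_lit 6128) (nat_lit 1172) .nil) (nat_lit 4068) (nat_lit 6993)
  (nat_lit 3365) .nil)) (nat_lit 4071) (nat_lit 12945) (nat_lit 1117) (.node (.node (.node .nil (nat_lit 4072)
  (nat_lit 2945) (nat_lit 1445) .nil) (nat_lit 4075) (nat_lit 3616) (nat_lit 1303) .nil) (nat_lit 4085)
  (nat_lit 7520) (nat_lit 3143) (.node (.node .nil (nat_lit 4086) (nat_lit 2704) (nat_lit 629) .nil) (nat_lit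
  4090) (nat_lit 1745) (nat_lit 2920) .nil))))))
def ts880 : T := (.node (.node (.node ts880_0 (nat_lit 568) (nat_lit 11441) (nat_lit 250) ts880_1) (nat_lit
  1076) (nat_lit 2496) (nat_lit 3911) (.node ts880_2 (nat_lit 1560) (nat_lit 10433) (nat_lit 2968) ts880_3))
  (nat_lit 2090) (nat_lit 7456) (nat_lit 1424) (.node (.node ts880_4 (nat_lit 2584) (nat_lit 8913) (nat_lit
  2964) ts880_5) (nat_lit 3077) (nat_lit 3120) (nat_lit 4090) (.node ts880_6 (nat_lit 3597) (nat_lit 7616)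
  (nat_lit 4024) ts880_7)))
theorem ts880_chk : band (orbChk apS (gensOf cDD) 3489 (4096) ts880) (Nat.beq ts880.size 880) = true := by
  decide +kernel
theorem ts880_card : (orbit (stabilizer M24 ({D0, univ \ D0} : Finset (Finset GolayPt))) (sext (unmask 8388615))).ncard = 880 :=
  orbit_ncard_of_chk acX (sext_rep (t := 8388615) (k := 3489) (by decide +kernel)).1 cDD_chk stab_DD (sext_rep (t := 8388615) (k := 3489) (by decide +kernel)).2 ts880_chk


/-- The setwise stabiliser, in the group of the length-24 code, of a complementary pair of dodecads has exactly three orbits on the 1771 sextets, of sizes 396, 495 and 880. -/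
theorem result (d : Finset Cfsg.GolayPt) (hd : d ∈ Cfsg.dodecads) : ∃ X₁ ∈ Cfsg.sextets, ∃ X₂ ∈ Cfsg.sextets, ∃ X₃ ∈ Cfsg.sextets, (MulAction.orbit ↥(MulAction.stabilizer Cfsg.M24 ({d, Finset.univ \ d} : Finset (Finset Cfsg.GolayPt))) X₁).ncard = 396 ∧ (MulAction.orbit ↥(MulAction.stabilizer Cfsg.M24 ({d, Finset.univ \ d} : Finset (Finset Cfsg.GolayPt))) X₂).ncard = 495 ∧ (MulAction.orbit ↥(MulAction.stabilizer Cfsg.M24 ({d, Finset.univ \ d} : Finset (Finset Cfsg.GolayPt))) X₃).ncard = 880 ∧ Cfsg.sextets = MulAction.orbit ↥(MulAction.stabilizer Cfsg.M24 ({d, Finset.univ \ d} : Finset (Finset Cfsg.GolayPt))) X₁ ∪ MulAction.orbit ↥(MulAction.stabilizer Cfsg.M24 ({d, Finset.univ \ d} : Finset (Finset Cfsg.GolayPt))) X₂ ∪ MulAction.orbit ↥(MulAction.stabilizer Cfsg.M24 ({d, Finset.univ \ d} : Finset (Finset Cfsg.GolayPt))) X₃ := by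
  obtain ⟨g, rfl⟩ := exists_smul_D0 hd
  rw [← smul_pair]
  exact (three_orbits (fun (g : M24) _ hy => sextet_smul hy g.2) (Set.toFinite _)
      (sext_rep (t := 294945) (k := 1883) (by decide +kernel)).1 (sext_rep (t := 274433) (k := 3126) (by decide +kernel)).1 (sext_rep (t := 8388615) (k := 3489) (by decide +kernel)).1
      ts396_card ts495_card ts880_card (by decide) (by rw [ncard_sextets]) g)

end Cfsg.Agent.S5617
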